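import Mathlib
import Cfsg.Agent.Lib.Characters.Inner
import Cfsg.Prelude.Def_Blocks

/-!
The centre of the group algebra through irreducible characters: the scalar by which a class
function acts, its multiplicativity on convolutions, the class multiplication formula, and the
integrality consequences.
-/

set_option autoImplicit false
set_option linter.style.haveILetI false

namespace Cfsg.Agent.BlocksChars.ClassAlg

open Cfsg.Agent.Characters
open scoped ComplexConjugate

variable {G : Type*} [Group G]

/-- The indicator function of the conjugacy class of `x`. -/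
noncomputable def classInd (x : G) : G → ℂ := fun g => by
  classical exact if IsConj x g then 1 else 0

open scoped Classical in
theorem classInd_apply (x g : G) : classInd x g = if IsConj x g then 1 else 0 := by
  simp [classInd]

theorem isConj_conj (g h : G) : IsConj g (h * g * h⁻¹) := isConj_iff.2 ⟨h, rfl⟩

theorem classInd_isClassFunction (x : G) : Cfsg.IsClassFunction G (classInd x) := fun g h => by
  classical
  rw [classInd_apply, classInd_apply]
  exact if_congr ⟨fun e => e.trans (isConj_conj g h).symm, fun e => e.trans (isConj_conj g h)⟩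
    rfl rfl

theorem classFun_eq_of_isConj {f : G → ℂ} (hf : Cfsg.IsClassFunction G f) {g h : G}
    (e : IsConj g h) : f g = f h := by
  obtain ⟨c, hc⟩ := isConj_iff.1 e
  rw [← hc, hf g c]

variable [Fintype G]

/-- Convolution of functions on `G`. -/
def conv (a b : G → ℂ) : G → ℂ := fun z => ∑ x : G, a x * b (x⁻¹ * z)

theorem sum_conv_mul (a b φ : G → ℂ) :
    ∑ z : G, conv a b z * φ z = ∑ x : G, ∑ y : G, a x * b y * φ (x * y) := by
  simp only [conv, Finset.sum_mul]
  rw [Finset.sum_comm]
  refine Finset.sum_congr rfl fun x _ => ?_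
  refine (Fintype.sum_equiv (Equiv.mulLeft x) _ _ fun y => ?_).symm
  simp

theorem conv_isClassFunction {a b : G → ℂ} (ha : Cfsg.IsClassFunction G a)
    (hb : Cfsg.IsClassFunction G b) : Cfsg.IsClassFunction G (conv a b) := by
  intro z h
  refine (Fintype.sum_equiv (MulAut.conj h).toEquiv _ _ fun x => ?_).symm
  simp only [MulEquiv.toEquiv_eq_coe, MulEquiv.coe_toEquiv, MulAut.conj_apply]
  rw [ha x h, show (h * x * h⁻¹)⁻¹ * (h * z * h⁻¹) = h * (x⁻¹ * z) * h⁻¹ by group, hb]

theorem conv_classInd (x y z : G) : conv (classInd x) (classInd y) z =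
    (Nat.card {g : G // IsConj x g ∧ IsConj y (g⁻¹ * z)} : ℂ) := by
  classical
  simp only [conv, classInd_apply, ite_mul, one_mul, zero_mul, ← ite_and]
  rw [Nat.card_eq_fintype_card, Fintype.card_subtype, ← Finset.sum_boole]
  exact Finset.sum_congr rfl fun g _ => by split_ifs <;> simp_all

/-- The scalar by which the class function `f`, seen in the group algebra, acts on an irreducible
representation with character `χ`. -/
noncomputable def omega (χ f : G → ℂ) : ℂ := (∑ g : G, f g * χ g) / χ 1

theorem mul_omega {χ : G → ℂ} (hχ : χ 1 ≠ 0) (f : G → ℂ) :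
    χ 1 * omega χ f = ∑ g : G, f g * χ g := by
  rw [omega, mul_div_cancel₀ _ hχ]

theorem sum_smul_eq_omega_smul {n : ℕ} (ρ : Representation ℂ G (Fin n → ℂ))
    [hρ : ρ.IsIrreducible] {f : G → ℂ} (hf : Cfsg.IsClassFunction G f) :
    ∑ g : G, f g • ρ g = omega ρ.character f • LinearMap.id := by
  obtain ⟨c, hc⟩ := schur_scalar ρ (∑ g : G, f g • ρ g) (sum_smul_comm ρ hf)
  have htr := trace_sum_smul ρ f
  rw [hc, map_smul, LinearMap.trace_id, smul_eq_mul] at htr
  rw [hc, omega, ← htr, ρ.char_one, mul_div_assoc, div_self, mul_one]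
  exact_mod_cast (finrank_pos_of_isIrreducible ρ).ne'

theorem omega_conv (χ : Cfsg.IrrCharacter G) {a b : G → ℂ} (ha : Cfsg.IsClassFunction G a)
    (hb : Cfsg.IsClassFunction G b) :
    omega (χ : G → ℂ) (conv a b) = omega (χ : G → ℂ) a * omega (χ : G → ℂ) b := by
  obtain ⟨n, ρ, hρ, hc⟩ := χ.2
  rw [← hc]
  have h : ∑ x : G, ∑ y : G, (a x * b y) • ρ (x * y) =
      (omega ρ.character a * omega ρ.character b) • LinearMap.id := by
    have h2 := congrArg₂ (fun u v : (Fin n → ℂ) →ₗ[ℂ] (Fin n → ℂ) => u * v)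
      (sum_smul_eq_omega_smul ρ ha) (sum_smul_eq_omega_smul ρ hb)
    simp only [Finset.sum_mul, Finset.mul_sum, smul_mul_smul_comm, ← map_mul] at h2
    rw [Finset.sum_comm, h2, ← Module.End.one_eq_id, one_mul]
  rw [omega, sum_conv_mul]
  have h3 := congrArg (LinearMap.trace ℂ (Fin n → ℂ)) h
  simp only [map_sum, map_smul, LinearMap.trace_id, smul_eq_mul] at h3
  change (∑ x : G, ∑ y : G, a x * b y * LinearMap.trace ℂ (Fin n → ℂ) (ρ (x * y))) / _ = _
  rw [h3, ρ.char_one, mul_div_assoc, div_self, mul_one]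
  exact_mod_cast (finrank_pos_of_isIrreducible ρ).ne'

/-- A class function evaluated through its scalars. -/
theorem eq_sum_omega [Fintype (Cfsg.IrrCharacter G)] {f : G → ℂ}
    (hf : Cfsg.IsClassFunction G f) (z : G) :
    (Nat.card G : ℂ) * f z = ∑ χ : Cfsg.IrrCharacter G,
      (χ : G → ℂ) 1 * omega (χ : G → ℂ) f * conj ((χ : G → ℂ) z) := by
  have hf' : Cfsg.IsClassFunction G (fun g => f g⁻¹) := fun g h => by
    show f (h * g * h⁻¹)⁻¹ = f g⁻¹
    rw [show (h * g * h⁻¹)⁻¹ = h * g⁻¹ * h⁻¹ by group]; exact hf _ _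
  have h := congrFun (classFun_eq_sum hf') z⁻¹
  simp only [Finset.sum_apply, Pi.smul_apply, smul_eq_mul, inv_inv] at h
  rw [h, Finset.mul_sum]
  refine Finset.sum_congr rfl fun χ _ => ?_
  rw [classInner_def, ← mul_assoc, mul_inv_cancel_left₀ natCard_ne_zero,
    mul_omega (irr_one_ne_zero χ.2), char_inv (irr_isCharacter χ) z]
  congr 1
  refine Fintype.sum_equiv (Equiv.inv G) _ _ fun g => ?_
  simp [char_inv (irr_isCharacter χ) g]

/-- The class multiplication formula. -/
theorem conv_eq_sum [Fintype (Cfsg.IrrCharacter G)] {a b : G → ℂ}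
    (ha : Cfsg.IsClassFunction G a) (hb : Cfsg.IsClassFunction G b) (z : G) :
    (Nat.card G : ℂ) * conv a b z = ∑ χ : Cfsg.IrrCharacter G,
      (χ : G → ℂ) 1 * (omega (χ : G → ℂ) a * omega (χ : G → ℂ) b) * conj ((χ : G → ℂ) z) := by
  rw [eq_sum_omega (conv_isClassFunction ha hb) z]
  simp only [omega_conv _ ha hb]

/-- The number of elements of the conjugacy class of `x`. -/
noncomputable def classSize (x : G) : ℕ := Nat.card {g : G // IsConj x g}

omit [Fintype G] in
theorem classSize_mul_card_centralizer [Finite G] (x : G) :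
    classSize x * Nat.card (Subgroup.centralizer ({x} : Set G)) = Nat.card G := by
  rw [← card_carrier_mul_card_centralizer x]
  rfl

omit [Fintype G] in
theorem classSize_eq_index [Finite G] (x : G) :
    classSize x = (Subgroup.centralizer ({x} : Set G)).index := by
  have h1 := classSize_mul_card_centralizer x
  rw [← (Subgroup.centralizer ({x} : Set G)).card_mul_index, mul_comm] at h1
  exact Nat.eq_of_mul_eq_mul_left Nat.card_pos h1

theorem sum_classInd_mul {φ : G → ℂ} (hφ : Cfsg.IsClassFunction G φ) (x : G) :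
    ∑ g : G, classInd x g * φ g = (classSize x : ℂ) * φ x := by
  classical
  simp only [classInd_apply, ite_mul, one_mul, zero_mul, ← Finset.sum_filter]
  rw [Finset.sum_congr rfl (g := fun _ => φ x) fun g hg =>
    (classFun_eq_of_isConj hφ (Finset.mem_filter.1 hg).2).symm]
  simp [classSize, Nat.card_eq_fintype_card, Fintype.card_subtype]

theorem omega_classInd (χ : Cfsg.IrrCharacter G) (x : G) :
    omega (χ : G → ℂ) (classInd x) = (classSize x : ℂ) * (χ : G → ℂ) x / (χ : G → ℂ) 1 := by
  rw [omega, sum_classInd_mul (irr_isClassFunction χ)]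

theorem omega_classInd_eq_centralChar (χ : Cfsg.IrrCharacter G) (x : G) :
    omega (χ : G → ℂ) (classInd x) = Cfsg.centralChar (χ : G → ℂ) x := by
  rw [omega_classInd, Cfsg.centralChar, classSize_eq_index]

/-- A class function as a combination of class indicators. -/
theorem omega_eq_sum_classes [Fintype (ConjClasses G)] (χ : G → ℂ) {f : G → ℂ}
    (hf : Cfsg.IsClassFunction G f) :
    omega χ f = ∑ C : ConjClasses G, f C.out * omega χ (classInd C.out) := by
  classical
  simp only [omega, mul_div_assoc', ← Finset.sum_div, Finset.mul_sum]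
  congr 1
  rw [Finset.sum_comm]
  refine Finset.sum_congr rfl fun g _ => ?_
  have hout : ∀ C : ConjClasses G, IsConj C.out g ↔ C = ConjClasses.mk g := fun C => by
    rw [← ConjClasses.mk_eq_mk_iff_isConj, show ConjClasses.mk C.out = C from Quotient.out_eq C]
  rw [Finset.sum_eq_single (ConjClasses.mk g)]
  · rw [classInd_apply, if_pos ((hout _).2 rfl), classFun_eq_of_isConj hf ((hout _).2 rfl)]
    ring
  · intro C _ hC
    rw [classInd_apply, if_neg (fun h => hC ((hout C).1 h))]
    ring
  · simp

/-- Integral class functions act by algebraic integers. -/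
theorem omega_isIntegral (χ : Cfsg.IrrCharacter G) {f : G → ℂ} (hf : Cfsg.IsClassFunction G f)
    (hint : ∀ g, ∃ k : ℤ, f g = (k : ℂ)) : IsIntegral ℤ (omega (χ : G → ℂ) f) := by
  classical
  obtain ⟨n, ρ, hρ, hc⟩ := χ.2
  rw [← hc]
  choose k hk using hint
  haveI := nontrivial_of_isIrreducible ρ
  let Φ : MonoidAlgebra ℤ G →ₐ[ℤ] Module.End ℂ (Fin n → ℂ) := MonoidAlgebra.lift ℤ _ G ρ
  let a : MonoidAlgebra ℤ G := ∑ g : G, MonoidAlgebra.single g (k g)
  have ha : Φ a = algebraMap ℂ (Module.End ℂ (Fin n → ℂ)) (omega ρ.character f) := by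
    rw [Algebra.algebraMap_eq_smul_one, Module.End.one_eq_id, ← sum_smul_eq_omega_smul ρ hf]
    simp only [a, map_sum, Φ, MonoidAlgebra.lift_single]
    refine Finset.sum_congr rfl fun g _ => ?_
    rw [hk g]; exact (Int.cast_smul_eq_zsmul ℂ _ _).symm
  have h1 : IsIntegral ℤ (Φ a) := (IsIntegral.of_finite ℤ a).map Φ
  rw [ha] at h1
  exact (isIntegral_algHom_iff ((Algebra.ofId ℂ (Module.End ℂ (Fin n → ℂ))).restrictScalars ℤ)
    (algebraMap ℂ (Module.End ℂ (Fin n → ℂ))).injective).1 h1

theorem omega_classInd_isIntegral (χ : Cfsg.IrrCharacter G) (x : G) :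
    IsIntegral ℤ (omega (χ : G → ℂ) (classInd x)) := by
  classical
  refine omega_isIntegral χ (classInd_isClassFunction x) fun g => ?_
  rw [classInd_apply]
  split_ifs with h
  · exact ⟨1, by simp⟩
  · exact ⟨0, by simp⟩

/-- `|G| / χ(1)` is an algebraic integer. -/
theorem card_div_degree_isIntegral (χ : Cfsg.IrrCharacter G) :
    IsIntegral ℤ ((Nat.card G : ℂ) / (χ : G → ℂ) 1) := by
  classical
  haveI : Fintype (ConjClasses G) := Fintype.ofFinite _
  have h1 : ∑ g : G, (χ : G → ℂ) g * conj ((χ : G → ℂ) g) = (Nat.card G : ℂ) := by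
    have := classInner_isIrr_self χ.2
    rwa [classInner_def, inv_mul_eq_one₀ natCard_ne_zero, eq_comm] at this
  rw [← h1, ← Finset.sum_fiberwise (s := Finset.univ) (g := ConjClasses.mk), Finset.sum_div]
  refine IsIntegral.sum _ fun C _ => ?_
  obtain ⟨x, rfl⟩ := ConjClasses.exists_rep C
  have h2 : ∀ g ∈ Finset.univ.filter (fun g : G => ConjClasses.mk g = ConjClasses.mk x),
      (χ : G → ℂ) g * conj ((χ : G → ℂ) g) = (χ : G → ℂ) x * conj ((χ : G → ℂ) x) := by
    intro g hg
    have := classFun_eq_of_isConj (irr_isClassFunction χ)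
      (ConjClasses.mk_eq_mk_iff_isConj.1 (Finset.mem_filter.1 hg).2)
    rw [this]
  rw [Finset.sum_congr rfl h2, Finset.sum_const, nsmul_eq_mul]
  have hcard : (Finset.univ.filter (fun g : G => ConjClasses.mk g = ConjClasses.mk x)).card =
      classSize x := by
    rw [classSize, Nat.card_eq_fintype_card, Fintype.card_subtype]
    congr 1
    ext g
    simp only [Finset.mem_filter, Finset.mem_univ, true_and, ConjClasses.mk_eq_mk_iff_isConj]
    exact isConj_comm
  rw [hcard, ← mul_assoc, mul_div_right_comm, ← omega_classInd χ x]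
  exact (omega_classInd_isIntegral χ x).mul
    ((char_inv (irr_isCharacter χ) x) ▸ char_value_isIntegral (irr_isCharacter χ) x⁻¹)

end Cfsg.Agent.BlocksChars.ClassAlg
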