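import Mathlib
import Cfsg.Prelude.Def_Blocks
import Cfsg.Agent.BlocksChars.ClassAlg

/-!
Degrees as natural numbers, and the counting lemma forcing a degree divisible by a given prime
power when a class times its inverse misses a `p`-subgroup.
-/

set_option autoImplicit false
set_option linter.style.haveILetI false

namespace Cfsg.Agent.BlocksChars.Degrees

open Cfsg.Agent.Characters Cfsg.Agent.BlocksChars.ClassAlg
open scoped ComplexConjugate

variable {G : Type*} [Group G]

theorem charDegree_cast_of_isCharacter {χ : G → ℂ} (h : Cfsg.IsCharacter G χ) :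
    (Cfsg.charDegree χ : ℂ) = χ 1 := by
  obtain ⟨n, hn⟩ := char_one_nat h
  rw [Cfsg.charDegree, hn, Complex.natCast_re, Nat.floor_natCast]

theorem charDegree_cast (χ : Cfsg.IrrCharacter G) :
    (Cfsg.charDegree (χ : G → ℂ) : ℂ) = (χ : G → ℂ) 1 :=
  charDegree_cast_of_isCharacter (irr_isCharacter χ)

theorem charDegree_pos (χ : Cfsg.IrrCharacter G) : 0 < Cfsg.charDegree (χ : G → ℂ) := by
  rcases Nat.eq_zero_or_pos (Cfsg.charDegree (χ : G → ℂ)) with h | h
  · exact absurd (by rw [← charDegree_cast, h, Nat.cast_zero]) (irr_one_ne_zero χ.2)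
  · exact h

/-- An algebraic integer which is rational is an integer. -/
theorem eq_intCast_of_isIntegral_ratCast {q : ℚ} (h : IsIntegral ℤ (q : ℂ)) :
    ∃ k : ℤ, q = (k : ℚ) := by
  have h' : IsIntegral ℤ q :=
    (isIntegral_algHom_iff (Algebra.algHom ℤ ℚ ℂ : ℚ →ₐ[ℤ] ℂ)
      (algebraMap ℚ ℂ).injective).1 (by simpa using h)
  obtain ⟨k, hk⟩ := IsIntegrallyClosed.isIntegral_iff.1 h'
  exact ⟨k, by rw [← hk]; simp⟩

/-- `m ∣ n` as soon as `n / m` is an algebraic integer. -/
theorem dvd_of_natCast_eq_mul {n m : ℕ} {z : ℂ} (hz : IsIntegral ℤ z)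
    (h : (n : ℂ) = (m : ℂ) * z) : m ∣ n := by
  rcases Nat.eq_zero_or_pos m with hm | hm
  · subst hm
    have : n = 0 := by exact_mod_cast (by simpa using h : (n : ℂ) = 0)
    exact this ▸ dvd_rfl
  · have hz' : z = (((n : ℚ) / m : ℚ) : ℂ) := by
      push_cast
      rw [h, mul_div_cancel_left₀]
      exact_mod_cast hm.ne'
    obtain ⟨k, hk⟩ := eq_intCast_of_isIntegral_ratCast (hz' ▸ hz)
    rw [div_eq_iff (by exact_mod_cast hm.ne')] at hk
    have hk' : (n : ℤ) = k * m := by exact_mod_cast hk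
    exact Int.natCast_dvd_natCast.1 ⟨k, by rw [hk', mul_comm]⟩

theorem charDegree_dvd_card [Fintype G] (χ : Cfsg.IrrCharacter G) :
    Cfsg.charDegree (χ : G → ℂ) ∣ Nat.card G :=
  dvd_of_natCast_eq_mul (card_div_degree_isIntegral χ) (by
    rw [charDegree_cast, mul_div_cancel₀ _ (irr_one_ne_zero χ.2)])

theorem natCast_isIntegral (n : ℕ) : IsIntegral ℤ (n : ℂ) :=
  map_natCast (algebraMap ℤ ℂ) n ▸ isIntegral_algebraMap

theorem isConj_inv {a b : G} (h : IsConj a b) : IsConj a⁻¹ b⁻¹ := by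
  obtain ⟨c, hc⟩ := isConj_iff.1 h
  exact isConj_iff.2 ⟨c, by rw [← hc]; group⟩

/-- If `x^G · (x⁻¹)^G` meets the subgroup `H` only in `1` then `|C(x)| = |H| · ∑ …`. -/
theorem card_centralizer_eq_sum [Fintype G] [Fintype (Cfsg.IrrCharacter G)] (x : G)
    (H : Subgroup G) [Fintype H]
    (hfree : ∀ z ∈ H, z ≠ 1 → ∀ g : G, IsConj x g → ¬ IsConj x⁻¹ (g⁻¹ * z)) :
    (Nat.card (Subgroup.centralizer ({x} : Set G)) : ℂ) =
      (Nat.card H : ℂ) * ∑ χ : Cfsg.IrrCharacter G,
        Cfsg.classInner (fun _ : H => (1 : ℂ)) (fun h : H => (χ : G → ℂ) h) *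
          ((χ : G → ℂ) x * (χ : G → ℂ) x⁻¹) / (χ : G → ℂ) 1 := by
  classical
  have hcl : classSize x⁻¹ = classSize x := by
    refine Nat.card_congr (Equiv.subtypeEquiv (Equiv.inv G) fun g => ?_)
    simp only [Equiv.inv_apply]
    exact ⟨fun h => by simpa using isConj_inv h, fun h => by simpa using isConj_inv h⟩
  have h1 : conv (classInd x) (classInd x⁻¹) 1 = (classSize x : ℂ) := by
    rw [conv_classInd]
    congr 1
    refine Nat.card_congr (Equiv.subtypeEquivRight fun g => ?_)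
    refine ⟨And.left, fun h => ⟨h, ?_⟩⟩
    rw [mul_one]
    obtain ⟨c, hc⟩ := isConj_iff.1 h
    exact isConj_iff.2 ⟨c, by rw [← hc]; group⟩
  have h0 : ∀ z : H, z ≠ 1 → conv (classInd x) (classInd x⁻¹) (z : G) = 0 := by
    intro z hz
    rw [conv_classInd, Nat.cast_eq_zero, Nat.card_eq_zero]
    refine Or.inl ⟨fun g => hfree z z.2 (fun h => hz (Subtype.ext h)) g.1 g.2.1 g.2.2⟩
  have hsum : ∑ z : H, (Nat.card G : ℂ) * conv (classInd x) (classInd x⁻¹) (z : G) =
      (Nat.card G : ℂ) * classSize x := by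
    rw [Finset.sum_eq_single (1 : H) (fun z _ hz => by rw [h0 z hz, mul_zero]) (by simp)]
    simp [h1]
  have hK : (classSize x : ℂ) ≠ 0 := by
    have : Nonempty {g : G // IsConj x g} := ⟨⟨x, IsConj.refl x⟩⟩
    exact_mod_cast (Nat.card_pos (α := {g : G // IsConj x g})).ne'
  rw [Finset.sum_congr rfl (fun (z : H) _ => conv_eq_sum (classInd_isClassFunction x)
    (classInd_isClassFunction x⁻¹) (z : G)), Finset.sum_comm] at hsum
  have hkey : (classSize x : ℂ) * (classSize x : ℂ) * ((Nat.card H : ℂ) *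
      ∑ χ : Cfsg.IrrCharacter G,
        Cfsg.classInner (fun _ : H => (1 : ℂ)) (fun h : H => (χ : G → ℂ) h) *
          ((χ : G → ℂ) x * (χ : G → ℂ) x⁻¹) / (χ : G → ℂ) 1) =
      (Nat.card G : ℂ) * classSize x := by
    rw [← hsum, Finset.mul_sum, Finset.mul_sum]
    refine Finset.sum_congr rfl fun χ _ => ?_
    rw [omega_classInd, omega_classInd, hcl, ← Finset.mul_sum, classInner_def]
    have h1' := irr_one_ne_zero χ.2
    have hH : (Nat.card H : ℂ) ≠ 0 := natCard_ne_zero
    simp only [one_mul]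
    field_simp
  have hG : (Nat.card G : ℂ) = (classSize x : ℂ) * Nat.card (Subgroup.centralizer ({x} : Set G)) := by
    rw [← classSize_mul_card_centralizer x, Nat.cast_mul]
  rw [hG] at hkey
  apply mul_left_cancel₀ (mul_ne_zero hK hK)
  rw [hkey]
  ring

/-- If `x^G · (x⁻¹)^G` meets a subgroup of order `p ^ c` only in `1`, some irreducible degree is
divisible by `p ^ (c - a)`, where `p ^ a` is the `p`-part of `|C(x)|`. -/
theorem exists_degree_dvd [Finite G] {p : ℕ} (hp : p.Prime) (x : G) (H : Subgroup G) {c : ℕ}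
    (hH : Nat.card H = p ^ c)
    (hfree : ∀ z ∈ H, z ≠ 1 → ∀ g : G, IsConj x g → ¬ IsConj x⁻¹ (g⁻¹ * z)) :
    ∃ χ : Cfsg.IrrCharacter G,
      p ^ (c - (Nat.card (Subgroup.centralizer ({x} : Set G))).factorization p) ∣
        Cfsg.charDegree (χ : G → ℂ) := by
  classical
  haveI := Fintype.ofFinite G
  haveI := Fintype.ofFinite (Cfsg.IrrCharacter G)
  haveI := Fintype.ofFinite H
  set a := (Nat.card (Subgroup.centralizer ({x} : Set G))).factorization p with ha
  rcases Nat.eq_zero_or_pos (c - a) with hk | hk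
  · exact ⟨trivIrr G, by rw [hk, pow_zero]; exact one_dvd _⟩
  by_contra hne
  push Not at hne
  set q := Nat.card G / p ^ (Nat.card G).factorization p with hq
  have hqp : ¬ p ∣ q := Nat.not_dvd_ordCompl hp Nat.card_pos.ne'
  set L := p ^ (c - a - 1) * q with hL
  have hdvd : ∀ χ : Cfsg.IrrCharacter G, Cfsg.charDegree (χ : G → ℂ) ∣ L := by
    intro χ
    set d := Cfsg.charDegree (χ : G → ℂ) with hd
    have hd0 : d ≠ 0 := (charDegree_pos χ).ne'
    have h1 : d.factorization p ≤ c - a - 1 := by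
      by_contra h
      push Not at h
      exact hne χ ((pow_dvd_pow p (by omega)).trans (Nat.ordProj_dvd d p))
    rw [← Nat.ordProj_mul_ordCompl_eq_self d p, hL]
    exact Nat.mul_dvd_mul (pow_dvd_pow p h1)
      (Nat.ordCompl_dvd_ordCompl_of_dvd (charDegree_dvd_card χ) p)
  have hmain := card_centralizer_eq_sum x H hfree
  set S := ∑ χ : Cfsg.IrrCharacter G,
        Cfsg.classInner (fun _ : H => (1 : ℂ)) (fun h : H => (χ : G → ℂ) h) *
          ((χ : G → ℂ) x * (χ : G → ℂ) x⁻¹) / (χ : G → ℂ) 1 with hS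
  have hSint : IsIntegral ℤ ((L : ℂ) * S) := by
    rw [hS, Finset.mul_sum]
    refine IsIntegral.sum _ fun χ _ => ?_
    obtain ⟨m, hm⟩ := classInner_char_nat (G := H) (χ := fun _ : H => (1 : ℂ))
      isCharacter_one (isCharacter_restrict H (irr_isCharacter χ))
    obtain ⟨e, he⟩ := hdvd χ
    rw [hm, he, Nat.cast_mul, charDegree_cast]
    have h1' := irr_one_ne_zero χ.2
    rw [show (χ : G → ℂ) 1 * (e : ℂ) * ((m : ℂ) * ((χ : G → ℂ) x * (χ : G → ℂ) x⁻¹) /
        (χ : G → ℂ) 1) = (e : ℂ) * (m : ℂ) * ((χ : G → ℂ) x * (χ : G → ℂ) x⁻¹) by field_simp]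
    exact ((natCast_isIntegral _).mul (natCast_isIntegral _)).mul
      ((char_value_isIntegral (irr_isCharacter χ) x).mul
        (char_value_isIntegral (irr_isCharacter χ) x⁻¹))
  have hdiv : p ^ c ∣ Nat.card (Subgroup.centralizer ({x} : Set G)) * L := by
    refine dvd_of_natCast_eq_mul hSint ?_
    rw [Nat.cast_mul, hmain, ← hH]
    ring
  have hq0 : q ≠ 0 := fun h => hqp (by rw [h]; exact dvd_zero p)
  have hL0 : L ≠ 0 := mul_ne_zero (pow_ne_zero _ hp.ne_zero) hq0
  have hv := (Nat.factorization_le_iff_dvd (pow_ne_zero c hp.ne_zero)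
    (mul_ne_zero Nat.card_pos.ne' hL0)).2 hdiv p
  have hLv : L.factorization p = c - a - 1 := by
    rw [hL, Nat.factorization_mul (pow_ne_zero _ hp.ne_zero) hq0, Finsupp.add_apply,
      hp.factorization_pow, Finsupp.single_eq_same,
      Nat.factorization_eq_zero_of_not_dvd hqp, add_zero]
  rw [hp.factorization_pow, Finsupp.single_eq_same, Nat.factorization_mul Nat.card_pos.ne' hL0,
    Finsupp.add_apply, hLv, ← ha] at hv
  omega

end Cfsg.Agent.BlocksChars.Degrees
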