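import Mathlib
import Cfsg.Prelude.Def_Blocks
import Cfsg.Agent.BlocksChars.Degrees
import Cfsg.Agent.Lib.Characters.Kernel
import Cfsg.Agent.Lib.Characters.Burnside
import Cfsg.Agent.Lib.CharTheory.Average

/-!
Degrees against kernels: `|ker χ| χ(1) ∣ |G|`, sums of squares of degrees, codegrees.
-/

set_option autoImplicit false

namespace Cfsg.Agent.BlocksChars.Codegree

open Cfsg.Agent.Characters Cfsg.Agent.BlocksChars.Degrees
open scoped commutatorElement

variable {G : Type*} [Group G]

/-- The kernel of an irreducible character, as a subgroup. -/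
noncomputable abbrev ker (χ : Cfsg.IrrCharacter G) [Finite G] : Subgroup G :=
  charKernel (χ : G → ℂ) (irr_isCharacter χ)

theorem card_kerSet [Finite G] (χ : Cfsg.IrrCharacter G) :
    Nat.card {g : G // (χ : G → ℂ) g = (χ : G → ℂ) 1} = Nat.card (ker χ) := rfl

theorem ker_normal [Finite G] (χ : Cfsg.IrrCharacter G) : (ker χ).Normal :=
  charKernel_normal _

theorem degree_dvd_index [Finite G] (χ : Cfsg.IrrCharacter G) :
    Cfsg.charDegree (χ : G → ℂ) ∣ (ker χ).index := by
  haveI := ker_normal χ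
  obtain ⟨ψ, -, hψ, hirr⟩ := exists_deflate_quotient (ker χ) (irr_isCharacter χ) (fun x hx => hx)
  haveI := Fintype.ofFinite (G ⧸ ker χ)
  have h := charDegree_dvd_card (⟨ψ, hirr χ.2⟩ : Cfsg.IrrCharacter (G ⧸ ker χ))
  have he : Cfsg.charDegree ψ = Cfsg.charDegree (χ : G → ℂ) := by
    unfold Cfsg.charDegree
    rw [← hψ 1, QuotientGroup.mk_one]
  rwa [he] at h

theorem ker_mul_degree_dvd [Finite G] (χ : Cfsg.IrrCharacter G) :
    Nat.card (ker χ) * Cfsg.charDegree (χ : G → ℂ) ∣ Nat.card G := by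
  rw [← (ker χ).card_mul_index]
  exact mul_dvd_mul_left _ (degree_dvd_index χ)

theorem codeg_eq_index_div [Finite G] (χ : Cfsg.IrrCharacter G) :
    Nat.card G / (Nat.card {g : G // (χ : G → ℂ) g = (χ : G → ℂ) 1} *
      Cfsg.charDegree (χ : G → ℂ)) = (ker χ).index / Cfsg.charDegree (χ : G → ℂ) := by
  rw [card_kerSet, ← (ker χ).card_mul_index, Nat.mul_div_mul_left _ _ Nat.card_pos]

theorem card_ker_eq_one [Finite G] (χ : Cfsg.IrrCharacter G)
    (h : ∀ g : G, (χ : G → ℂ) g = (χ : G → ℂ) 1 → g = 1) : ker χ = ⊥ :=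
  (Subgroup.eq_bot_iff_forall _).2 fun g hg => h g hg

theorem sum_degree_sq_nat [Fintype G] [Fintype (Cfsg.IrrCharacter G)] :
    ∑ χ : Cfsg.IrrCharacter G, Cfsg.charDegree (χ : G → ℂ) ^ 2 = Nat.card G := by
  have h := sum_degree_sq (G := G)
  simp only [← charDegree_cast] at h
  exact_mod_cast h

theorem charDegree_triv : Cfsg.charDegree ((trivIrr G : Cfsg.IrrCharacter G) : G → ℂ) = 1 := by
  simp [Cfsg.charDegree]

/-- A nontrivial irreducible character has degree `d` with `d ^ 2 < |G|`. -/
theorem degree_sq_lt [Fintype G] (χ : Cfsg.IrrCharacter G) (h : χ ≠ trivIrr G) :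
    Cfsg.charDegree (χ : G → ℂ) ^ 2 < Nat.card G := by
  classical
  haveI := Fintype.ofFinite (Cfsg.IrrCharacter G)
  rw [← sum_degree_sq_nat (G := G)]
  refine Finset.single_lt_sum (j := trivIrr G) (f := fun ψ : Cfsg.IrrCharacter G =>
    Cfsg.charDegree (ψ : G → ℂ) ^ 2) h.symm (Finset.mem_univ _) (Finset.mem_univ _) ?_ (by simp)
  have := charDegree_triv (G := G)
  simp only [trivIrr_coe] at this
  simp [this]

/-- The characters trivial on `N` carry the whole regular character of `G ⧸ N`. -/
theorem sum_degree_sq_over [Fintype G] [Fintype (Cfsg.IrrCharacter G)] (N : Subgroup G) [N.Normal]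
    [DecidablePred fun χ : Cfsg.IrrCharacter G => ∀ x ∈ N, (χ : G → ℂ) x = (χ : G → ℂ) 1] :
    ∑ χ ∈ Finset.univ.filter
      (fun χ : Cfsg.IrrCharacter G => ∀ x ∈ N, (χ : G → ℂ) x = (χ : G → ℂ) 1),
      Cfsg.charDegree (χ : G → ℂ) ^ 2 = N.index := by
  classical
  have h := congrArg (fun f => CharTheory.Average.avg N f 1) (regular_eq_sum (G := G))
  have hterm : ∀ χ : Cfsg.IrrCharacter G,
      (χ : G → ℂ) 1 * CharTheory.Average.avg N (χ : G → ℂ) 1 =
        if (∀ x ∈ N, (χ : G → ℂ) x = (χ : G → ℂ) 1) then (χ : G → ℂ) 1 ^ 2 else 0 := by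
    intro χ
    rcases CharTheory.Average.avg_irr N χ.2 with he | he
    · rw [he, if_pos, sq]
      intro x hx
      have h1 := CharTheory.Average.avg_mul_left N (χ : G → ℂ) ⟨x, hx⟩ 1
      rw [he] at h1
      simpa using h1
    · rw [he, if_neg]
      · simp
      intro hk
      have h1 := CharTheory.Average.avg_one N (χ : G → ℂ)
      rw [he, Finset.sum_congr rfl fun (n : N) _ => hk n n.2] at h1
      simp [Nat.card_eq_fintype_card] at h1
      exact irr_one_ne_zero χ.2 h1.symm
  simp only [CharTheory.Average.avg_sum_smul] at h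
  rw [CharTheory.Average.avg_one] at h
  simp only [Finset.sum_apply, Pi.smul_apply, smul_eq_mul, hterm, ← Finset.sum_filter] at h
  rw [show (Finset.univ.filter fun a : N => (a : G) = 1) = {1} by ext a; simp,
    Finset.sum_singleton, ← N.card_mul_index, Nat.cast_mul, ← mul_assoc,
    inv_mul_cancel₀ natCard_ne_zero, one_mul] at h
  rw [Finset.sum_congr rfl fun (χ : Cfsg.IrrCharacter G) _ =>
    show (χ : G → ℂ) 1 ^ 2 = ((Cfsg.charDegree (χ : G → ℂ) ^ 2 : ℕ) : ℂ) by
      rw [Nat.cast_pow, charDegree_cast], ← Nat.cast_sum, Nat.cast_inj] at h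
  exact h.symm

/-- A linear character of prime order exists outside perfect groups. -/
theorem exists_linear_prime_index [Finite G] (h : commutator G ≠ ⊤) :
    ∃ χ : Cfsg.IrrCharacter G, Cfsg.charDegree (χ : G → ℂ) = 1 ∧ (ker χ).index.Prime := by
  classical
  obtain ⟨M, hM, hle⟩ := (eq_top_or_exists_le_coatom (commutator G)).resolve_left h
  haveI : M.Normal := ⟨fun n hn g => by
    have h1 : g * n * g⁻¹ * n⁻¹ ∈ M :=
      hle (Subgroup.commutator_mem_commutator (Subgroup.mem_top g) (Subgroup.mem_top n))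
    simpa using M.mul_mem h1 hn⟩
  have hcomm : ∀ a b : G ⧸ M, a * b = b * a := by
    intro a b
    induction a using QuotientGroup.induction_on with
    | H a =>
      induction b using QuotientGroup.induction_on with
      | H b =>
        rw [← QuotientGroup.mk_mul, ← QuotientGroup.mk_mul, QuotientGroup.eq]
        have := hle (Subgroup.commutator_mem_commutator (Subgroup.mem_top b⁻¹) (Subgroup.mem_top a⁻¹))
        simpa [commutatorElement_def, mul_assoc] using this
  haveI : Nontrivial (G ⧸ M) := QuotientGroup.nontrivial_iff.mpr hM.1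
  have hp : M.index.Prime := by
    haveI : IsSimpleGroup (G ⧸ M) := by
      refine ⟨fun K _ => ?_⟩
      have hK := hM.le_iff.1 (show M ≤ K.comap (QuotientGroup.mk' M) from
        fun x hx => by simp [Subgroup.mem_comap, (QuotientGroup.eq_one_iff x).2 hx])
      rcases hK with hK | hK
      · right
        rw [← Subgroup.map_comap_eq_self_of_surjective (QuotientGroup.mk'_surjective M) K, hK,
          Subgroup.map_top_of_surjective _ (QuotientGroup.mk'_surjective M)]
      · left
        rw [← Subgroup.map_comap_eq_self_of_surjective (QuotientGroup.mk'_surjective M) K, hK,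
          QuotientGroup.map_mk'_self]
    exact prime_card_of_simple_of_comm hcomm
  obtain ⟨x, hx⟩ := exists_ne (1 : G ⧸ M)
  obtain ⟨ψ, hψ, hne⟩ := exists_irr_ne hx
  haveI := Fintype.ofFinite (G ⧸ M)
  have h1 : ψ 1 = 1 := irr_degree_one_of_comm hcomm hψ
  refine ⟨⟨ψ ∘ QuotientGroup.mk' M, isIrrCharacter_comp_surjective _
    (QuotientGroup.mk'_surjective M) hψ⟩, ?_, ?_⟩
  · simp [Cfsg.charDegree, h1]
  · convert hp using 2
    refine (hM.le_iff.1 fun m hm => ?_).resolve_left fun ht => hne ?_
    · show ψ _ = ψ _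
      simp [(QuotientGroup.eq_one_iff m).2 hm]
    · obtain ⟨g, rfl⟩ := QuotientGroup.mk'_surjective M x
      have hg : g ∈ ker (⟨ψ ∘ QuotientGroup.mk' M, isIrrCharacter_comp_surjective _
        (QuotientGroup.mk'_surjective M) hψ⟩ : Cfsg.IrrCharacter G) := ht ▸ Subgroup.mem_top g
      have hg' := mem_charKernel.1 hg
      simpa using hg'

end Cfsg.Agent.BlocksChars.Codegree
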