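import Mathlib
import Cfsg.Agent.Lib.Characters.Inner
import Cfsg.Agent.Lib.Characters.Induction
import Cfsg.Agent.Lib.CharTheory.Clifford
import Cfsg.Agent.Lib.CharTheory.Ito
import Cfsg.Agent.Lib.PLocal.PSolvable
import Cfsg.Agent.Lib.Cores.Basic
import Cfsg.Agent.BlocksChars.Degrees

/-!
# The theorem of Itô for `p`-solvable groups
-/

set_option linter.style.haveILetI false

namespace Cfsg.Agent.BlocksChars.ItoPSolvable

open Cfsg.Agent.Characters Cfsg.Agent.BlocksChars.Degrees Cfsg.Agent.CharTheory Cfsg.Agent.Cores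
open Cfsg.Agent.CharTheory.Ito

universe u

variable {G : Type u} [Group G] [Finite G] {p : ℕ}

/-- All degrees prime to `p`. -/
def PPrimeDegrees (G : Type u) [Group G] (p : ℕ) : Prop :=
  ∀ χ : Cfsg.IrrCharacter G, ¬ p ∣ Cfsg.charDegree (χ : G → ℂ)

/-- The inertia group. -/
def inertia (N : Subgroup G) [N.Normal] (θ : N → ℂ) : Subgroup G where
  carrier := {g | Clifford.conjBy N g θ = θ}
  one_mem' := Clifford.conjBy_one N _
  mul_mem' := fun {a b} ha hb => by
    show Clifford.conjBy N (a * b) θ = θ
    rw [← Clifford.conjBy_conjBy, ha, hb]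
  inv_mem' := fun {a} ha => by
    show Clifford.conjBy N a⁻¹ θ = θ
    apply Clifford.conjBy_injective N a
    rw [Clifford.conjBy_conjBy, inv_mul_cancel, Clifford.conjBy_one, ha]

/-- A character over `θ` has degree divisible by `θ(1)` and by the orbit length. -/
theorem exists_over (N : Subgroup G) [N.Normal] (θ : Cfsg.IrrCharacter N) :
    ∃ χ : Cfsg.IrrCharacter G, Cfsg.charDegree (θ : N → ℂ) ∣ Cfsg.charDegree (χ : G → ℂ) ∧
      (inertia N (θ : N → ℂ)).index ∣ Cfsg.charDegree (χ : G → ℂ) := by
  classical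
  haveI := Fintype.ofFinite G
  haveI := Fintype.ofFinite N
  have h1 : Cfsg.indFun N (θ : N → ℂ) 1 ≠ 0 := by
    rw [show (1 : G) = ((1 : N) : G) from rfl]
    intro h0
    have h := Clifford.card_mul_indFun_coe N (θ : N → ℂ) 1
    rw [h0, mul_zero, Finset.sum_congr rfl (g := fun _ => (θ : N → ℂ) 1)
      (fun x _ => Clifford.conjBy_at_one N x _), Finset.sum_const, nsmul_eq_mul, eq_comm,
      mul_eq_zero] at h
    rcases h with h | h
    · exact (Nat.cast_ne_zero.2 (Finset.card_ne_zero.2 ⟨1, Finset.mem_univ _⟩)) h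
    · exact irr_one_ne_zero θ.2 h
  obtain ⟨χ, hχ, hne⟩ := exists_constituent (isCharacter_indFun N (irr_isCharacter θ)) h1
  have hne' : Cfsg.classInner (fun n : N => χ n) (θ : N → ℂ) ≠ 0 := by
    intro h
    rw [frobenius_reciprocity N _ (char_isClassFunction (isCharacter_of_isIrr hχ)),
      classInner_conj_symm, h, map_zero] at hne
    exact hne rfl
  obtain ⟨e, he⟩ := classInner_char_nat
    (isCharacter_restrict N (isCharacter_of_isIrr hχ)) (irr_isCharacter θ)
  have h := Clifford.card_mul_degree N hχ θ.2 hne' (inertia N (θ : N → ℂ)) fun g => Iff.rfl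
  rw [he, ← charDegree_cast, ← (inertia N (θ : N → ℂ)).index_mul_card] at h
  have hT : (Nat.card (inertia N (θ : N → ℂ)) : ℂ) ≠ 0 := Nat.cast_ne_zero.2 Nat.card_pos.ne'
  have hc : (Cfsg.charDegree χ : ℂ) =
      ((e * (inertia N (θ : N → ℂ)).index * Cfsg.charDegree (θ : N → ℂ) : ℕ) : ℂ) := by
    refine mul_left_cancel₀ hT ?_
    rw [show (Cfsg.charDegree χ : ℂ) = χ 1 from charDegree_cast ⟨χ, hχ⟩, h]
    push_cast
    ring
  have hc' := Nat.cast_injective (R := ℂ) hc
  exact ⟨⟨χ, hχ⟩, ⟨_, hc'.trans (mul_comm _ _)⟩,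
    ⟨e * Cfsg.charDegree (θ : N → ℂ), hc'.trans (by ring)⟩⟩

theorem PPrimeDegrees.normal (h : PPrimeDegrees G p) (N : Subgroup G) [N.Normal] :
    PPrimeDegrees N p := fun θ hd => by
  obtain ⟨χ, hχ, -⟩ := exists_over N θ
  exact h χ (hd.trans hχ)

theorem PPrimeDegrees.quotient (h : PPrimeDegrees G p) (N : Subgroup G) [N.Normal] :
    PPrimeDegrees (G ⧸ N) p := fun θ hd => by
  refine h ⟨_, isIrrCharacter_comp_surjective _ (QuotientGroup.mk'_surjective N) θ.2⟩ ?_
  have : Cfsg.charDegree ((θ : G ⧸ N → ℂ) ∘ QuotientGroup.mk' N) =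
      Cfsg.charDegree (θ : G ⧸ N → ℂ) := by simp [Cfsg.charDegree]
  rwa [this]

theorem comm_of_linear (h : ∀ χ : Cfsg.IrrCharacter G, Cfsg.charDegree (χ : G → ℂ) = 1) :
    IsMulCommutative G := by
  classical
  haveI := Fintype.ofFinite G
  haveI := Fintype.ofFinite (Cfsg.IrrCharacter G)
  have hs := sum_degree_sq (G := G)
  have hone : ∀ χ : Cfsg.IrrCharacter G, (χ : G → ℂ) 1 = 1 := fun χ => by
    rw [← charDegree_cast, h, Nat.cast_one]
  simp only [hone, one_pow, Finset.sum_const, nsmul_eq_mul, mul_one, Finset.card_univ] at hs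
  have hc : Nat.card (ConjClasses G) = Nat.card G := by
    rw [← card_irrCharacter, Nat.card_eq_fintype_card]; exact_mod_cast hs
  have hbij : Function.Bijective (ConjClasses.mk : G → ConjClasses G) :=
    (Nat.bijective_iff_surjective_and_card _).2 ⟨ConjClasses.mk_surjective, hc.symm⟩
  refine ⟨⟨fun a b => ?_⟩⟩
  have h1 : a * b * a⁻¹ = b := hbij.1
    (ConjClasses.mk_eq_mk_iff_isConj.2 (isConj_iff.2 ⟨a⁻¹, by group⟩))
  rw [← mul_inv_eq_iff_eq_mul, h1]

theorem eq_top_of_conj_cover {N : Type*} [Group N] [Finite N] (C : Subgroup N)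
    (h : ∀ n : N, ∃ m : N, m⁻¹ * n * m ∈ C) : C = ⊤ := by
  classical
  haveI := Fintype.ofFinite N
  by_contra hne
  let S : Finset N := Finset.univ.erase 1
  let T : Finset ((N ⧸ C) × N) :=
    Finset.univ ×ˢ ((Finset.univ.filter fun c : N => c ∈ C).erase 1)
  have hle : S ⊆ T.image fun x => x.1.out * x.2 * x.1.out⁻¹ := by
    intro n hn
    obtain ⟨m, hm⟩ := h n
    obtain ⟨c, hc⟩ := QuotientGroup.mk_out_eq_mul C m
    refine Finset.mem_image.2 ⟨((m : N ⧸ C), (c : N)⁻¹ * (m⁻¹ * n * m) * c), ?_, ?_⟩
    · refine Finset.mem_product.2 ⟨Finset.mem_univ _, Finset.mem_erase.2 ⟨fun he => ?_,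
        Finset.mem_filter.2 ⟨Finset.mem_univ _, C.mul_mem (C.mul_mem (C.inv_mem c.2) hm) c.2⟩⟩⟩
      refine (Finset.mem_erase.1 hn).1 ?_
      have h1 : m⁻¹ * n * m = 1 := by
        calc m⁻¹ * n * m = (c : N) * ((c : N)⁻¹ * (m⁻¹ * n * m) * c) * (c : N)⁻¹ := by group
          _ = 1 := by simp only at he; rw [he]; group
      calc n = m * (m⁻¹ * n * m) * m⁻¹ := by group
        _ = 1 := by rw [h1]; group
    · rw [hc]; group
  have hcard := (Finset.card_le_card hle).trans Finset.card_image_le
  rw [Finset.card_product, Finset.card_erase_of_mem (Finset.mem_univ _), Finset.card_univ,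
    Finset.card_univ, Finset.card_erase_of_mem (Finset.mem_filter.2 ⟨Finset.mem_univ _, C.one_mem⟩),
    ← Fintype.card_subtype, ← Nat.card_eq_fintype_card, ← Nat.card_eq_fintype_card,
    ← Nat.card_eq_fintype_card, ← Subgroup.index_eq_card, Nat.mul_sub_left_distrib, mul_one,
    show Nat.card {c : N // c ∈ C} = Nat.card C from rfl, C.index_mul_card] at hcard
  have h2 : 2 ≤ C.index := by
    have := Subgroup.index_ne_zero_of_finite (H := C)
    have : C.index ≠ 1 := fun e => hne (Subgroup.index_eq_one.1 e)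
    omega
  have hpos : 0 < Nat.card N := Nat.card_pos
  have := Nat.le_of_dvd hpos C.index_dvd_card
  omega

theorem iff_main [Fact p.Prime] : ∀ (n : ℕ) (G : Type u) [Group G] [Finite G], Nat.card G = n →
    Cfsg.IsPSolvable p G → PPrimeDegrees G p →
    ∀ P : Sylow p G, (P : Subgroup G).Normal ∧ IsMulCommutative P := by
  intro n
  induction n using Nat.strong_induction_on with
  | _ n ih =>
    intro G _ _ hn hsolv hdeg P
    rcases subsingleton_or_nontrivial G with hss | hnt
    · exact ⟨⟨fun a ha g => by rwa [Subsingleton.elim (g * a * g⁻¹) a]⟩,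
        ⟨⟨fun a b => Subsingleton.elim _ _⟩⟩⟩
    haveI := Fintype.ofFinite G
    have hQ : ∀ N : Subgroup G, N.Normal → N ≠ ⊥ → Nat.card (G ⧸ N) < n := by
      intro N _ hN
      have h1 := Subgroup.card_eq_card_quotient_mul_card_subgroup N
      have h2 := (Subgroup.one_lt_card_iff_ne_bot N).2 hN
      have h3 : 0 < Nat.card (G ⧸ N) := Nat.card_pos
      rw [← hn, h1]
      exact lt_mul_of_one_lt_right h3 h2
    rcases Cfsg.Agent.PLocal.PSolvable.exists_core_ne_bot hsolv with hO | hO
    · -- a normal `p`-subgroup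
      set Q := Cfsg.pCore p G with hQdef
      haveI : Q.Normal := Subgroup.sSup_normal _ fun _ h => h.1
      have hQP : Q ≤ (P : Subgroup G) := pCore_le_sylow P
      obtain ⟨hnorm, -⟩ := ih _ (hQ Q inferInstance hO) (G ⧸ Q) rfl (Cfsg.Agent.PLocal.PSolvable.quotient hsolv Q)
        (hdeg.quotient Q) (P.mapSurjective (QuotientGroup.mk'_surjective Q))
      have hPn : (P : Subgroup G).Normal := by
        have h := hnorm.comap (QuotientGroup.mk' Q)
        rwa [Sylow.coe_mapSurjective, Subgroup.comap_map_eq, QuotientGroup.ker_mk',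
          sup_eq_left.2 hQP] at h
      haveI := hPn
      refine ⟨hPn, comm_of_linear fun θ => ?_⟩
      have h1 := hdeg.normal (P : Subgroup G) θ
      haveI := Fintype.ofFinite (P : Subgroup G)
      obtain ⟨m, hm⟩ := IsPGroup.iff_card.1 P.2
      obtain ⟨j, -, hj⟩ := (Nat.dvd_prime_pow Fact.out).1 (hm ▸ charDegree_dvd_card θ)
      rcases Nat.eq_zero_or_pos j with rfl | hj0
      · rwa [pow_zero] at hj
      · exact absurd (hj ▸ dvd_pow_self p hj0.ne') h1
    · -- a normal `p'`-subgroup
      set N := Cfsg.pPrimeCore p G with hNdef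
      haveI : N.Normal := pPrimeCore_normal p G
      have hNp : ¬ p ∣ Nat.card N := pPrimeCore_not_dvd p
      obtain ⟨hnorm, hab⟩ := ih _ (hQ N inferInstance hO) (G ⧸ N) rfl (Cfsg.Agent.PLocal.PSolvable.quotient hsolv N)
        (hdeg.quotient N) (P.mapSurjective (QuotientGroup.mk'_surjective N))
      set K := (P : Subgroup G) ⊔ N with hK
      have hKn : K.Normal := by
        have h := hnorm.comap (QuotientGroup.mk' N)
        rwa [Sylow.coe_mapSurjective, Subgroup.comap_map_eq, QuotientGroup.ker_mk'] at h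
      haveI := hKn
      by_cases hKtop : K = ⊤
      swap
      · have hlt : Nat.card K < n := by
          rw [← hn]
          refine lt_of_le_of_ne (Subgroup.card_le_card_group K) fun h => hKtop ?_
          exact Subgroup.eq_top_of_card_eq K h
        obtain ⟨hPn, hPc⟩ := ih _ hlt K rfl (Cfsg.Agent.PLocal.PSolvable.subgroup hsolv K) (hdeg.normal K) (P.subtype le_sup_left)
        refine ⟨⟨fun a ha g => ?_⟩, ⟨⟨fun a b => ?_⟩⟩⟩
        · haveI := hPn
          haveI := (Sylow.unique_of_normal (P.subtype le_sup_left : Sylow p K) hPn)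
          haveI hchar : ((P.subtype (le_sup_left : (P : Subgroup G) ≤ K) : Sylow p K) :
              Subgroup K).Characteristic := Sylow.characteristic_of_normal _ hPn
          have hle := Subgroup.characteristic_iff_map_le.1 hchar (MulAut.conjNormal g : MulAut K)
          exact hle ⟨⟨a, le_sup_left (b := N) ha⟩, ha, rfl⟩
        · have h := hPc.is_comm.comm (⟨⟨a, le_sup_left (b := N) a.2⟩, a.2⟩ :
            (P.subtype (le_sup_left : (P : Subgroup G) ≤ K) : Subgroup K))
            ⟨⟨b, le_sup_left (b := N) b.2⟩, b.2⟩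
          exact Subtype.ext (congrArg (fun z => ((z.1 : K) : G)) h)
      · have hPinf : (P : Subgroup G) ⊓ N = ⊥ := by
          obtain ⟨m, hm⟩ := IsPGroup.iff_card.1 P.2
          refine Subgroup.inf_eq_bot_of_coprime ?_
          rw [hm]
          exact Nat.Coprime.pow_left m ((Nat.Prime.coprime_iff_not_dvd Fact.out).2 hNp)
        have hcomm : ∀ a ∈ (P : Subgroup G), ∀ b ∈ (P : Subgroup G), a * b = b * a := by
          intro a ha b hb
          have h := hab.is_comm.comm (⟨(a : G ⧸ N), ⟨a, ha, rfl⟩⟩ :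
            (P.mapSurjective (QuotientGroup.mk'_surjective N) : Subgroup (G ⧸ N)))
            ⟨(b : G ⧸ N), ⟨b, hb, rfl⟩⟩
          have h' : ((a * b : G) : G ⧸ N) = ((b * a : G) : G ⧸ N) := congrArg Subtype.val h
          have h2 : (b * a)⁻¹ * (a * b) ∈ (P : Subgroup G) ⊓ N :=
            ⟨(P : Subgroup G).mul_mem ((P : Subgroup G).inv_mem ((P : Subgroup G).mul_mem hb ha))
              ((P : Subgroup G).mul_mem ha hb), QuotientGroup.eq.1 h'.symm⟩
          rw [hPinf, Subgroup.mem_bot, inv_mul_eq_one] at h2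
          exact h2.symm
        -- every character of `N` is invariant
        have hinv : ∀ (θ : Cfsg.IrrCharacter N) (g : G),
            Clifford.conjBy N g (θ : N → ℂ) = θ := by
          intro θ g
          obtain ⟨χ, -, hχ⟩ := exists_over N θ
          have hT : (inertia N (θ : N → ℂ)).index = 1 := by
            have hle : N ≤ inertia N (θ : N → ℂ) := fun x hx => funext fun y => by
              rw [Clifford.conjBy_apply]
              exact irr_isClassFunction θ y ⟨x, hx⟩
            have hd : (inertia N (θ : N → ℂ)).index ∣ N.index := Subgroup.index_dvd_of_le hle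
            have hNi : ∃ m, N.index = p ^ m := by
              obtain ⟨m, hm⟩ := IsPGroup.iff_card.1 P.2
              refine ⟨m, ?_⟩
              rw [← hm, Subgroup.index_eq_card]
              have hmap : (P : Subgroup G).map (QuotientGroup.mk' N) = ⊤ := by
                rw [← Subgroup.map_top_of_surjective _ (QuotientGroup.mk'_surjective N), ← hKtop,
                  Subgroup.map_sup, QuotientGroup.map_mk'_self, sup_bot_eq]
              rw [← Subgroup.card_top (G := G ⧸ N), ← hmap]
              refine (Nat.card_congr (Equiv.ofBijective (fun x : (P : Subgroup G) =>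
                (⟨_, ⟨x, x.2, rfl⟩⟩ : (P : Subgroup G).map (QuotientGroup.mk' N)))
                ⟨fun a b h => ?_, fun y => ?_⟩)).symm
              · have h2 : (a : G)⁻¹ * b ∈ (P : Subgroup G) ⊓ N :=
                  ⟨(P : Subgroup G).mul_mem ((P : Subgroup G).inv_mem a.2) b.2,
                    QuotientGroup.eq.1 (congrArg Subtype.val h)⟩
                rw [hPinf, Subgroup.mem_bot, inv_mul_eq_one] at h2
                exact Subtype.ext h2
              · obtain ⟨y, x, hx, rfl⟩ := y
                exact ⟨⟨x, hx⟩, rfl⟩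
            obtain ⟨m, hm⟩ := hNi
            obtain ⟨j, -, hj⟩ := (Nat.dvd_prime_pow Fact.out).1 (hm ▸ hd)
            rcases Nat.eq_zero_or_pos j with rfl | hj0
            · rwa [pow_zero] at hj
            · exact absurd ((hj ▸ dvd_pow_self p hj0.ne').trans hχ) (hdeg χ)
          exact (show g ∈ inertia N (θ : N → ℂ) by rw [Subgroup.index_eq_one.1 hT]; trivial)
        set C : Subgroup N := (Subgroup.centralizer ((P : Subgroup G) : Set G)).subgroupOf N
        have hC : C = ⊤ := by
          refine eq_top_of_conj_cover C fun k => ?_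
          letI : MulAction (P : Subgroup G) ((ConjClasses.mk k).carrier) :=
            { smul := fun u c => ⟨MulAut.conjNormal (u : G) c.1, by
                refine ConjClasses.mem_carrier_iff_mk_eq.2
                  ((ConjClasses.mk_eq_mk_iff_isConj.2 (isConj_of_forall_irr_eq fun θ => ?_)).trans
                    (ConjClasses.mem_carrier_iff_mk_eq.1 c.2))
                have h := congrFun (hinv θ (u : G)) c.1
                rw [Clifford.conjBy_apply] at h
                refine (congrArg (θ : N → ℂ) (Subtype.ext ?_)).trans h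
                rw [MulAut.conjNormal_apply]⟩
              one_smul := fun c => Subtype.ext (by
                show MulAut.conjNormal (((1 : (P : Subgroup G)) : G)) c.1 = c.1
                rw [OneMemClass.coe_one, map_one]; rfl)
              mul_smul := fun u w c => Subtype.ext (by
                show MulAut.conjNormal (((u * w : (P : Subgroup G)) : G)) c.1 =
                  MulAut.conjNormal (u : G) (MulAut.conjNormal (w : G) c.1)
                rw [Subgroup.coe_mul, map_mul]; rfl) }
          haveI : Finite (ConjClasses.mk k).carrier := inferInstance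
          have hdiv : ¬ p ∣ Nat.card (ConjClasses.mk k).carrier := fun hd =>
            hNp (hd.trans ⟨_, (card_carrier_mul_card_centralizer k).symm⟩)
          obtain ⟨c, hc⟩ := P.2.nonempty_fixed_point_of_prime_not_dvd_card _ hdiv
          obtain ⟨m, hm⟩ := isConj_iff.1 (ConjClasses.mk_eq_mk_iff_isConj.1
            (ConjClasses.mem_carrier_iff_mk_eq.1 c.2).symm)
          refine ⟨m⁻¹, Subgroup.mem_subgroupOf.2 (Subgroup.mem_centralizer_iff.2 fun u hu => ?_)⟩
          rw [inv_inv, hm]
          have := congrArg (fun z : (ConjClasses.mk k).carrier => ((z.1 : N) : G)) (hc ⟨u, hu⟩)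
          change u * ((c.1 : N) : G) * u⁻¹ = ((c.1 : N) : G) at this
          exact mul_inv_eq_iff_eq_mul.1 this
        refine ⟨⟨fun a ha g => ?_⟩, ⟨⟨fun a b => Subtype.ext (hcomm a a.2 b b.2)⟩⟩⟩
        have hg : g ∈ (P : Subgroup G) ⊔ N := by rw [← hK, hKtop]; trivial
        rw [← SetLike.mem_coe, Subgroup.mul_normal] at hg
        obtain ⟨u, hu, k, hk, rfl⟩ := hg
        have hkc : k ∈ Subgroup.centralizer ((P : Subgroup G) : Set G) := by
          have h : (⟨k, hk⟩ : N) ∈ C := hC ▸ Subgroup.mem_top _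
          exact h
        rw [show u * k * a * (u * k)⁻¹ = u * (k * a * k⁻¹) * u⁻¹ by group,
          show k * a * k⁻¹ = a by
            rw [← Subgroup.mem_centralizer_iff.1 hkc a ha, mul_inv_cancel_right]]
        exact mul_mem (mul_mem hu ha) (inv_mem hu)

/-- Itô: in a `p`-solvable group all degrees are prime to `p` exactly when a Sylow `p`-subgroup is
normal and abelian. -/
theorem normal_abelian_iff [Fact p.Prime] (hsolv : Cfsg.IsPSolvable p G) (P : Sylow p G) :
    ((P : Subgroup G).Normal ∧ IsMulCommutative P) ↔ PPrimeDegrees G p := by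
  refine ⟨fun ⟨hn, hc⟩ χ hd => ?_, fun h => iff_main (Nat.card G) G rfl hsolv h P⟩
  haveI := hn
  obtain ⟨d, hd1, hd2⟩ := degree_dvd_index_abelian (P : Subgroup G)
    (fun a ha b hb => congrArg Subtype.val (hc.is_comm.comm (⟨a, ha⟩ : P) ⟨b, hb⟩)) χ.2
  rw [show d = Cfsg.charDegree (χ : G → ℂ) from
    Nat.cast_injective (R := ℂ) (hd1.symm.trans (charDegree_cast χ).symm)] at hd2
  exact P.not_dvd_index (hd.trans hd2)

end Cfsg.Agent.BlocksChars.ItoPSolvable
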