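import Mathlib
import Cfsg.Agent.Lib.Blocks.Orthogonality
import Cfsg.Agent.Lib.Blocks.Rationality
import Cfsg.Agent.Lib.Blocks.LocalRing
import Cfsg.Agent.Lib.Blocks.Block
import Cfsg.Agent.Lib.Characters.Inner
import Cfsg.Agent.BlocksChars.Degrees

/-!
# Blocks for two primes in a group without elements of order `p q`
-/

set_option linter.style.haveILetI false
set_option linter.unusedSectionVars false

namespace Cfsg.Agent.BlocksChars.PQBlocks

open Cfsg.Agent.Characters Cfsg.Agent.Blocks Cfsg.Agent.BlocksChars.Degrees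
open scoped ComplexConjugate

universe u

variable {G : Type u} [Group G] [Finite G]

/-- A quotient by a prime power is integral when it is integral at every prime above. -/
theorem isIntegral_of_local {q b : ℕ} (hq : q.Prime) {z : ℂ}
    (hz : IsIntegral ℤ ((q : ℂ) ^ b * z))
    (hloc : ∀ M : Ideal Cfsg.AlgInt, Cfsg.IsPModular q M → Cfsg.MemLocalRing M z) :
    IsIntegral ℤ z := by
  classical
  let I : Ideal Cfsg.AlgInt :=
    { carrier := {a | IsIntegral ℤ ((a : ℂ) * z)}
      add_mem' := fun {a c} ha hc => by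
        show IsIntegral ℤ (((a + c : Cfsg.AlgInt) : ℂ) * z)
        push_cast
        rw [add_mul]
        exact IsIntegral.add ha hc
      zero_mem' := by
        show IsIntegral ℤ (((0 : Cfsg.AlgInt) : ℂ) * z)
        simp [isIntegral_zero]
      smul_mem' := fun c a ha => by
        show IsIntegral ℤ (((c * a : Cfsg.AlgInt) : ℂ) * z)
        push_cast
        rw [mul_assoc]
        exact IsIntegral.mul c.2 ha }
  by_cases hI : I = ⊤
  · have h1 : (1 : Cfsg.AlgInt) ∈ I := hI ▸ Submodule.mem_top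
    have h2 : IsIntegral ℤ (((1 : Cfsg.AlgInt) : ℂ) * z) := h1
    simpa using h2
  obtain ⟨M, hM, hle⟩ := Ideal.exists_le_maximal I hI
  have hqb : (q : Cfsg.AlgInt) ^ b ∈ I := by
    show IsIntegral ℤ ((((q : Cfsg.AlgInt) ^ b : Cfsg.AlgInt) : ℂ) * z)
    push_cast
    exact hz
  have hmem : (q : Cfsg.AlgInt) ∈ M := hM.isPrime.mem_of_pow_mem b (hle hqb)
  obtain ⟨a, c, hc, he⟩ := hloc M ⟨hq, hM, hmem⟩
  refine absurd (hle ?_) hc
  show IsIntegral ℤ ((c : ℂ) * z)
  have hc0 : (c : ℂ) ≠ 0 := fun e => hc (by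
    rw [show c = 0 from Subtype.ext e]; exact M.zero_mem)
  rw [← he, mul_div_cancel₀ _ hc0]
  exact a.2

theorem pq_block_sum {p q : ℕ} (hpq : p ≠ q) {Mp Mq : Ideal Cfsg.AlgInt}
    (hMp : Cfsg.IsPModular p Mp) (hMq : Cfsg.IsPModular q Mq)
    (hno : ∀ g : G, orderOf g ≠ p * q) {b : ℕ} (hb : (Nat.card G).factorization q = b)
    {Bp : Set (Cfsg.IrrCharacter G)} (hBp : Cfsg.IsPBlock Mp Bp)
    {Bq : Set (Cfsg.IrrCharacter G)} (hBq : Cfsg.IsPBlock Mq Bq) {y : G} (hy : p ∣ orderOf y) :
    ∃ ω : Cfsg.AlgInt, ∑ᶠ χ ∈ Bp ∩ Bq, (Cfsg.charDegree (χ : G → ℂ) : ℂ) * (χ : G → ℂ) y =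
      (q : ℂ) ^ b * (ω : ℂ) := by
  classical
  haveI := Fintype.ofFinite G
  haveI := Fintype.ofFinite (Cfsg.IrrCharacter G)
  haveI := Fintype.ofFinite (ConjClasses G)
  set S := ∑ᶠ χ ∈ Bp ∩ Bq, (Cfsg.charDegree (χ : G → ℂ) : ℂ) * (χ : G → ℂ) y with hS
  set F : G → ℂ := fun g => ∑ χ : Cfsg.IrrCharacter G,
    if χ ∈ Bp then (χ : G → ℂ) y * conj ((χ : G → ℂ) g) else 0 with hF
  have hFint : ∀ g, IsIntegral ℤ (F g) := fun g => IsIntegral.sum _ fun χ _ => by
    split_ifs
    · rw [← char_inv (irr_isCharacter χ)]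
      exact (char_value_isIntegral (irr_isCharacter χ) y).mul
        (char_value_isIntegral (irr_isCharacter χ) g⁻¹)
    · exact isIntegral_zero
  set E : G → ℂ := fun g => F g * Cfsg.blockCoeff Bq g⁻¹ with hE
  have hinner : ∀ χ ψ : Cfsg.IrrCharacter G,
      ∑ g : G, (ψ : G → ℂ) g * conj ((χ : G → ℂ) g) =
        if ψ = χ then (Nat.card G : ℂ) else 0 := by
    intro χ ψ
    have := classInner_irr ψ χ
    rw [classInner_def, inv_mul_eq_iff_eq_mul₀ natCard_ne_zero] at this
    rw [this]
    split <;> simp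
  have hSE : S = ∑ g : G, E g := by
    rw [hS, finsum_mem_def, finsum_eq_sum_of_fintype]
    simp only [Set.indicator_apply, hE, hF, blockCoeff_eq_sum, char_inv (irr_isCharacter _),
      Complex.conj_conj, Finset.mul_sum, Finset.sum_mul]
    rw [Finset.sum_comm]
    simp only [← charDegree_cast]
    calc (∑ χ : Cfsg.IrrCharacter G, if χ ∈ Bp ∩ Bq then
          (Cfsg.charDegree (χ : G → ℂ) : ℂ) * (χ : G → ℂ) y else 0)
        = ∑ ψ : Cfsg.IrrCharacter G, ∑ χ : Cfsg.IrrCharacter G,
            (Nat.card G : ℂ)⁻¹ * ((if χ ∈ Bp then (χ : G → ℂ) y else 0) *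
              (if ψ ∈ Bq then (Cfsg.charDegree (ψ : G → ℂ) : ℂ) else 0)) *
              ∑ g : G, (ψ : G → ℂ) g * conj ((χ : G → ℂ) g) := by
          simp only [hinner, mul_ite, mul_zero]
          refine Finset.sum_congr rfl fun ψ _ => ?_
          rw [Finset.sum_ite_eq, if_pos (Finset.mem_univ ψ)]
          by_cases h1 : ψ ∈ Bp <;> by_cases h2 : ψ ∈ Bq <;>
            simp [h1, h2, natCard_ne_zero, mul_comm, mul_left_comm]
      _ = _ := by
          simp only [Finset.mul_sum]
          refine Finset.sum_congr rfl fun ψ _ => ?_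
          rw [Finset.sum_comm]
          refine Finset.sum_congr rfl fun g _ => Finset.sum_congr rfl fun χ _ => ?_
          split_ifs <;> ring
  have hcls : ∀ g x : G, E (x * g * x⁻¹) = E g := by
    intro g x
    have h1 : (x * g * x⁻¹)⁻¹ = x * g⁻¹ * x⁻¹ := by group
    simp only [hE, hF, h1, blockCoeff_eq_sum, irr_isClassFunction _ _ x]
  -- divisibility of the class sizes in the support
  have hdvd : ∀ g : G, E g ≠ 0 → q ^ b ∣ Nat.card (ConjClasses.mk g).carrier := by
    intro g hg
    have hF0 : F g ≠ 0 := left_ne_zero_of_mul hg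
    have hpg : p ∣ orderOf g := by
      by_contra hpg
      refine hF0 ?_
      have h0 := sum_block_reg_sing hMp (intEl_blockIdem hMp hBp) hpg hy
      rw [finsum_mem_def, finsum_eq_sum_of_fintype] at h0
      simp only [Set.indicator_apply] at h0
      have h1 := congrArg conj h0
      simp only [map_sum, map_zero, apply_ite conj, map_mul, Complex.conj_conj] at h1
      refine Eq.trans (Finset.sum_congr rfl fun χ _ => ?_) h1
      split_ifs <;> ring
    have hqC : ¬ q ∣ Nat.card (Subgroup.centralizer ({g} : Set G)) := by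
      intro hd
      haveI := Fact.mk hMq.1
      obtain ⟨c, hc⟩ := exists_prime_orderOf_dvd_card' q hd
      have hcg : Commute g (c : G) := (Subgroup.mem_centralizer_singleton_iff.1 c.2).symm
      obtain ⟨k, hk⟩ := hpg
      have hord : orderOf (g ^ k) = p := by
        rw [orderOf_pow' g (by rintro rfl; exact (orderOf_pos g).ne' (hk.trans (mul_zero p))), hk,
          Nat.gcd_mul_left_left, Nat.mul_div_cancel _ (by
            rcases Nat.eq_zero_or_pos k with rfl | hk0
            · exact absurd (hk.trans (mul_zero p)) (orderOf_pos g).ne'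
            · exact hk0)]
      refine hno (g ^ k * (c : G)) ?_
      rw [(hcg.pow_left k).orderOf_mul_eq_mul_orderOf_of_coprime, hord, Subgroup.orderOf_coe, hc]
      rw [hord, Subgroup.orderOf_coe, hc]
      exact (Nat.coprime_primes hMp.1 hMq.1).2 hpq
    have hcard := card_carrier_mul_card_centralizer g
    have hcop : Nat.Coprime (q ^ b) (Nat.card (Subgroup.centralizer ({g} : Set G))) :=
      Nat.Coprime.pow_left b ((hMq.1.coprime_iff_not_dvd).2 hqC)
    refine hcop.dvd_of_dvd_mul_right ?_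
    rw [hcard, ← hb]
    exact Nat.ordProj_dvd _ _
  -- the quotient
  set T : ℂ := ∑ C : ConjClasses G, ((Nat.card C.carrier / q ^ b : ℕ) : ℂ) * E C.out with hT
  have hST : S = (q : ℂ) ^ b * T := by
    rw [hSE, ← Finset.sum_fiberwise Finset.univ (ConjClasses.mk (α := G)) E, hT, Finset.mul_sum]
    refine Finset.sum_congr rfl fun C _ => ?_
    have hC : ConjClasses.mk C.out = C := Quotient.out_eq C
    have hconst : ∀ g ∈ Finset.univ.filter (fun g : G => ConjClasses.mk g = C), E g = E C.out := by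
      intro g hg
      obtain ⟨x, hx⟩ := isConj_iff.1
        (ConjClasses.mk_eq_mk_iff_isConj.1 ((Finset.mem_filter.1 hg).2.trans hC.symm))
      rw [← hx, hcls]
    rw [Finset.sum_congr rfl hconst, Finset.sum_const, nsmul_eq_mul]
    rcases eq_or_ne (E C.out) 0 with h0 | h0
    · rw [h0]; simp
    have hd := hdvd _ h0
    rw [hC] at hd
    have hcard : (Finset.univ.filter fun g : G => ConjClasses.mk g = C).card = Nat.card C.carrier := by
      rw [Nat.card_eq_card_finite_toFinset (Set.toFinite C.carrier)]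
      exact congrArg Finset.card (Finset.ext fun g => by
        simp [ConjClasses.mem_carrier_iff_mk_eq])
    rw [hcard, ← mul_assoc ((q : ℂ) ^ b), ← Nat.cast_pow, ← Nat.cast_mul, Nat.mul_div_cancel' hd]
  have hSint : IsIntegral ℤ S := by
    rw [hS, finsum_mem_def, finsum_eq_sum_of_fintype]
    refine IsIntegral.sum _ fun χ _ => ?_
    rw [Set.indicator_apply]
    split_ifs
    · exact (isIntegral_natCast _).mul (char_value_isIntegral (irr_isCharacter χ) y)
    · exact isIntegral_zero
  have hTint : IsIntegral ℤ T := isIntegral_of_local (b := b) hMq.1 (hST ▸ hSint) fun M' hM' => by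
    refine ring_sum hM' fun C _ => ring_mul hM' (ring_natCast hM' _)
      (ring_mul hM' (ring_of_isIntegral hM' (hFint _)) ?_)
    have h := intEl_blockIdem_other hMq hM' hBq (C.out)⁻¹
    rwa [coeff_blockIdem] at h
  exact ⟨⟨T, hTint⟩, hST⟩

end Cfsg.Agent.BlocksChars.PQBlocks
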