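import Mathlib

/-!
# Matrices commuting with a subgroup that controls a trivial-intersection Sylow subgroup

A complex representation of degree `n` is written over a valuation ring with residue characteristic
`p`. If a `p`-subgroup `P` with `n ^ 2 ≤ |P|` acts freely on the non-trivial cosets of `H`, every
matrix commuting with `H` commutes with the whole group.
-/

set_option linter.style.haveILetI false
set_option autoImplicit false

namespace Cfsg.Agent.BlocksChars.TIFixed

open Matrix

/-- A `p`-group fixes a nonzero vector in the span of any orbit in characteristic `p`. -/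
theorem exists_fixed {p : ℕ} [Fact p.Prime] {Q : Type*} [Group Q] [Finite Q] (hQ : IsPGroup p Q)
    {V : Type*} [AddCommGroup V] [Module (ZMod p) V] (T : Representation (ZMod p) Q V) {a : V}
    (ha : a ≠ 0) :
    ∃ b ∈ Submodule.span (ZMod p) (Set.range fun g : Q => T g a), b ≠ 0 ∧ ∀ g, T g b = b := by
  classical
  set W := Submodule.span (ZMod p) (Set.range fun g : Q => T g a) with hW
  have hshift : ∀ b ∈ W, ∀ g : Q, T g b ∈ W := by
    intro b hb g
    induction hb using Submodule.span_induction with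
    | mem b hb =>
      obtain ⟨g', rfl⟩ := hb
      exact Submodule.subset_span ⟨g * g', by simp [map_mul]⟩
    | zero => simp
    | add b c _ _ hb hc => rw [map_add]; exact W.add_mem hb hc
    | smul r b _ hb => rw [map_smul]; exact W.smul_mem r hb
  haveI : Module.Finite (ZMod p) W :=
    Module.Finite.iff_fg.2 (Submodule.fg_span (Set.finite_range _))
  haveI : Finite W := Module.finite_of_finite (ZMod p)
  letI : MulAction Q W :=
    { smul := fun g b => ⟨T g b.1, hshift b.1 b.2 g⟩
      one_smul := fun b => Subtype.ext (by show T 1 b.1 = b.1; rw [map_one]; rfl)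
      mul_smul := fun g g' b => Subtype.ext (by
        show T (g * g') b.1 = T g (T g' b.1); rw [map_mul]; rfl) }
  have h0 : (0 : W) ∈ MulAction.fixedPoints Q W := fun g => Subtype.ext (map_zero (T g))
  haveI : Nontrivial W := ⟨⟨a, Submodule.subset_span ⟨1, by simp⟩⟩, 0,
    fun h => ha (congrArg Subtype.val h)⟩
  have hdvd : p ∣ Nat.card W := by
    obtain ⟨m, hm⟩ := (IsPGroup.iff_card (p := p) (G := Multiplicative W)).1 (by
      intro b
      refine ⟨1, ?_⟩
      refine Multiplicative.toAdd.injective ?_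
      rw [pow_one, toAdd_pow, toAdd_one, ← Nat.cast_smul_eq_nsmul (ZMod p), ZMod.natCast_self,
        zero_smul])
    have hm' : Nat.card W = p ^ m := hm
    rw [hm']
    refine dvd_pow_self p fun h => ?_
    rw [h, pow_zero] at hm'
    exact absurd (Finite.one_lt_card (α := W)) (by omega)
  obtain ⟨b, hb, hb0⟩ := hQ.exists_fixed_point_of_prime_dvd_card_of_fixed_point W hdvd h0
  exact ⟨b.1, b.2, fun h => hb0 (Subtype.ext h.symm), fun g => congrArg Subtype.val (hb g)⟩

/-- The norm map of a `p`-group vanishes on small matrices of characteristic `p`. -/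
theorem norm_eq_zero {p : ℕ} [Fact p.Prime] {k : Type*} [Field k] [CharP k p] {ι : Type*}
    [Fintype ι] [DecidableEq ι] {Q : Type*} [Group Q] [Fintype Q] (hQ : IsPGroup p Q)
    (hQ1 : 1 < Fintype.card Q) (σ : Q →* Matrix ι ι k)
    (hn : Fintype.card ι * Fintype.card ι ≤ Fintype.card Q) (v : Matrix ι ι k) :
    ∑ u : Q, σ u * v * σ u⁻¹ = 0 := by
  classical
  by_contra hne
  have hmul : ∀ u w : Q, σ u * σ w = σ (u * w) := fun u w => (map_mul σ u w).symm
  -- a kernel vector gives a fixed kernel vector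
  have key : ∀ (V : Type _) [AddCommGroup V] [Module k V] (x : Q → V) (T : Q → V →ₗ[k] V),
      (∀ g u, T g (x u) = x (g * u)) → (∑ u, x u) ≠ 0 → LinearIndependent k x := by
    intro V _ _ x T hT hsum
    rw [Fintype.linearIndependent_iff]
    by_contra hcon
    push Not at hcon
    obtain ⟨a, ha, i, hai⟩ := hcon
    letI : Algebra (ZMod p) k := ZMod.algebra k p
    let R : Representation (ZMod p) Q (Q → k) :=
      { toFun := fun g => LinearMap.funLeft (ZMod p) k fun u => g⁻¹ * u
        map_one' := LinearMap.ext fun b => funext fun u => by simp [LinearMap.funLeft_apply]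
        map_mul' := fun g g' => LinearMap.ext fun b => funext fun u => by
          simp [LinearMap.funLeft_apply, mul_assoc] }
    obtain ⟨b, hb, hb0, hbfix⟩ := exists_fixed hQ R (a := a) (fun h => hai (congrFun h i))
    have hW0 : ∀ c ∈ Submodule.span (ZMod p) (Set.range fun g : Q => R g a),
        ∑ u, c u • x u = 0 := by
      intro c hc
      induction hc using Submodule.span_induction with
      | mem b hb =>
        obtain ⟨g, rfl⟩ := hb
        have h1 : ∑ u, a (g⁻¹ * u) • x u = T g (∑ w, a w • x w) := by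
          rw [map_sum]
          refine Fintype.sum_equiv (Equiv.mulLeft g⁻¹) _ _ fun u => ?_
          simp only [Equiv.coe_mulLeft, map_smul, hT, mul_inv_cancel_left]
        show ∑ u, a (g⁻¹ * u) • x u = 0
        rw [h1, ha, map_zero]
      | zero => simp
      | add b c _ _ hb hc => simp [add_smul, Finset.sum_add_distrib, hb, hc]
      | smul r b _ hb =>
        simp only [Pi.smul_apply, Algebra.smul_def, ← smul_smul, ← Finset.smul_sum, hb, smul_zero]
    have hconst : ∀ u, b u = b 1 := fun u => by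
      have h := congrFun (hbfix u) u
      rw [show R u b u = b (u⁻¹ * u) from rfl, inv_mul_cancel] at h
      exact h.symm
    have hW := hW0 b hb
    simp only [hconst, ← Finset.smul_sum, smul_eq_zero, hsum, or_false] at hW
    exact hb0 (funext fun u => by rw [hconst u, hW]; rfl)
  let T : Q → Matrix ι ι k →ₗ[k] Matrix ι ι k := fun g =>
    (LinearMap.mulLeft k (σ g)).comp (LinearMap.mulRight k (σ g⁻¹))
  have hT : ∀ g u, T g (σ u * v * σ u⁻¹) = σ (g * u) * v * σ (g * u)⁻¹ := by
    intro g u
    simp only [T, LinearMap.comp_apply, LinearMap.mulLeft_apply, LinearMap.mulRight_apply,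
      _root_.mul_inv_rev]
    rw [map_mul, map_mul]
    simp only [mul_assoc]
  have hli := key _ (fun u => σ u * v * σ u⁻¹) T hT hne
  have hcard : Fintype.card Q ≤ Fintype.card ι * Fintype.card ι := by
    have h := hli.fintype_card_le_finrank
    rwa [Module.finrank_matrix, Module.finrank_self, mul_one] at h
  have heq : Fintype.card Q = Fintype.card ι * Fintype.card ι := le_antisymm hcard hn
  have hspan := hli.span_eq_top_of_card_eq_finrank' (by
    rw [Module.finrank_matrix, Module.finrank_self, mul_one, heq])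
  -- the identity is a norm
  obtain ⟨a, ha⟩ := (Submodule.mem_span_range_iff_exists_fun k).1
    (hspan ▸ Submodule.mem_top : (1 : Matrix ι ι k) ∈ _)
  have hfix : ∀ g : Q, σ g * 1 * σ g⁻¹ = 1 := fun g => by
    rw [mul_one, hmul, mul_inv_cancel, map_one]
  have hconst : ∀ g, a g = a 1 := by
    intro g
    have h2 : ∑ u, (a u - a (g * u)) • (σ u * v * σ u⁻¹) = 0 := by
      simp only [sub_smul, Finset.sum_sub_distrib, sub_eq_zero]
      have h1 : T g⁻¹ (1 : Matrix ι ι k) = 1 := by
        simp only [T, LinearMap.comp_apply, LinearMap.mulLeft_apply, LinearMap.mulRight_apply,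
          ← mul_assoc]
        exact hfix g⁻¹
      rw [ha]
      conv_lhs => rw [← h1, ← ha, map_sum]
      symm
      refine Fintype.sum_equiv (Equiv.mulLeft g) _ _ fun u => ?_
      simp only [Equiv.coe_mulLeft, map_smul, hT, inv_mul_cancel_left]
    have := Fintype.linearIndependent_iff.1 hli _ h2 1
    rw [mul_one] at this
    exact (sub_eq_zero.1 this).symm
  have hnorm : ∑ u, σ u * (a 1 • v) * σ u⁻¹ = 1 := by
    rw [← ha]
    exact Finset.sum_congr rfl fun u _ => by rw [hconst u, Matrix.mul_smul, Matrix.smul_mul]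
  -- apply the norm to a fixed vector
  rcases isEmpty_or_nonempty ι with hι | ⟨⟨i⟩⟩
  · exact hne (Subsingleton.elim _ _)
  letI : Algebra (ZMod p) k := ZMod.algebra k p
  let R : Representation (ZMod p) Q (ι → k) :=
    { toFun := fun g => (Matrix.mulVecLin (σ g)).restrictScalars (ZMod p)
      map_one' := LinearMap.ext fun z => by simp
      map_mul' := fun g g' => LinearMap.ext fun z => by simp [Matrix.mulVec_mulVec] }
  obtain ⟨w, -, hw0, hw⟩ := exists_fixed hQ R (a := (Pi.single i 1 : ι → k))
    (fun h => one_ne_zero (α := k) (by simpa using congrFun h i))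
  replace hw : ∀ g : Q, σ g *ᵥ w = w := hw
  have hv' : ∑ u, σ u *ᵥ ((a 1 • v) *ᵥ w) = w := by
    conv_rhs => rw [← Matrix.one_mulVec w, ← hnorm, Matrix.sum_mulVec]
    exact Finset.sum_congr rfl fun u _ => by
      rw [← Matrix.mulVec_mulVec, hw, Matrix.mulVec_mulVec]
  have hli2 := key (ι → k) (fun u => σ u *ᵥ ((a 1 • v) *ᵥ w)) (fun g => Matrix.mulVecLin (σ g))
    (fun g u => by simp only [Matrix.mulVecLin_apply, Matrix.mulVec_mulVec]; rw [← hmul g u, mul_assoc]) (by rw [hv']; exact hw0)
  have h := hli2.fintype_card_le_finrank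
  rw [Module.finrank_fintype_fun_eq_card, heq] at h
  nlinarith

section Main

variable {G : Type*} [Group G] [Finite G]

/-- Matrices commuting with `H` commute with `G`. -/
theorem commute_of_commute {p : ℕ} [Fact p.Prime] (P H : Subgroup G) (hP : IsPGroup p P)
    (hP1 : P ≠ ⊥) (hPH : P ≤ H)
    (hfree : ∀ u ∈ P, u ≠ 1 → ∀ g : G, g⁻¹ * u * g ∈ H → g ∈ H)
    {n : ℕ} (hn : n * n ≤ Nat.card P) (ρ : Representation ℂ G (Fin n → ℂ))
    (f : (Fin n → ℂ) →ₗ[ℂ] (Fin n → ℂ)) (hf : ∀ h ∈ H, ρ h ∘ₗ f = f ∘ₗ ρ h) :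
    ∀ g : G, ρ g ∘ₗ f = f ∘ₗ ρ g := by
  classical
  -- a valuation ring with residue characteristic `p`
  obtain ⟨V, -, hV⟩ := Ideal.image_subset_nonunits_valuationSubring (K := ℂ)
    (Ideal.span {(p : (⊥ : Subring ℂ))}) (by
      rw [Ne, Ideal.span_singleton_eq_top]
      intro hu
      obtain ⟨z, hz⟩ := hu.exists_right_inv
      obtain ⟨m, hm⟩ := Subring.mem_bot.1 z.2
      have h1 : (p : ℂ) * (z : ℂ) = 1 := by simpa using congrArg Subtype.val hz
      rw [← hm] at h1
      have h2 : ((p : ℤ) * m : ℤ) = 1 := by exact_mod_cast h1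
      have h3 := Int.eq_one_of_mul_eq_one_right (by positivity) h2
      have := (Fact.out : p.Prime).one_lt
      omega)
  have hpV : (p : V) ∈ IsLocalRing.maximalIdeal V := by
    rw [← ValuationSubring.coe_mem_nonunits_iff]
    exact hV ⟨_, Ideal.subset_span rfl, by simp⟩
  haveI : CharP (IsLocalRing.ResidueField V) p := ringChar.of_eq
    (CharP.ringChar_of_prime_eq_zero (R := IsLocalRing.ResidueField V) Fact.out (by
      rw [← map_natCast (IsLocalRing.residue V), IsLocalRing.residue_eq_zero_iff]; exact hpV))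
  -- an invariant lattice
  let L : Submodule V (Fin n → ℂ) :=
    Submodule.span V (Set.range fun x : G × Fin n => ρ x.1 (Pi.single x.2 1))
  have hLinv : ∀ g : G, ∀ v ∈ L, ρ g v ∈ L := by
    intro g v hv
    induction hv using Submodule.span_induction with
    | mem v hv =>
      obtain ⟨⟨g', i⟩, rfl⟩ := hv
      exact Submodule.subset_span ⟨(g * g', i), by simp [map_mul]⟩
    | zero => simp
    | add b c _ _ hb hc => rw [map_add]; exact L.add_mem hb hc
    | smul r b _ hb =>
      rw [show (r • b : Fin n → ℂ) = (r : ℂ) • b from rfl, map_smul]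
      exact L.smul_mem r hb
  haveI : Module.Finite V L := Module.Finite.iff_fg.2 (Submodule.fg_span (Set.finite_range _))
  haveI : Module.Flat V L := by
    rw [Module.Flat.flat_iff_torsion_eq_bot_of_isBezout, Submodule.eq_bot_iff]
    intro x hx
    obtain ⟨⟨a, ha⟩, hax⟩ := hx
    refine Subtype.ext ?_
    have h1 : (a : ℂ) • (x : Fin n → ℂ) = 0 := congrArg Subtype.val hax
    exact (smul_eq_zero.1 h1).resolve_left fun h => nonZeroDivisors.ne_zero ha (Subtype.ext h)
  haveI : Module.Free V L := Module.free_of_flat_of_isLocalRing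
  let b0 := Module.Free.chooseBasis V L
  have hliV : LinearIndependent V fun i => (b0 i : Fin n → ℂ) :=
    b0.linearIndependent.map' L.subtype (Submodule.ker_subtype L)
  have hliC := (LinearIndependent.iff_fractionRing (R := V) (K := ℂ)).1 hliV
  have hspanC : ⊤ ≤ Submodule.span ℂ (Set.range fun i => (b0 i : Fin n → ℂ)) := by
    rw [← (Pi.basisFun ℂ (Fin n)).span_eq, Submodule.span_le]
    rintro _ ⟨i, rfl⟩
    have hmem : (Pi.single i 1 : Fin n → ℂ) ∈ L := Submodule.subset_span ⟨(1, i), by simp⟩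
    rw [Pi.basisFun_apply, show (Pi.single i 1 : Fin n → ℂ) =
      ((∑ j, b0.repr ⟨_, hmem⟩ j • b0 j : L) : Fin n → ℂ) by rw [b0.sum_repr]]
    rw [AddSubmonoidClass.coe_finsetSum]
    exact Submodule.sum_mem _ fun j _ => Submodule.smul_mem _ (b0.repr ⟨_, hmem⟩ j : ℂ)
      (Submodule.subset_span ⟨j, rfl⟩)
  let b := Module.Basis.mk hliC hspanC
  have hcard : Fintype.card (Module.Free.ChooseBasisIndex V L) = n := by
    rw [← Module.finrank_eq_card_basis b, Module.finrank_fintype_fun_eq_card, Fintype.card_fin]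
  -- the matrices
  let A : G →* Matrix (Module.Free.ChooseBasisIndex V L) (Module.Free.ChooseBasisIndex V L) V :=
    { toFun := fun g => Matrix.of fun i j => b0.repr ⟨ρ g (b0 j), hLinv g _ (b0 j).2⟩ i
      map_one' := by
        ext i j
        rw [Matrix.of_apply, show (⟨ρ 1 (b0 j : Fin n → ℂ), hLinv 1 _ (b0 j).2⟩ : L) = b0 j from
          Subtype.ext (by simp), b0.repr_self, Matrix.one_apply, Finsupp.single_apply]
        simp [eq_comm]
      map_mul' := fun g g' => by
        ext i j
        rw [Matrix.of_apply, Matrix.mul_apply]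
        simp only [Matrix.of_apply]
        rw [show (⟨ρ (g * g') (b0 j : Fin n → ℂ), hLinv _ _ (b0 j).2⟩ : L) =
          ∑ k, b0.repr ⟨ρ g' (b0 j), hLinv g' _ (b0 j).2⟩ k • (⟨ρ g (b0 k), hLinv g _ (b0 k).2⟩ : L)
          from Subtype.ext ?_]
        · simp only [map_sum, map_smul, Finsupp.coe_finsetSum, Finset.sum_apply, Finsupp.smul_apply,
            smul_eq_mul]
          refine congrArg Subtype.val (Finset.sum_congr rfl fun k _ => mul_comm _ _)
        · have h := congrArg (fun x : L => ρ g (x : Fin n → ℂ))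
            (b0.sum_repr ⟨ρ g' (b0 j), hLinv g' _ (b0 j).2⟩)
          simp only [AddSubmonoidClass.coe_finsetSum, map_sum] at h
          show ρ (g * g') (b0 j : Fin n → ℂ) = _
          rw [map_mul, Module.End.mul_apply, ← h, AddSubmonoidClass.coe_finsetSum]
          refine Finset.sum_congr rfl fun k _ => ?_
          exact map_smul (ρ g) (b0.repr ⟨ρ g' (b0 j), hLinv g' _ (b0 j).2⟩ k : ℂ) _ }
  have hA : ∀ g, LinearMap.toMatrix b b (ρ g) = (A g).map (fun z : V => (z : ℂ)) := by
    intro g
    ext i j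
    rw [LinearMap.toMatrix_apply, Matrix.map_apply,
      show b j = (b0 j : Fin n → ℂ) from Module.Basis.mk_apply hliC hspanC j]
    have h := congrArg (fun x : L => (x : Fin n → ℂ))
      (b0.sum_repr ⟨ρ g (b0 j), hLinv g _ (b0 j).2⟩)
    simp only [AddSubmonoidClass.coe_finsetSum] at h
    rw [← h, show (∑ k, ((b0.repr ⟨ρ g (b0 j), hLinv g _ (b0 j).2⟩ k • b0 k : L) : Fin n → ℂ)) =
      ∑ k, (b0.repr ⟨ρ g (b0 j), hLinv g _ (b0 j).2⟩ k : ℂ) • b k from
      Finset.sum_congr rfl fun k _ => by rw [Module.Basis.mk_apply]; rfl, b.repr_sum_self]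
    rfl
  -- averaging
  let Ac : G →* Matrix (Module.Free.ChooseBasisIndex V L) (Module.Free.ChooseBasisIndex V L) ℂ := (RingHom.mapMatrix V.subtype).toMonoidHom.comp A
  have hAc : ∀ g, LinearMap.toMatrix b b (ρ g) = Ac g := hA
  set F0 := LinearMap.toMatrix b b f with hF0
  have hF0H : ∀ h ∈ H, Ac h * F0 = F0 * Ac h := fun h hh => by
    rw [← hAc, hF0, ← LinearMap.toMatrix_comp, ← LinearMap.toMatrix_comp, hf h hh]
  suffices hkey : ∀ g, Ac g * F0 = F0 * Ac g by
    intro g
    refine (LinearMap.toMatrix b b).injective ?_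
    rw [LinearMap.toMatrix_comp b b b, LinearMap.toMatrix_comp b b b, hAc]
    exact hkey g
  -- conjugates over the cosets
  haveI := Fintype.ofFinite (G ⧸ H)
  let T : Matrix (Module.Free.ChooseBasisIndex V L) (Module.Free.ChooseBasisIndex V L) ℂ → Matrix (Module.Free.ChooseBasisIndex V L) (Module.Free.ChooseBasisIndex V L) ℂ := fun X => ∑ q : G ⧸ H, Ac q.out * X * Ac q.out⁻¹
  have hout : ∀ X : Matrix (Module.Free.ChooseBasisIndex V L) (Module.Free.ChooseBasisIndex V L) ℂ, (∀ h ∈ H, Ac h * X = X * Ac h) → ∀ g : G,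
      Ac ((g : G ⧸ H).out) * X * Ac ((g : G ⧸ H).out)⁻¹ = Ac g * X * Ac g⁻¹ := by
    intro X hX g
    obtain ⟨h, hh⟩ := QuotientGroup.mk_out_eq_mul H g
    rw [hh, _root_.mul_inv_rev, map_mul, map_mul, mul_assoc (Ac g), hX h h.2,
      show Ac g * (X * Ac h) * (Ac (h : G)⁻¹ * Ac g⁻¹) =
        Ac g * X * (Ac h * Ac (h : G)⁻¹) * Ac g⁻¹ by simp only [mul_assoc], ← map_mul,
      mul_inv_cancel, map_one, mul_one]
  have hTG : ∀ X : Matrix (Module.Free.ChooseBasisIndex V L) (Module.Free.ChooseBasisIndex V L) ℂ, (∀ h ∈ H, Ac h * X = X * Ac h) → ∀ g : G,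
      Ac g * T X = T X * Ac g := by
    intro X hX g
    have h1 : Ac g * T X * Ac g⁻¹ = T X := by
      rw [show T X = ∑ q : G ⧸ H, Ac q.out * X * Ac q.out⁻¹ from rfl, Matrix.mul_sum,
        Matrix.sum_mul]
      refine Fintype.sum_equiv (MulAction.toPerm g) _ _ fun q => ?_
      have hq : (MulAction.toPerm g q : G ⧸ H) = ((g * q.out : G) : G ⧸ H) := by
        conv_lhs => rw [← q.out_eq]
        rfl
      rw [hq, hout X hX, _root_.mul_inv_rev, map_mul, map_mul]
      simp only [mul_assoc]
    conv_rhs => rw [← h1, mul_assoc, ← map_mul, inv_mul_cancel, map_one, mul_one]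
  have hidx : ¬ p ∣ H.index ∧ ∀ X : Matrix (Module.Free.ChooseBasisIndex V L) (Module.Free.ChooseBasisIndex V L) V, (∀ h ∈ H, A h * X = X * A h) →
      (∑ q : G ⧸ H, A q.out * X * A q.out⁻¹).map (IsLocalRing.residue V) =
        X.map (IsLocalRing.residue V) := by
    haveI : Fintype P := Fintype.ofFinite P
    set q₁ : G ⧸ H := ((1 : G) : G ⧸ H) with hq₁
    set S := Finset.univ.erase q₁ with hS
    have hmem : ∀ q ∈ S, ∀ u : P, u • q ∈ S ∧ (u • q = q → u = 1) := by
      intro q hq u
      have hq' : q.out ∉ H := fun h => (Finset.mem_erase.1 hq).1 (by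
        rw [← q.out_eq, hq₁]; exact QuotientGroup.eq.2 (by simpa using H.inv_mem h))
      refine ⟨Finset.mem_erase.2 ⟨fun e => ?_, Finset.mem_univ _⟩, fun e => ?_⟩
      · rw [← q.out_eq] at e
        have e' : (((u : G) * q.out : G) : G ⧸ H) = ((1 : G) : G ⧸ H) := e
        exact hq' ((H.mul_mem_cancel_left (hPH u.2)).1 (by simpa using H.inv_mem (QuotientGroup.eq.1 e')))
      · by_contra hu
        rw [← q.out_eq] at e
        have e' : (((u : G) * q.out : G) : G ⧸ H) = ((q.out : G) : G ⧸ H) := e
        refine hq' (hfree u u.2 (fun h => hu (Subtype.ext h)) _ ?_)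
        simpa [mul_assoc] using H.inv_mem (QuotientGroup.eq.1 e')
    let orb : G ⧸ H → Finset (G ⧸ H) := fun q => Finset.univ.image fun u : P => u • q
    have hfib : ∀ O ∈ S.image orb, ∃ q ∈ S,
        (S.filter fun r => orb r = O) = Finset.univ.image (fun u : P => u • q) ∧
          Function.Injective fun u : P => u • q := by
      intro O hO
      obtain ⟨q, hq, rfl⟩ := Finset.mem_image.1 hO
      refine ⟨q, hq, ?_, fun u w e => ?_⟩
      · ext r
        rw [Finset.mem_filter]
        constructor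
        · rintro ⟨-, hr⟩
          show r ∈ orb q
          rw [← hr]
          exact Finset.mem_image.2 ⟨1, Finset.mem_univ _, one_smul _ _⟩
        · intro hr
          obtain ⟨u, -, rfl⟩ := Finset.mem_image.1 hr
          refine ⟨(hmem q hq u).1, Finset.ext fun r => ?_⟩
          simp only [orb, Finset.mem_image, Finset.mem_univ, true_and]
          exact ⟨fun ⟨w, hw⟩ => ⟨w * u, by rw [← hw, smul_smul]⟩,
            fun ⟨w, hw⟩ => ⟨w * u⁻¹, by rw [smul_smul, inv_mul_cancel_right, hw]⟩⟩
      · simp only at e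
        exact (inv_mul_eq_one.1 ((hmem q hq (w⁻¹ * u)).2 (by rw [mul_smul, e, inv_smul_smul]))).symm
    have hP1' : 1 < Fintype.card P := by
      rw [← Nat.card_eq_fintype_card]; exact (Subgroup.one_lt_card_iff_ne_bot P).2 hP1
    refine ⟨fun hd => ?_, fun X hX => ?_⟩
    · have hS0 : p ∣ S.card := by
        rw [Finset.card_eq_sum_card_image orb]
        refine Finset.dvd_sum fun O hO => ?_
        obtain ⟨q, -, he, hinj⟩ := hfib O hO
        rw [he, Finset.card_image_of_injective _ hinj, Finset.card_univ, ← Nat.card_eq_fintype_card]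
        obtain ⟨m, hm⟩ := IsPGroup.iff_card.1 hP
        rw [hm]
        refine dvd_pow_self p fun h => ?_
        rw [h, pow_zero, Nat.card_eq_fintype_card] at hm
        omega
      rw [Subgroup.index_eq_card, Nat.card_eq_fintype_card, ← Finset.card_univ,
        ← Finset.card_erase_add_one (Finset.mem_univ q₁)] at hd
      exact (Fact.out : p.Prime).not_dvd_one ((Nat.dvd_add_right hS0).1 hd)
    let red : Matrix (Module.Free.ChooseBasisIndex V L) (Module.Free.ChooseBasisIndex V L) V →+* Matrix (Module.Free.ChooseBasisIndex V L) (Module.Free.ChooseBasisIndex V L) (IsLocalRing.ResidueField V) :=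
      (IsLocalRing.residue V).mapMatrix
    show red (∑ q : G ⧸ H, A q.out * X * A q.out⁻¹) = red X
    let F : G ⧸ H → Matrix (Module.Free.ChooseBasisIndex V L) (Module.Free.ChooseBasisIndex V L) (IsLocalRing.ResidueField V) :=
      fun q => red (A q.out * X * A q.out⁻¹)
    have hF : ∀ g : G, F (g : G ⧸ H) = red (A g * X * A g⁻¹) := by
      intro g
      obtain ⟨h, hh⟩ := QuotientGroup.mk_out_eq_mul H g
      simp only [F]
      rw [hh, _root_.mul_inv_rev, map_mul A, map_mul A, mul_assoc (A g), hX h h.2,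
        show A g * (X * A h) * (A (h : G)⁻¹ * A g⁻¹) = A g * X * (A h * A (h : G)⁻¹) * A g⁻¹ by
          simp only [mul_assoc], ← map_mul A, mul_inv_cancel, map_one, mul_one]
    rw [map_sum, ← Finset.add_sum_erase _ _ (Finset.mem_univ q₁)]
    have hF1 : F q₁ = red X := by rw [hq₁, hF, inv_one, map_one, one_mul, mul_one]
    show F q₁ + ∑ q ∈ S, F q = red X
    rw [hF1, add_eq_left,
      ← Finset.sum_fiberwise_of_maps_to (g := orb) (t := S.image orb)
        (fun q hq => Finset.mem_image_of_mem _ hq)]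
    refine Finset.sum_eq_zero fun O hO => ?_
    obtain ⟨q, -, he, hinj⟩ := hfib O hO
    rw [he, Finset.sum_image fun x _ y _ e => hinj e]
    let σ : P →* Matrix (Module.Free.ChooseBasisIndex V L) (Module.Free.ChooseBasisIndex V L) (IsLocalRing.ResidueField V) :=
      red.toMonoidHom.comp (A.comp P.subtype)
    have hterm : ∀ u : P, F (u • q) = σ u * F q * σ u⁻¹ := fun u => by
      have hu : u • q = (((u : G) * q.out : G) : G ⧸ H) := by
        conv_lhs => rw [← q.out_eq]
        rfl
      rw [hu, hF, _root_.mul_inv_rev, map_mul A, map_mul A]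
      simp only [F, σ, MonoidHom.comp_apply, RingHom.toMonoidHom_eq_coe, MonoidHom.coe_coe,
        Subgroup.coe_subtype, Subgroup.coe_inv, map_mul, mul_assoc]
    simp only [hterm]
    exact norm_eq_zero hP hP1' σ (by rw [hcard, ← Nat.card_eq_fintype_card]; exact hn) _
  -- the part killed by averaging
  have hidx0 : (H.index : ℂ) ≠ 0 := Nat.cast_ne_zero.2 Subgroup.index_ne_zero_of_finite
  have hTT : T (T F0) = (H.index : ℂ) • T F0 := by
    show ∑ q : G ⧸ H, Ac q.out * T F0 * Ac q.out⁻¹ = _
    have : ∀ q : G ⧸ H, Ac q.out * T F0 * Ac q.out⁻¹ = T F0 := fun q => by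
      rw [hTG F0 hF0H, mul_assoc, ← map_mul, mul_inv_cancel, map_one, mul_one]
    rw [Finset.sum_congr rfl fun q _ => this q, Finset.sum_const, Finset.card_univ,
      ← Nat.card_eq_fintype_card, ← Subgroup.index_eq_card, ← Nat.cast_smul_eq_nsmul ℂ]
  set E := F0 - (H.index : ℂ)⁻¹ • T F0 with hE
  suffices hE0 : E = 0 by
    intro g
    rw [sub_eq_zero.1 hE0, Matrix.mul_smul, Matrix.smul_mul, hTG F0 hF0H g]
  have hEH : ∀ h ∈ H, Ac h * E = E * Ac h := fun h hh => by
    rw [hE, mul_sub, sub_mul, Matrix.mul_smul, Matrix.smul_mul, hF0H h hh, hTG F0 hF0H h]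
  have hTE : T E = 0 := by
    have hlin : T E = T F0 - (H.index : ℂ)⁻¹ • T (T F0) := by
      show ∑ q : G ⧸ H, Ac q.out * (F0 - (H.index : ℂ)⁻¹ • T F0) * Ac q.out⁻¹ = _
      simp only [mul_sub, sub_mul, Matrix.mul_smul, Matrix.smul_mul, Finset.sum_sub_distrib,
        ← Finset.smul_sum]
      rfl
    rw [hlin, hTT, smul_smul, inv_mul_cancel₀ hidx0, one_smul, sub_self]
  by_contra hne
  obtain ⟨i, j, hij⟩ : ∃ i j, E i j ≠ 0 := by
    by_contra hall
    push Not at hall
    exact hne (Matrix.ext hall)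
  obtain ⟨⟨i₀, j₀⟩, -, hmax⟩ := Finset.exists_max_image (Finset.univ : Finset ((Module.Free.ChooseBasisIndex V L) × (Module.Free.ChooseBasisIndex V L)))
    (fun x => V.valuation (E x.1 x.2)) ⟨(i, j), Finset.mem_univ _⟩
  have h00 : E i₀ j₀ ≠ 0 := fun h => by
    have h1 := hmax (i, j) (Finset.mem_univ _)
    rw [h, map_zero, le_zero_iff, map_eq_zero] at h1
    exact hij h1
  have hint : ∀ x y, (E i₀ j₀)⁻¹ * E x y ∈ V := fun x y => by
    rw [← ValuationSubring.valuation_le_one_iff, map_mul, map_inv₀, ← div_eq_inv_mul]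
    exact div_le_one_of_le₀ (hmax (x, y) (Finset.mem_univ _)) zero_le
  let X : Matrix (Module.Free.ChooseBasisIndex V L) (Module.Free.ChooseBasisIndex V L) V := Matrix.of fun x y => ⟨_, hint x y⟩
  have hXc : X.map (fun z : V => (z : ℂ)) = (E i₀ j₀)⁻¹ • E := by ext x y; rfl
  have hinj : Function.Injective (RingHom.mapMatrix (m := (Module.Free.ChooseBasisIndex V L)) V.subtype) :=
    fun a b h => Matrix.ext fun x y => Subtype.ext (congrFun (congrFun h x) y)
  have hXH : ∀ h ∈ H, A h * X = X * A h := fun h hh => hinj (by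
    rw [map_mul, map_mul]
    show Ac h * X.map _ = X.map _ * Ac h
    rw [show X.map V.subtype = (E i₀ j₀)⁻¹ • E from hXc, Matrix.mul_smul, Matrix.smul_mul,
      hEH h hh])
  have hsum0 : ∑ q : G ⧸ H, A q.out * X * A q.out⁻¹ = 0 := hinj (by
    rw [map_sum, map_zero]
    have : ∀ q : G ⧸ H, RingHom.mapMatrix (m := (Module.Free.ChooseBasisIndex V L)) V.subtype (A q.out * X * A q.out⁻¹) =
        (E i₀ j₀)⁻¹ • (Ac q.out * E * Ac q.out⁻¹) := fun q => by
      rw [map_mul, map_mul]
      show Ac q.out * X.map V.subtype * Ac q.out⁻¹ = _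
      rw [show X.map V.subtype = (E i₀ j₀)⁻¹ • E from hXc, Matrix.mul_smul, Matrix.smul_mul]
    rw [Finset.sum_congr rfl fun q _ => this q, ← Finset.smul_sum]
    show _ • T E = 0
    rw [hTE, smul_zero])
  have hres := hidx.2 X hXH
  rw [hsum0] at hres
  have h1 := congrFun (congrFun hres i₀) j₀
  simp only [Matrix.map_apply, Matrix.zero_apply, map_zero] at h1
  rw [show X i₀ j₀ = 1 from Subtype.ext (inv_mul_cancel₀ h00), map_one] at h1
  exact zero_ne_one h1

end Main

end Cfsg.Agent.BlocksChars.TIFixed
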