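import Mathlib
import Cfsg.Prelude.Def_Blocks
import Cfsg.Agent.BlocksChars.Codegree
import Cfsg.Agent.Lib.CharTheory.Basics
import Cfsg.Agent.Lib.CharTheory.Clifford
import Cfsg.Agent.Lib.CharTheory.Average

/-!
Characters induced from an extension to the inertia group, and their twists by linear characters.
-/

set_option autoImplicit false
set_option linter.style.haveILetI false
set_option linter.unusedSectionVars false

namespace Cfsg.Agent.BlocksChars.LinearTwist

open Cfsg.Agent.Characters Cfsg.Agent.CharTheory Cfsg.Agent.BlocksChars.Degrees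
open scoped ComplexConjugate commutatorElement

universe u

variable {G : Type u} [Group G]

/-- A non-abelian minimal normal subgroup is perfect. -/
theorem commutator_eq_self {N : Subgroup G} [hN : N.Normal]
    (hmin : ∀ M : Subgroup G, M.Normal → M ≤ N → M = ⊥ ∨ M = N) (hna : ¬ IsMulCommutative ↥N) :
    ⁅N, N⁆ = N := by
  refine (hmin ⁅N, N⁆ inferInstance (Subgroup.commutator_le_right N N)).resolve_left fun h => hna ?_
  refine ⟨⟨fun a b => Subtype.ext ?_⟩⟩
  have := Subgroup.commutator_mem_commutator a.2 b.2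
  rw [h, Subgroup.mem_bot, commutatorElement_eq_one_iff_mul_comm] at this
  exact this

theorem irr_linear_mul [Finite G] {l : G → ℂ} (hl : Cfsg.IsCharacter G l) (h1 : l 1 = 1) (a b : G) :
    l (a * b) = l a * l b :=
  char_mul_of_degree_one hl h1 a b

/-- Linear characters are trivial on perfect subgroups. -/
theorem linear_eq_one_of_perfect [Finite G] {l : G → ℂ} (hl : Cfsg.IsCharacter G l) (h1 : l 1 = 1)
    {N : Subgroup G} (hN : ⁅N, N⁆ = N) {n : G} (hn : n ∈ N) : l n = 1 := by
  have hle : ⁅N, N⁆ ≤ charKernel l hl := by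
    rw [Subgroup.commutator_le]
    intro a _ b _
    rw [mem_charKernel, h1, commutatorElement_def, irr_linear_mul hl h1, irr_linear_mul hl h1,
      irr_linear_mul hl h1, mul_right_comm (l a), ← irr_linear_mul hl h1 a, mul_inv_cancel, h1,
      one_mul, ← irr_linear_mul hl h1, mul_inv_cancel, h1]
  rw [hN] at hle
  exact (mem_charKernel.1 (hle hn)).trans h1

variable [Fintype G] {N : Subgroup G} [N.Normal] [Fintype N]

/-- The multiplicity of `φ` in a restriction, bounded below through constituents. -/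
theorem classInner_le (I : Subgroup G) [Fintype I] (hNI : N ≤ I) {X : I → ℂ}
    (hX : Cfsg.IsCharacter I X) {φ : N → ℂ} (hφ : Cfsg.IsIrrCharacter N φ)
    (S : Finset (Cfsg.IrrCharacter I))
    (hS : ∀ η ∈ S, (fun n : N => (η : I → ℂ) (Subgroup.inclusion hNI n)) = φ) {b : ℕ}
    (hb : Cfsg.classInner (fun n : N => X (Subgroup.inclusion hNI n)) φ = (b : ℂ))
    {a : Cfsg.IrrCharacter I → ℕ} (ha : ∀ η : Cfsg.IrrCharacter I, Cfsg.classInner X (η : I → ℂ) = (a η : ℂ)) :
    ∑ η ∈ S, a η ≤ b := by
  classical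
  haveI := Fintype.ofFinite (Cfsg.IrrCharacter I)
  choose m hm using fun η : Cfsg.IrrCharacter I => classInner_char_nat
    (isCharacter_comp (Subgroup.inclusion hNI) (irr_isCharacter η)) (isCharacter_of_isIrr hφ)
  have hexp : (fun n : N => X (Subgroup.inclusion hNI n)) = ∑ η : Cfsg.IrrCharacter I,
      (a η : ℂ) • ((η : I → ℂ) ∘ Subgroup.inclusion hNI) := by
    funext n
    have := congrFun (classFun_eq_sum (char_isClassFunction hX)) (Subgroup.inclusion hNI n)
    simpa [ha, Finset.sum_apply] using this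
  rw [hexp, classInner_sum_left] at hb
  simp only [classInner_smul_left, hm, ← Nat.cast_mul, ← Nat.cast_sum, Nat.cast_inj] at hb
  rw [← hb]
  refine le_trans (le_of_eq ?_)
    (Finset.sum_le_univ_sum_of_nonneg (s := S) fun η => Nat.zero_le _)
  refine Finset.sum_congr rfl fun η hη => ?_
  have h1 : (m η : ℂ) = 1 := by
    rw [← hm η]
    have := hS η hη
    rw [show ((η : I → ℂ) ∘ Subgroup.inclusion hNI) = φ from this]
    exact classInner_isIrr_self hφ
  rw [show m η = 1 by exact_mod_cast h1, mul_one]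

variable {φ : Cfsg.IrrCharacter N} {I : Subgroup G} [Fintype I] {hNI : N ≤ I}
  {ψ : Cfsg.IrrCharacter I}
  (hI : ∀ g : G, g ∈ I ↔ Clifford.conjBy N g (φ : N → ℂ) = (φ : N → ℂ))
  (hψ : (fun n : N => (ψ : I → ℂ) (Subgroup.inclusion hNI n)) = (φ : N → ℂ))

include hI hψ in
/-- An extension to the inertia group induces irreducibly, with `φ` of multiplicity one. -/
theorem induced_irr :
    Cfsg.IsIrrCharacter G (Cfsg.indFun I (ψ : I → ℂ)) ∧
      Cfsg.indFun I (ψ : I → ℂ) 1 = ((Cfsg.charDegree (φ : N → ℂ) * I.index : ℕ) : ℂ) ∧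
      Cfsg.classInner (fun n : N => Cfsg.indFun I (ψ : I → ℂ) n) (φ : N → ℂ) = 1 ∧
      Cfsg.classInner (fun i : I => Cfsg.indFun I (ψ : I → ℂ) i) (ψ : I → ℂ) = 1 := by
  classical
  haveI := Fintype.ofFinite (Cfsg.IrrCharacter G)
  haveI := Fintype.ofFinite (Cfsg.IrrCharacter I)
  set X := Cfsg.indFun I (ψ : I → ℂ) with hXdef
  have hX : Cfsg.IsCharacter G X := isCharacter_indFun I (irr_isCharacter ψ)
  have hψ1 : Cfsg.charDegree (ψ : I → ℂ) = Cfsg.charDegree (φ : N → ℂ) := by
    have h := congrFun hψ 1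
    rw [map_one] at h
    unfold Cfsg.charDegree
    rw [h]
  have hX1 : X 1 = ((Cfsg.charDegree (φ : N → ℂ) * I.index : ℕ) : ℂ) := by
    rw [hXdef, indFun_one, ← hψ1, Nat.cast_mul, charDegree_cast, mul_comm]
  -- a constituent
  obtain ⟨χ, hχ⟩ : ∃ χ : Cfsg.IrrCharacter G, Cfsg.classInner X (χ : G → ℂ) ≠ 0 := by
    by_contra hno
    push Not at hno
    have h := congrFun (classFun_eq_sum (char_isClassFunction hX)) 1
    simp only [hno, zero_smul, Finset.sum_const_zero, Pi.zero_apply] at h
    rw [hX1, Nat.cast_eq_zero, mul_eq_zero] at h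
    rcases h with h | h
    · exact (charDegree_pos φ).ne' h
    · exact I.index_ne_zero_of_finite h
  have hχI : Cfsg.IsCharacter I (fun i : I => (χ : G → ℂ) i) :=
    isCharacter_restrict I (irr_isCharacter χ)
  choose a ha using fun η : Cfsg.IrrCharacter I => classInner_char_nat hχI (irr_isCharacter η)
  obtain ⟨b, hb⟩ := classInner_char_nat
    (isCharacter_restrict N (irr_isCharacter χ)) (irr_isCharacter φ)
  have hle := classInner_le I hNI hχI φ.2 {ψ} (fun η hη => by
    rw [Finset.mem_singleton.1 hη]; exact hψ) hb ha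
  rw [Finset.sum_singleton] at hle
  have haψ : a ψ ≠ 0 := by
    intro h0
    refine hχ ?_
    rw [hXdef, frobenius_reciprocity I _ (irr_isClassFunction χ), classInner_conj_symm, ha, h0,
      Nat.cast_zero, map_zero]
  have hdeg := Clifford.card_mul_degree N χ.2 φ.2 (by rw [hb]; exact_mod_cast (by omega : b ≠ 0))
    I hI
  rw [hb, ← charDegree_cast χ, ← charDegree_cast φ] at hdeg
  have hdeg' : Cfsg.charDegree (χ : G → ℂ) = b * (Cfsg.charDegree (φ : N → ℂ) * I.index) := by
    have h1 : Nat.card I * Cfsg.charDegree (χ : G → ℂ) =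
        b * (Nat.card G * Cfsg.charDegree (φ : N → ℂ)) := by exact_mod_cast hdeg
    apply Nat.eq_of_mul_eq_mul_left (Nat.card_pos (α := I))
    rw [h1, ← I.card_mul_index]
    ring
  obtain ⟨k, hk⟩ := classInner_char_nat hX (irr_isCharacter χ)
  have hkb := Basics.degree_le hX χ.2 hk hX1 (charDegree_cast χ).symm
  rw [hdeg'] at hkb
  have hk0 : k ≠ 0 := fun h0 => hχ (by rw [hk, h0, Nat.cast_zero])
  have hpos : 0 < Cfsg.charDegree (φ : N → ℂ) * I.index :=
    Nat.mul_pos (charDegree_pos φ) (Nat.pos_of_ne_zero I.index_ne_zero_of_finite)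
  have hkb1 : k * b ≤ 1 := by
    refine Nat.le_of_mul_le_mul_right ?_ hpos
    rw [one_mul, mul_assoc]
    exact hkb
  have hb1 : b = 1 := by nlinarith [Nat.pos_of_ne_zero hk0, Nat.pos_of_ne_zero haψ]
  have hk1 : k = 1 := by
    rw [hb1, mul_one] at hkb1
    omega
  rw [hb1, one_mul] at hdeg'
  have heq : X = (χ : G → ℂ) := by
    rw [Basics.eq_of_degree_eq hX χ.2 hk (by
      rw [hX1, ← charDegree_cast χ, hdeg', hk1, Nat.cast_one, one_mul]), hk1, Nat.cast_one,
      one_smul]
  refine ⟨heq ▸ χ.2, hX1, ?_, ?_⟩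
  · rw [heq, hb, hb1, Nat.cast_one]
  · rw [heq, ha, show a ψ = 1 by omega, Nat.cast_one]

include hI hψ in
/-- Twists of the induced character by linear characters: irreducible, of the same degree, and
equal only if the linear characters agree on the inertia group. -/
theorem twist_eq_on (hperf : ⁅N, N⁆ = N) (l l' : G → ℂ) (hl : Cfsg.IsCharacter G l) (hl1 : l 1 = 1)
    (hl' : Cfsg.IsCharacter G l') (hl'1 : l' 1 = 1)
    (he : Cfsg.indFun I (ψ : I → ℂ) * l = Cfsg.indFun I (ψ : I → ℂ) * l') (i : I) :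
    l i = l' i := by
  classical
  haveI := Fintype.ofFinite (Cfsg.IrrCharacter I)
  obtain ⟨-, -, hN1, hI1⟩ := induced_irr hI hψ
  set X := Cfsg.indFun I (ψ : I → ℂ) with hXdef
  have hX : Cfsg.IsCharacter G X := isCharacter_indFun I (irr_isCharacter ψ)
  let tw : ∀ m : G → ℂ, Cfsg.IsCharacter G m → m 1 = 1 → Cfsg.IrrCharacter I := fun m hm hm1 =>
    ⟨(ψ : I → ℂ) * fun i : I => m i,
      Basics.isIrr_mul_linear ψ.2 (isCharacter_restrict I hm) hm1⟩
  have hXl : Cfsg.IsCharacter I (fun i : I => (X * l) i) :=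
    isCharacter_restrict I (isCharacter_mul hX hl)
  have hone : ∀ (m : G → ℂ) (hm : Cfsg.IsCharacter G m) (hm1 : m 1 = 1), X * m = X * l →
      Cfsg.classInner (fun i : I => (X * l) i) (tw m hm hm1 : I → ℂ) = 1 := by
    intro m hm hm1 hem
    rw [← hem, ← hI1, classInner_def, classInner_def]
    congr 1
    refine Finset.sum_congr rfl fun i _ => ?_
    simp only [tw, Pi.mul_apply, map_mul]
    rw [mul_mul_mul_comm, Basics.char_norm_eq_one hm hm1, mul_one]
  have htw : (tw l hl hl1) = tw l' hl' hl'1 := by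
    by_contra hne
    choose a ha using fun η : Cfsg.IrrCharacter I => classInner_char_nat hXl (irr_isCharacter η)
    have hres : ∀ (m : G → ℂ) (hm : Cfsg.IsCharacter G m) (hm1 : m 1 = 1),
        (fun n : N => (tw m hm hm1 : I → ℂ) (Subgroup.inclusion hNI n)) = (φ : N → ℂ) := by
      intro m hm hm1
      funext n
      show (ψ : I → ℂ) (Subgroup.inclusion hNI n) * m (n : G) = _
      rw [linear_eq_one_of_perfect hm hm1 hperf n.2, mul_one]
      exact congrFun hψ n
    have hb : Cfsg.classInner (fun n : N => (fun i : I => (X * l) i) (Subgroup.inclusion hNI n))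
        (φ : N → ℂ) = ((1 : ℕ) : ℂ) := by
      rw [Nat.cast_one, ← hN1]
      congr 1
      funext n
      show X (n : G) * l (n : G) = X n
      rw [linear_eq_one_of_perfect hl hl1 hperf n.2, mul_one]
    have hle := classInner_le I hNI hXl φ.2 {tw l hl hl1, tw l' hl' hl'1} (fun η hη => by
      rcases Finset.mem_insert.1 hη with rfl | hη
      · exact hres l hl hl1
      · rw [Finset.mem_singleton.1 hη]; exact hres l' hl' hl'1) hb ha
    rw [Finset.sum_pair hne] at hle
    have h1 : (a (tw l hl hl1) : ℂ) = 1 := by rw [← ha]; exact hone l hl hl1 rfl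
    have h2 : (a (tw l' hl' hl'1) : ℂ) = 1 := by rw [← ha]; exact hone l' hl' hl'1 he.symm
    have h1' : a (tw l hl hl1) = 1 := by exact_mod_cast h1
    have h2' : a (tw l' hl' hl'1) = 1 := by exact_mod_cast h2
    omega
  -- some element of the coset `N i` is not a zero of `ψ`
  have hall : ∀ j : I, (ψ : I → ℂ) j * l j = (ψ : I → ℂ) j * l' j := fun j =>
    congrFun (congrArg Subtype.val htw) j
  set K : Subgroup I := N.subgroupOf I with hK
  have hKirr : Cfsg.IsIrrCharacter K (fun k : K => (ψ : I → ℂ) k) := by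
    have h := (isIrrCharacter_comp_mulEquiv (Subgroup.subgroupOfEquivOfLe hNI)).2 φ.2
    convert h using 1
    funext k
    show (ψ : I → ℂ) k = (φ : N → ℂ) ⟨((k : I) : G), k.2⟩
    rw [← hψ]
    rfl
  obtain ⟨k, hk⟩ : ∃ k : K, (ψ : I → ℂ) ((k : I) * i) ≠ 0 := by
    by_contra hno
    push Not at hno
    have h1 := congrFun (Average.quotChar_self K ψ.2 hKirr) i
    rw [Average.quotChar_apply] at h1
    simp [hno] at h1
  have h1 := mul_left_cancel₀ hk (hall ((k : I) * i))
  rw [Subgroup.coe_mul, irr_linear_mul hl hl1, irr_linear_mul hl' hl'1,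
    linear_eq_one_of_perfect hl hl1 hperf (show ((k : I) : G) ∈ N from k.2),
    linear_eq_one_of_perfect hl' hl'1 hperf (show ((k : I) : G) ∈ N from k.2),
    one_mul, one_mul] at h1
  exact h1

/-- At most `[G : I]` linear characters share their values on `I`. -/
theorem card_agree_le (I : Subgroup G) [Fintype (Cfsg.IrrCharacter G)]
    (S : Finset (Cfsg.IrrCharacter G)) (hdeg : ∀ l ∈ S, (l : G → ℂ) 1 = 1)
    (hagree : ∀ l ∈ S, ∀ l' ∈ S, ∀ i ∈ I, (l : G → ℂ) i = (l' : G → ℂ) i) :
    S.card ≤ I.index := by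
  classical
  rcases S.eq_empty_or_nonempty with rfl | ⟨l0, hl0⟩
  · simp
  haveI hMn : (I ⊔ commutator G).Normal := Subgroup.Normal.of_commutator_le _ le_sup_right
  refine le_trans ?_ (Nat.le_of_dvd (Nat.pos_of_ne_zero I.index_ne_zero_of_finite)
    (Subgroup.index_dvd_of_le (le_sup_left (b := commutator G))))
  rw [← Codegree.sum_degree_sq_over (I ⊔ commutator G)]
  have h0 := hdeg l0 hl0
  let tw : Cfsg.IrrCharacter G → Cfsg.IrrCharacter G := fun l =>
    if h : (l : G → ℂ) 1 = 1 then
      ⟨(fun g => conj ((l0 : G → ℂ) g)) * (l : G → ℂ),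
        Basics.isIrr_mul_linear (isIrrCharacter_conj l0.2) (irr_isCharacter l) h⟩
    else l
  have hinj : Set.InjOn tw S := by
    intro a ha b hb hab
    simp only [tw, dif_pos (hdeg a ha), dif_pos (hdeg b hb), Subtype.mk.injEq] at hab
    refine Subtype.ext (funext fun g => ?_)
    have := congrFun hab g
    simp only [Pi.mul_apply] at this
    refine mul_left_cancel₀ (fun e => ?_) this
    have h2 := Basics.char_norm_eq_one (irr_isCharacter l0) h0 g
    rw [e, mul_zero] at h2
    exact zero_ne_one h2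
  have hmem : ∀ l ∈ S, tw l ∈ Finset.univ.filter (fun χ : Cfsg.IrrCharacter G =>
      ∀ x ∈ I ⊔ commutator G, (χ : G → ℂ) x = (χ : G → ℂ) 1) := by
    intro l hl
    rw [Finset.mem_filter]
    refine ⟨Finset.mem_univ _, fun x hx => ?_⟩
    have hle : I ⊔ commutator G ≤ Codegree.ker (tw l) := by
      refine sup_le (fun i hi => ?_) ?_
      · show (tw l : G → ℂ) i = (tw l : G → ℂ) 1
        simp only [tw, dif_pos (hdeg l hl), Pi.mul_apply, h0, hdeg l hl, map_one, one_mul]
        rw [← hagree l0 hl0 l hl i hi, mul_comm, Basics.char_norm_eq_one (irr_isCharacter l0) h0]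
      · have h1 : (tw l : G → ℂ) 1 = 1 := by
          simp only [tw, dif_pos (hdeg l hl), Pi.mul_apply, h0, hdeg l hl, map_one, one_mul]
        rw [commutator_def, Subgroup.commutator_le]
        intro a _ b _
        show (tw l : G → ℂ) ⁅a, b⁆ = (tw l : G → ℂ) 1
        have hm := irr_linear_mul (irr_isCharacter (tw l)) h1
        rw [h1, commutatorElement_def, hm, hm, hm, mul_right_comm ((tw l : G → ℂ) a), ← hm a,
          mul_inv_cancel, h1, one_mul, ← hm, mul_inv_cancel, h1]
    exact hle hx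
  calc S.card = (S.image tw).card := (Finset.card_image_of_injOn hinj).symm
    _ ≤ ∑ χ ∈ S.image tw, Cfsg.charDegree (χ : G → ℂ) ^ 2 := by
        rw [Finset.card_eq_sum_ones]
        exact Finset.sum_le_sum fun χ _ => Nat.one_le_pow _ _ (charDegree_pos χ)
    _ ≤ _ := Finset.sum_le_sum_of_subset fun χ hχ => by
        obtain ⟨l, hl, rfl⟩ := Finset.mem_image.1 hχ
        exact hmem l hl

include hI hψ in
/-- The number of linear characters with a property `P` is at most `[G : I]` times the number of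
their twists. -/
theorem card_linear_le (hperf : ⁅N, N⁆ = N) (P Q : Cfsg.IrrCharacter G → Prop)
    (hP : ∀ l, P l → (l : G → ℂ) 1 = 1)
    (hQ : ∀ l : Cfsg.IrrCharacter G, P l → ∀ χ : Cfsg.IrrCharacter G,
      (χ : G → ℂ) = Cfsg.indFun I (ψ : I → ℂ) * (l : G → ℂ) → Q χ) :
    Nat.card {l // P l} ≤ I.index * Nat.card {χ // Q χ} := by
  classical
  haveI := Fintype.ofFinite (Cfsg.IrrCharacter G)
  obtain ⟨hirr, -, -, -⟩ := induced_irr hI hψ
  let X : Cfsg.IrrCharacter G := ⟨_, hirr⟩
  rw [Nat.card_eq_fintype_card, Nat.card_eq_fintype_card, Fintype.card_subtype,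
    Fintype.card_subtype]
  let f : Cfsg.IrrCharacter G → Cfsg.IrrCharacter G := fun l =>
    if h : P l then
      ⟨(X : G → ℂ) * (l : G → ℂ), Basics.isIrr_mul_linear X.2 (irr_isCharacter l) (hP l h)⟩
    else l
  refine Finset.card_le_mul_card_image_of_maps_to (f := f) (fun l hl => ?_) I.index fun b _ => ?_
  · rw [Finset.mem_filter] at hl ⊢
    refine ⟨Finset.mem_univ _, hQ l hl.2 _ ?_⟩
    simp only [f, dif_pos hl.2]
    rfl
  · refine card_agree_le I _ (fun l hl => hP l ?_) fun l hl l' hl' i hi => ?_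
    · exact (Finset.mem_filter.1 (Finset.mem_filter.1 hl).1).2
    · simp only [Finset.mem_filter, Finset.mem_univ, true_and] at hl hl'
      have he := hl.2.trans hl'.2.symm
      simp only [f, dif_pos hl.1, dif_pos hl'.1, Subtype.mk.injEq] at he
      exact twist_eq_on hI hψ hperf _ _ (irr_isCharacter l) (hP l hl.1) (irr_isCharacter l')
        (hP l' hl'.1) he ⟨i, hi⟩

end Cfsg.Agent.BlocksChars.LinearTwist
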