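import Cfsg.Prelude.Def_DegreeGraph
import Cfsg.Agent.S4441
import Cfsg.Agent.BlockCharsA.DefectZeroVanish
import Cfsg.Agent.Lib.CharTheory.Average
import Cfsg.Agent.Lib.CharTheory.Ito
import Cfsg.Agent.Lib.CharTheory.Clifford
import Cfsg.Agent.Lib.Characters.Burnside
import Cfsg.Agent.Lib.Characters.Counting
import Cfsg.Agent.Lib.Characters.Induction
import Cfsg.Agent.Lib.Coprime.Basic
import Mathlib.GroupTheory.Transfer

/-!
Groups all of whose nonlinear irreducible character degrees are primes.
-/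

set_option autoImplicit false
set_option linter.unusedSectionVars false
set_option linter.style.haveILetI false

open scoped BigOperators ComplexConjugate commutatorElement

namespace Cfsg.Agent.BlocksChars.PrimeDegrees

open Cfsg.Agent.Characters Cfsg.Agent.CharTheory

universe u

variable {G : Type u} [Group G] [Finite G]

/-- Every irreducible character degree is one or a prime. -/
def PrimeDeg (G : Type u) [Group G] : Prop :=
  ∀ (χ : Cfsg.IrrCharacter G) (d : ℕ), (χ : G → ℂ) 1 = (d : ℂ) → d = 1 ∨ d.Prime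

theorem primeDeg_quotient (h : PrimeDeg G) (N : Subgroup G) [N.Normal] : PrimeDeg (G ⧸ N) :=
  fun χ d hd => h ⟨_, isIrrCharacter_comp_surjective (QuotientGroup.mk' N)
    (QuotientGroup.mk'_surjective N) χ.2⟩ d (by simpa using hd)

theorem primeDeg_normal (h : PrimeDeg G) (N : Subgroup G) [N.Normal] : PrimeDeg N := by
  classical
  intro θ t ht
  haveI := Fintype.ofFinite G
  haveI := Fintype.ofFinite N
  have hθc := irr_isCharacter θ
  have hind := isCharacter_indFun N hθc
  have h1 : Cfsg.indFun N (θ : N → ℂ) 1 ≠ 0 := by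
    rw [indFun_one]
    exact mul_ne_zero (Nat.cast_ne_zero.2 Subgroup.index_ne_zero_of_finite) (irr_one_ne_zero θ.2)
  obtain ⟨χ, hχ, hne⟩ := Ito.exists_constituent hind h1
  rw [frobenius_reciprocity N _ (char_isClassFunction (isCharacter_of_isIrr hχ))] at hne
  have hne' : Cfsg.classInner (fun n : N => χ n) (θ : N → ℂ) ≠ 0 := by
    rw [classInner_conj_symm (θ : N → ℂ) (fun n : N => χ n)]
    exact fun e => hne ((map_eq_zero _).1 e)
  obtain ⟨d, hd⟩ := char_one_nat (isCharacter_of_isIrr hχ)
  have hdvd := (Cfsg.Agent.S0887.result N χ hχ θ θ.2 hne' d t hd ht).1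
  rcases h ⟨χ, hχ⟩ d hd with e | e
  · left; rw [e] at hdvd; exact Nat.dvd_one.1 hdvd
  · rcases (Nat.dvd_prime e).1 hdvd with h' | h'
    · exact Or.inl h'
    · exact Or.inr (h' ▸ e)

theorem linear_of_commutator_le {χ : G → ℂ} (hχ : Cfsg.IsIrrCharacter G χ)
    (h : ∀ x ∈ commutator G, χ x = χ 1) : χ 1 = 1 := by
  obtain ⟨ψ, -, hψ, hirr⟩ := exists_deflate_quotient (commutator G) (isCharacter_of_isIrr hχ) h
  rw [← hψ 1]
  refine irr_degree_one_of_comm (fun a b => ?_) (hirr hχ)
  induction a using QuotientGroup.induction_on with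
  | _ a => induction b using QuotientGroup.induction_on with
    | _ b => exact (show ((a : G ⧸ commutator G)) * b = b * a by
        rw [← commutatorElement_eq_one_iff_mul_comm]
        exact (QuotientGroup.eq_one_iff ⁅a, b⁆).2 (Subgroup.commutator_mem_commutator
          (Subgroup.mem_top a) (Subgroup.mem_top b)))

/-- A nontrivial irreducible character of a non-abelian simple group is faithful and nonlinear. -/
theorem simple_irr [IsSimpleGroup G] (hnc : ¬ ∀ a b : G, a * b = b * a) {χ : Cfsg.IrrCharacter G}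
    (hne : χ ≠ trivIrr G) :
    (∀ g : G, (χ : G → ℂ) g = (χ : G → ℂ) 1 → g = 1) ∧ (χ : G → ℂ) 1 ≠ 1 := by
  classical
  have hker : ¬ ∀ g : G, (χ : G → ℂ) g = (χ : G → ℂ) 1 := by
    intro hconst
    haveI := Fintype.ofFinite G
    have h0 := classInner_isIrr_ne χ.2 (trivIrr G).2 (fun e => hne (Subtype.ext e))
    rw [classInner_def] at h0
    simp only [hconst, trivIrr_coe, map_one, mul_one, Finset.sum_const, Finset.card_univ,
      nsmul_eq_mul, ← Nat.card_eq_fintype_card] at h0
    rw [inv_mul_cancel_left₀ natCard_ne_zero] at h0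
    exact irr_one_ne_zero χ.2 h0
  have hfaith : ∀ g : G, (χ : G → ℂ) g = (χ : G → ℂ) 1 → g = 1 := by
    intro g hg
    have hn := charKernel_normal (irr_isCharacter χ)
    rcases hn.eq_bot_or_eq_top with h | h
    · have hm : g ∈ charKernel (χ : G → ℂ) (irr_isCharacter χ) := hg
      rwa [h, Subgroup.mem_bot] at hm
    · exact absurd (fun x => (h ▸ Subgroup.mem_top x :
        x ∈ charKernel (χ : G → ℂ) (irr_isCharacter χ))) hker
  refine ⟨hfaith, fun h1 => hnc fun a b => ?_⟩
  have hc := irr_isCharacter χ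
  rw [← commutatorElement_eq_one_iff_mul_comm]
  apply hfaith
  have hinv : ∀ x : G, (χ : G → ℂ) x * (χ : G → ℂ) x⁻¹ = 1 := fun x => by
    rw [← char_mul_of_degree_one hc h1, mul_inv_cancel, h1]
  rw [commutatorElement_def, char_mul_of_degree_one hc h1, char_mul_of_degree_one hc h1,
    char_mul_of_degree_one hc h1, h1]
  calc (χ : G → ℂ) a * (χ : G → ℂ) b * (χ : G → ℂ) a⁻¹ * (χ : G → ℂ) b⁻¹
      = ((χ : G → ℂ) a * (χ : G → ℂ) a⁻¹) * ((χ : G → ℂ) b * (χ : G → ℂ) b⁻¹) := by ring
    _ = 1 := by rw [hinv, hinv, one_mul]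

/-- In a non-abelian simple group the Sylow subgroups for prime degrees have prime order. -/
theorem sylow_card [IsSimpleGroup G] (hnc : ¬ ∀ a b : G, a * b = b * a) {q : ℕ} [Fact q.Prime]
    {χ : Cfsg.IrrCharacter G} (hd : (χ : G → ℂ) 1 = (q : ℂ)) (P : Sylow q G) :
    Nat.card (P : Subgroup G) = q := by
  classical
  have hq : q.Prime := Fact.out
  have hne : χ ≠ trivIrr G := fun e => hq.ne_one (by
    have h := hd
    rw [e, trivIrr_coe] at h
    have h' : (1 : ℂ) = (q : ℂ) := h
    exact_mod_cast h'.symm)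
  obtain ⟨hfaith, -⟩ := simple_irr hnc hne
  have hqdvd : q ∣ Nat.card G := by
    obtain ⟨d, hd', -, hdd⟩ := irr_degree_dvd_card χ.2
    have : d = q := by exact_mod_cast hd'.symm.trans hd
    exact this ▸ hdd
  have hPnt : Nontrivial (P : Subgroup G) := by
    rw [← Finite.one_lt_card_iff_nontrivial]
    exact lt_of_lt_of_le hq.one_lt (Nat.le_of_dvd Nat.card_pos (P.dvd_card_of_dvd_card hqdvd))
  -- vanishing on the centre of `P`
  have hvan : ∀ z ∈ (P : Subgroup G), (∀ y ∈ (P : Subgroup G), y * z = z * y) → z ≠ 1 →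
      (χ : G → ℂ) z = 0 := by
    intro z hz hzc hz1
    obtain ⟨n, ρ, hρ, hchar⟩ := χ.2
    have hfin : Module.finrank ℂ (Fin n → ℂ) = q := by
      have : (Module.finrank ℂ (Fin n → ℂ) : ℂ) = (q : ℂ) := by
        rw [← ρ.char_one, hchar, hd]
      exact_mod_cast this
    have hidx : ¬ q ∣ (Subgroup.centralizer ({z} : Set G)).index := by
      intro hdv
      have hle : (P : Subgroup G) ≤ Subgroup.centralizer ({z} : Set G) := fun y hy =>
        Subgroup.mem_centralizer_singleton_iff.2 (hzc y hy)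
      exact P.not_dvd_index (hdv.trans (Subgroup.index_dvd_of_le hle))
    rcases char_eq_zero_or_norm_eq_of_coprime ρ z
      (by rw [hfin]; exact hq.coprime_iff_not_dvd.2 hidx) with h | h
    · rwa [hchar] at h
    exfalso
    obtain ⟨ω, hω⟩ := rep_apply_eq_smul_of_norm_eq ρ z h
    refine hnc ?_
    refine False.elim (?_ : False)
    have hinj : Function.Injective ρ.asGroupHom := by
      rw [← MonoidHom.ker_eq_bot_iff, eq_bot_iff]
      intro x hx
      rw [Subgroup.mem_bot]
      refine hfaith x ?_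
      rw [← hchar]
      refine rep_char_eq_of_apply_eq_id ?_
      have := congrArg Units.val (MonoidHom.mem_ker.1 hx)
      rw [Representation.asGroupHom_apply] at this
      exact this.trans (by rfl)
    have hcentral : ∀ x : G, z * x = x * z := fun x => hinj (Units.ext (by
      simp [Representation.asGroupHom_apply, hω, Module.End.mul_eq_comp, map_mul]))
    have hp := prime_card_of_simple_of_central hz1 hcentral
    haveI := Fact.mk hp
    haveI : IsCyclic G := isCyclic_of_prime_card rfl
    letI : CommGroup G := IsCyclic.commGroup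
    exact hnc fun a b => mul_comm a b
  -- `P` is abelian
  have hab : ∀ a ∈ (P : Subgroup G), ∀ b ∈ (P : Subgroup G), a * b = b * a := by
    haveI := Fintype.ofFinite (Cfsg.IrrCharacter (P : Subgroup G))
    haveI := Fintype.ofFinite (P : Subgroup G)
    have hres := isCharacter_restrict (P : Subgroup G) (irr_isCharacter χ)
    obtain ⟨n, hn⟩ := char_eq_sum_nat hres
    choose d hd' using fun θ : Cfsg.IrrCharacter (P : Subgroup G) =>
      char_one_nat (irr_isCharacter θ)
    have hsum : ∑ θ, n θ * d θ = q := by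
      have h := congrFun hn 1
      simp only [Finset.sum_apply, Pi.smul_apply, smul_eq_mul, hd', OneMemClass.coe_one, hd] at h
      exact_mod_cast h.symm
    have hlin : ∀ θ, n θ ≠ 0 → d θ = 1 := by
      intro θ hθ
      by_contra hne1
      obtain ⟨e, he, -, hdd⟩ := irr_degree_dvd_card θ.2
      have hed : e = d θ := by exact_mod_cast he.symm.trans (hd' θ)
      rw [hed] at hdd
      obtain ⟨k, hk⟩ := IsPGroup.iff_card.1 P.2
      obtain ⟨i, -, hi⟩ := (Nat.dvd_prime_pow hq).1 (hk ▸ hdd)
      have hi0 : i ≠ 0 := fun e0 => hne1 (by rw [hi, e0, pow_zero])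
      have hqle : q ≤ d θ := hi ▸ Nat.le_self_pow hi0 q
      have hle : n θ * d θ ≤ q := hsum ▸ Finset.single_le_sum
        (f := fun θ => n θ * d θ) (fun _ _ => Nat.zero_le _) (Finset.mem_univ θ)
      have hnd : n θ * d θ = q := le_antisymm hle
        (hqle.trans (Nat.le_mul_of_pos_left _ (Nat.pos_of_ne_zero hθ)))
      have hn1 : n θ = 1 := by
        have := Nat.pos_of_ne_zero hθ
        nlinarith [hq.one_lt]
      have hothers : ∀ η, η ≠ θ → n η = 0 := by
        intro η hη
        have h2 := Finset.add_le_sum (f := fun η => n η * d η) (fun _ _ => Nat.zero_le _)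
          (Finset.mem_univ η) (Finset.mem_univ θ) hη
        simp only [hsum, hnd] at h2
        have hz : n η * d η = 0 := by omega
        rcases mul_eq_zero.1 hz with h | h
        · exact h
        · exact absurd (hd' η) (by rw [h, Nat.cast_zero]; exact irr_one_ne_zero η.2)
      have heq : ∀ x : (P : Subgroup G), (χ : G → ℂ) x = (θ : ↥(P : Subgroup G) → ℂ) x := fun x => by
        have h := congrFun hn x
        simp only [Finset.sum_apply, Pi.smul_apply, smul_eq_mul] at h
        rw [h, Finset.sum_eq_single θ (fun η _ hη => by rw [hothers η hη]; simp)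
          (fun h => absurd (Finset.mem_univ θ) h), hn1]
        simp
      haveI := hPnt
      haveI : Nontrivial (Subgroup.center (P : Subgroup G)) := P.2.center_nontrivial
      obtain ⟨⟨z, hz⟩, hz1⟩ := exists_ne (1 : Subgroup.center (P : Subgroup G))
      have hz0 := hvan z z.2 (fun y hy =>
        congrArg Subtype.val (Subgroup.mem_center_iff.1 hz ⟨y, hy⟩))
        (fun e => hz1 (Subtype.ext (Subtype.ext e)))
      have h := sum_mul_conjugates θ.2 z z⁻¹
      have hterm : ∀ x : (P : Subgroup G), (θ : ↥(P : Subgroup G) → ℂ) (z * (x * z⁻¹ * x⁻¹)) =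
          (θ : ↥(P : Subgroup G) → ℂ) 1 := fun x => by
        rw [Subgroup.mem_center_iff.1 (inv_mem hz) x, mul_inv_cancel_right, mul_inv_cancel]
      simp only [hterm, Finset.sum_const, Finset.card_univ, nsmul_eq_mul] at h
      rw [← heq z, hz0, mul_zero, zero_mul, zero_div] at h
      exact irr_one_ne_zero θ.2 ((mul_eq_zero.1 h).resolve_left (Nat.cast_ne_zero.2
        Fintype.card_ne_zero))
    intro a ha b hb
    rw [← commutatorElement_eq_one_iff_mul_comm]
    apply hfaith
    have h := congrFun hn (⁅(⟨a, ha⟩ : (P : Subgroup G)), ⟨b, hb⟩⁆)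
    have h1 := congrFun hn 1
    simp only [Finset.sum_apply, Pi.smul_apply, smul_eq_mul] at h h1
    change (χ : G → ℂ) ⁅a, b⁆ = _ at h
    simp only [OneMemClass.coe_one] at h1
    rw [h, h1]
    refine Finset.sum_congr rfl fun θ _ => ?_
    by_cases hθ : n θ = 0
    · rw [hθ]; simp
    congr 1
    have h1' : (θ : ↥(P : Subgroup G) → ℂ) 1 = 1 := by rw [hd', hlin θ hθ, Nat.cast_one]
    have hc := irr_isCharacter θ
    have hinv : ∀ x : (P : Subgroup G),
        (θ : ↥(P : Subgroup G) → ℂ) x * (θ : ↥(P : Subgroup G) → ℂ) x⁻¹ = 1 := fun x => by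
      rw [← char_mul_of_degree_one hc h1', mul_inv_cancel, h1']
    rw [commutatorElement_def, char_mul_of_degree_one hc h1', char_mul_of_degree_one hc h1',
      char_mul_of_degree_one hc h1', h1']
    linear_combination ((θ : ↥(P : Subgroup G) → ℂ) ⟨b, hb⟩ *
      (θ : ↥(P : Subgroup G) → ℂ) (⟨b, hb⟩ : (P : Subgroup G))⁻¹) * hinv ⟨a, ha⟩ + hinv ⟨b, hb⟩
  -- the order of `P`
  haveI := Fintype.ofFinite (P : Subgroup G)
  obtain ⟨m, hm⟩ := classInner_char_nat
    (isCharacter_restrict (P : Subgroup G) (irr_isCharacter χ)) isCharacter_one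
  rw [classInner_def, Finset.sum_eq_single (1 : (P : Subgroup G))] at hm
  · simp only [OneMemClass.coe_one, map_one, mul_one, hd] at hm
    rw [inv_mul_eq_iff_eq_mul₀ (Nat.cast_ne_zero.2 Nat.card_pos.ne')] at hm
    have : q = Nat.card (P : Subgroup G) * m := by exact_mod_cast hm
    exact ((Nat.dvd_prime hq).1 ⟨m, this⟩).resolve_left
      (Finite.one_lt_card_iff_nontrivial.2 hPnt).ne'
  · intro y _ hy
    show (χ : G → ℂ) (y : G) * _ = 0
    rw [hvan y y.2 (fun x hx => hab x hx y y.2) (fun e => hy (Subtype.ext e)), zero_mul]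
  · intro h; exact absurd (Finset.mem_univ _) h

/-- Burnside transfer kills simple groups with a self-centralized Sylow normalizer. -/
theorem not_normalizer_le_centralizer [IsSimpleGroup G] (hnc : ¬ ∀ a b : G, a * b = b * a)
    {q : ℕ} [Fact q.Prime] (P : Sylow q G) (hP : Nat.card (P : Subgroup G) = q)
    (hle : Subgroup.normalizer ((P : Subgroup G) : Set G) ≤
      Subgroup.centralizer ((P : Subgroup G) : Set G)) : False := by
  have hc := MonoidHom.ker_transferSylow_isComplement' P hle
  rcases (MonoidHom.normal_ker (MonoidHom.transferSylow P hle)).eq_bot_or_eq_top with h | h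
  · have hcard := hc.card_mul
    rw [h, Subgroup.card_bot, one_mul, hP] at hcard
    haveI : Fact (Nat.card G).Prime := ⟨hcard ▸ Fact.out⟩
    haveI : IsCyclic G := isCyclic_of_prime_card rfl
    letI : CommGroup G := IsCyclic.commGroup
    exact hnc fun a b => mul_comm a b
  · have hcard := hc.card_mul
    rw [h, Subgroup.card_top, hP] at hcard
    have h1 := (Fact.out : q.Prime).one_lt
    have h2 : 0 < Nat.card G := Nat.card_pos
    nlinarith

theorem not_simple [IsSimpleGroup G] (hnc : ¬ ∀ a b : G, a * b = b * a) (h : PrimeDeg G) :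
    False := by
  classical
  haveI := Fintype.ofFinite G
  haveI := Fintype.ofFinite (Cfsg.IrrCharacter G)
  choose d hd using fun χ : Cfsg.IrrCharacter G => char_one_nat (irr_isCharacter χ)
  have hne2 : ∀ χ, d χ ≠ 2 := by
    intro χ hχ
    haveI : Fact (Nat.Prime 2) := ⟨Nat.prime_two⟩
    let P : Sylow 2 G := default
    have hP := sylow_card hnc (by rw [hd, hχ]) P
    refine not_normalizer_le_centralizer hnc P hP ?_
    haveI : IsCyclic (P : Subgroup G) := isCyclic_of_prime_card hP
    refine IsCyclic.normalizer_le_centralizer ?_ inferInstance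
    have h2 : 2 ∣ Nat.card G := hP ▸ (P : Subgroup G).card_subgroup_dvd_card
    exact le_antisymm (Nat.minFac_le_of_dvd le_rfl h2)
      (Nat.minFac_prime (fun e => by rw [e] at h2; exact absurd h2 (by decide))).two_le
  obtain ⟨χ₀, hχ₀⟩ : ∃ χ : Cfsg.IrrCharacter G, d χ ≠ 1 := by
    by_contra hall
    push Not at hall
    exact hnc fun a b => comm_of_forall_degree_one
      (fun χ => by rw [hd, hall χ, Nat.cast_one]) a b
  obtain ⟨χq, -, hmax⟩ := Finset.exists_max_image Finset.univ d ⟨χ₀, Finset.mem_univ _⟩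
  set q := d χq with hq
  have hqp : q.Prime := (h χq q (hd χq)).resolve_left fun e => by
    have h1 := hmax χ₀ (Finset.mem_univ _)
    have h0 := (h χ₀ _ (hd χ₀)).resolve_left hχ₀
    have := h0.two_le
    omega
  haveI : Fact q.Prime := ⟨hqp⟩
  have hq2 : q ≠ 2 := hne2 χq
  let P : Sylow q G := default
  have hP := sylow_card hnc (hd χq) P
  obtain ⟨M, hM⟩ := BlockCharsA.DefectZeroVanish.exists_modular hqp
  set e := (Subgroup.centralizer ((P : Subgroup G) : Set G)).relIndex
    (Subgroup.normalizer ((P : Subgroup G) : Set G)) with he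
  obtain ⟨X, Y, -, -, hX, -, εX, ε, hXs, -⟩ := S4441.result q M hM hq2 P hP e rfl
  have hXtriv : X ⊆ {trivIrr G} := by
    intro χ hχ
    obtain ⟨hε, hmod, -⟩ := hXs χ hχ
    have hdeg : Cfsg.charDegree (χ : G → ℂ) = d χ := by
      rw [Cfsg.charDegree, hd, Complex.natCast_re, Nat.floor_natCast]
    rw [hdeg] at hmod
    have hle : d χ ≤ q := hmax χ (Finset.mem_univ _)
    have hdvd := Int.modEq_iff_dvd.1 hmod
    rcases h χ _ (hd χ) with h1 | h1
    · by_contra hne
      exact (simple_irr hnc hne).2 (by rw [hd, h1, Nat.cast_one])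
    exfalso
    have h3 : 3 ≤ d χ := by have := h1.two_le; have := hne2 χ; omega
    obtain ⟨c, hc⟩ := hdvd
    rcases hε with hε | hε <;> rw [hε] at hc
    · have hc1 : -1 < c := by
        by_contra hcon
        push Not at hcon
        nlinarith
      have hc2 : c < 1 := by
        by_contra hcon
        push Not at hcon
        nlinarith
      obtain rfl : c = 0 := by omega
      omega
    · have hc1 : -2 < c := by
        by_contra hcon
        push Not at hcon
        nlinarith
      have hc2 : c < 0 := by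
        by_contra hcon
        push Not at hcon
        nlinarith
      obtain rfl : c = -1 := by omega
      rcases hqp.eq_two_or_odd' with hh | ⟨k, hk⟩
      · exact hq2 hh
      rcases h1.eq_two_or_odd' with hh | ⟨j, hj⟩
      · exact hne2 χ hh
      omega
  have he1 : e = 1 := by
    have hle : e ≤ 1 := by
      rw [← hX]
      exact (Nat.card_mono (Set.finite_singleton _) hXtriv).trans (by simp)
    have h0 : e ≠ 0 := Subgroup.index_ne_zero_of_finite
    omega
  exact not_normalizer_le_centralizer hnc P hP (Subgroup.relIndex_eq_one.1 he1)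

theorem solvable_of_primeDeg : ∀ (n : ℕ) {G : Type u} [Group G] [Finite G],
    Nat.card G = n → PrimeDeg G → Group.IsSolvable G := by
  intro n
  induction n using Nat.strong_induction_on with
  | _ n ih =>
    intro G _ _ hn h
    by_cases hab : ∀ a b : G, a * b = b * a
    · exact Group.isSolvable_of_comm hab
    haveI : Nontrivial G := by
      by_contra hnt
      haveI := not_nontrivial_iff_subsingleton.1 hnt
      exact hab fun a b => Subsingleton.elim _ _
    by_cases hs : IsSimpleGroup G
    · exact (not_simple hab h).elim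
    obtain ⟨N, hN, hNb, hNt⟩ : ∃ N : Subgroup G, N.Normal ∧ N ≠ ⊥ ∧ N ≠ ⊤ := by
      by_contra hcon
      push Not at hcon
      exact hs ⟨fun N hN => or_iff_not_imp_left.2 (hcon N hN)⟩
    haveI := hN
    have h1 : Nat.card N < n := hn ▸
      lt_of_le_of_ne (Nat.le_of_dvd Nat.card_pos N.card_subgroup_dvd_card)
        (fun e => hNt ((Subgroup.card_eq_iff_eq_top N).1 e))
    have h2 : Nat.card (G ⧸ N) < n := by
      rw [← hn, ← N.index_mul_card]
      exact lt_mul_of_one_lt_right Nat.card_pos ((Subgroup.one_lt_card_iff_ne_bot N).2 hNb)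
    haveI := ih _ h1 rfl (primeDeg_normal h N)
    haveI := ih _ h2 rfl (primeDeg_quotient h N)
    exact Group.isSolvable_of_ker_le_range N.subtype (QuotientGroup.mk' N)
      (by rw [QuotientGroup.ker_mk', Subgroup.range_subtype])

/-- Gallagher: products with characters of the quotient stay irreducible. -/
theorem isIrr_mul_inflated [Fintype G] (N : Subgroup G) [N.Normal] [Fintype N] {χ η : G → ℂ}
    (hχ : Cfsg.IsIrrCharacter G χ) (hχN : Cfsg.IsIrrCharacter N (fun n : N => χ n))
    (hη : Cfsg.IsIrrCharacter G η) (hconst : ∀ (n : N) (g : G), η ((n : G) * g) = η g) :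
    Cfsg.IsIrrCharacter G (η * χ) := by
  refine isIrr_of_isCharacter_of_norm_one
    (isCharacter_mul (isCharacter_of_isIrr hη) (isCharacter_of_isIrr hχ)) ?_
  have h1 := classInner_isIrr_self hη
  rw [classInner_def] at h1
  rw [classInner_def, ← h1]
  congr 1
  have hh : ∀ (n : N) (g : G), (η ((n : G) * g) * conj (η ((n : G) * g))) = η g * conj (η g) :=
    fun n g => by rw [hconst]
  have h2 := Average.sum_avg_mul N (fun g => χ g * conj (χ g)) (fun g => η g * conj (η g)) hh
  have h3 := Average.quotChar_self N hχ hχN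
  have h4 : ∀ g, Average.avg N (fun g => χ g * conj (χ g)) g = 1 := fun g => congrFun h3 g
  simp only [h4, one_mul] at h2
  rw [h2]
  exact Finset.sum_congr rfl fun g _ => by
    simp only [Pi.mul_apply, map_mul]; ring

/-- The prime divisors of a minimal non-abelian quotient. -/
theorem primes_minimal {Q : Type u} [Group Q] [Finite Q] [Group.IsSolvable Q]
    (hQ : commutator Q ≠ ⊥) (hmin : ∀ M : Subgroup Q, M.Normal → M ≠ ⊥ → commutator Q ≤ M)
    (hpd : PrimeDeg Q) :
    ∃ (q f : ℕ) (ψ : Cfsg.IrrCharacter Q), (ψ : Q → ℂ) 1 = (f : ℂ) ∧ f.Prime ∧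
      ∀ s : ℕ, s.Prime → s ∣ Nat.card Q → s = q ∨ s = f := by
  classical
  haveI := Fintype.ofFinite Q
  set D := commutator Q with hD
  have hDab : ∀ a ∈ D, ∀ b ∈ D, a * b = b * a := by
    intro a ha b hb
    rw [← commutatorElement_eq_one_iff_mul_comm]
    have hbot : ⁅D, D⁆ = ⊥ := by
      by_contra hne
      exact absurd (hmin _ inferInstance hne)
        (not_le_of_gt (Group.IsSolvable.commutator_lt_of_ne_bot hQ))
    rw [← Subgroup.mem_bot, ← hbot]
    exact Subgroup.commutator_mem_commutator ha hb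
  obtain ⟨q, hq, hqd⟩ := Nat.exists_prime_and_dvd
    (fun e => hQ (Subgroup.eq_bot_of_card_eq _ e) : Nat.card D ≠ 1)
  haveI : Fact q.Prime := ⟨hq⟩
  -- `D` is a `q`-group
  have hDq : ∀ x ∈ D, ∃ k, x ^ q ^ k = 1 := by
    let E : Subgroup Q :=
      { carrier := {x | x ∈ D ∧ ∃ k, x ^ q ^ k = 1}
        one_mem' := ⟨one_mem _, 0, one_pow _⟩
        mul_mem' := fun {a b} ha hb => ⟨mul_mem ha.1 hb.1, by
          obtain ⟨i, hi⟩ := ha.2
          obtain ⟨j, hj⟩ := hb.2
          refine ⟨i + j, ?_⟩
          rw [(show Commute a b from hDab a ha.1 b hb.1).mul_pow, pow_add, pow_mul, hi, one_pow,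
            mul_comm (q ^ i), pow_mul, hj, one_pow, one_mul]⟩
        inv_mem' := fun {a} ha => ⟨inv_mem ha.1, by
          obtain ⟨i, hi⟩ := ha.2
          exact ⟨i, by rw [inv_pow, hi, inv_one]⟩⟩ }
    have hEn : E.Normal := ⟨fun x hx g => ⟨Subgroup.Normal.conj_mem inferInstance x hx.1 g, by
      obtain ⟨i, hi⟩ := hx.2
      exact ⟨i, by rw [conj_pow, hi, mul_one, mul_inv_cancel]⟩⟩⟩
    have hEb : E ≠ ⊥ := by
      obtain ⟨x, hx⟩ := exists_prime_orderOf_dvd_card' q hqd
      intro e
      have hmem : (x : Q) ∈ E := ⟨x.2, 1, by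
        rw [pow_one, ← SubmonoidClass.coe_pow, ← hx, pow_orderOf_eq_one, OneMemClass.coe_one]⟩
      rw [e, Subgroup.mem_bot] at hmem
      rw [← Subgroup.orderOf_coe, hmem, orderOf_one] at hx
      exact hq.one_lt.ne hx
    exact fun x hx => (hmin E hEn hEb hx).2
  obtain ⟨ψ, hψ⟩ : ∃ ψ : Cfsg.IrrCharacter Q, (ψ : Q → ℂ) 1 ≠ 1 := by
    by_contra hall
    push Not at hall
    refine hQ (eq_bot_iff.2 ?_)
    rw [hD, commutator_def, Subgroup.commutator_le]
    exact fun a _ b _ => Subgroup.mem_bot.2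
      (commutatorElement_eq_one_iff_mul_comm.2 (comm_of_forall_degree_one hall a b))
  obtain ⟨f, hf⟩ := char_one_nat (irr_isCharacter ψ)
  have hfp : f.Prime := (hpd ψ f hf).resolve_left fun e => hψ (by rw [hf, e, Nat.cast_one])
  have hfaith : ∀ x : Q, (ψ : Q → ℂ) x = (ψ : Q → ℂ) 1 → x = 1 := by
    intro x hx
    have hm : x ∈ charKernel (ψ : Q → ℂ) (irr_isCharacter ψ) := hx
    by_contra hx1
    have hle := hmin _ (charKernel_normal _) (fun e => hx1 (by rwa [e, Subgroup.mem_bot] at hm))
    exact hψ (linear_of_commutator_le ψ.2 fun y hy => hle hy)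
  refine ⟨q, f, ψ, hf, hfp, fun s hs hsd => ?_⟩
  by_contra hcon
  push Not at hcon
  haveI : Fact s.Prime := ⟨hs⟩
  let S : Sylow s Q := default
  have hqD : IsPGroup q D := fun x => by
    obtain ⟨k, hk⟩ := hDq x x.2
    exact ⟨k, Subtype.ext hk⟩
  obtain ⟨a, ha⟩ := IsPGroup.iff_card.1 hqD
  obtain ⟨b, hb⟩ := IsPGroup.iff_card.1 S.2
  have hcop : (Nat.card D).Coprime (Nat.card (S : Subgroup Q)) := by
    rw [ha, hb]; exact ((Nat.coprime_primes hq hs).2 (Ne.symm hcon.1)).pow _ _
  set T := D ⊔ (S : Subgroup Q) with hT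
  haveI hTn : T.Normal := Subgroup.Normal.of_commutator_le (h := le_sup_left)
  have hSD : (S : Subgroup Q) ≤ Subgroup.normalizer (D : Set Q) := fun y _ => by
    rw [Subgroup.normalizer_eq_top]; trivial
  have hTcard := Coprime.card_sup_of_coprime hSD hcop
  haveI := Fintype.ofFinite T
  haveI := Fintype.ofFinite (Cfsg.IrrCharacter T)
  obtain ⟨n, hn⟩ := char_eq_sum_nat (isCharacter_restrict T (irr_isCharacter ψ))
  have hlin : ∀ θ : Cfsg.IrrCharacter T, n θ ≠ 0 → (θ : T → ℂ) 1 = 1 := by
    intro θ hθ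
    haveI : (D.subgroupOf T).Normal := Subgroup.Normal.subgroupOf inferInstance T
    obtain ⟨t, ht, htd⟩ := Ito.degree_dvd_index_abelian (D.subgroupOf T)
      (fun a ha b hb => Subtype.ext (hDab a ha b hb)) θ.2
    have hidx : (D.subgroupOf T).index = s ^ b := by
      have h := (D.subgroupOf T).card_mul_index
      rw [Nat.card_congr (Subgroup.subgroupOfEquivOfLe (le_sup_left : D ≤ T)).toEquiv,
        hT, hTcard, hb] at h
      exact Nat.eq_of_mul_eq_mul_left Nat.card_pos h
    rw [hidx] at htd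
    obtain ⟨i, -, hi⟩ := (Nat.dvd_prime_pow hs).1 htd
    have hne : Cfsg.classInner (fun x : T => (ψ : Q → ℂ) x) (θ : T → ℂ) ≠ 0 := by
      rw [hn, classInner_sum_left, Finset.sum_eq_single θ]
      · rw [classInner_smul_left, classInner_isIrr_self θ.2, mul_one]
        exact Nat.cast_ne_zero.2 hθ
      · intro η _ hη
        rw [classInner_smul_left, classInner_isIrr_ne η.2 θ.2 (fun e => hη (Subtype.ext e)),
          mul_zero]
      · intro h; exact absurd (Finset.mem_univ θ) h
    have htf := (Cfsg.Agent.S0887.result T ψ ψ.2 θ θ.2 hne f t hf ht).1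
    rcases (Nat.dvd_prime hfp).1 htf with h | h
    · rw [ht, h, Nat.cast_one]
    · exfalso
      rw [h] at hi
      have : f ∣ s ^ i := hi ▸ dvd_rfl
      exact hcon.2 ((Nat.prime_dvd_prime_iff_eq hfp hs).1 (hfp.dvd_of_dvd_pow this)).symm
  have hTab : ∀ a ∈ T, ∀ b ∈ T, a * b = b * a := by
    intro a ha b hb
    rw [← commutatorElement_eq_one_iff_mul_comm]
    apply hfaith
    have h := congrFun hn (⁅(⟨a, ha⟩ : T), ⟨b, hb⟩⁆)
    have h1 := congrFun hn 1
    simp only [Finset.sum_apply, Pi.smul_apply, smul_eq_mul] at h h1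
    change (ψ : Q → ℂ) ⁅a, b⁆ = _ at h
    simp only [OneMemClass.coe_one] at h1
    rw [h, h1]
    refine Finset.sum_congr rfl fun θ _ => ?_
    by_cases hθ : n θ = 0
    · rw [hθ]; simp
    congr 1
    have h1' := hlin θ hθ
    have hc := irr_isCharacter θ
    have hinv : ∀ x : T, (θ : T → ℂ) x * (θ : T → ℂ) x⁻¹ = 1 := fun x => by
      rw [← char_mul_of_degree_one hc h1', mul_inv_cancel, h1']
    rw [commutatorElement_def, char_mul_of_degree_one hc h1', char_mul_of_degree_one hc h1',
      char_mul_of_degree_one hc h1', h1']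
    linear_combination ((θ : T → ℂ) ⟨b, hb⟩ *
      (θ : T → ℂ) (⟨b, hb⟩ : T)⁻¹) * hinv ⟨a, ha⟩ + hinv ⟨b, hb⟩
  have hSn : (S : Subgroup Q).Normal := ⟨fun y hy g => by
    have hgy : g * y * g⁻¹ ∈ T := hTn.conj_mem y (Subgroup.mem_sup_right hy) g
    obtain ⟨c, hc, z, hz, hcz⟩ := (Coprime.mem_sup_of_le_normalizer hSD).1 hgy
    have hy' : y ^ s ^ b = 1 := orderOf_dvd_iff_pow_eq_one.1
      (hb ▸ Subgroup.orderOf_dvd_natCard (S : Subgroup Q) hy)
    have hz' : z ^ s ^ b = 1 := orderOf_dvd_iff_pow_eq_one.1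
      (hb ▸ Subgroup.orderOf_dvd_natCard (S : Subgroup Q) hz)
    have hcpow : c ^ s ^ b = 1 := by
      have h1 : (c * z) ^ s ^ b = 1 := by
        rw [hcz, conj_pow, hy', mul_one, mul_inv_cancel]
      rwa [(show Commute c z from hTab c (Subgroup.mem_sup_left hc) z
        (Subgroup.mem_sup_right hz)).mul_pow, hz', mul_one] at h1
    have hc1 : c = 1 := orderOf_eq_one_iff.1 (Nat.dvd_one.1 (hcop ▸ Nat.dvd_gcd
      (Subgroup.orderOf_dvd_natCard D hc) (hb ▸ orderOf_dvd_of_pow_eq_one hcpow)))
    rw [← hcz, hc1, one_mul]; exact hz⟩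
  have hSb : (S : Subgroup Q) ≠ ⊥ := fun e => by
    have h := S.dvd_card_of_dvd_card hsd
    rw [e, Subgroup.card_bot] at h
    exact hs.one_lt.ne' (Nat.dvd_one.1 h)
  have hdvd := hqd.trans (Subgroup.card_dvd_of_le (hmin _ hSn hSb))
  rw [hb] at hdvd
  exact hcon.1 ((Nat.prime_dvd_prime_iff_eq hq hs).1 (hq.dvd_of_dvd_pow hdvd)).symm

theorem card_charDegrees_le (h : ∀ d ∈ Cfsg.charDegrees G, d = 1 ∨ d.Prime) :
    Nat.card ↥(Cfsg.charDegrees G) ≤ 3 := by
  classical
  haveI := Fintype.ofFinite G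
  have hpd : PrimeDeg G := fun χ d hd => h d ⟨χ, by
    rw [Cfsg.charDegree, hd, Complex.natCast_re, Nat.floor_natCast]⟩
  have hdeg : ∀ (χ : Cfsg.IrrCharacter G) (d : ℕ), (χ : G → ℂ) 1 = (d : ℂ) →
      Cfsg.charDegree (χ : G → ℂ) = d := fun χ d hd => by
    rw [Cfsg.charDegree, hd, Complex.natCast_re, Nat.floor_natCast]
  by_cases hab : commutator G = ⊥
  · have : Cfsg.charDegrees G ⊆ {1} := by
      rintro _ ⟨χ, rfl⟩
      refine hdeg χ 1 ?_
      rw [Nat.cast_one]
      exact linear_of_commutator_le χ.2 fun x hx => by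
        rw [hab, Subgroup.mem_bot] at hx; rw [hx]
    exact (Nat.card_mono (Set.finite_singleton _) this).trans (by simp)
  haveI := solvable_of_primeDeg _ rfl hpd
  obtain ⟨K, ⟨hKn, hK⟩, hKmax⟩ := Set.Finite.exists_maximal
    (s := {K : Subgroup G | K.Normal ∧ ¬ commutator G ≤ K}) (Set.toFinite _)
    ⟨⊥, inferInstance, fun e => hab (le_bot_iff.1 e)⟩
  haveI := hKn
  have hcomm : commutator (G ⧸ K) = (commutator G).map (QuotientGroup.mk' K) := by
    rw [commutator_def, commutator_def, Subgroup.map_commutator,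
      Subgroup.map_top_of_surjective _ (QuotientGroup.mk'_surjective K)]
  haveI : Group.IsSolvable (G ⧸ K) :=
    Group.isSolvable_of_surjective (QuotientGroup.mk'_surjective K)
  obtain ⟨q, f, ψ, hψ, hfp, hprimes⟩ := primes_minimal (Q := G ⧸ K)
    (by
      rw [hcomm, Ne, Subgroup.map_eq_bot_iff, QuotientGroup.ker_mk']
      exact hK)
    (fun M hM hMb => by
      rw [hcomm, Subgroup.map_le_iff_le_comap]
      by_contra hcon
      have hle : K ≤ M.comap (QuotientGroup.mk' K) := fun x hx => by
        rw [Subgroup.mem_comap, QuotientGroup.mk'_apply, (QuotientGroup.eq_one_iff x).2 hx]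
        exact one_mem _
      have h2 := hKmax ⟨hM.comap _, hcon⟩ hle
      refine hMb (eq_bot_iff.2 fun y hy => ?_)
      obtain ⟨x, rfl⟩ := QuotientGroup.mk'_surjective K y
      rw [Subgroup.mem_bot, QuotientGroup.mk'_apply]
      exact (QuotientGroup.eq_one_iff x).2 (h2 hy))
    (primeDeg_quotient hpd K)
  have hsub : Cfsg.charDegrees G ⊆ {1, q, f} := by
    rintro _ ⟨χ, rfl⟩
    obtain ⟨r, hr⟩ := char_one_nat (irr_isCharacter χ)
    rw [hdeg χ r hr]
    rcases hpd χ r hr with h1 | h1
    · simp [h1]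
    by_contra hnot
    simp only [Set.mem_insert_iff, Set.mem_singleton_iff, not_or] at hnot
    obtain ⟨-, hrq, hrf⟩ := hnot
    have hcop : r.Coprime K.index := by
      rw [h1.coprime_iff_not_dvd, Subgroup.index_eq_card]
      exact fun hd => (hprimes r h1 hd).elim hrq hrf
    haveI := Fintype.ofFinite K
    have hres := isCharacter_restrict K (irr_isCharacter χ)
    obtain ⟨θ, hθ, hne⟩ := Ito.exists_constituent hres (by simpa using irr_one_ne_zero χ.2)
    obtain ⟨t, ht⟩ := char_one_nat (isCharacter_of_isIrr hθ)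
    obtain ⟨htr, hidx⟩ := Cfsg.Agent.S0887.result K χ χ.2 θ hθ hne r t hr ht
    have htr' : t = r := by
      rcases (Nat.dvd_prime h1).1 htr with e | e
      · exfalso
        rw [e, Nat.div_one] at hidx
        exact (h1.coprime_iff_not_dvd.1 hcop) hidx
      · exact e
    obtain ⟨m, hm⟩ := classInner_char_nat hres (isCharacter_of_isIrr hθ)
    have hle := Basics.degree_le hres hθ hm (show (χ : G → ℂ) ((1 : K) : G) = (r : ℂ) by
      simpa using hr) ht
    have hm0 : m ≠ 0 := fun e => hne (by rw [hm, e, Nat.cast_zero])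
    have hm1 : m = 1 := by
      rw [htr'] at hle
      have := Nat.pos_of_ne_zero hm0
      have := h1.pos
      nlinarith
    subst hm1
    have heq := Basics.eq_of_degree_eq hres hθ hm (by
      simp only [OneMemClass.coe_one, hr, Nat.cast_one, one_mul, ht, htr'])
    have hirr : Cfsg.IsIrrCharacter K (fun n : K => (χ : G → ℂ) n) := by
      rw [heq]; simpa using hθ
    let η : G → ℂ := (ψ : G ⧸ K → ℂ) ∘ QuotientGroup.mk' K
    have hη : Cfsg.IsIrrCharacter G η :=
      isIrrCharacter_comp_surjective (QuotientGroup.mk' K) (QuotientGroup.mk'_surjective K) ψ.2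
    have hprod := isIrr_mul_inflated K χ.2 hirr hη (fun n g => by
      simp only [η, Function.comp_apply, map_mul, QuotientGroup.mk'_apply]
      rw [(QuotientGroup.eq_one_iff (n : G)).2 n.2, one_mul])
    have hval : (η * (χ : G → ℂ)) 1 = ((f * r : ℕ) : ℂ) := by
      simp [η, hψ, hr]
    rcases hpd ⟨_, hprod⟩ _ hval with e | e
    · exact hfp.ne_one (Nat.eq_one_of_mul_eq_one_right e)
    · exact Nat.not_prime_mul hfp.ne_one h1.ne_one e
  refine (Nat.card_mono (Set.toFinite _) hsub).trans ?_
  refine (Nat.card_coe_set_eq _).trans_le ?_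
  exact (Set.ncard_insert_le _ _).trans (Nat.succ_le_succ ((Set.ncard_insert_le _ _).trans (by simp)))

end Cfsg.Agent.BlocksChars.PrimeDegrees
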