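import Mathlib
import Cfsg.Agent.Lib.Coprime.PGroup

/-!
A `p`-group `P` with a normal subgroup `P0` such that every `y ∈ P ∖ P0` has `y P0` as its class,
and an element `h` normalizing both which permutes the `m - 1` nontrivial cosets cyclically: then
`P0` is central (`P` has class at most two), and `x ^ p = 1` for `p` odd, `x ^ 4 = 1` for `p = 2`.
-/

set_option autoImplicit false
set_option linter.style.haveILetI false

namespace Cfsg.Agent.BlocksChars.CaminaClassTwo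

open scoped commutatorElement

variable {G : Type*} [Group G]

theorem bracket_mul_right (u x y : G) : ⁅u, x * y⁆ = ⁅u, x⁆ * (x * ⁅u, y⁆ * x⁻¹) := by
  simp [commutatorElement_def, mul_assoc]

theorem bracket_mul_left (u v x : G) : ⁅u * v, x⁆ = u * ⁅v, x⁆ * u⁻¹ * ⁅u, x⁆ := by
  simp [commutatorElement_def, mul_assoc]

variable [Finite G]

/-- An irreducible section: its period divides its size minus one. -/
theorem period_dvd {h : G} {Z V : Subgroup G} (hZV : Z < V)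
    (hZn : ∀ v ∈ V, ∀ z ∈ Z, v * z * v⁻¹ ∈ Z)
    (hhZ : ∀ z ∈ Z, h * z * h⁻¹ ∈ Z) (hhV : ∀ v ∈ V, h * v * h⁻¹ ∈ V)
    (hirr : ∀ S : Subgroup G, Z < S → S ≤ V → (∀ s ∈ S, h * s * h⁻¹ ∈ S) → S = V) :
    ∀ v ∈ V, v⁻¹ * (h ^ (Z.relIndex V - 1) * v * (h ^ (Z.relIndex V - 1))⁻¹) ∈ Z := by
  classical
  have hpowV : ∀ (j : ℕ), ∀ v ∈ V, h ^ j * v * (h ^ j)⁻¹ ∈ V := by
    intro j
    induction j with
    | zero => simp
    | succ j ih =>
        intro v hv
        rw [show h ^ (j + 1) * v * (h ^ (j + 1))⁻¹ = h * (h ^ j * v * (h ^ j)⁻¹) * h⁻¹ by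
          rw [pow_succ']; group]
        exact hhV _ (ih v hv)
  have hpowZ : ∀ (j : ℕ), ∀ v ∈ Z, h ^ j * v * (h ^ j)⁻¹ ∈ Z := by
    intro j
    induction j with
    | zero => simp
    | succ j ih =>
        intro v hv
        rw [show h ^ (j + 1) * v * (h ^ (j + 1))⁻¹ = h * (h ^ j * v * (h ^ j)⁻¹) * h⁻¹ by
          rw [pow_succ']; group]
        exact hhZ _ (ih v hv)
  -- if some power fixes one nontrivial coset it fixes all of them
  have hall : ∀ j : ℕ, (∃ v ∈ V, v ∉ Z ∧ v⁻¹ * (h ^ j * v * (h ^ j)⁻¹) ∈ Z) →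
      ∀ v ∈ V, v⁻¹ * (h ^ j * v * (h ^ j)⁻¹) ∈ Z := by
    rintro j ⟨v0, hv0, hv0Z, hv0j⟩
    let S : Subgroup G :=
      { carrier := {v | v ∈ V ∧ v⁻¹ * (h ^ j * v * (h ^ j)⁻¹) ∈ Z}
        one_mem' := ⟨V.one_mem, by simp⟩
        mul_mem' := fun {a b} ha hb => ⟨V.mul_mem ha.1 hb.1, by
          have h1 := hZn b⁻¹ (V.inv_mem hb.1) _ ha.2
          rw [show (a * b)⁻¹ * (h ^ j * (a * b) * (h ^ j)⁻¹) =
            b⁻¹ * (a⁻¹ * (h ^ j * a * (h ^ j)⁻¹)) * b⁻¹⁻¹ * (b⁻¹ * (h ^ j * b * (h ^ j)⁻¹)) by group]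
          exact Z.mul_mem h1 hb.2⟩
        inv_mem' := fun {a} ha => ⟨V.inv_mem ha.1, by
          have h1 := hZn a ha.1 _ (Z.inv_mem ha.2)
          rw [show a⁻¹⁻¹ * (h ^ j * a⁻¹ * (h ^ j)⁻¹) =
            a * (a⁻¹ * (h ^ j * a * (h ^ j)⁻¹))⁻¹ * a⁻¹ by group]
          exact h1⟩ }
    have hZS : Z < S := by
      refine lt_of_le_of_ne (fun z hz => ⟨hZV.le hz, Z.mul_mem (Z.inv_mem hz) (hpowZ j z hz)⟩) ?_
      intro he
      exact hv0Z (he ▸ ⟨hv0, hv0j⟩ : v0 ∈ Z)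
    have hS := hirr S hZS (fun v hv => hv.1) (fun v hv => ⟨hhV v hv.1, by
      have h1 := hhZ _ hv.2
      rw [show (h * v * h⁻¹)⁻¹ * (h ^ j * (h * v * h⁻¹) * (h ^ j)⁻¹) =
        h * (v⁻¹ * (h ^ j * v * (h ^ j)⁻¹)) * h⁻¹ by
          rw [show h ^ j * (h * v * h⁻¹) * (h ^ j)⁻¹ = h * (h ^ j * v * (h ^ j)⁻¹) * h⁻¹ by
            simp only [← mul_assoc, ← pow_succ', ← pow_succ]
            simp [mul_assoc, ← mul_inv_rev, ← pow_succ, ← pow_succ']]
          group]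
      exact h1⟩)
    intro v hv
    exact ((hS.ge hv : v ∈ S)).2
  -- the permutation of the cosets
  let Q := V ⧸ (Z.subgroupOf V)
  let π : Q → Q := Quotient.map' (fun v => ⟨h * v * h⁻¹, hhV v v.2⟩) (fun a b hab => by
    rw [QuotientGroup.leftRel_apply, Subgroup.mem_subgroupOf] at hab ⊢
    push_cast at hab ⊢
    rw [show (h * a * h⁻¹)⁻¹ * (h * b * h⁻¹) = h * ((a : G)⁻¹ * b) * h⁻¹ by group]
    exact hhZ _ hab)
  have hπj : ∀ (j : ℕ) (v : V), π^[j] (v : Q) = ((⟨h ^ j * v * (h ^ j)⁻¹, hpowV j v v.2⟩ : V) : Q) := by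
    intro j
    induction j with
    | zero => simp
    | succ j ih =>
        intro v
        rw [Function.iterate_succ_apply', ih]
        refine congrArg (Quotient.mk'') (Subtype.ext ?_)
        show h * (h ^ j * (v : G) * (h ^ j)⁻¹) * h⁻¹ = h ^ (j + 1) * (v : G) * (h ^ (j + 1))⁻¹
        simp only [pow_succ']; group
  have heq : ∀ a b : V, ((a : Q) = (b : Q)) ↔ (a : G)⁻¹ * b ∈ Z := fun a b => by
    rw [QuotientGroup.eq, Subgroup.mem_subgroupOf]; rfl
  have hπinj : Function.Injective π := by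
    intro a b hab
    induction a using QuotientGroup.induction_on with
    | H a =>
      induction b using QuotientGroup.induction_on with
      | H b =>
        have h1 := (heq _ _).1 hab
        rw [heq]
        obtain ⟨o, ho, hho⟩ := isOfFinOrder_iff_pow_eq_one.1 (isOfFinOrder_of_finite h)
        obtain ⟨o, rfl⟩ := Nat.exists_eq_succ_of_ne_zero ho.ne'
        have h2 := hpowZ o _ h1
        rw [pow_succ] at hho
        have hinv : h ^ o = h⁻¹ := eq_inv_of_mul_eq_one_left hho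
        rw [hinv] at h2
        simpa [mul_assoc] using h2
  let σ : Equiv.Perm Q := Equiv.ofBijective π (Finite.injective_iff_bijective.1 hπinj)
  have hσj : ∀ (j : ℕ) (v : V), (σ ^ j) (v : Q) = ((⟨h ^ j * v * (h ^ j)⁻¹, hpowV j v v.2⟩ : V) : Q) :=
    fun j v => by rw [← hπj j v, ← Equiv.Perm.iterate_eq_pow]; rfl
  let β := {q : Q // q ≠ ((1 : V) : Q)}
  have hfix : σ ((1 : V) : Q) = ((1 : V) : Q) := by
    have := hσj 1 1
    rw [pow_one] at this
    rw [this]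
    exact congrArg _ (Subtype.ext (by simp))
  have hfixj : ∀ g ∈ Subgroup.zpowers σ, g ((1 : V) : Q) = ((1 : V) : Q) := by
    intro g hg
    rw [← mem_powers_iff_mem_zpowers, Submonoid.mem_powers_iff] at hg
    obtain ⟨j, rfl⟩ := hg
    rw [hσj]; exact congrArg _ (Subtype.ext (by simp))
  letI : MulAction (Subgroup.zpowers σ) β :=
    { smul := fun g q => ⟨g.1 q.1, fun hq => q.2 (g.1.injective (hq.trans (hfixj _ g.2).symm))⟩
      one_smul := fun q => rfl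
      mul_smul := fun g g' q => rfl }
  have hfree : ∀ q : β, MulAction.stabilizer (Subgroup.zpowers σ) q = ⊥ := by
    rintro ⟨q, hq⟩
    rw [Subgroup.eq_bot_iff_forall]
    rintro ⟨g, hg⟩ hgq
    rw [← mem_powers_iff_mem_zpowers, Submonoid.mem_powers_iff] at hg
    obtain ⟨j, rfl⟩ := hg
    induction q using QuotientGroup.induction_on with
    | H v =>
      have h1 : (σ ^ j) (v : Q) = (v : Q) := congrArg Subtype.val (MulAction.mem_stabilizer_iff.1 hgq)
      rw [hσj, eq_comm, heq] at h1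
      have hvZ : (v : G) ∉ Z := fun hvZ => hq ((heq v 1).2 (by simpa using Z.inv_mem hvZ))
      have h2 := hall j ⟨v, v.2, hvZ, h1⟩
      apply Subtype.ext
      apply Equiv.ext
      intro r
      induction r using QuotientGroup.induction_on with
      | H r =>
        show (σ ^ j) (r : Q) = (r : Q)
        rw [hσj, eq_comm, heq]
        exact h2 r r.2
  have hcard : orderOf σ ∣ Nat.card β := by
    rw [Nat.card_congr (MulAction.selfEquivOrbitsQuotientProd hfree), Nat.card_prod,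
      Nat.card_zpowers]
    exact dvd_mul_left _ _
  have hβ : Nat.card β = Z.relIndex V - 1 := by
    haveI := Fintype.ofFinite Q
    show Nat.card {q : Q // q ≠ ((1 : V) : Q)} = _
    rw [Nat.card_eq_fintype_card, Fintype.card_subtype_compl, Fintype.card_subtype_eq,
      ← Nat.card_eq_fintype_card]
    rfl
  rw [hβ] at hcard
  intro v hv
  have h3 := hσj (Z.relIndex V - 1) ⟨v, hv⟩
  rw [orderOf_dvd_iff_pow_eq_one.1 hcard] at h3
  exact (heq _ _).1 h3

/-- `(p ^ k - 1)` does not divide `(p ^ a - 1) (p ^ b - 1)` for `0 < a, b < k`. -/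
theorem not_dvd_mul {p k a b : ℕ} (hp : 2 ≤ p) (ha : 0 < a) (hak : a < k) (hb : 0 < b) (hbk : b < k) :
    ¬ (p ^ k - 1) ∣ (p ^ a - 1) * (p ^ b - 1) := by
  intro h
  have h' : (p ^ k - 1) ∣ Nat.gcd (p ^ k - 1) (p ^ a - 1) * Nat.gcd (p ^ k - 1) (p ^ b - 1) :=
    (Nat.dvd_gcd dvd_rfl h).trans (Nat.gcd_mul_right_dvd_mul_gcd _ _ _)
  simp only [Nat.pow_sub_one_gcd_pow_sub_one] at h'
  have key : ∀ c, 0 < c → c < k → 2 * Nat.gcd k c ≤ k ∧ 0 < Nat.gcd k c := by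
    intro c hc hck
    have hg : 0 < Nat.gcd k c := Nat.gcd_pos_of_pos_right _ hc
    obtain ⟨d, hd⟩ := Nat.gcd_dvd_left k c
    have hgc : Nat.gcd k c ≤ c := Nat.le_of_dvd hc (Nat.gcd_dvd_right k c)
    refine ⟨?_, hg⟩
    rcases Nat.lt_or_ge d 2 with hd2 | hd2
    · exfalso
      interval_cases d <;> omega
    · calc 2 * Nat.gcd k c ≤ Nat.gcd k c * d := by rw [mul_comm]; exact Nat.mul_le_mul_left _ hd2
        _ = k := hd.symm
  obtain ⟨hA, hA0⟩ := key a ha hak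
  obtain ⟨hB, hB0⟩ := key b hb hbk
  have hposA : 1 < p ^ Nat.gcd k a := Nat.one_lt_pow hA0.ne' hp
  have hposB : 1 < p ^ Nat.gcd k b := Nat.one_lt_pow hB0.ne' hp
  have h1 := Nat.le_of_dvd (Nat.mul_pos (by omega) (by omega)) h'
  have h2 : p ^ (Nat.gcd k a) * p ^ (Nat.gcd k b) ≤ p ^ k := by
    rw [← pow_add]; exact Nat.pow_le_pow_right (by omega) (by omega)
  have h3 : (p ^ Nat.gcd k a - 1) * (p ^ Nat.gcd k b - 1) + 1 <
      p ^ Nat.gcd k a * p ^ Nat.gcd k b := by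
    obtain ⟨u, hu⟩ := Nat.exists_eq_add_of_le hposA
    obtain ⟨w, hw⟩ := Nat.exists_eq_add_of_le hposB
    rw [hu, hw, show 1 + 1 + u - 1 = 1 + u by omega, show 1 + 1 + w - 1 = 1 + w by omega]
    nlinarith
  omega

variable {p : ℕ} [Fact p.Prime] {P P0 : Subgroup G} {h : G}

/-- The data of a Camina section with a cyclically acting element. -/
structure Hyp (p k : ℕ) (P P0 : Subgroup G) (h : G) : Prop where
  isPGroup : IsPGroup p P
  le : P0 ≤ P
  k_pos : 0 < k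
  card : Nat.card P = p ^ k * Nat.card P0
  comm : ∀ x ∈ P, ∀ y ∈ P, ⁅x, y⁆ ∈ P0
  pow_mem : ∀ x ∈ P, x ^ p ∈ P0
  cls : ∀ y ∈ P, y ∉ P0 → ∀ d ∈ P0, ∃ u ∈ P, u * y * u⁻¹ = y * d
  conjP : ∀ x ∈ P, h * x * h⁻¹ ∈ P
  conjP0 : ∀ x ∈ P0, h * x * h⁻¹ ∈ P0
  free : ∀ x ∈ P, x ∉ P0 → ∀ j : ℕ, x⁻¹ * (h ^ j * x * (h ^ j)⁻¹) ∈ P0 → p ^ k - 1 ∣ j

variable {k : ℕ}

omit [Fact p.Prime] in
theorem Hyp.conj_mem (H : Hyp p k P P0 h) {x d : G} (hx : x ∈ P) (hd : d ∈ P0) :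
    x * d * x⁻¹ ∈ P0 := by
  have := P0.mul_mem (H.comm x hx d (H.le hd)) hd
  simpa [commutatorElement_def, mul_assoc] using this

omit [Fact p.Prime] in
theorem Hyp.relIndex_eq (H : Hyp p k P P0 h) : P0.relIndex P = p ^ k := by
  have h1 := Subgroup.card_mul_index (P0.subgroupOf P)
  rw [Nat.card_congr (Subgroup.subgroupOfEquivOfLe H.le).toEquiv] at h1
  have h2 : Nat.card P0 * P0.relIndex P = Nat.card P := h1
  rw [H.card, mul_comm (p ^ k)] at h2
  exact mul_left_cancel₀ Nat.card_pos.ne' h2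

omit [Fact p.Prime] in
theorem Hyp.exists_outside (H : Hyp p k P P0 h) (hp : 1 < p) : ∃ y ∈ P, y ∉ P0 := by
  by_contra hne
  push Not at hne
  have h1 := H.relIndex_eq
  rw [Subgroup.relIndex_eq_one.2 hne] at h1
  exact absurd h1 (Nat.one_lt_pow H.k_pos.ne' hp).ne

omit [Fact p.Prime] in
/-- Every nontrivial coset is a conjugate of a given one by a power of `h`. -/
theorem Hyp.eq_top_of_mem (H : Hyp p k P P0 h) (hp : 1 < p) {S : Subgroup G} (hS : P0 ≤ S)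
    (hSh : ∀ s ∈ S, h * s * h⁻¹ ∈ S) {x : G} (hx : x ∈ P) (hx0 : x ∉ P0) (hxS : x ∈ S) : P ≤ S := by
  classical
  have hpowS : ∀ j : ℕ, h ^ j * x * (h ^ j)⁻¹ ∈ S ∧ h ^ j * x * (h ^ j)⁻¹ ∈ P := by
    intro j
    induction j with
    | zero => simp [hxS, hx]
    | succ j ih =>
        rw [show h ^ (j + 1) * x * (h ^ (j + 1))⁻¹ = h * (h ^ j * x * (h ^ j)⁻¹) * h⁻¹ by
          rw [pow_succ']; group]
        exact ⟨hSh _ ih.1, H.conjP _ ih.2⟩
  have hnot : ∀ j : ℕ, h ^ j * x * (h ^ j)⁻¹ ∉ P0 := by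
    intro j hj
    obtain ⟨o, ho, hho⟩ := isOfFinOrder_iff_pow_eq_one.1 (isOfFinOrder_of_finite h)
    have hP0pow : ∀ i : ℕ, ∀ z ∈ P0, h ^ i * z * (h ^ i)⁻¹ ∈ P0 := by
      intro i
      induction i with
      | zero => simp
      | succ i ih =>
          intro z hz
          rw [show h ^ (i + 1) * z * (h ^ (i + 1))⁻¹ = h * (h ^ i * z * (h ^ i)⁻¹) * h⁻¹ by
            rw [pow_succ']; group]
          exact H.conjP0 _ (ih z hz)
    have h1 := hP0pow (o * j - j) _ hj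
    apply hx0
    have h2 : h ^ (o * j - j) * h ^ j = 1 := by
      rw [← pow_add, Nat.sub_add_cancel (Nat.le_mul_of_pos_left j ho), pow_mul, hho, one_pow]
    rw [show h ^ (o * j - j) * (h ^ j * x * (h ^ j)⁻¹) * (h ^ (o * j - j))⁻¹ =
      (h ^ (o * j - j) * h ^ j) * x * (h ^ (o * j - j) * h ^ j)⁻¹ by group, h2] at h1
    simpa using h1
  let Q := P ⧸ (P0.subgroupOf P)
  let f : Fin (p ^ k - 1) → {q : Q // q ≠ ((1 : P) : Q)} := fun i =>
    ⟨((⟨_, (hpowS i).2⟩ : P) : Q), fun he => by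
      rw [QuotientGroup.eq, Subgroup.mem_subgroupOf] at he
      exact hnot i (P0.inv_mem_iff.1 (by simpa using he))⟩
  have hinj : Function.Injective f := by
    intro i j hij
    have he := congrArg Subtype.val hij
    simp only [f] at he
    rw [QuotientGroup.eq, Subgroup.mem_subgroupOf] at he
    push_cast at he
    rcases le_total (i : ℕ) j with hle | hle
    · obtain ⟨d, hd⟩ := Nat.exists_eq_add_of_le hle
      have hxi := hpowS i
      have := H.free _ hxi.2 (hnot i) d (by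
        rw [show h ^ d * (h ^ (i : ℕ) * x * (h ^ (i : ℕ))⁻¹) * (h ^ d)⁻¹ =
          h ^ (j : ℕ) * x * (h ^ (j : ℕ))⁻¹ by
            rw [hd, pow_add, (Commute.pow_pow_self h (i : ℕ) d).eq]; group]
        exact he)
      have hd0 : d = 0 := Nat.eq_zero_of_dvd_of_lt this (by omega)
      ext; omega
    · obtain ⟨d, hd⟩ := Nat.exists_eq_add_of_le hle
      have hxi := hpowS j
      have := H.free _ hxi.2 (hnot j) d (by
        rw [show h ^ d * (h ^ (j : ℕ) * x * (h ^ (j : ℕ))⁻¹) * (h ^ d)⁻¹ =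
          h ^ (i : ℕ) * x * (h ^ (i : ℕ))⁻¹ by
            rw [hd, pow_add, (Commute.pow_pow_self h (j : ℕ) d).eq]; group]
        simpa [mul_assoc] using P0.inv_mem he)
      have hd0 : d = 0 := Nat.eq_zero_of_dvd_of_lt this (by omega)
      ext; omega
  haveI := Fintype.ofFinite Q
  have hcard : Fintype.card (Fin (p ^ k - 1)) = Fintype.card {q : Q // q ≠ ((1 : P) : Q)} := by
    rw [Fintype.card_fin, Fintype.card_subtype_compl, Fintype.card_subtype_eq,
      ← Nat.card_eq_fintype_card]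
    show _ = P0.relIndex P - 1
    rw [H.relIndex_eq]
  have hsurj := ((Fintype.bijective_iff_injective_and_card f).2 ⟨hinj, hcard⟩).2
  intro y hy
  by_cases hy0 : y ∈ P0
  · exact hS hy0
  obtain ⟨i, hi⟩ := hsurj ⟨((⟨y, hy⟩ : P) : Q), fun he => by
    rw [QuotientGroup.eq, Subgroup.mem_subgroupOf] at he
    exact hy0 (by simpa using P0.inv_mem (by simpa using he))⟩
  have he := congrArg Subtype.val hi
  simp only [f] at he
  rw [QuotientGroup.eq, Subgroup.mem_subgroupOf] at he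
  push_cast at he
  have := S.mul_mem (hpowS i).1 (hS he)
  simpa [← mul_assoc] using this

/-- A central section of `P` inside `P0` has size at most `p ^ (k - 1)`. -/
theorem Hyp.card_section_le (H : Hyp p k P P0 h) {A1 A2 : Subgroup G} (hA : A2 ≤ A1)
    (hA1 : A1 ≤ P0) (hn : ∀ x ∈ P, ∀ a ∈ A2, x * a * x⁻¹ ∈ A2)
    (hc : ∀ a ∈ A1, ∀ x ∈ P, ⁅a, x⁆ ∈ A2) : p * A2.relIndex A1 ≤ p ^ k := by
  classical
  have hp : 1 < p := (Fact.out : p.Prime).one_lt
  obtain ⟨y, hy, hy0⟩ := H.exists_outside hp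
  let S : Subgroup G :=
    { carrier := {x | x ∈ P ∧ ⁅x, y⁆ ∈ A2}
      one_mem' := ⟨P.one_mem, by simp⟩
      mul_mem' := fun {a b} ha hb => ⟨P.mul_mem ha.1 hb.1, by
        rw [bracket_mul_left]
        exact A2.mul_mem (hn a ha.1 _ hb.2) ha.2⟩
      inv_mem' := fun {a} ha => ⟨P.inv_mem ha.1, by
        rw [show ⁅a⁻¹, y⁆ = a⁻¹ * ⁅a, y⁆⁻¹ * a⁻¹⁻¹ by simp [commutatorElement_def, mul_assoc]]
        exact hn a⁻¹ (P.inv_mem ha.1) _ (A2.inv_mem ha.2)⟩ }
  have hA1S : A1 ≤ S := fun a ha => ⟨H.le (hA1 ha), hc a ha y hy⟩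
  have hySm : y ∈ S := ⟨hy, by simp⟩
  have hcl : ∀ x ∈ P, ⁅x, y⁆ ∈ P0 := fun x hx => H.comm x hx y hy
  let F : P ⧸ (S.subgroupOf P) → P0 ⧸ (A2.subgroupOf P0) := Quotient.lift
    (fun x : P => ((⟨⁅(x : G), y⁆, hcl _ x.2⟩ : P0) : P0 ⧸ (A2.subgroupOf P0)))
    (fun a b hab => by
      replace hab := QuotientGroup.leftRel_apply.1 hab
      rw [Subgroup.mem_subgroupOf] at hab
      rw [QuotientGroup.eq, Subgroup.mem_subgroupOf]
      push_cast at hab ⊢
      set s := (a : G)⁻¹ * b with hs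
      rw [show (b : G) = a * s by rw [hs, mul_inv_cancel_left], bracket_mul_left]
      have h1 := hn a a.2 _ hab.2
      have h2 := hn _ (P.inv_mem (H.le (hcl a a.2))) _ h1
      rw [inv_inv] at h2
      simpa [mul_assoc] using h2)
  have hF : Function.Surjective F := by
    intro q
    induction q using QuotientGroup.induction_on with
    | H d =>
      obtain ⟨u, hu, hud⟩ := H.cls y hy hy0 (y⁻¹ * d * y) (by
        simpa using H.conj_mem (P.inv_mem hy) d.2)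
      refine ⟨((⟨u, hu⟩ : P) : P ⧸ (S.subgroupOf P)), congrArg _ (Subtype.ext ?_)⟩
      show ⁅u, y⁆ = (d : G)
      rw [commutatorElement_def, hud]; group
  have hidx : A2.relIndex P0 ≤ S.relIndex P := Nat.card_le_card_of_surjective F hF
  have hSP : S ≤ P := fun x hx => hx.1
  have hPp := H.isPGroup
  obtain ⟨e, he⟩ := (hPp.to_le hSP).index (A1.subgroupOf S)
  have he' : A1.relIndex S = p ^ e := he
  have he0 : e ≠ 0 := by
    rintro rfl
    exact hy0 (hA1 (Subgroup.relIndex_eq_one.1 he' hySm))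
  have e1 := Subgroup.relIndex_mul_relIndex A2 A1 P0 hA hA1
  have e2 : A1.relIndex S * S.relIndex P = A1.relIndex P0 * p ^ k := by
    rw [Subgroup.relIndex_mul_relIndex A1 S P hA1S hSP, ← H.relIndex_eq,
      Subgroup.relIndex_mul_relIndex A1 P0 P hA1 H.le]
  have hpos : 0 < A1.relIndex P0 := Nat.pos_of_ne_zero Subgroup.index_ne_zero_of_finite
  refine Nat.le_of_mul_le_mul_right ?_ hpos
  calc p * A2.relIndex A1 * A1.relIndex P0 = p * A2.relIndex P0 := by rw [mul_assoc, e1]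
    _ ≤ A1.relIndex S * S.relIndex P := Nat.mul_le_mul
          (by rw [he']; exact Nat.le_self_pow he0 p) hidx
    _ = p ^ k * A1.relIndex P0 := by rw [e2, mul_comm]

omit [Finite G] in
theorem inv_conj_mem_of_bracket {W2 : Subgroup G} {x w : G} (hw : w ∈ W2) (hb : ⁅w, x⁆ ∈ W2) :
    x * w * x⁻¹ ∈ W2 := by
  have : x * w * x⁻¹ = ⁅w, x⁆⁻¹ * w := by simp [commutatorElement_def, mul_assoc]
  rw [this]; exact W2.mul_mem (W2.inv_mem hb) hw

/-- `P0` is central in `P`. -/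
theorem Hyp.commute (H : Hyp p k P P0 h) {u x : G} (hu : u ∈ P0) (hx : x ∈ P) : u * x = x * u := by
  classical
  have hp : p.Prime := Fact.out
  have hconjB : ∀ {a b : G}, h * ⁅a, b⁆ * h⁻¹ = ⁅h * a * h⁻¹, h * b * h⁻¹⁆ := fun {a b} => by
    simp [commutatorElement_def, mul_assoc]
  by_contra hne
  set W : Subgroup G := ⁅P0, P⁆ with hW
  have hWP0 : W ≤ P0 := by
    rw [hW, Subgroup.commutator_le]
    exact fun a ha b hb => H.comm a (H.le ha) b hb
  have hWne : W ≠ ⊥ := by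
    intro hbot
    have : ⁅u, x⁆ = 1 := Subgroup.mem_bot.1 (hbot ▸ Subgroup.commutator_mem_commutator hu hx)
    exact hne (commutatorElement_eq_one_iff_mul_comm.1 this)
  haveI : Group.IsNilpotent P := H.isPGroup.isNilpotent
  have hWh : ∀ w ∈ W, h * w * h⁻¹ ∈ W := by
    have : W.map (MulAut.conj h).toMonoidHom ≤ W := by
      rw [hW, Subgroup.map_commutator]
      refine Subgroup.commutator_mono ?_ ?_
      · rintro _ ⟨a, ha, rfl⟩; exact H.conjP0 a ha
      · rintro _ ⟨a, ha, rfl⟩; exact H.conjP a ha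
    exact fun w hw => this ⟨w, hw, rfl⟩
  have hWn : ∀ g ∈ P, ∀ w ∈ W, g * w * g⁻¹ ∈ W := by
    intro g hg w hw
    refine inv_conj_mem_of_bracket hw ?_
    exact Subgroup.commutator_mem_commutator (hWP0 hw) hg
  have hlt : ⁅W, P⁆ < W :=
    Cfsg.Agent.Coprime.commutator_lt_of_isNilpotent (hWP0.trans H.le) hWne
      (fun g hg => Subgroup.mem_normalizer_fintype fun w hw => hWn g hg w hw)
  -- `W2`
  haveI : Nonempty {S : Subgroup G // ⁅W, P⁆ ≤ S ∧ S < W ∧ ∀ s ∈ S, h * s * h⁻¹ ∈ S} := by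
    refine ⟨⟨⁅W, P⁆, le_rfl, hlt, ?_⟩⟩
    have : (⁅W, P⁆ : Subgroup G).map (MulAut.conj h).toMonoidHom ≤ ⁅W, P⁆ := by
      rw [Subgroup.map_commutator]
      refine Subgroup.commutator_mono ?_ ?_
      · rintro _ ⟨a, ha, rfl⟩; exact hWh a ha
      · rintro _ ⟨a, ha, rfl⟩; exact H.conjP a ha
    exact fun w hw => this ⟨w, hw, rfl⟩
  obtain ⟨⟨W2, hW2P, hW2W, hW2h⟩, hW2max⟩ := Finite.exists_max
    (fun S : {S : Subgroup G // ⁅W, P⁆ ≤ S ∧ S < W ∧ ∀ s ∈ S, h * s * h⁻¹ ∈ S} => Nat.card S.1)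
  have hW2n : ∀ g ∈ P, ∀ w ∈ W2, g * w * g⁻¹ ∈ W2 := fun g hg w hw =>
    inv_conj_mem_of_bracket hw (hW2P (Subgroup.commutator_mem_commutator (hW2W.le hw) hg))
  -- `Z2`
  let Z2 : Subgroup G :=
    { carrier := {u | u ∈ P0 ∧ ∀ x ∈ P, ⁅u, x⁆ ∈ W2}
      one_mem' := ⟨P0.one_mem, fun x _ => by simp⟩
      mul_mem' := fun {a b} ha hb => ⟨P0.mul_mem ha.1 hb.1, fun x hx => by
        rw [bracket_mul_left]
        exact W2.mul_mem (hW2n a (H.le ha.1) _ (hb.2 x hx)) (ha.2 x hx)⟩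
      inv_mem' := fun {a} ha => ⟨P0.inv_mem ha.1, fun x hx => by
        rw [show ⁅a⁻¹, x⁆ = a⁻¹ * ⁅a, x⁆⁻¹ * a⁻¹⁻¹ by simp [commutatorElement_def, mul_assoc]]
        exact hW2n a⁻¹ (P.inv_mem (H.le ha.1)) _ (W2.inv_mem (ha.2 x hx))⟩ }
  have hWZ2 : W ≤ Z2 := fun w hw =>
    ⟨hWP0 hw, fun x hx => hW2P (Subgroup.commutator_mem_commutator hw hx)⟩
  have hZ2n : ∀ g ∈ P, ∀ z ∈ Z2, g * z * g⁻¹ ∈ Z2 := fun g hg z hz =>
    inv_conj_mem_of_bracket hz (hWZ2 (Subgroup.commutator_mem_commutator hz.1 hg))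
  have hhinv : ∀ {S : Subgroup G}, (∀ s ∈ S, h * s * h⁻¹ ∈ S) → ∀ s ∈ S, h⁻¹ * s * h ∈ S := by
    intro S hS s hs
    have hmap : S.map (MulAut.conj h).toMonoidHom = S :=
      Subgroup.eq_of_le_of_card_ge (by rintro _ ⟨a, ha, rfl⟩; exact hS a ha)
        (Subgroup.card_map_of_injective (MulAut.conj h).injective).ge
    rw [← hmap] at hs
    obtain ⟨a, ha, rfl⟩ := hs
    simpa [mul_assoc] using ha
  have hZ2h : ∀ z ∈ Z2, h * z * h⁻¹ ∈ Z2 := fun z hz => ⟨H.conjP0 z hz.1, fun x hx => by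
    have h1 := hW2h _ (hz.2 _ (hhinv H.conjP x hx))
    rw [hconjB] at h1
    simpa [mul_assoc] using h1⟩
  have hZ2lt : Z2 < P0 := by
    refine lt_of_le_of_ne (fun z hz => hz.1) fun he => hW2W.not_ge ?_
    rw [hW, Subgroup.commutator_le]
    intro a ha b hb
    exact ((he.symm ▸ ha : a ∈ Z2)).2 b hb
  -- `V`
  haveI : Nonempty {S : Subgroup G // Z2 < S ∧ S ≤ P0 ∧ ∀ s ∈ S, h * s * h⁻¹ ∈ S} :=
    ⟨⟨P0, hZ2lt, le_rfl, H.conjP0⟩⟩
  obtain ⟨⟨V, hZV, hVP0, hVh⟩, hVmin⟩ := Finite.exists_min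
    (fun S : {S : Subgroup G // Z2 < S ∧ S ≤ P0 ∧ ∀ s ∈ S, h * s * h⁻¹ ∈ S} => Nat.card S.1)
  have hperV := period_dvd hZV (fun v hv => hZ2n v (H.le (hVP0 hv))) hZ2h hVh
    (fun S h1 h2 h3 => Subgroup.eq_of_le_of_card_ge h2 (hVmin ⟨S, h1, h2.trans hVP0, h3⟩))
  have hperW := period_dvd hW2W (fun v hv => hW2n v (H.le (hWP0 hv))) hW2h hWh
    (fun S h1 h2 h3 => by
      by_contra hne'
      exact (hW2max ⟨S, hW2P.trans h1.le, lt_of_le_of_ne h2 hne', h3⟩).not_gt (by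
        refine lt_of_not_ge fun hge => h1.ne ?_
        exact Subgroup.eq_of_le_of_card_ge h1.le hge))
  -- the sizes of the two sections
  obtain ⟨a, ha⟩ := (H.isPGroup.to_le (hVP0.trans H.le)).index (Z2.subgroupOf V)
  obtain ⟨b, hb⟩ := (H.isPGroup.to_le (hWP0.trans H.le)).index (W2.subgroupOf W)
  have hbk := H.card_section_le hW2W.le hWP0 hW2n
    (fun w hw x hx => hW2P (Subgroup.commutator_mem_commutator hw hx))
  have hak := H.card_section_le hWP0 le_rfl hWn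
    (fun w hw x hx => Subgroup.commutator_mem_commutator hw hx)
  have ha' : Z2.relIndex V = p ^ a := ha
  have hb' : W2.relIndex W = p ^ b := hb
  have hVle : Z2.relIndex V ≤ W.relIndex P0 :=
    calc Z2.relIndex V ≤ W.relIndex V :=
          Nat.le_of_dvd (Nat.pos_of_ne_zero Subgroup.index_ne_zero_of_finite)
            (Subgroup.relIndex_dvd_of_le_left V hWZ2)
      _ ≤ W.relIndex P0 := by
          refine Nat.le_of_dvd (Nat.pos_of_ne_zero Subgroup.index_ne_zero_of_finite) ?_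
          exact ⟨V.relIndex P0,
            (Subgroup.relIndex_mul_relIndex W V P0 (hWZ2.trans hZV.le) hVP0).symm⟩
  have ha0 : a ≠ 0 := by
    rintro rfl; exact hZV.not_ge (Subgroup.relIndex_eq_one.1 ha')
  have hb0 : b ≠ 0 := by
    rintro rfl; exact hW2W.not_ge (Subgroup.relIndex_eq_one.1 hb')
  have hsmall : ∀ c, p * p ^ c ≤ p ^ k → c < k := fun c hc => by
    rw [← pow_succ'] at hc
    exact Nat.lt_of_succ_le ((Nat.pow_le_pow_iff_right hp.one_lt).1 hc)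
  have hak' : a < k := hsmall a ((Nat.mul_le_mul_left p (ha' ▸ hVle)).trans hak)
  have hbk' : b < k := hsmall b (hb' ▸ hbk)
  -- the pairing
  set J := (p ^ a - 1) * (p ^ b - 1) with hJ
  have hiter : ∀ (S Z : Subgroup G), (∀ v ∈ S, ∀ z ∈ Z, v * z * v⁻¹ ∈ Z) → ∀ (i c : ℕ),
      (∀ v ∈ S, v⁻¹ * (h ^ i * v * (h ^ i)⁻¹) ∈ Z) → (∀ v ∈ S, h * v * h⁻¹ ∈ S) →
      ∀ v ∈ S, v⁻¹ * (h ^ (i * c) * v * (h ^ (i * c))⁻¹) ∈ Z := by
    intro S Z _ i c hi hS
    have hSpow : ∀ j : ℕ, ∀ v ∈ S, h ^ j * v * (h ^ j)⁻¹ ∈ S := by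
      intro j
      induction j with
      | zero => simp
      | succ j ih =>
          intro v hv
          rw [show h ^ (j + 1) * v * (h ^ (j + 1))⁻¹ = h * (h ^ j * v * (h ^ j)⁻¹) * h⁻¹ by
            rw [pow_succ']; group]
          exact hS _ (ih v hv)
    induction c with
    | zero => intro v _; simp
    | succ c ih =>
        intro v hv
        have h1 := hi _ (hSpow (i * c) v hv)
        have h2 := ih v hv
        rw [show h ^ (i * (c + 1)) = h ^ i * h ^ (i * c) by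
          rw [← pow_add, Nat.mul_succ, Nat.add_comm]]
        have := Z.mul_mem h2 h1
        rw [show v⁻¹ * (h ^ (i * c) * v * (h ^ (i * c))⁻¹) *
          ((h ^ (i * c) * v * (h ^ (i * c))⁻¹)⁻¹ *
            (h ^ i * (h ^ (i * c) * v * (h ^ (i * c))⁻¹) * (h ^ i)⁻¹)) =
          v⁻¹ * (h ^ i * h ^ (i * c) * v * (h ^ i * h ^ (i * c))⁻¹) by group] at this
        exact this
  have hV' : ∀ v ∈ V, v⁻¹ * (h ^ J * v * (h ^ J)⁻¹) ∈ Z2 :=
    hiter V Z2 (fun v hv => hZ2n v (H.le (hVP0 hv))) _ (p ^ b - 1) (ha' ▸ hperV) hVh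
  have hW' : ∀ v ∈ W, v⁻¹ * (h ^ J * v * (h ^ J)⁻¹) ∈ W2 := by
    have := hiter W W2 (fun v hv => hW2n v (H.le (hWP0 hv))) _ (p ^ a - 1) (hb' ▸ hperW) hWh
    rw [mul_comm] at this
    exact this
  -- the right kernel
  let K' : Subgroup G :=
    { carrier := {x | x ∈ P ∧ ∀ u ∈ V, ⁅u, x⁆ ∈ W2}
      one_mem' := ⟨P.one_mem, fun u _ => by simp⟩
      mul_mem' := fun {a b} ha hb => ⟨P.mul_mem ha.1 hb.1, fun u hu => by
        rw [bracket_mul_right]
        exact W2.mul_mem (ha.2 u hu) (hW2n a ha.1 _ (hb.2 u hu))⟩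
      inv_mem' := fun {a} ha => ⟨P.inv_mem ha.1, fun u hu => by
        rw [show ⁅u, a⁻¹⁆ = a⁻¹ * ⁅u, a⁆⁻¹ * a⁻¹⁻¹ by simp [commutatorElement_def, mul_assoc]]
        exact hW2n a⁻¹ (P.inv_mem ha.1) _ (W2.inv_mem (ha.2 u hu))⟩ }
  obtain ⟨y, hy, hy0⟩ := H.exists_outside hp.one_lt
  -- `⁅u, ·⁆` kills `P0`
  have hP0K : P0 ≤ K' := by
    intro d hd
    obtain ⟨v, hv, hvd⟩ := H.cls y hy hy0 (y⁻¹ * d * y) (by
      simpa using H.conj_mem (P.inv_mem hy) hd)
    have hdv : d = ⁅v, y⁆ := by rw [commutatorElement_def, hvd]; group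
    refine ⟨H.le hd, fun w hw => ?_⟩
    -- modulo `W2` the values are central
    have hmemW : ∀ t ∈ P, ⁅w, t⁆ ∈ W := fun t ht =>
      Subgroup.commutator_mem_commutator (hVP0 hw) ht
    have hpar : ∀ t ∈ P, ∀ s ∈ W, t * s * t⁻¹ * s⁻¹ ∈ W2 := fun t ht s hs => by
      have h1 := W2.inv_mem (hW2P (Subgroup.commutator_mem_commutator hs ht))
      simpa [commutatorElement_def, mul_assoc] using h1
    set A := ⁅w, v⁆ with hA
    set B := ⁅w, y⁆ with hB
    have hv' := P.inv_mem hv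
    have hy' := P.inv_mem hy
    rw [hdv, show ⁅v, y⁆ = v * y * (v⁻¹ * y⁻¹) by simp [commutatorElement_def, mul_assoc],
      bracket_mul_right, bracket_mul_right]
    -- express through `A`, `B`
    have e3 : ⁅w, v⁻¹ * y⁻¹⁆ = (v⁻¹ * A⁻¹ * v) * (v⁻¹ * (y⁻¹ * B⁻¹ * y) * v) := by
      rw [bracket_mul_right]
      simp [hA, hB, commutatorElement_def, mul_assoc]
    rw [e3]
    have hAW : A ∈ W := hmemW v hv
    have hBW : B ∈ W := hmemW y hy
    -- reduce modulo `W2`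
    have key : ∀ t ∈ P, ∀ s ∈ W, ∀ q : G, (q * (t * s * t⁻¹) ∈ W2 ↔ q * s ∈ W2) := by
      intro t ht s hs q
      have h1 := hpar t ht s hs
      have h2 : q * (t * s * t⁻¹) = (q * (t * s * t⁻¹ * s⁻¹) * q⁻¹) * (q * s) := by group
      constructor
      · intro h3
        have hq : q ∈ P := by
          have := P.mul_mem (H.le (hWP0 (hW2W.le h3))) (P.inv_mem (P.mul_mem (P.mul_mem ht
            (H.le (hWP0 hs))) (P.inv_mem ht)))
          rwa [mul_inv_cancel_right] at this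
        have h4 := W2.mul_mem (W2.inv_mem (hW2n q hq _ h1)) h3
        rw [h2] at h4
        simpa [mul_assoc] using h4
      · intro h3
        have hq : q ∈ P := by
          have := P.mul_mem (H.le (hWP0 (hW2W.le h3))) (P.inv_mem (H.le (hWP0 hs)))
          simpa using this
        rw [h2]
        exact W2.mul_mem (hW2n q hq _ h1) h3
    have eA : A * (v * B * v⁻¹) *
        (v * y * (v⁻¹ * A⁻¹ * v * (v⁻¹ * (y⁻¹ * B⁻¹ * y) * v)) * (v * y)⁻¹) =
        A * (v * B * v⁻¹) * ((v * y * v⁻¹) * A⁻¹ * (v * y * v⁻¹)⁻¹) *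
          ((v * y * v⁻¹) * ((y⁻¹ * B⁻¹ * y)) * (v * y * v⁻¹)⁻¹) := by group
    rw [eA]
    have hz : v * y * v⁻¹ ∈ P := P.mul_mem (P.mul_mem hv hy) hv'
    rw [key _ hz _ (by simpa using hWn _ hy' _ (W.inv_mem hBW))]
    rw [show A * (v * B * v⁻¹) * (v * y * v⁻¹ * A⁻¹ * (v * y * v⁻¹)⁻¹) * (y⁻¹ * B⁻¹ * y) =
      A * (v * B * v⁻¹) * (v * y * v⁻¹ * A⁻¹ * (v * y * v⁻¹)⁻¹) * (y⁻¹ * B⁻¹ * y⁻¹⁻¹) by rw [inv_inv],
      key _ hy' _ (W.inv_mem hBW)]
    rw [show A * (v * B * v⁻¹) * (v * y * v⁻¹ * A⁻¹ * (v * y * v⁻¹)⁻¹) * B⁻¹ =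
      (A * (v * B * v⁻¹) * (v * y * v⁻¹ * A⁻¹ * (v * y * v⁻¹)⁻¹) * B⁻¹) by rfl]
    -- `A (vBv⁻¹) A'⁻¹ B⁻¹` with the conjugates removed
    have h1 := hpar v hv _ hBW
    have h2 := hpar _ hz _ (W.inv_mem hAW)
    have h3 := hpar _ (H.le (hWP0 hAW)) _ hBW
    have hAP := H.le (hWP0 hAW)
    have hBP := H.le (hWP0 hBW)
    rw [show A * (v * B * v⁻¹) * (v * y * v⁻¹ * A⁻¹ * (v * y * v⁻¹)⁻¹) * B⁻¹ =
      (A * (v * B * v⁻¹ * B⁻¹) * A⁻¹) *
        ((A * B) * (v * y * v⁻¹ * A⁻¹ * (v * y * v⁻¹)⁻¹ * A⁻¹⁻¹) * (A * B)⁻¹) *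
        (A * B * A⁻¹ * B⁻¹) by group]
    exact W2.mul_mem (W2.mul_mem (hW2n A hAP _ h1) (hW2n _ (P.mul_mem hAP hBP) _ h2)) h3
  have hKh : ∀ s ∈ K', h * s * h⁻¹ ∈ K' := fun s hs => ⟨H.conjP s hs.1, fun u hu => by
    have h1 := hW2h _ (hs.2 _ (hhinv hVh u hu))
    rw [hconjB] at h1
    simpa [mul_assoc] using h1⟩
  -- `y` is moved into its coset by `h ^ J`
  have hyK : y⁻¹ * (h ^ J * y * (h ^ J)⁻¹) ∈ K' := by
    have hyJ : h ^ J * y * (h ^ J)⁻¹ ∈ P := by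
      clear_value J
      clear hJ hV' hW'
      induction J with
      | zero => simp [hy]
      | succ j ih =>
          rw [show h ^ (j + 1) * y * (h ^ (j + 1))⁻¹ = h * (h ^ j * y * (h ^ j)⁻¹) * h⁻¹ by
            rw [pow_succ']; group]
          exact H.conjP _ ih
    refine ⟨P.mul_mem (P.inv_mem hy) hyJ, fun v hv => ?_⟩
    set z := v⁻¹ * (h ^ J * v * (h ^ J)⁻¹) with hz
    set x' := h ^ J * y * (h ^ J)⁻¹ with hx'
    have hzZ : z ∈ Z2 := hV' v hv
    have hvP := H.le (hVP0 hv)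
    have hvy : ⁅v, y⁆ ∈ W := Subgroup.commutator_mem_commutator (hVP0 hv) hy
    have h1 := hW' _ hvy
    rw [show h ^ J * ⁅v, y⁆ * (h ^ J)⁻¹ = ⁅v * z, x'⁆ by
      rw [hz, hx', mul_inv_cancel_left]; simp [commutatorElement_def, mul_assoc],
      bracket_mul_left] at h1
    have h2 := hW2n v hvP _ (hzZ.2 x' hyJ)
    -- `⁅v,y⁆⁻¹ c ⁅v,x'⁆ ∈ W2` with `c ∈ W2`
    have h3 : ⁅v, y⁆⁻¹ * ⁅v, x'⁆ ∈ W2 := by
      have hP' : ⁅v, y⁆⁻¹ ∈ P := P.inv_mem (H.le (hWP0 hvy))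
      have h4 := W2.mul_mem (W2.inv_mem (hW2n _ hP' _ h2)) h1
      convert h4 using 1
      group
    rw [bracket_mul_right,
      show ⁅v, y⁻¹⁆ = y⁻¹ * ⁅v, y⁆⁻¹ * y by simp [commutatorElement_def, mul_assoc]]
    have h5 := hW2n y⁻¹ (P.inv_mem hy) _ h3
    rw [show y⁻¹ * ⁅v, y⁆⁻¹ * y * (y⁻¹ * ⁅v, x'⁆ * y⁻¹⁻¹) =
      y⁻¹ * (⁅v, y⁆⁻¹ * ⁅v, x'⁆) * y⁻¹⁻¹ by group]
    exact h5
  by_cases hin : y⁻¹ * (h ^ J * y * (h ^ J)⁻¹) ∈ P0
  · exact not_dvd_mul hp.two_le (Nat.pos_of_ne_zero ha0) hak' (Nat.pos_of_ne_zero hb0) hbk'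
      (H.free y hy hy0 J hin)
  · have hPK := H.eq_top_of_mem hp.one_lt hP0K hKh hyK.1 hin hyK
    exact hZV.not_ge fun v hv => ⟨hVP0 hv, fun x hx => ((hPK hx : x ∈ K')).2 v hv⟩

theorem bracket_pow_right {u x : G} (hc : Commute x ⁅u, x⁆) (i : ℕ) : ⁅u, x ^ i⁆ = ⁅u, x⁆ ^ i := by
  induction i with
  | zero => simp
  | succ i ih =>
      rw [pow_succ' x i, bracket_mul_right, ih, (hc.pow_right i).eq, mul_inv_cancel_right,
        ← pow_succ']

/-- `P0` has exponent `p`. -/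
theorem Hyp.pow_eq_one (H : Hyp p k P P0 h) {d : G} (hd : d ∈ P0) : d ^ p = 1 := by
  obtain ⟨y, hy, hy0⟩ := H.exists_outside (Fact.out : p.Prime).one_lt
  obtain ⟨u, hu, hud⟩ := H.cls y hy hy0 (y⁻¹ * d * y) (by
    simpa using H.conj_mem (P.inv_mem hy) hd)
  have hde : d = ⁅u, y⁆ := by rw [commutatorElement_def, hud]; group
  have hc : Commute y ⁅u, y⁆ := (H.commute (H.comm u hu y hy) hy).symm
  rw [hde, ← bracket_pow_right hc, commutatorElement_eq_one_iff_mul_comm]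
  exact (H.commute (H.pow_mem y hy) hu).symm

omit [Finite G] in
/-- Powers of a product when the commutator is central. -/
theorem mul_pow_of_central {x y c : G} (hc : c = ⁅y, x⁆) (hcx : Commute c x) (hcy : Commute c y) :
    ∀ i : ℕ, (x * y) ^ i = x ^ i * y ^ i * c ^ (i * (i - 1) / 2) := by
  have hswap : ∀ i : ℕ, y ^ i * x = x * y ^ i * c ^ i := by
    intro i
    induction i with
    | zero => simp
    | succ i ih =>
        have hyx : y * x = x * y * c := by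
          rw [mul_assoc, ← hcy.eq, ← mul_assoc, ← hcx.eq, hc, commutatorElement_def]
          group
        calc y ^ (i + 1) * x = y * (y ^ i * x) := by rw [pow_succ', mul_assoc]
          _ = (y * x) * y ^ i * c ^ i := by rw [ih]; group
          _ = x * (y * y ^ i) * (c * c ^ i) := by
              rw [hyx, mul_assoc (x * y) c, (hcy.pow_right i).eq]; group
          _ = x * y ^ (i + 1) * c ^ (i + 1) := by rw [← pow_succ', ← pow_succ']
  intro i
  induction i with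
  | zero => simp
  | succ i ih =>
      have e : (i + 1) * (i + 1 - 1) / 2 = i * (i - 1) / 2 + i := by
        rcases i with _ | j
        · rfl
        · simp only [Nat.add_sub_cancel]
          rw [show (j + 1 + 1) * (j + 1) = (j + 1) * j + (j + 1) * 2 by ring,
            Nat.add_mul_div_right _ _ two_pos]
      rw [pow_succ, ih, e, pow_succ x, pow_succ y, pow_add c]
      calc x ^ i * y ^ i * c ^ (i * (i - 1) / 2) * (x * y)
          = x ^ i * (y ^ i * x) * y * c ^ (i * (i - 1) / 2) := by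
            rw [mul_assoc (x ^ i * y ^ i), ((hcx.pow_left _).mul_right (hcy.pow_left _)).eq]; group
        _ = x ^ i * x * (y ^ i * y) * c ^ i * c ^ (i * (i - 1) / 2) := by
            rw [hswap, show x ^ i * (x * y ^ i * c ^ i) * y =
              x ^ i * x * y ^ i * (c ^ i * y) by group, (hcy.pow_left i).eq]
            group
        _ = x ^ i * x * (y ^ i * y) * (c ^ (i * (i - 1) / 2) * c ^ i) := by
            rw [mul_assoc _ (c ^ i), (Commute.pow_pow_self c i _).eq]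

/-- `x ^ 4 = 1` for `p = 2`, and `x ^ p = 1` for odd `p`. -/
theorem Hyp.exponent (H : Hyp p k P P0 h) {x : G} (hx : x ∈ P) :
    (p = 2 → x ^ 4 = 1) ∧ (p ≠ 2 → x ^ p = 1) := by
  classical
  have hp : p.Prime := Fact.out
  refine ⟨fun h2 => ?_, fun h2 => ?_⟩
  · subst h2
    rw [show (4 : ℕ) = 2 * 2 from rfl, pow_mul]
    exact H.pow_eq_one (H.pow_mem x hx)
  have hmul : ∀ a ∈ P, ∀ b ∈ P, (a * b) ^ p = a ^ p * b ^ p := by
    intro a ha b hb
    have hc := H.comm b hb a ha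
    rw [mul_pow_of_central rfl (H.commute hc ha) (H.commute hc hb) p]
    have hd : p ∣ p * (p - 1) / 2 := by
      obtain ⟨r, hr⟩ := hp.odd_of_ne_two h2
      rw [show p - 1 = 2 * r by omega, show p * (2 * r) = p * r * 2 by ring,
        Nat.mul_div_cancel _ two_pos]
      exact dvd_mul_right p r
    obtain ⟨e, he⟩ := hd
    rw [he, pow_mul, H.pow_eq_one hc, one_pow, mul_one]
  let Ω : Subgroup G :=
    { carrier := {a | a ∈ P ∧ a ^ p = 1}
      one_mem' := ⟨P.one_mem, one_pow p⟩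
      mul_mem' := fun {a b} ha hb => ⟨P.mul_mem ha.1 hb.1, by rw [hmul a ha.1 b hb.1, ha.2, hb.2, one_mul]⟩
      inv_mem' := fun {a} ha => ⟨P.inv_mem ha.1, by rw [inv_pow, ha.2, inv_one]⟩ }
  have hP0Ω : P0 ≤ Ω := fun d hd => ⟨H.le hd, H.pow_eq_one hd⟩
  have hΩh : ∀ s ∈ Ω, h * s * h⁻¹ ∈ Ω := fun s hs => ⟨H.conjP s hs.1, by
    rw [conj_pow, hs.2, mul_one, mul_inv_cancel]⟩
  by_contra hxne
  have hinj : ∀ a ∈ P, a ∉ P0 → a ^ p ≠ 1 := fun a ha ha0 hap =>
    hxne ((H.eq_top_of_mem hp.one_lt hP0Ω hΩh ha ha0 ⟨ha, hap⟩ hx).2)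
  -- the power map embeds `P / P0` in `P0`
  let F : P ⧸ (P0.subgroupOf P) → P0 := Quotient.lift
    (fun a : P => (⟨(a : G) ^ p, H.pow_mem a a.2⟩ : P0)) (fun a b hab => Subtype.ext (by
      replace hab := QuotientGroup.leftRel_apply.1 hab
      rw [Subgroup.mem_subgroupOf] at hab
      push_cast at hab
      show (a : G) ^ p = (b : G) ^ p
      rw [show (b : G) = a * ((a : G)⁻¹ * b) by group, hmul a a.2 _ (H.le hab),
        H.pow_eq_one hab, mul_one]))
  have hF : Function.Injective F := by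
    intro a b hab
    induction a using QuotientGroup.induction_on with
    | H a =>
      induction b using QuotientGroup.induction_on with
      | H b =>
        have h1 : (a : G) ^ p = (b : G) ^ p := congrArg Subtype.val hab
        rw [QuotientGroup.eq, Subgroup.mem_subgroupOf]
        by_contra hne
        refine hinj _ (P.mul_mem (P.inv_mem a.2) b.2) hne ?_
        rw [hmul _ (P.inv_mem a.2) _ b.2, inv_pow, h1, inv_mul_cancel]
  have hle : p ^ k ≤ Nat.card P0 := H.relIndex_eq ▸ Nat.card_le_card_of_injective F hF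
  have hb := H.card_section_le (A1 := P0) (A2 := ⊥) bot_le le_rfl
    (fun g _ a ha => by rw [Subgroup.mem_bot] at ha ⊢; simp [ha])
    (fun a ha g hg => by
      rw [Subgroup.mem_bot, commutatorElement_eq_one_iff_mul_comm]; exact H.commute ha hg)
  rw [Subgroup.relIndex_bot_left] at hb
  nlinarith [hp.two_le, Nat.card_pos (α := P0)]

end Cfsg.Agent.BlocksChars.CaminaClassTwo
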