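import Mathlib
import Cfsg.Agent.Lib.FrobeniusSchur.Basic
import Cfsg.Agent.Lib.Characters.Induction

/-!
The Frobenius-Schur indicator under restriction to a constituent of multiplicity one.
-/

set_option autoImplicit false
set_option linter.style.haveILetI false
set_option linter.unusedSectionVars false

namespace Cfsg.Agent.BlocksChars.IndicatorRestrict

open Module Matrix
open Cfsg.Agent.Characters Cfsg.Agent.FrobeniusSchur
open scoped ComplexConjugate

variable {G : Type*} [Group G]

/-- A non-zero invariant form of an irreducible representation is non-degenerate. -/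
theorem isUnit_det_of_invariant {n : ℕ} (ρ : Representation ℂ G (Fin n → ℂ)) [hρ : ρ.IsIrreducible]
    (M : Matrix (Fin n) (Fin n) ℂ) (hM : M ≠ 0)
    (hinv : ∀ g : G, (mat ρ g)ᵀ * M * mat ρ g = M) : IsUnit M.det := by
  rcases ((isIrreducible_iff ρ).1 hρ).2 (LinearMap.ker (Matrix.toLin' M)) (by
    intro g v hv
    rw [LinearMap.mem_ker, Matrix.toLin'_apply] at hv ⊢
    have h1 : ρ g v = mat ρ g *ᵥ v := by
      rw [← Matrix.toLin'_apply, mat, Matrix.toLin'_toMatrix']
    have h2 : (mat ρ g⁻¹)ᵀ * ((mat ρ g)ᵀ * M * mat ρ g) = M * mat ρ g := by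
      rw [← Matrix.mul_assoc, ← Matrix.mul_assoc, ← Matrix.transpose_mul, ← mat_mul, mul_inv_cancel,
        mat_one, Matrix.transpose_one, Matrix.one_mul]
    rw [hinv] at h2
    rw [h1, Matrix.mulVec_mulVec, ← h2, ← Matrix.mulVec_mulVec, hv, Matrix.mulVec_zero]) with h | h
  · rw [← Matrix.isUnit_iff_isUnit_det, ← Matrix.mulVec_injective_iff_isUnit]
    intro a b hab
    exact LinearMap.ker_eq_bot.1 h (by simpa [Matrix.toLin'_apply] using hab)
  · exfalso
    apply hM
    have : Matrix.toLin' M = 0 := LinearMap.ker_eq_top.1 h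
    simpa using this

/-- If a real irreducible character of `H` occurs with odd multiplicity in the restriction of a
real irreducible character of `G`, the two have the same indicator. -/
theorem nu_eq_of_mult_odd [Fintype G] (H : Subgroup G) [Fintype H] (χ : Cfsg.IrrCharacter G)
    (ψ : Cfsg.IrrCharacter H) (hχ : ∀ g : G, ((χ : G → ℂ) g).im = 0)
    (hψ : ∀ h : H, ((ψ : H → ℂ) h).im = 0) {a : ℕ} (hodd : Odd a)
    (ha : Cfsg.classInner (fun h : H => (χ : G → ℂ) h) (ψ : H → ℂ) = (a : ℂ)) :
    nu (χ : G → ℂ) = nu (ψ : H → ℂ) := by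
  classical
  obtain ⟨n, σ, hσ, hσe⟩ := χ.2
  obtain ⟨m, τ, hτ, hτe⟩ := ψ.2
  have hS := avg_sq_irr χ
  rw [if_pos hχ, ← hσe] at hS
  have hT := avg_sq_irr ψ
  rw [if_pos hψ, ← hτe] at hT
  obtain ⟨⟨M, hM0, hM⟩, hεs, hMt⟩ := of_trace_one σ hS
  obtain ⟨⟨B, hB0, hB⟩, hνs, hBt⟩ := of_trace_one τ hT
  rw [← hσe, ← hτe]
  set σH : Representation ℂ H (Fin n → ℂ) := σ.comp H.subtype with hσH
  have hchar : σH.character = fun h : H => (χ : G → ℂ) h := by
    funext h; rw [← hσe]; rfl
  have hd1 : finrank ℂ (Representation.IntertwiningMap τ σH) = a := by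
    have := classInner_character τ σH
    rw [hchar, hτe, ha] at this
    exact_mod_cast this.symm
  have hd2 : finrank ℂ (Representation.IntertwiningMap σH τ) = a := by
    have := classInner_character σH τ
    rw [hchar, hτe, classInner_conj_symm, ha, Complex.conj_natCast] at this
    exact_mod_cast this.symm
  haveI : Nontrivial (Fin m → ℂ) := nontrivial_of_isIrreducible τ
  have hBu := isUnit_det_of_invariant τ B hB0 hB
  have hMu := isUnit_det_of_invariant σ M hM0 hM
  haveI : FiniteDimensional ℂ (Representation.IntertwiningMap τ σH) :=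
    FiniteDimensional.of_finrank_pos (hd1 ▸ hodd.pos)
  haveI : FiniteDimensional ℂ (Representation.IntertwiningMap σH τ) :=
    FiniteDimensional.of_finrank_pos (hd2 ▸ hodd.pos)
  -- left inverses
  have hleft : ∀ f : Representation.IntertwiningMap τ σH, f ≠ 0 →
      ∃ K : Representation.IntertwiningMap σH τ, ∀ v, K (f v) = v := by
    intro f hf0
    have hfi : ∀ (h : H) (v : Fin m → ℂ), f (τ h v) = σH h (f v) := fun h v =>
      Representation.IntertwiningMap.isIntertwining τ σH f h v
    have hfinj : Function.Injective f.toLinearMap := by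
      rw [← LinearMap.ker_eq_bot]
      refine (((isIrreducible_iff τ).1 hτ).2 _ ?_).resolve_right ?_
      · intro h v hv
        rw [LinearMap.mem_ker] at hv ⊢
        rw [Representation.IntertwiningMap.toLinearMap_apply] at hv ⊢
        rw [hfi, hv, map_zero]
      · intro htop
        exact hf0 (Representation.IntertwiningMap.ext (LinearMap.ker_eq_top.1 htop))
    obtain ⟨K0, hK0⟩ := f.toLinearMap.exists_leftInverse_of_injective (LinearMap.ker_eq_bot.2 hfinj)
    set Kl : (Fin n → ℂ) →ₗ[ℂ] (Fin m → ℂ) :=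
      (Nat.card H : ℂ)⁻¹ • ∑ h : H, (τ h).comp (K0.comp (σH h⁻¹)) with hKl
    have hKint : ∀ (a : H) (v : Fin n → ℂ), Kl (σH a v) = τ a (Kl v) := by
      intro a v
      simp only [hKl, LinearMap.smul_apply, LinearMap.sum_apply, LinearMap.comp_apply, map_smul,
        map_sum]
      congr 1
      refine Fintype.sum_equiv (Equiv.mulLeft a⁻¹) _ _ fun h => ?_
      rw [← Module.End.mul_apply (σH h⁻¹) (σH a), ← map_mul, ← Module.End.mul_apply (τ a), ← map_mul]
      simp
    refine ⟨LinearMap.intertwiningMap_of_isIntertwiningMap σH τ Kl hKint, fun v => ?_⟩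
    have hterm : ∀ h : H, (τ h) (K0 (σH h⁻¹ (f v))) = v := by
      intro h
      rw [← hfi, ← Representation.IntertwiningMap.toLinearMap_apply, ← LinearMap.comp_apply K0, hK0,
        LinearMap.id_apply, ← Module.End.mul_apply, ← map_mul, mul_inv_cancel, map_one,
        Module.End.one_apply]
    show Kl (f v) = v
    simp only [hKl, LinearMap.smul_apply, LinearMap.sum_apply, LinearMap.comp_apply, hterm,
      Finset.sum_const, Finset.card_univ, ← Nat.cast_smul_eq_nsmul ℂ, smul_smul,
      ← Nat.card_eq_fintype_card]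
    rw [inv_mul_cancel₀ natCard_ne_zero, one_smul]
  -- the transfer of maps by the two forms
  let J : Representation.IntertwiningMap τ σH → Matrix (Fin n) (Fin m) ℂ :=
    fun f => LinearMap.toMatrix' f.toLinearMap
  have hSJ : ∀ f (h : H), mat σ (h : G) * J f = J f * mat τ h := by
    intro f h
    simp only [J]
    rw [mat, mat, ← LinearMap.toMatrix'_comp, ← LinearMap.toMatrix'_comp]
    congr 1
    exact LinearMap.ext fun v => (Representation.IntertwiningMap.isIntertwining τ σH f h v).symm
  have hLint : ∀ f (h : H),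
      B⁻¹ * ((J f)ᵀ * M) * mat σ (h : G) = mat τ h * (B⁻¹ * ((J f)ᵀ * M)) := by
    intro f h
    have hM' : M * mat σ (h : G) = (mat σ ((h⁻¹ : H) : G))ᵀ * M := by
      conv_rhs => rw [← hM (h : G)]
      rw [← Matrix.mul_assoc, ← Matrix.mul_assoc, ← Matrix.transpose_mul, ← mat_mul]
      simp [mat_one]
    have hB' : B * mat τ h = (mat τ h⁻¹)ᵀ * B := by
      conv_rhs => rw [← hB h]
      rw [← Matrix.mul_assoc, ← Matrix.mul_assoc, ← Matrix.transpose_mul, ← mat_mul]
      simp [mat_one]
    have h2 : B⁻¹ * (mat τ h⁻¹)ᵀ = mat τ h * B⁻¹ := by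
      have h3 : B⁻¹ * (B * mat τ h) * B⁻¹ = B⁻¹ * ((mat τ h⁻¹)ᵀ * B) * B⁻¹ := by rw [hB']
      rw [← Matrix.mul_assoc B⁻¹ B, Matrix.nonsing_inv_mul _ hBu, Matrix.one_mul,
        Matrix.mul_assoc B⁻¹, Matrix.mul_assoc _ B, Matrix.mul_nonsing_inv _ hBu,
        Matrix.mul_one] at h3
      exact h3.symm
    calc B⁻¹ * ((J f)ᵀ * M) * mat σ (h : G)
        = B⁻¹ * ((J f)ᵀ * (M * mat σ (h : G))) := by simp only [Matrix.mul_assoc]
      _ = B⁻¹ * (((J f)ᵀ * (mat σ ((h⁻¹ : H) : G))ᵀ) * M) := by rw [hM', Matrix.mul_assoc]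
      _ = B⁻¹ * (((mat τ h⁻¹)ᵀ * (J f)ᵀ) * M) := by
          rw [← Matrix.transpose_mul, hSJ, Matrix.transpose_mul]
      _ = (B⁻¹ * (mat τ h⁻¹)ᵀ) * ((J f)ᵀ * M) := by simp only [Matrix.mul_assoc]
      _ = mat τ h * (B⁻¹ * ((J f)ᵀ * M)) := by rw [h2, Matrix.mul_assoc]
  have hJadd : ∀ f g, J (f + g) = J f + J g := fun f g => by
    simp only [J]
    rw [Representation.IntertwiningMap.add_toLinearMap, map_add]
  have hJsmul : ∀ (c : ℂ) f, J (c • f) = c • J f := fun c f => by
    simp only [J]
    rw [← map_smul]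
    rfl
  let Φ : Representation.IntertwiningMap τ σH →ₗ[ℂ] Representation.IntertwiningMap σH τ :=
    { toFun := fun f => LinearMap.intertwiningMap_of_isIntertwiningMap σH τ
        (Matrix.toLin' (B⁻¹ * ((J f)ᵀ * M))) (fun h v => by
          have h1 : (Matrix.toLin' (B⁻¹ * ((J f)ᵀ * M))).comp (σH h) =
              (τ h).comp (Matrix.toLin' (B⁻¹ * ((J f)ᵀ * M))) := by
            apply LinearMap.toMatrix'.injective
            rw [LinearMap.toMatrix'_comp, LinearMap.toMatrix'_comp, LinearMap.toMatrix'_toLin']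
            exact hLint f h
          exact LinearMap.congr_fun h1 v)
      map_add' := fun f g => Representation.IntertwiningMap.ext (by
        show Matrix.toLin' _ = Matrix.toLin' _ + Matrix.toLin' _
        rw [hJadd, Matrix.transpose_add, Matrix.add_mul, Matrix.mul_add, map_add])
      map_smul' := fun c f => Representation.IntertwiningMap.ext (by
        show Matrix.toLin' _ = c • Matrix.toLin' _
        rw [hJsmul, Matrix.transpose_smul, Matrix.smul_mul, Matrix.mul_smul, map_smul]) }
  have hΦinj : Function.Injective Φ := by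
    rw [← LinearMap.ker_eq_bot, LinearMap.ker_eq_bot']
    intro f hf
    have hL0 : B⁻¹ * ((J f)ᵀ * M) = 0 := by
      apply Matrix.toLin'.injective
      rw [map_zero]
      exact congrArg (fun g : Representation.IntertwiningMap σH τ => g.toLinearMap) hf
    have hJM : (J f)ᵀ * M = 0 := by
      rw [← Matrix.one_mul ((J f)ᵀ * M), ← Matrix.mul_nonsing_inv B hBu, Matrix.mul_assoc, hL0,
        Matrix.mul_zero]
    have hJ0 : (J f)ᵀ = 0 := by
      rw [← Matrix.mul_one (J f)ᵀ, ← Matrix.mul_nonsing_inv M hMu, ← Matrix.mul_assoc, hJM,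
        Matrix.zero_mul]
    rw [Matrix.transpose_eq_zero] at hJ0
    exact Representation.IntertwiningMap.ext
      ((LinearEquiv.map_eq_zero_iff LinearMap.toMatrix').1 hJ0)
  have hΦsurj : Function.Surjective Φ :=
    (LinearMap.injective_iff_surjective_of_finrank_eq_finrank (hd1.trans hd2.symm)).1 hΦinj
  have hself : finrank ℂ (Representation.IntertwiningMap τ τ) = 1 :=
    Representation.IsIrreducible.finrank_intertwiningMap_self τ
  have hid : Representation.IntertwiningMap.id τ ≠ 0 := by
    intro e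
    obtain ⟨v, hv⟩ := exists_ne (0 : Fin m → ℂ)
    exact hv (congrArg (fun g : Representation.IntertwiningMap τ τ => g v) e)
  have hpair : ∀ f g, ∃ c : ℂ, (J f)ᵀ * M * J g = c • B := by
    intro f g
    obtain ⟨c, hc⟩ := exists_smul_eq_of_finrank_eq_one hself hid
      (Representation.IntertwiningMap.comp (Φ f) g)
    refine ⟨c, ?_⟩
    have h1 : B⁻¹ * ((J f)ᵀ * M) * J g = c • (1 : Matrix (Fin m) (Fin m) ℂ) := by
      apply Matrix.toLin'.injective
      rw [Matrix.toLin'_mul, map_smul, Matrix.toLin'_one]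
      simp only [J, Matrix.toLin'_toMatrix']
      exact (congrArg (fun g : Representation.IntertwiningMap τ τ => g.toLinearMap) hc).symm
    have h2 : B * (B⁻¹ * ((J f)ᵀ * M) * J g) = (J f)ᵀ * M * J g := by
      rw [← Matrix.mul_assoc, ← Matrix.mul_assoc, Matrix.mul_nonsing_inv B hBu, Matrix.one_mul]
    rw [← h2, h1, Matrix.mul_smul, Matrix.mul_one]
  let b := Module.finBasisOfFinrankEq ℂ (Representation.IntertwiningMap τ σH) hd1
  choose C hC using fun i j => hpair (b i) (b j)
  set D : Matrix (Fin a) (Fin a) ℂ := Matrix.of C with hD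
  have hdet : D.det ≠ 0 := by
    rw [Ne, ← Matrix.exists_mulVec_eq_zero_iff]
    push Not
    intro x hx0 hx
    apply hx0
    set f : Representation.IntertwiningMap τ σH := ∑ j, x j • b j with hf
    have hrow : ∀ i, (J (b i))ᵀ * M * J f = 0 := by
      intro i
      have hJf : J f = ∑ j, x j • J (b j) := by
        rw [hf]
        let Jl : Representation.IntertwiningMap τ σH →ₗ[ℂ] Matrix (Fin n) (Fin m) ℂ :=
          { toFun := J, map_add' := hJadd, map_smul' := hJsmul }
        show Jl _ = _
        rw [map_sum]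
        exact Finset.sum_congr rfl fun j _ => map_smul Jl _ _
      rw [hJf, Matrix.mul_sum, Finset.sum_congr rfl (g := fun j => (C i j * x j) • B) fun j _ => by
        rw [Matrix.mul_smul, hC, smul_smul, mul_comm], ← Finset.sum_smul]
      have := congrFun hx i
      simp only [Matrix.mulVec, dotProduct, hD, Matrix.of_apply, Pi.zero_apply] at this
      rw [this, zero_smul]
    by_contra hxne
    have hfne : f ≠ 0 := by
      intro h0
      refine hxne (funext fun j => ?_)
      exact (Fintype.linearIndependent_iff.1 b.linearIndependent) x h0 j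
    obtain ⟨K, hK⟩ := hleft f hfne
    obtain ⟨g, hg⟩ := hΦsurj K
    have hzero : ∀ v, Φ g (f v) = 0 := by
      intro v
      let ev : Representation.IntertwiningMap σH τ →ₗ[ℂ] (Fin m → ℂ) :=
        { toFun := fun u => u (f v), map_add' := fun _ _ => rfl, map_smul' := fun _ _ => rfl }
      show ev (Φ g) = 0
      rw [← b.sum_repr g, map_sum, map_sum]
      simp only [map_smul]
      refine Finset.sum_eq_zero fun i _ => ?_
      have h3 : Φ (b i) (f v) = 0 := by
        show Matrix.toLin' (B⁻¹ * ((J (b i))ᵀ * M)) (f v) = 0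
        have h4 : B⁻¹ * ((J (b i))ᵀ * M) * J f = 0 := by
          rw [Matrix.mul_assoc B⁻¹, hrow i, Matrix.mul_zero]
        have h5 := LinearMap.congr_fun (congrArg Matrix.toLin' h4) v
        rw [Matrix.toLin'_mul _ (J f), map_zero, LinearMap.comp_apply,
          show Matrix.toLin' (J f) = f.toLinearMap from Matrix.toLin'_toMatrix' _] at h5
        exact h5
      exact (congrArg (fun y => b.repr g i • y) h3).trans (smul_zero _)
    obtain ⟨v, hv⟩ := exists_ne (0 : Fin m → ℂ)
    exact hv (by rw [← hK v, ← hg, hzero])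
  have hsymm : ∀ i j, nu σ.character * C j i = nu τ.character * C i j := by
    intro i j
    have h1 := congrArg Matrix.transpose (hC i j)
    rw [Matrix.transpose_mul, Matrix.transpose_mul, Matrix.transpose_transpose, hMt M hM,
      Matrix.transpose_smul, hBt B hB, Matrix.smul_mul, Matrix.mul_smul, ← Matrix.mul_assoc, hC,
      smul_smul, smul_smul] at h1
    rw [smul_left_injective ℂ hB0 h1, mul_comm]
  by_contra hne
  have hneg : Dᵀ = -D := by
    ext i j
    simp only [hD, Matrix.transpose_apply, Matrix.of_apply, Matrix.neg_apply]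
    have h := hsymm i j
    rcases hεs with e1 | e1 <;> rcases hνs with e2 | e2 <;> rw [e1, e2] at h hne
    · exact absurd rfl hne
    · linear_combination h
    · linear_combination -h
    · exact absurd rfl hne
  have h2 := Matrix.det_transpose D
  rw [hneg, Matrix.det_neg, Fintype.card_fin, hodd.neg_one_pow, neg_one_mul] at h2
  exact hdet (by linear_combination (-(1 : ℂ) / 2) * h2)

/-- If a real irreducible character of `H` occurs once in the restriction of a real irreducible
character of `G`, the two have the same indicator. -/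
theorem nu_eq_of_mult_one [Fintype G] (H : Subgroup G) [Fintype H] (χ : Cfsg.IrrCharacter G)
    (ψ : Cfsg.IrrCharacter H) (hχ : ∀ g : G, ((χ : G → ℂ) g).im = 0)
    (hψ : ∀ h : H, ((ψ : H → ℂ) h).im = 0)
    (h1 : Cfsg.classInner (fun h : H => (χ : G → ℂ) h) (ψ : H → ℂ) = 1) :
    nu (χ : G → ℂ) = nu (ψ : H → ℂ) :=
  nu_eq_of_mult_odd H χ ψ hχ hψ odd_one (by rw [h1, Nat.cast_one])

end Cfsg.Agent.BlocksChars.IndicatorRestrict
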