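import Mathlib
import Cfsg.Agent.BlocksChars.Degrees

/-!
No character of `p`-defect zero: a class with centralizer of order prime to `p` has two members
with quotient a nontrivial `p`-element.
-/

set_option autoImplicit false

namespace Cfsg.Agent.BlocksChars.DefectZero

open Cfsg.Agent.BlocksChars

variable {G : Type*} [Group G] [Finite G] (p : ℕ) [Fact p.Prime]

/-- `G` has an irreducible character of `p`-defect zero. -/
def HasDefectZero (G : Type*) [Group G] : Prop :=
  ∃ χ : Cfsg.IrrCharacter G,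
    (Cfsg.charDegree (χ : G → ℂ)).factorization p = (Nat.card G).factorization p

variable {p}

theorem factorization_eq_of_pow_dvd (χ : Cfsg.IrrCharacter G)
    (h : p ^ (Nat.card G).factorization p ∣ Cfsg.charDegree (χ : G → ℂ)) :
    (Cfsg.charDegree (χ : G → ℂ)).factorization p = (Nat.card G).factorization p := by
  haveI := Fintype.ofFinite G
  have hd0 : Cfsg.charDegree (χ : G → ℂ) ≠ 0 := (Degrees.charDegree_pos χ).ne'
  refine le_antisymm ((Nat.factorization_le_iff_dvd hd0 Nat.card_pos.ne').2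
    (Degrees.charDegree_dvd_card χ) p) ?_
  exact (((Fact.out : p.Prime).pow_dvd_iff_le_factorization hd0).1 h)

theorem exists_quotient_or_defectZero {x : G}
    (hx : ¬ p ∣ Nat.card (Subgroup.centralizer ({x} : Set G))) :
    HasDefectZero p G ∨ ∃ g h : G, IsConj x g ∧ IsConj x h ∧ g * h⁻¹ ≠ 1 ∧
      ∃ k : ℕ, orderOf (g * h⁻¹) = p ^ k := by
  classical
  by_contra hcon
  push Not at hcon
  obtain ⟨hdz, hq⟩ := hcon
  obtain ⟨P⟩ : Nonempty (Sylow p G) := inferInstance
  obtain ⟨χ, hχ⟩ := Degrees.exists_degree_dvd (Fact.out : p.Prime) x (P : Subgroup G)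
    P.card_eq_multiplicity (by
      intro z hz hz1 g hg hgz
      obtain ⟨k, hk⟩ := IsPGroup.iff_orderOf.1 P.2 ⟨z, hz⟩
      have h1 : IsConj x (g⁻¹ * z)⁻¹ := by simpa using Degrees.isConj_inv hgz
      have h2 : g * ((g⁻¹ * z)⁻¹)⁻¹ = z := by group
      exact hq g _ hg h1 (by rw [h2]; exact hz1) k (by rw [h2, ← Subgroup.orderOf_mk z hz]; exact hk))
  rw [Nat.factorization_eq_zero_of_not_dvd hx, Nat.sub_zero] at hχ
  exact hdz ⟨χ, factorization_eq_of_pow_dvd χ hχ⟩

end Cfsg.Agent.BlocksChars.DefectZero
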