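import Mathlib
import Cfsg.Agent.BlocksChars.ItoPSolvable
import Cfsg.Agent.Lib.Cores.Nilpotent

/-!
# The derived length of a Sylow subgroup of a `p`-solvable group
-/

set_option linter.style.haveILetI false
set_option linter.unusedSectionVars false

namespace Cfsg.Agent.BlocksChars.DerivedLength

open Cfsg.Agent.Characters Cfsg.Agent.CharTheory Cfsg.Agent.Cores Cfsg.Agent.CharTheory.Ito
open Cfsg.Agent.BlocksChars.ItoPSolvable Cfsg.Agent.BlocksChars.Degrees

universe u

variable {G : Type u} [Group G] [Finite G] {p : ℕ}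

theorem coe_trivIrr (H : Type u) [Group H] :
    ((trivIrr H : Cfsg.IrrCharacter H) : H → ℂ) = fun _ => 1 := rfl

/-- A `p`-group fixing all characters of a normal `p'`-subgroup centralizes it. -/
theorem centralizes_of_invariant [Fact p.Prime] (N : Subgroup G) [N.Normal]
    (hNp : ¬ p ∣ Nat.card N) (Q : Subgroup G) (hQ : IsPGroup p Q)
    (hinv : ∀ (θ : Cfsg.IrrCharacter N), ∀ g ∈ Q, Clifford.conjBy N g (θ : N → ℂ) = θ) :
    N ≤ Subgroup.centralizer (Q : Set G) := by
  classical
  haveI := Fintype.ofFinite N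
  set C : Subgroup N := (Subgroup.centralizer (Q : Set G)).subgroupOf N
  suffices hC : C = ⊤ by
    exact Subgroup.subgroupOf_eq_top.1 hC
  refine eq_top_of_conj_cover C fun k => ?_
  letI : MulAction Q ((ConjClasses.mk k).carrier) :=
    { smul := fun u c => ⟨MulAut.conjNormal (u : G) c.1, by
        refine ConjClasses.mem_carrier_iff_mk_eq.2
          ((ConjClasses.mk_eq_mk_iff_isConj.2 (isConj_of_forall_irr_eq fun θ => ?_)).trans
            (ConjClasses.mem_carrier_iff_mk_eq.1 c.2))
        have h := congrFun (hinv θ (u : G) u.2) c.1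
        rw [Clifford.conjBy_apply] at h
        refine (congrArg (θ : N → ℂ) (Subtype.ext ?_)).trans h
        rw [MulAut.conjNormal_apply]⟩
      one_smul := fun c => Subtype.ext (by
        show MulAut.conjNormal (((1 : Q) : G)) c.1 = c.1
        rw [OneMemClass.coe_one, map_one]; rfl)
      mul_smul := fun u w c => Subtype.ext (by
        show MulAut.conjNormal (((u * w : Q) : G)) c.1 =
          MulAut.conjNormal (u : G) (MulAut.conjNormal (w : G) c.1)
        rw [Subgroup.coe_mul, map_mul]; rfl) }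
  haveI : Finite (ConjClasses.mk k).carrier := inferInstance
  have hdiv : ¬ p ∣ Nat.card (ConjClasses.mk k).carrier := fun hd =>
    hNp (hd.trans ⟨_, (card_carrier_mul_card_centralizer k).symm⟩)
  obtain ⟨c, hc⟩ := hQ.nonempty_fixed_point_of_prime_not_dvd_card _ hdiv
  obtain ⟨m, hm⟩ := isConj_iff.1 (ConjClasses.mk_eq_mk_iff_isConj.1
    (ConjClasses.mem_carrier_iff_mk_eq.1 c.2).symm)
  refine ⟨m⁻¹, Subgroup.mem_subgroupOf.2 (Subgroup.mem_centralizer_iff.2 fun u hu => ?_)⟩
  rw [inv_inv, hm]
  have := congrArg (fun z : (ConjClasses.mk k).carrier => ((z.1 : N) : G)) (hc ⟨u, hu⟩)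
  change u * ((c.1 : N) : G) * u⁻¹ = ((c.1 : N) : G) at this
  exact mul_inv_eq_iff_eq_mul.1 this

/-- The degree of a constituent and the orbit length divide the degree. -/
theorem over_data (N : Subgroup G) [N.Normal] [Fintype N] (θ : Cfsg.IrrCharacter N)
    (χ : Cfsg.IrrCharacter G)
    (hne : Cfsg.classInner (fun n : N => (χ : G → ℂ) n) (θ : N → ℂ) ≠ 0) :
    Cfsg.charDegree (θ : N → ℂ) ∣ Cfsg.charDegree (χ : G → ℂ) ∧
      (inertia N (θ : N → ℂ)).index ∣ Cfsg.charDegree (χ : G → ℂ) := by
  classical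
  haveI := Fintype.ofFinite G
  obtain ⟨e, he⟩ := classInner_char_nat
    (isCharacter_restrict N (irr_isCharacter χ)) (irr_isCharacter θ)
  have h := Clifford.card_mul_degree N χ.2 θ.2 hne (inertia N (θ : N → ℂ)) fun g => Iff.rfl
  rw [he, ← charDegree_cast, ← charDegree_cast, ← (inertia N (θ : N → ℂ)).index_mul_card] at h
  have hT : (Nat.card (inertia N (θ : N → ℂ)) : ℂ) ≠ 0 := Nat.cast_ne_zero.2 Nat.card_pos.ne'
  have hc : (Cfsg.charDegree (χ : G → ℂ) : ℂ) =
      ((e * (inertia N (θ : N → ℂ)).index * Cfsg.charDegree (θ : N → ℂ) : ℕ) : ℂ) := by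
    refine mul_left_cancel₀ hT ?_
    rw [h]
    push_cast
    ring
  have hc' := Nat.cast_injective (R := ℂ) hc
  exact ⟨⟨_, hc'.trans (mul_comm _ _)⟩,
    ⟨e * Cfsg.charDegree (θ : N → ℂ), hc'.trans (by ring)⟩⟩

/-- If a constituent on `R` is trivial on a normal subgroup `N ≤ R`, so is the character. -/
theorem trivial_of_constituent (R N : Subgroup G) [R.Normal] [N.Normal] [Fintype R] (hNR : N ≤ R)
    (θ : Cfsg.IrrCharacter R) (χ : Cfsg.IrrCharacter G)
    (hne : Cfsg.classInner (fun n : R => (χ : G → ℂ) n) (θ : R → ℂ) ≠ 0)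
    (htriv : ∀ x : R, (x : G) ∈ N → (θ : R → ℂ) x = (θ : R → ℂ) 1) :
    ∀ n ∈ N, (χ : G → ℂ) n = (χ : G → ℂ) 1 := by
  classical
  haveI := Fintype.ofFinite G
  intro n hn
  have h := Clifford.card_smul_restrict R χ.2 θ.2 hne (inertia R (θ : R → ℂ)) fun g => Iff.rfl
  have h1 := congrFun h ⟨n, hNR hn⟩
  have h2 := congrFun h 1
  simp only [Pi.smul_apply, Finset.sum_apply, smul_eq_mul, OneMemClass.coe_one] at h1 h2
  rw [Finset.sum_congr rfl (g := fun x => Clifford.conjBy R x (θ : R → ℂ) 1) fun x _ => ?_, ← h2]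
    at h1
  · exact mul_left_cancel₀ (Nat.cast_ne_zero.2 Nat.card_pos.ne') h1
  · rw [Clifford.conjBy_apply, Clifford.conjBy_at_one]
    exact htriv _ (Subgroup.Normal.conj_mem inferInstance n hn x)

/-- A non-trivial constituent forbids triviality of the character on the subgroup. -/
theorem nontrivial_over (N : Subgroup G) [Fintype N] (θ : Cfsg.IrrCharacter N)
    (χ : Cfsg.IrrCharacter G)
    (hne : Cfsg.classInner (fun n : N => (χ : G → ℂ) n) (θ : N → ℂ) ≠ 0) (hθ : θ ≠ trivIrr N) :
    ¬ ∀ n ∈ N, (χ : G → ℂ) n = (χ : G → ℂ) 1 := by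
  intro h
  refine hne ?_
  have e : (fun n : N => (χ : G → ℂ) n) =
      (χ : G → ℂ) 1 • ((trivIrr N : Cfsg.IrrCharacter N) : N → ℂ) :=
    funext fun n => by rw [Pi.smul_apply, coe_trivIrr, smul_eq_mul, mul_one, h n n.2]
  rw [e, classInner_smul_left, classInner_irr, if_neg (Ne.symm hθ), mul_zero]

theorem exists_over_constituent (N : Subgroup G) [N.Normal] [Fintype N] (θ : Cfsg.IrrCharacter N) :
    ∃ χ : Cfsg.IrrCharacter G,
      Cfsg.classInner (fun n : N => (χ : G → ℂ) n) (θ : N → ℂ) ≠ 0 := by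
  classical
  haveI := Fintype.ofFinite G
  have h1 : Cfsg.indFun N (θ : N → ℂ) 1 ≠ 0 := by
    rw [show (1 : G) = ((1 : N) : G) from rfl]
    intro h0
    have h := Clifford.card_mul_indFun_coe N (θ : N → ℂ) 1
    rw [h0, mul_zero, Finset.sum_congr rfl (g := fun _ => (θ : N → ℂ) 1)
      (fun x _ => Clifford.conjBy_at_one N x _), Finset.sum_const, nsmul_eq_mul, eq_comm,
      mul_eq_zero] at h
    rcases h with h | h
    · exact (Nat.cast_ne_zero.2 (Finset.card_ne_zero.2 ⟨1, Finset.mem_univ _⟩)) h
    · exact irr_one_ne_zero θ.2 h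
  obtain ⟨χ, hχ, hne⟩ := exists_constituent (isCharacter_indFun N (irr_isCharacter θ)) h1
  refine ⟨⟨χ, hχ⟩, fun h => hne ?_⟩
  rw [frobenius_reciprocity N _ (char_isClassFunction (isCharacter_of_isIrr hχ)),
    classInner_conj_symm, h, map_zero]

/-- The number of characters of degree divisible by `p`. -/
noncomputable def singCount (G : Type u) [Group G] (p : ℕ) : ℕ :=
  Nat.card {χ : Cfsg.IrrCharacter G // p ∣ Cfsg.charDegree (χ : G → ℂ)}

theorem singCount_quotient_le (N : Subgroup G) [N.Normal] :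
    singCount (G ⧸ N) p ≤ singCount G p ∧
      ((∃ χ : Cfsg.IrrCharacter G, p ∣ Cfsg.charDegree (χ : G → ℂ) ∧
          ¬ ∀ n ∈ N, (χ : G → ℂ) n = (χ : G → ℂ) 1) →
        singCount (G ⧸ N) p < singCount G p) := by
  classical
  haveI := Fintype.ofFinite {χ : Cfsg.IrrCharacter G // p ∣ Cfsg.charDegree (χ : G → ℂ)}
  haveI := Fintype.ofFinite {χ : Cfsg.IrrCharacter (G ⧸ N) //
    p ∣ Cfsg.charDegree (χ : G ⧸ N → ℂ)}
  let f : {χ : Cfsg.IrrCharacter (G ⧸ N) // p ∣ Cfsg.charDegree (χ : G ⧸ N → ℂ)} →
      {χ : Cfsg.IrrCharacter G // p ∣ Cfsg.charDegree (χ : G → ℂ)} := fun θ =>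
    ⟨⟨_, isIrrCharacter_comp_surjective _ (QuotientGroup.mk'_surjective N) θ.1.2⟩, by
      simpa [Cfsg.charDegree] using θ.2⟩
  have hinj : Function.Injective f := by
    intro a b hab
    refine Subtype.ext (Subtype.ext (funext fun q => ?_))
    obtain ⟨g, rfl⟩ := QuotientGroup.mk'_surjective N q
    exact congrFun (congrArg (fun z => (z.1 : G → ℂ)) hab) g
  unfold singCount
  rw [Nat.card_eq_fintype_card, Nat.card_eq_fintype_card]
  refine ⟨Fintype.card_le_of_injective f hinj, ?_⟩
  rintro ⟨χ, hd, hχ⟩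
  refine Fintype.card_lt_of_injective_of_notMem f hinj (b := ⟨χ, hd⟩) ?_
  rintro ⟨θ, hθ⟩
  refine hχ fun n hn => ?_
  have e : ∀ g, (χ : G → ℂ) g = (θ.1 : G ⧸ N → ℂ) (QuotientGroup.mk' N g) := fun g =>
    (congrFun (congrArg (fun z => (z.1 : G → ℂ)) hθ) g).symm
  rw [e, e, map_one, show QuotientGroup.mk' N n = 1 from (QuotientGroup.eq_one_iff n).2 hn]

/-- Outside `p'`-groups, some character of degree divisible by `p` sees the `p'`-core when the
`p`-core is trivial. -/
theorem exists_singular_outside [Fact p.Prime] (hsolv : Cfsg.IsPSolvable p G)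
    (hR : Cfsg.pCore p G = ⊥) (hpG : p ∣ Nat.card G) :
    ∃ χ : Cfsg.IrrCharacter G, p ∣ Cfsg.charDegree (χ : G → ℂ) ∧
      ¬ ∀ n ∈ Cfsg.pPrimeCore p G, (χ : G → ℂ) n = (χ : G → ℂ) 1 := by
  classical
  by_contra hcon
  push Not at hcon
  haveI := pPrimeCore_normal p G
  set L := Cfsg.pPrimeCore p G with hL
  haveI := Fintype.ofFinite L
  haveI := Fintype.ofFinite G
  have hLp : ¬ p ∣ Nat.card L := pPrimeCore_not_dvd p
  haveI : Nontrivial (G ⧸ L) := by
    rw [QuotientGroup.nontrivial_iff]
    intro e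
    refine hLp ?_
    rw [e, Subgroup.card_top]
    exact hpG
  have hcore := pPrimeCore_quotient_self (G := G) p
  have hne := (Cfsg.Agent.PLocal.PSolvable.exists_core_ne_bot
    (Cfsg.Agent.PLocal.PSolvable.quotient hsolv L)).resolve_right (not_not.2 hcore)
  haveI : (Cfsg.pCore p (G ⧸ L)).Normal := pCore_normal p _
  set K := (Cfsg.pCore p (G ⧸ L)).comap (QuotientGroup.mk' L) with hK
  haveI : K.Normal := Subgroup.Normal.comap inferInstance _
  have hLK : L ≤ K := fun x hx => by
    show QuotientGroup.mk' L x ∈ Cfsg.pCore p (G ⧸ L)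
    rw [show QuotientGroup.mk' L x = 1 from (QuotientGroup.eq_one_iff x).2 hx]
    exact one_mem _
  have hKinv : ∀ (θ : Cfsg.IrrCharacter L), ∀ g ∈ K, Clifford.conjBy L g (θ : L → ℂ) = θ := by
    intro θ g hg
    by_cases hθ : θ = trivIrr L
    · subst hθ; rfl
    obtain ⟨χ, hχ⟩ := exists_over_constituent L θ
    have hdeg : ¬ p ∣ Cfsg.charDegree (χ : G → ℂ) := fun hd =>
      nontrivial_over L θ χ hχ hθ (hcon χ hd)
    set T := inertia L (θ : L → ℂ)
    have hLT : L ≤ T := fun x hx => funext fun y => by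
      rw [Clifford.conjBy_apply]
      exact irr_isClassFunction θ y ⟨x, hx⟩
    have h1 : T.relIndex K ∣ Cfsg.charDegree (χ : G → ℂ) :=
      (relIndex_dvd_index_right_normal T K).trans (over_data L θ χ hχ).2
    obtain ⟨j, hj⟩ : ∃ j, L.relIndex K = p ^ j := by
      obtain ⟨j, hj⟩ := IsPGroup.iff_card.1 (pCore_isPGroup (G := G ⧸ L) p)
      refine ⟨j, ?_⟩
      have h2 := card_comap_mk' L (Cfsg.pCore p (G ⧸ L))
      rw [← hK, hj, ← Subgroup.relIndex_bot_left K, ← Subgroup.relIndex_mul_relIndex ⊥ L K bot_le hLK,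
        Subgroup.relIndex_bot_left] at h2
      exact Nat.eq_of_mul_eq_mul_left Nat.card_pos h2
    have h2 : T.relIndex K ∣ L.relIndex K := Subgroup.relIndex_dvd_of_le_left K hLT
    obtain ⟨i, -, hi⟩ := (Nat.dvd_prime_pow Fact.out).1 (hj ▸ h2)
    rcases Nat.eq_zero_or_pos i with rfl | hi0
    · rw [pow_zero, Subgroup.relIndex_eq_one] at hi
      exact hi hg
    · exact absurd ((hi ▸ dvd_pow_self p hi0.ne').trans h1) hdeg
  let S : Sylow p K := default
  set Q := (S : Subgroup K).map K.subtype with hQ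
  have hQK : Q ≤ K := Subgroup.map_subtype_le _
  have hcent := centralizes_of_invariant L hLp Q (S.2.map _) fun θ g hg => hKinv θ g (hQK hg)
  -- the Sylow subgroup of `K` together with `L` gives `K`
  set L' := L.subgroupOf K with hL'
  haveI : L'.Normal := inferInstance
  have htop : (S : Subgroup K) ⊔ L' = ⊤ := by
    have hd : ((S : Subgroup K) ⊔ L').index ∣ L'.index := Subgroup.index_dvd_of_le le_sup_right
    have hd2 : ((S : Subgroup K) ⊔ L').index ∣ (S : Subgroup K).index :=
      Subgroup.index_dvd_of_le le_sup_left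
    obtain ⟨j, hj⟩ : ∃ j, L'.index = p ^ j := by
      obtain ⟨j, hj⟩ := IsPGroup.iff_card.1 (pCore_isPGroup (G := G ⧸ L) p)
      refine ⟨j, ?_⟩
      have h2 := card_comap_mk' L (Cfsg.pCore p (G ⧸ L))
      rw [← hK, hj, ← Subgroup.relIndex_bot_left K, ← Subgroup.relIndex_mul_relIndex ⊥ L K bot_le hLK,
        Subgroup.relIndex_bot_left] at h2
      exact Nat.eq_of_mul_eq_mul_left Nat.card_pos h2
    rw [← Subgroup.index_eq_one]
    exact Nat.eq_one_of_dvd_coprimes
      ((((Fact.out : p.Prime).coprime_iff_not_dvd).2 S.not_dvd_index).pow_left j) (hj ▸ hd) hd2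
  have hSn : (S : Subgroup K).Normal := by
    rw [← Subgroup.normalizer_eq_top_iff, eq_top_iff, ← htop]
    refine sup_le Subgroup.le_normalizer fun l hl => ?_
    rw [Subgroup.mem_normalizer_iff]
    intro s
    have hcomm : ∀ a ∈ (S : Subgroup K), l * a * l⁻¹ = a := fun a ha => Subtype.ext (by
      show (l : G) * a * (l : G)⁻¹ = a
      exact mul_inv_eq_iff_eq_mul.2 (Subgroup.mem_centralizer_iff.1 (hcent hl) (a : G) ⟨a, ha, rfl⟩).symm)
    constructor
    · intro hs; rw [hcomm s hs]; exact hs
    · intro hs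
      have h2 := hcomm _ hs
      have h3 : l * s * l⁻¹ = s := mul_left_cancel (mul_right_cancel h2)
      rwa [h3] at hs
  haveI := hSn
  haveI : (S : Subgroup K).Characteristic := Sylow.characteristic_of_normal S hSn
  haveI : Q.Normal := normal_map_subtype K _
  have hQ1 : Q = ⊥ := le_bot_iff.1 (hR ▸ le_pCore (S.2.map _))
  have hS1 : (S : Subgroup K) = ⊥ :=
    (Subgroup.map_eq_bot_iff_of_injective _ K.subtype_injective).1 hQ1
  rw [hS1, bot_sup_eq, hL', Subgroup.subgroupOf_eq_top] at htop
  refine hne ?_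
  rw [eq_bot_iff]
  intro x hx
  obtain ⟨g, rfl⟩ := QuotientGroup.mk'_surjective L x
  exact Subgroup.mem_bot.2 ((QuotientGroup.eq_one_iff g).2 (htop hx))

theorem derivedSeries_map_bot {A B : Type*} [Group A] [Group B] (f : A →* B)
    (hf : Function.Surjective f) {k : ℕ} (h : derivedSeries B k = ⊥) :
    derivedSeries A k ≤ f.ker := by
  rw [← Subgroup.map_eq_bot_iff, map_derivedSeries_eq hf, h]

theorem derivedSeries_succ_bot {A : Type*} [Group A] {k : ℕ} {Z : Subgroup A}
    (h : derivedSeries A k ≤ Z) (hZ : ∀ a ∈ Z, ∀ b ∈ Z, a * b = b * a) :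
    derivedSeries A (k + 1) = ⊥ := by
  rw [derivedSeries_succ, eq_bot_iff]
  refine (Subgroup.commutator_mono h h).trans (le_of_eq ?_)
  rw [Subgroup.commutator_eq_bot_iff_le_centralizer]
  exact fun a ha => Subgroup.mem_centralizer_iff.2 fun b hb => (hZ b hb a ha)

theorem derived_length_main [Fact p.Prime] : ∀ (n : ℕ) (G : Type u) [Group G] [Finite G],
    Nat.card G = n → Cfsg.IsPSolvable p G → ∀ P : Sylow p G,
      derivedSeries (P : Subgroup G) (singCount G p + 1) = ⊥ := by
  intro n
  induction n using Nat.strong_induction_on with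
  | _ n ih =>
    intro G _ _ hn hsolv P
    rcases subsingleton_or_nontrivial G with hss | hnt
    · exact Subsingleton.elim _ _
    classical
    haveI := Fintype.ofFinite G
    have hlt : ∀ N : Subgroup G, N.Normal → N ≠ ⊥ → Nat.card (G ⧸ N) < n := by
      intro N _ hN
      have h1 := Subgroup.card_eq_card_quotient_mul_card_subgroup N
      have h2 := (Subgroup.one_lt_card_iff_ne_bot N).2 hN
      rw [← hn, h1]
      exact lt_mul_of_one_lt_right Nat.card_pos h2
    -- what the quotient by `N` says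
    have hred : ∀ (N : Subgroup G) [N.Normal], N ≠ ⊥ →
        derivedSeries (P : Subgroup G) (singCount (G ⧸ N) p + 1) ≤
          N.subgroupOf (P : Subgroup G) := by
      intro N _ hN
      have h := ih _ (hlt N inferInstance hN) (G ⧸ N) rfl
        (Cfsg.Agent.PLocal.PSolvable.quotient hsolv N)
        (P.mapSurjective (QuotientGroup.mk'_surjective N))
      rw [Sylow.coe_mapSurjective] at h
      refine (derivedSeries_map_bot ((QuotientGroup.mk' N).subgroupMap (P : Subgroup G))
        ((QuotientGroup.mk' N).subgroupMap_surjective _) h).trans fun x hx => ?_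
      exact (QuotientGroup.eq_one_iff (x : G)).1 (congrArg Subtype.val hx)
    by_cases hO : Cfsg.pPrimeCore p G = ⊥
    swap
    · haveI := pPrimeCore_normal p G
      have hle := hred _ hO
      have hbot : (Cfsg.pPrimeCore p G).subgroupOf (P : Subgroup G) = ⊥ := by
        rw [Subgroup.subgroupOf_eq_bot, disjoint_comm]
        obtain ⟨k, hk⟩ := IsPGroup.iff_card.1 P.2
        refine Subgroup.disjoint_of_coprime_natCard ?_
        rw [hk]
        exact Nat.Coprime.pow_left k
          ((Nat.Prime.coprime_iff_not_dvd Fact.out).2 (pPrimeCore_not_dvd p))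
      exact eq_bot_mono (derivedSeries_antitone _
        (Nat.add_le_add_right (singCount_quotient_le _).1 1)) (le_bot_iff.1 (hbot ▸ hle))
    set R := Cfsg.pCore p G with hR
    haveI : R.Normal := pCore_normal p G
    have hR1 : R ≠ ⊥ :=
      (Cfsg.Agent.PLocal.PSolvable.exists_core_ne_bot hsolv).resolve_right (not_not.2 hO)
    have hRP : R ≤ (P : Subgroup G) := pCore_le_sylow P
    haveI := Fintype.ofFinite R
    by_cases hRab : ⁅R, R⁆ = ⊥
    · -- `R` is abelian
      have hle := hred R hR1
      have hcomm : ∀ a ∈ R.subgroupOf (P : Subgroup G), ∀ b ∈ R.subgroupOf (P : Subgroup G),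
          a * b = b * a := fun a ha b hb => Subtype.ext
        (Subgroup.mem_centralizer_iff.1
          (Subgroup.commutator_eq_bot_iff_le_centralizer.1 hRab hb) _ ha)
      by_cases hp : p ∣ Nat.card (G ⧸ R)
      · -- the quotient loses one singular character
        obtain ⟨χ, hχd, hχ⟩ := exists_singular_outside
          (Cfsg.Agent.PLocal.PSolvable.quotient hsolv R) (pCore_quotient_self p) hp
        haveI := pPrimeCore_normal p (G ⧸ R)
        set L := Cfsg.pPrimeCore p (G ⧸ R)
        have hlt' : singCount ((G ⧸ R) ⧸ L) p < singCount (G ⧸ R) p :=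
          (singCount_quotient_le L).2 ⟨χ, hχd, hχ⟩
        have hle' := (singCount_quotient_le (p := p) R).1
        set P' := P.mapSurjective (QuotientGroup.mk'_surjective R) with hP'
        have h2 := ih _ (lt_of_le_of_lt (Nat.le_of_dvd Nat.card_pos
            (Subgroup.card_quotient_dvd_card L)) (hlt R inferInstance hR1)) ((G ⧸ R) ⧸ L) rfl
          (Cfsg.Agent.PLocal.PSolvable.quotient (Cfsg.Agent.PLocal.PSolvable.quotient hsolv R) L)
          (P'.mapSurjective (QuotientGroup.mk'_surjective L))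
        rw [Sylow.coe_mapSurjective] at h2
        have h3 : derivedSeries (P' : Subgroup (G ⧸ R)) (singCount ((G ⧸ R) ⧸ L) p + 1) = ⊥ := by
          refine le_bot_iff.1 ((derivedSeries_map_bot
            ((QuotientGroup.mk' L).subgroupMap (P' : Subgroup (G ⧸ R)))
            ((QuotientGroup.mk' L).subgroupMap_surjective _) h2).trans fun x hx => ?_)
          have hxL : (x : G ⧸ R) ∈ L :=
            (QuotientGroup.eq_one_iff (x : G ⧸ R)).1 (congrArg Subtype.val hx)
          have hd : Disjoint (P' : Subgroup (G ⧸ R)) L := by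
            obtain ⟨k, hk⟩ := IsPGroup.iff_card.1 P'.2
            refine Subgroup.disjoint_of_coprime_natCard ?_
            rw [hk]
            exact Nat.Coprime.pow_left k
              ((Nat.Prime.coprime_iff_not_dvd Fact.out).2 (pPrimeCore_not_dvd p))
          exact Subgroup.mem_bot.2 (Subtype.ext
            (Subgroup.mem_bot.1 (disjoint_iff.1 hd ▸ ⟨x.2, hxL⟩)))
        rw [Sylow.coe_mapSurjective] at h3
        have h4 : derivedSeries (P : Subgroup G) (singCount G p) ≤ R.subgroupOf (P : Subgroup G) := by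
          refine (derivedSeries_antitone _ (show singCount ((G ⧸ R) ⧸ L) p + 1 ≤ singCount G p by
            omega)).trans ?_
          refine (derivedSeries_map_bot ((QuotientGroup.mk' R).subgroupMap (P : Subgroup G))
            ((QuotientGroup.mk' R).subgroupMap_surjective _) h3).trans fun x hx => ?_
          exact (QuotientGroup.eq_one_iff (x : G)).1 (congrArg Subtype.val hx)
        exact derivedSeries_succ_bot h4 hcomm
      · -- `R` is the Sylow subgroup
        have hPR : ⊤ ≤ R.subgroupOf (P : Subgroup G) := by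
          intro x _
          set P' := P.mapSurjective (QuotientGroup.mk'_surjective R)
          have hc : (P' : Subgroup (G ⧸ R)) = ⊥ := by
            obtain ⟨k, hk⟩ := IsPGroup.iff_card.1 P'.2
            refine Subgroup.card_eq_one.1 ?_
            rcases Nat.eq_zero_or_pos k with rfl | hk0
            · rwa [pow_zero] at hk
            · exact absurd ((hk ▸ dvd_pow_self p hk0.ne').trans (Subgroup.card_subgroup_dvd_card _)) hp
          rw [Sylow.coe_mapSurjective, Subgroup.map_eq_bot_iff, QuotientGroup.ker_mk'] at hc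
          exact hc x.2
        exact eq_bot_mono (derivedSeries_antitone _ (by omega : 1 ≤ singCount G p + 1))
          (derivedSeries_succ_bot (k := 0) (by rw [derivedSeries_zero]; exact hPR) hcomm)
    · -- a central subgroup of `R'`
      set D := ⁅R, R⁆ with hD
      have hDR : D ≤ R := Subgroup.commutator_le_self R
      set N := ((Subgroup.center R).map R.subtype) ⊓ D with hN
      haveI : ((Subgroup.center R).map R.subtype).Normal := normal_map_subtype R _
      haveI : D.Normal := Subgroup.commutator_normal R R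
      haveI : N.Normal := inferInstance
      have hN1 : N ≠ ⊥ := by
        have hDR' : (D.subgroupOf R) ≠ ⊥ := by
          rw [Ne, Subgroup.subgroupOf_eq_bot]
          exact fun h => hRab (le_bot_iff.1 (h le_rfl hDR))
        have hpR : IsPGroup p R := pCore_isPGroup p
        haveI : Group.IsNilpotent R := hpR.isNilpotent
        have := inf_center_ne_bot hDR'
        intro e
        refine this (eq_bot_iff.2 fun x hx => Subgroup.mem_bot.2 (Subtype.ext ?_))
        have hxN : (x : G) ∈ N := ⟨⟨x, hx.2, rfl⟩, hx.1⟩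
        rw [e] at hxN
        exact hxN
      obtain ⟨n₀, hn₀, hn₁⟩ : ∃ n ∈ N, n ≠ 1 := by
        by_contra h
        push Not at h
        exact hN1 (eq_bot_iff.2 fun x hx => Subgroup.mem_bot.2 (h x hx))
      obtain ⟨χf, hχf, hne0⟩ := exists_irr_ne hn₁
      set χ : Cfsg.IrrCharacter G := ⟨χf, hχf⟩
      have h1 : (fun r : R => (χ : G → ℂ) r) 1 ≠ 0 := by
        simpa using irr_one_ne_zero χ.2
      obtain ⟨θf, hθf, hθ⟩ := exists_constituent (isCharacter_restrict R (irr_isCharacter χ)) h1
      set θ : Cfsg.IrrCharacter R := ⟨θf, hθf⟩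
      have hdθ : Cfsg.charDegree (θ : R → ℂ) ≠ 1 := by
        intro hd
        refine hne0 (trivial_of_constituent R N (inf_le_right.trans hDR) θ χ hθ (fun x hx => ?_)
          n₀ hn₀)
        have h1θ : (θ : R → ℂ) 1 = 1 := by rw [← charDegree_cast, hd, Nat.cast_one]
        set lam := linearOfDegreeOne (irr_isCharacter θ) h1θ
        have hker : ⁅(⊤ : Subgroup R), (⊤ : Subgroup R)⁆ ≤ lam.ker := by
          rw [Subgroup.commutator_le]
          intro a _ b _
          rw [MonoidHom.mem_ker, map_commutatorElement, commutatorElement_eq_one_iff_mul_comm]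
          exact mul_comm _ _
        have hxD : x ∈ ⁅(⊤ : Subgroup R), (⊤ : Subgroup R)⁆ := by
          have hmap : (⁅(⊤ : Subgroup R), (⊤ : Subgroup R)⁆).map R.subtype = D := by
            rw [Subgroup.map_commutator, ← MonoidHom.range_eq_map, Subgroup.range_subtype]
          have hxD' : (x : G) ∈ D := hx.2
          rw [← hmap] at hxD'
          obtain ⟨y, hy, hyx⟩ := hxD'
          rwa [← Subtype.ext (hyx : (y : G) = x)]
        have := hker hxD
        rw [MonoidHom.mem_ker] at this
        rw [h1θ, ← linearOfDegreeOne_apply (irr_isCharacter θ) h1θ x]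
        simp [lam, this]
      have hpθ : p ∣ Cfsg.charDegree (θ : R → ℂ) := by
        obtain ⟨k, hk⟩ := IsPGroup.iff_card.1 (pCore_isPGroup (G := G) p)
        obtain ⟨j, -, hj⟩ := (Nat.dvd_prime_pow Fact.out).1 (show Cfsg.charDegree (θ : R → ℂ) ∣ p ^ k by rw [← hk]; exact charDegree_dvd_card θ)
        rcases Nat.eq_zero_or_pos j with rfl | hj0
        · exact absurd hj hdθ
        · exact hj ▸ dvd_pow_self p hj0.ne'
      have hlt' := (singCount_quotient_le (p := p) N).2
        ⟨χ, hpθ.trans (over_data R θ χ hθ).1, fun h => hne0 (h n₀ hn₀)⟩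
      have h4 : derivedSeries (P : Subgroup G) (singCount G p) ≤ N.subgroupOf (P : Subgroup G) :=
        (derivedSeries_antitone _ (by omega : singCount (G ⧸ N) p + 1 ≤ singCount G p)).trans
          (hred N hN1)
      refine derivedSeries_succ_bot h4 fun a ha b hb => Subtype.ext ?_
      obtain ⟨za, hza, hza'⟩ := ha.1
      obtain ⟨zb, hzb, hzb'⟩ := hb.1
      show (a : G) * b = b * a
      rw [show (a : G) = (za : G) from hza'.symm, show (b : G) = (zb : G) from hzb'.symm]
      exact congrArg Subtype.val (Subgroup.mem_center_iff.1 hzb za)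

end Cfsg.Agent.BlocksChars.DerivedLength
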