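import Cfsg.Agent.Lib.Blocks.Orthogonality
import Cfsg.Agent.Lib.Blocks.SectionNorm
import Cfsg.Agent.Lib.Characters.Induction

/-!
# Consequences of orthogonality across sections
-/

set_option linter.style.haveILetI false

namespace Cfsg.Agent.BlocksChars.SectionOrth

open Cfsg.Agent.Blocks Cfsg.Agent.Characters
open scoped ComplexConjugate

universe u

variable {G : Type u} [Group G] {p : ℕ} {M : Ideal Cfsg.AlgInt}

theorem isPPart_self (hp : p.Prime) {g : G} (hg : ∃ k : ℕ, orderOf g = p ^ k) :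
    Cfsg.IsPPart p g g :=
  ⟨1, mul_one g, Commute.one_right g, hg, by simp [hp.ne_one]⟩

theorem exists_orderOf_eq [Finite G] [Fact p.Prime] {P : Subgroup G} (hP : IsPGroup p P) (y : P) :
    ∃ k : ℕ, orderOf (y : G) = p ^ k := by
  obtain ⟨k, hk⟩ := IsPGroup.iff_orderOf.1 hP y
  exact ⟨k, by rw [Subgroup.orderOf_coe, hk]⟩

theorem exists_orderOf_eq_conj {g : G} (hg : ∃ k : ℕ, orderOf g = p ^ k) (x : G) :
    ∃ k : ℕ, orderOf (x * g * x⁻¹) = p ^ k := by
  obtain ⟨k, hk⟩ := hg
  exact ⟨k, by rw [← hk]; exact MulEquiv.orderOf_eq (MulAut.conj x) g⟩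

theorem gen_inv [Finite G] {θ : G → ℂ} (h : Cfsg.IsGeneralizedCharacter G θ) (g : G) :
    θ g⁻¹ = conj (θ g) := by
  obtain ⟨a, b, ha, hb, rfl⟩ := h
  simp [char_inv ha, char_inv hb]

variable [Finite G]

/-- Orthogonality of a block at two non-conjugate `p`-elements. -/
theorem sum_pElement_eq_zero (hM : Cfsg.IsPModular p M) {B : Set (Cfsg.IrrCharacter G)}
    (hB : Cfsg.IsPBlock M B) {u v : G} (hu : ∃ k : ℕ, orderOf u = p ^ k)
    (hv : ∃ k : ℕ, orderOf v = p ^ k) (hne : ¬ IsConj u v) :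
    ∑ᶠ χ ∈ B, (χ : G → ℂ) u * conj ((χ : G → ℂ) v) = 0 :=
  sum_block_mul_conj_eq_zero hM (intEl_blockIdem hM hB) (isPPart_self hM.1 hu)
    (isPPart_self hM.1 hv) hne

open scoped Classical in
/-- If a combination of irreducible characters vanishes on the section of `v`, then so does its
part in a block. -/
theorem blockSum_eq_zero_of_section (hM : Cfsg.IsPModular p M) [Fintype (Cfsg.IrrCharacter G)]
    {B : Set (Cfsg.IrrCharacter G)} (hB : Cfsg.IsPBlock M B) {v : G}
    (hv : ∃ k : ℕ, orderOf v = p ^ k) (c : Cfsg.IrrCharacter G → ℂ)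
    (h : ∀ g x : G, Cfsg.IsPPart p g x → IsConj v x →
      ∑ χ : Cfsg.IrrCharacter G, c χ * (χ : G → ℂ) g = 0) :
    ∑ χ : Cfsg.IrrCharacter G, (if χ ∈ B then c χ * (χ : G → ℂ) v else 0) = 0 := by
  haveI := Fintype.ofFinite G
  have hstep : ∑ g : G, (∑ χ : Cfsg.IrrCharacter G, c χ * (χ : G → ℂ) g) *
      (∑ ψ : Cfsg.IrrCharacter G,
        if ψ ∈ B then (ψ : G → ℂ) v * conj ((ψ : G → ℂ) g) else 0) = 0 := by
    refine Finset.sum_eq_zero fun g _ => ?_
    obtain ⟨x, hx⟩ := exists_ppart hM.1 g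
    by_cases hc : IsConj v x
    · rw [h g x hx hc, zero_mul]
    · have h0 := sum_block_mul_conj_eq_zero hM (intEl_blockIdem hM hB) (isPPart_self hM.1 hv) hx hc
      rw [finsum_mem_def, finsum_eq_sum_of_fintype] at h0
      simp only [Set.indicator_apply] at h0
      rw [h0, mul_zero]
  have hinner : ∀ χ ψ : Cfsg.IrrCharacter G,
      ∑ g : G, (χ : G → ℂ) g * conj ((ψ : G → ℂ) g) = if χ = ψ then (Nat.card G : ℂ) else 0 := by
    intro χ ψ
    have := classInner_irr χ ψ
    rw [classInner_def, inv_mul_eq_iff_eq_mul₀ natCard_ne_zero] at this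
    rw [this]
    split <;> simp
  have hswap : ∑ g : G, (∑ χ : Cfsg.IrrCharacter G, c χ * (χ : G → ℂ) g) *
      (∑ ψ : Cfsg.IrrCharacter G,
        if ψ ∈ B then (ψ : G → ℂ) v * conj ((ψ : G → ℂ) g) else 0) =
      (Nat.card G : ℂ) *
        ∑ ψ : Cfsg.IrrCharacter G, if ψ ∈ B then c ψ * (ψ : G → ℂ) v else 0 := by
    simp only [Finset.mul_sum, Finset.sum_mul]
    rw [Finset.sum_comm]
    refine Finset.sum_congr rfl fun ψ _ => ?_
    rw [Finset.sum_comm]
    by_cases hψ : ψ ∈ B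
    · simp only [if_pos hψ]
      calc ∑ χ : Cfsg.IrrCharacter G, ∑ g : G,
            c χ * (χ : G → ℂ) g * ((ψ : G → ℂ) v * conj ((ψ : G → ℂ) g))
          = ∑ χ : Cfsg.IrrCharacter G, c χ * (ψ : G → ℂ) v *
              ∑ g : G, (χ : G → ℂ) g * conj ((ψ : G → ℂ) g) :=
            Finset.sum_congr rfl fun χ _ => by
              rw [Finset.mul_sum]
              exact Finset.sum_congr rfl fun g _ => by ring
        _ = _ := by
            simp only [hinner, mul_ite, mul_zero]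
            rw [Finset.sum_ite_eq', if_pos (Finset.mem_univ ψ)]
            ring
    · simp [if_neg hψ]
  rw [hswap] at hstep
  exact (mul_eq_zero.1 hstep).resolve_left natCard_ne_zero

/-- The squared norm of the principal block at a `p`-element. -/
theorem norm_principal_pElement (hM : Cfsg.IsPModular p M) {u : G}
    (hu : ∃ k : ℕ, orderOf u = p ^ k) :
    ∑ᶠ χ ∈ Cfsg.principalBlock M G, (χ : G → ℂ) u * conj ((χ : G → ℂ) u) =
      ((∑ᶠ ψ ∈ Cfsg.principalBlock M (Subgroup.centralizer ({u} : Set G)),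
        Cfsg.charDegree (ψ : Subgroup.centralizer ({u} : Set G) → ℂ) ^ 2 : ℕ) : ℂ) := by
  classical
  haveI := Fintype.ofFinite (Cfsg.IrrCharacter G)
  haveI := Fintype.ofFinite (Cfsg.IrrCharacter (Subgroup.centralizer ({u} : Set G)))
  have h := norm_section_eq hM hu (y := 1) (by simp [hM.1.ne_one])
  rw [Subgroup.coe_one, mul_one] at h
  rw [finsum_mem_def, finsum_eq_sum_of_fintype, finsum_mem_def, finsum_eq_sum_of_fintype] at h ⊢
  simp only [Set.indicator_apply] at h ⊢
  have h' := congrArg (fun r : ℝ => (r : ℂ)) h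
  simp only [Complex.ofReal_sum, apply_ite (fun r : ℝ => (r : ℂ)), Complex.ofReal_pow,
    Complex.ofReal_zero] at h'
  rw [Finset.sum_congr rfl fun χ _ => by rw [Complex.mul_conj']]
  rw [h', Nat.cast_sum]
  refine Finset.sum_congr rfl fun ψ _ => ?_
  split
  · rw [Nat.cast_pow]
    congr 1
    rw [← charDegree_cast ψ]
    simp
  · simp

end Cfsg.Agent.BlocksChars.SectionOrth
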