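import Mathlib
import Cfsg.Prelude.Def_Blocks
import Cfsg.Prelude.Def_Transfer
import Cfsg.Agent.BlocksChars.Codegree
import Cfsg.Agent.Lib.Characters.Counting
import Cfsg.Agent.Lib.CharTheory.Clifford

/-!
Gagola characters (irreducible characters that are non-zero on exactly two classes): the support,
the degree, centralizers in the support and inertia groups.
-/

set_option autoImplicit false
set_option linter.style.haveILetI false
set_option linter.unusedSectionVars false

namespace Cfsg.Agent.BlocksChars.Gagola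

open Cfsg.Agent.Characters Cfsg.Agent.BlocksChars.Degrees
open Cfsg.Agent.CharTheory
open scoped ComplexConjugate commutatorElement

universe u

variable {G : Type u} [Group G]

/-- `χ` is non-zero on exactly two classes. -/
abbrev TwoClasses (χ : Cfsg.IrrCharacter G) : Prop :=
  Nat.card {C : ConjClasses G // ∃ g ∈ C.carrier, (χ : G → ℂ) g ≠ 0} = 2

theorem eq_one_of_isConj_one {g : G} (h : IsConj g 1) : g = 1 := by
  obtain ⟨c, hc⟩ := isConj_iff.1 h
  have := congrArg (fun t => c⁻¹ * t * c) hc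
  simpa [mul_assoc] using this

theorem exists_mem_ne_one {K : Subgroup G} (hK : K ≠ ⊥) : ∃ k ∈ K, k ≠ (1 : G) := by
  by_contra hno
  push Not at hno
  exact hK ((Subgroup.eq_bot_iff_forall _).2 hno)

variable [Finite G] {χ : Cfsg.IrrCharacter G}

theorem eq_one_or_isConj (h : TwoClasses χ) {x g : G} (hx1 : x ≠ 1)
    (hx : (χ : G → ℂ) x ≠ 0) (hg : (χ : G → ℂ) g ≠ 0) : g = 1 ∨ IsConj x g := by
  let S := {C : ConjClasses G // ∃ a ∈ C.carrier, (χ : G → ℂ) a ≠ 0}
  let mk : ∀ a : G, (χ : G → ℂ) a ≠ 0 → S := fun a ha =>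
    ⟨ConjClasses.mk a, a, ConjClasses.mem_carrier_mk, ha⟩
  obtain ⟨C, -, hC⟩ := (Nat.card_eq_two_iff' (mk 1 (irr_one_ne_zero χ.2))).1 h
  by_cases hg1 : g = 1
  · exact Or.inl hg1
  · right
    have h1 := hC (mk x hx) fun e =>
      hx1 (eq_one_of_isConj_one (ConjClasses.mk_eq_mk_iff_isConj.1 (congrArg Subtype.val e)))
    have h2 := hC (mk g hg) fun e =>
      hg1 (eq_one_of_isConj_one (ConjClasses.mk_eq_mk_iff_isConj.1 (congrArg Subtype.val e)))
    exact ConjClasses.mk_eq_mk_iff_isConj.1 (congrArg Subtype.val (h1.trans h2.symm))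

theorem exists_nonone_support (h : TwoClasses χ) : ∃ x : G, x ≠ 1 ∧ (χ : G → ℂ) x ≠ 0 := by
  by_contra hno
  push Not at hno
  let S := {C : ConjClasses G // ∃ a ∈ C.carrier, (χ : G → ℂ) a ≠ 0}
  have : Subsingleton S := by
    constructor
    rintro ⟨C, a, ha, ha0⟩ ⟨D, b, hb, hb0⟩
    have ha1 : a = 1 := by_contra fun e => ha0 (hno a e)
    have hb1 : b = 1 := by_contra fun e => hb0 (hno b e)
    refine Subtype.ext ?_
    show C = D
    rw [ConjClasses.mem_carrier_iff_mk_eq] at ha hb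
    rw [← ha, ← hb, ha1, hb1]
  have h1 := Finite.card_le_one_iff_subsingleton.2 this
  have h2 : Nat.card S = 2 := h
  omega

/-- Size of a conjugacy class. -/
noncomputable abbrev cls (x : G) : ℕ := Nat.card {g : G // IsConj x g}

theorem cls_mul_card_centralizer (x : G) :
    cls x * Nat.card (Subgroup.centralizer ({x} : Set G)) = Nat.card G := by
  rw [← card_carrier_mul_card_centralizer x]
  rfl

theorem cls_pos (x : G) : 0 < cls x :=
  haveI : Nonempty {g : G // IsConj x g} := ⟨⟨x, IsConj.refl x⟩⟩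
  Nat.card_pos

theorem ne_triv (hG : 2 < Nat.card G) (h : TwoClasses χ) : χ ≠ trivIrr G := by
  rintro rfl
  obtain ⟨x, hx1, hx⟩ := exists_nonone_support h
  have hall : ∀ g : G, g ≠ 1 → IsConj x g := fun g hg =>
    (eq_one_or_isConj h hx1 hx (by simp)).resolve_left hg
  have hc : cls x + 1 = Nat.card G := by
    classical
    haveI := Fintype.ofFinite G
    have e : (Finset.univ.filter fun g : G => IsConj x g) = Finset.univ.erase 1 := by
      ext g
      simp only [Finset.mem_filter, Finset.mem_univ, true_and, Finset.mem_erase, and_true]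
      exact ⟨fun hg e => hx1 (eq_one_of_isConj_one (e ▸ hg)), hall g⟩
    rw [cls, Nat.card_eq_fintype_card, Fintype.card_subtype, e,
      Finset.card_erase_of_mem (Finset.mem_univ 1), Finset.card_univ, Nat.card_eq_fintype_card]
    have := Fintype.card_pos (α := G)
    omega
  have hdvd : cls x ∣ Nat.card G := ⟨_, (cls_mul_card_centralizer x).symm⟩
  rw [← hc, Nat.dvd_add_self_left, Nat.dvd_one] at hdvd
  omega

/-- A sum against `χ` only sees two classes. -/
theorem sum_mul_conj [Fintype G] (h : TwoClasses χ) {x : G} (hx1 : x ≠ 1)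
    (hx : (χ : G → ℂ) x ≠ 0) {f : G → ℂ} (hf : Cfsg.IsClassFunction G f) :
    ∑ g : G, f g * conj ((χ : G → ℂ) g) =
      f 1 * conj ((χ : G → ℂ) 1) + (cls x : ℂ) * (f x * conj ((χ : G → ℂ) x)) := by
  classical
  rw [← Finset.sum_subset (Finset.subset_univ
      (insert (1 : G) (Finset.univ.filter fun g : G => IsConj x g)))]
  · rw [Finset.sum_insert (by
      simp only [Finset.mem_filter, Finset.mem_univ, true_and]
      exact fun e => hx1 (eq_one_of_isConj_one e))]
    congr 1
    rw [Finset.sum_congr rfl (g := fun _ => f x * conj ((χ : G → ℂ) x)), Finset.sum_const,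
      nsmul_eq_mul, cls, Nat.card_eq_fintype_card, Fintype.card_subtype]
    intro g hg
    obtain ⟨c, rfl⟩ := isConj_iff.1 (Finset.mem_filter.1 hg).2
    rw [hf x c, irr_isClassFunction χ x c]
  · intro g _ hg
    simp only [Finset.mem_insert, Finset.mem_filter, Finset.mem_univ, true_and, not_or] at hg
    have : (χ : G → ℂ) g = 0 := by
      by_contra h0
      exact (eq_one_or_isConj h hx1 hx h0).elim hg.1 hg.2
    rw [this, map_zero, mul_zero]

theorem conj_one_val (ψ : Cfsg.IrrCharacter G) :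
    conj ((ψ : G → ℂ) 1) = (Cfsg.charDegree (ψ : G → ℂ) : ℂ) := by
  rw [← charDegree_cast ψ, Complex.conj_natCast]

theorem inner_irr_sum [Fintype G] (φ ψ : Cfsg.IrrCharacter G) (hne : φ ≠ ψ) :
    ∑ g : G, (φ : G → ℂ) g * conj ((ψ : G → ℂ) g) = 0 := by
  have h := classInner_isIrr_ne φ.2 ψ.2 (fun e => hne (Subtype.ext e))
  rw [classInner_def, mul_eq_zero] at h
  exact h.resolve_left (inv_ne_zero natCard_ne_zero)

theorem cls_mul_conj_val (hG : 2 < Nat.card G) (h : TwoClasses χ) {x : G} (hx1 : x ≠ 1)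
    (hx : (χ : G → ℂ) x ≠ 0) :
    (cls x : ℂ) * conj ((χ : G → ℂ) x) = -(Cfsg.charDegree (χ : G → ℂ) : ℂ) := by
  haveI := Fintype.ofFinite G
  have h1 := inner_irr_sum (trivIrr G) χ (ne_triv hG h).symm
  rw [sum_mul_conj h hx1 hx (irr_isClassFunction (trivIrr G))] at h1
  simp only [trivIrr_coe, one_mul, conj_one_val] at h1
  linear_combination h1

theorem cls_mul_val (hG : 2 < Nat.card G) (h : TwoClasses χ) {x : G} (hx1 : x ≠ 1)
    (hx : (χ : G → ℂ) x ≠ 0) :
    (cls x : ℂ) * (χ : G → ℂ) x = -(Cfsg.charDegree (χ : G → ℂ) : ℂ) := by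
  have := congrArg conj (cls_mul_conj_val hG h hx1 hx)
  simpa using this

/-- The other characters are trivial on the support of `χ`. -/
theorem irr_eq_one (hG : 2 < Nat.card G) (h : TwoClasses χ) {g : G}
    (hg : (χ : G → ℂ) g ≠ 0) {ψ : Cfsg.IrrCharacter G} (hne : ψ ≠ χ) :
    (ψ : G → ℂ) g = (ψ : G → ℂ) 1 := by
  by_cases hg1 : g = 1
  · rw [hg1]
  haveI := Fintype.ofFinite G
  have h1 := inner_irr_sum ψ χ hne
  rw [sum_mul_conj h hg1 hg (irr_isClassFunction ψ), conj_one_val,
    mul_left_comm, cls_mul_conj_val hG h hg1 hg] at h1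
  have hd : (Cfsg.charDegree (χ : G → ℂ) : ℂ) ≠ 0 := by
    exact_mod_cast (charDegree_pos χ).ne'
  exact mul_right_cancel₀ hd (by linear_combination -h1)

theorem order_eq (hG : 2 < Nat.card G) (h : TwoClasses χ) {x : G} (hx1 : x ≠ 1)
    (hx : (χ : G → ℂ) x ≠ 0) :
    cls x * Nat.card G = Cfsg.charDegree (χ : G → ℂ) ^ 2 * (cls x + 1) := by
  haveI := Fintype.ofFinite G
  have h1 := classInner_isIrr_self χ.2
  rw [classInner_def, sum_mul_conj h hx1 hx (irr_isClassFunction χ), conj_one_val,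
    ← charDegree_cast χ, inv_mul_eq_iff_eq_mul₀ natCard_ne_zero, mul_one] at h1
  have ha := cls_mul_conj_val hG h hx1 hx
  have hb := cls_mul_val hG h hx1 hx
  have : ((cls x * Nat.card G : ℕ) : ℂ) =
      ((Cfsg.charDegree (χ : G → ℂ) ^ 2 * (cls x + 1) : ℕ) : ℂ) := by
    push_cast
    linear_combination (-(cls x : ℂ)) * h1 + (cls x : ℂ) * (χ : G → ℂ) x * ha
      - (Cfsg.charDegree (χ : G → ℂ) : ℂ) * hb
  exact_mod_cast this

/-- The support is the intersection of the kernels of the other characters. -/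
theorem val_ne_zero_iff (hG : 2 < Nat.card G) (h : TwoClasses χ) (g : G) :
    (χ : G → ℂ) g ≠ 0 ↔
      ∀ ψ : Cfsg.IrrCharacter G, ψ ≠ χ → (ψ : G → ℂ) g = (ψ : G → ℂ) 1 := by
  refine ⟨fun hg ψ hne => irr_eq_one hG h hg hne, fun hall h0 => ?_⟩
  classical
  haveI := Fintype.ofFinite G
  haveI := Fintype.ofFinite (Cfsg.IrrCharacter G)
  have hg1 : g ≠ 1 := fun e => irr_one_ne_zero χ.2 (e ▸ h0)
  have h2 := second_orthogonality (G := G) g 1
  rw [if_neg (fun e => hg1 (eq_one_of_isConj_one e)),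
    Finset.sum_congr rfl (g := fun ψ : Cfsg.IrrCharacter G => if ψ = χ then (0 : ℂ) else
      ((Cfsg.charDegree (ψ : G → ℂ) ^ 2 : ℕ) : ℂ)) fun ψ _ => ?_] at h2
  · have h3 := Codegree.sum_degree_sq_nat (G := G)
    have h4 := Codegree.degree_sq_lt χ (ne_triv hG h)
    rw [← Finset.add_sum_erase _ _ (Finset.mem_univ χ)] at h3
    rw [← Finset.add_sum_erase _ _ (Finset.mem_univ χ), if_pos rfl, zero_add,
      Finset.sum_congr rfl fun ψ hψ => if_neg (Finset.ne_of_mem_erase hψ),
      ← Nat.cast_sum, Nat.cast_eq_zero] at h2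
    omega
  · split_ifs with e
    · rw [e, h0, zero_mul]
    · rw [hall ψ e, Nat.cast_pow, charDegree_cast, sq, conj_one_val, ← charDegree_cast ψ]

theorem exists_support_subgroup (hG : 2 < Nat.card G) (h : TwoClasses χ) :
    ∃ N : Subgroup G, N.Normal ∧ N ≠ ⊥ ∧ ∀ g : G, g ∈ N ↔ (χ : G → ℂ) g ≠ 0 := by
  let N : Subgroup G := ⨅ ψ : {ψ : Cfsg.IrrCharacter G // ψ ≠ χ}, Codegree.ker ψ.1
  have hN : ∀ g : G, g ∈ N ↔ (χ : G → ℂ) g ≠ 0 := fun g => by
    rw [val_ne_zero_iff hG h, Subgroup.mem_iInf]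
    exact ⟨fun hh ψ hψ => hh ⟨ψ, hψ⟩, fun hh ψ => hh ψ.1 ψ.2⟩
  refine ⟨N, ⟨fun n hn g => ?_⟩, fun e => ?_, hN⟩
  · rw [hN, irr_isClassFunction χ n g]
    exact (hN n).1 hn
  · obtain ⟨x, hx1, hx⟩ := exists_nonone_support h
    have := (hN x).2 hx
    rw [e, Subgroup.mem_bot] at this
    exact hx1 this

theorem faithful (hG : 2 < Nat.card G) (h : TwoClasses χ) (g : G)
    (hg : (χ : G → ℂ) g = (χ : G → ℂ) 1) : g = 1 := by
  by_contra hg1
  have h0 : (χ : G → ℂ) g ≠ 0 := hg ▸ irr_one_ne_zero χ.2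
  have h1 := cls_mul_val hG h hg1 h0
  rw [hg, ← charDegree_cast χ] at h1
  have h2 : ((cls g * Cfsg.charDegree (χ : G → ℂ) + Cfsg.charDegree (χ : G → ℂ) : ℕ) : ℂ) = 0 := by
    push_cast
    linear_combination h1
  have := charDegree_pos χ
  have : cls g * Cfsg.charDegree (χ : G → ℂ) + Cfsg.charDegree (χ : G → ℂ) = 0 := by
    exact_mod_cast h2
  omega

theorem eq_of_faithful (hG : 2 < Nat.card G) (h : TwoClasses χ) (ψ : Cfsg.IrrCharacter G)
    (hψ : ∀ g : G, (ψ : G → ℂ) g = (ψ : G → ℂ) 1 → g = 1) : ψ = χ := by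
  by_contra hne
  obtain ⟨x, hx1, hx⟩ := exists_nonone_support h
  exact hx1 (hψ x (irr_eq_one hG h hx hne))

theorem eq_of_twoClasses (hG : 2 < Nat.card G) (h : TwoClasses χ) (ψ : Cfsg.IrrCharacter G)
    (hψ : TwoClasses ψ) : ψ = χ :=
  eq_of_faithful hG h ψ (faithful hG hψ)

/-! ### The support `N` -/

variable {N : Subgroup G} [hNn : N.Normal] (hN : ∀ g : G, g ∈ N ↔ (χ : G → ℂ) g ≠ 0)

include hN in
omit hNn in
theorem isConj_of_mem (h : TwoClasses χ) {x y : G} (hx : x ∈ N) (hy : y ∈ N) (hx1 : x ≠ 1)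
    (hy1 : y ≠ 1) : IsConj x y :=
  (eq_one_or_isConj h hx1 ((hN x).1 hx) ((hN y).1 hy)).resolve_left hy1

include hN in
omit hNn in
/-- The support is the smallest non-trivial normal subgroup. -/
theorem le_of_normal (hG : 2 < Nat.card G) (h : TwoClasses χ) (K : Subgroup G) [K.Normal]
    (hK : K ≠ ⊥) : N ≤ K := by
  intro x hx
  by_contra hxK
  obtain ⟨ψ, hψ, hne⟩ := exists_irr_ne (g := (x : G ⧸ K)) fun e =>
    hxK ((QuotientGroup.eq_one_iff x).1 e)
  let φ : Cfsg.IrrCharacter G :=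
    ⟨ψ ∘ QuotientGroup.mk' K, isIrrCharacter_comp_surjective _
      (QuotientGroup.mk'_surjective K) hψ⟩
  have hφ : φ ≠ χ := by
    intro e
    obtain ⟨k, hk, hk1⟩ := exists_mem_ne_one hK
    refine hk1 (faithful hG h k ?_)
    rw [← e]
    simp [φ, (QuotientGroup.eq_one_iff k).2 hk]
  exact hne (by simpa [φ] using irr_eq_one hG h ((hN x).1 hx) hφ)

include hN in
omit hNn in
theorem card_eq_cls_add_one (h : TwoClasses χ) {x : G} (hx : x ∈ N) (hx1 : x ≠ 1) :
    Nat.card N = cls x + 1 := by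
  classical
  haveI := Fintype.ofFinite G
  have e : (Finset.univ.filter fun g : G => IsConj x g) =
      (Finset.univ.filter fun g : G => g ∈ N).erase 1 := by
    ext g
    simp only [Finset.mem_filter, Finset.mem_univ, true_and, Finset.mem_erase]
    constructor
    · intro hg
      refine ⟨fun e => hx1 (eq_one_of_isConj_one (e ▸ hg)), ?_⟩
      obtain ⟨c, rfl⟩ := isConj_iff.1 hg
      rw [hN, irr_isClassFunction χ x c]
      exact (hN x).1 hx
    · exact fun hg => isConj_of_mem hN h hx hg.2 hx1 hg.1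
  rw [cls, Nat.card_eq_fintype_card, Nat.card_eq_fintype_card, Fintype.card_subtype,
    Fintype.card_subtype, e, Finset.card_erase_of_mem (by simp)]
  have : 0 < (Finset.univ.filter fun g : G => g ∈ N).card := Finset.card_pos.2 ⟨1, by simp⟩
  omega

/-- The numerical data of a Gagola character. -/
structure Data (χ : Cfsg.IrrCharacter G) (N : Subgroup G) (c e : ℕ) : Prop where
  e_pos : 0 < e
  c_pos : 0 < c
  card_N : Nat.card N = c + 1
  degree : Cfsg.charDegree (χ : G → ℂ) = c * e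
  card_G : Nat.card G = c * (Nat.card N * e ^ 2)
  centralizer : ∀ y ∈ N, y ≠ 1 →
    Nat.card (Subgroup.centralizer ({y} : Set G)) = Nat.card N * e ^ 2
  value : ∀ y ∈ N, y ≠ 1 → (χ : G → ℂ) y = -(e : ℂ)

include hN in
omit hNn in
theorem exists_data (hG : 2 < Nat.card G) (h : TwoClasses χ) : ∃ c e, Data χ N c e := by
  obtain ⟨x, hx1, hx⟩ := exists_nonone_support h
  have hxN : x ∈ N := (hN x).2 hx
  set c := cls x with hc
  have hc0 : 0 < c := cls_pos x
  have hm := card_eq_cls_add_one hN h hxN hx1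
  rw [← hc] at hm
  have ho := order_eq hG h hx1 hx
  have hC := cls_mul_card_centralizer x
  rw [← hc] at ho hC
  obtain ⟨e, he⟩ : c ∣ Cfsg.charDegree (χ : G → ℂ) := by
    rw [← Nat.pow_dvd_pow_iff (n := 2) two_ne_zero]
    have hco : Nat.Coprime (c ^ 2) (c + 1) := (Nat.coprime_self_add_right.2 (by simp)).pow_left 2
    refine hco.dvd_of_dvd_mul_right ⟨Nat.card (Subgroup.centralizer ({x} : Set G)), ?_⟩
    rw [← ho, ← hC]
    ring
  have he0 : 0 < e := Nat.pos_of_ne_zero fun e0 => by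
    have := charDegree_pos χ
    rw [he, e0, mul_zero] at this
    omega
  have hord : Nat.card G = c * (Nat.card N * e ^ 2) := by
    apply Nat.eq_of_mul_eq_mul_left hc0
    rw [ho, he, hm]
    ring
  refine ⟨c, e, he0, hc0, hm, he, hord, fun y hy hy1 => ?_, fun y hy hy1 => ?_⟩
  · have h1 := cls_mul_card_centralizer y
    have hcy : cls y = c := by
      have := card_eq_cls_add_one hN h hy hy1
      omega
    rw [hcy, hord] at h1
    exact Nat.eq_of_mul_eq_mul_left hc0 h1
  · have h1 := cls_mul_val hG h hy1 ((hN y).1 hy)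
    have hcy : cls y = c := by
      have := card_eq_cls_add_one hN h hy hy1
      omega
    rw [hcy, he, Nat.cast_mul, ← mul_neg] at h1
    exact mul_left_cancel₀ (by exact_mod_cast hc0.ne') h1

include hN in
omit hNn in
theorem exists_prime_exponent (hN1 : N ≠ ⊥) (h : TwoClasses χ) :
    ∃ p : ℕ, p.Prime ∧ IsPGroup p N ∧ ∀ g ∈ N, g ^ p = 1 := by
  obtain ⟨x, hx, hx1'⟩ := exists_mem_ne_one hN1
  obtain ⟨p, hp, hpd⟩ := Nat.exists_prime_and_dvd (n := orderOf x) (by simpa using hx1')
  set y := x ^ (orderOf x / p) with hy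
  have hyo : orderOf y = p := orderOf_pow_orderOf_div (orderOf_pos x).ne' hpd
  have hyN : y ∈ N := N.pow_mem hx _
  have hy1 : y ≠ 1 := fun e => hp.ne_one (by rw [← hyo, e, orderOf_one])
  have hpow : ∀ g ∈ N, g ^ p = 1 := by
    intro g hg
    by_cases hg1 : g = 1
    · rw [hg1, one_pow]
    · obtain ⟨c, rfl⟩ := isConj_iff.1 (isConj_of_mem hN h hyN hg hy1 hg1)
      rw [conj_pow, ← hyo, pow_orderOf_eq_one, mul_one, mul_inv_cancel]
  exact ⟨p, hp, fun g => ⟨1, Subtype.ext (by simpa using hpow g g.2)⟩, hpow⟩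

include hN in
theorem comm_of_isPGroup (hG : 2 < Nat.card G) (h : TwoClasses χ) {p : ℕ} [Fact p.Prime]
    (hp : IsPGroup p N) (hN1 : N ≠ ⊥) {a b : G} (ha : a ∈ N) (hb : b ∈ N) : a * b = b * a := by
  haveI : Nontrivial N := N.nontrivial_iff_ne_bot.2 hN1
  haveI := hp.center_nontrivial
  have hne : (Subgroup.center N).map N.subtype ≠ ⊥ := by
    rw [Ne, Subgroup.map_eq_bot_iff_of_injective _ N.subtype_injective]
    exact (Subgroup.nontrivial_iff_ne_bot _).1 inferInstance
  have hle := le_of_normal hN hG h ((Subgroup.center N).map N.subtype) hne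
  obtain ⟨z, hz, rfl⟩ := hle ha
  exact congrArg Subtype.val (Subgroup.mem_center_iff.1 hz ⟨b, hb⟩).symm

include hN in
omit hNn in
/-- The parameter `e` is a power of `p`. -/
theorem e_eq_pow (hN1 : N ≠ ⊥) {p : ℕ} [hpf : Fact p.Prime] (hp : IsPGroup p N) {c e : ℕ}
    (D : Data χ N c e) : ∃ a, e = p ^ a := by
  refine ⟨e.primeFactorsList.length, Nat.eq_prime_pow_of_unique_prime_dvd D.e_pos.ne' ?_⟩
  intro q hq hqe
  by_contra hne
  haveI := Fact.mk hq
  classical
  haveI := Fintype.ofFinite G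
  obtain ⟨x, hx, hx1'⟩ := exists_mem_ne_one hN1
  let C := Subgroup.centralizer ({x} : Set G)
  obtain ⟨Q₀⟩ : Nonempty (Sylow q C) := inferInstance
  let Q : Subgroup G := (Q₀ : Subgroup C).map C.subtype
  have hQC : Q ≤ C := Subgroup.map_subtype_le _
  let H : Subgroup G := Subgroup.normalizer (Q : Set G)
  have hxH : x ∈ H := by
    rw [Subgroup.mem_normalizer_iff]
    intro t
    constructor
    · intro ht
      rwa [(Subgroup.mem_centralizer_singleton_iff.1 (hQC ht)).symm, mul_inv_cancel_right]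
    · intro ht
      have h2 := Subgroup.mem_centralizer_singleton_iff.1 (hQC ht)
      have : x * t * x⁻¹ = t := by
        have h3 : t = x⁻¹ * (x * t * x⁻¹ * x) := by group
        conv_rhs => rw [h3, h2, inv_mul_cancel_left]
      rwa [this] at ht
  have hQcard : Nat.card Q = q ^ (2 * e.factorization q) := by
    rw [show Nat.card Q = Nat.card (Q₀ : Subgroup C) from
      Subgroup.card_map_of_injective C.subtype_injective, Sylow.card_eq_multiplicity,
      D.centralizer x hx hx1']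
    congr 1
    obtain ⟨k, hk⟩ := hp.exists_card_eq
    rw [Nat.factorization_mul Nat.card_pos.ne' (pow_ne_zero _ D.e_pos.ne'), Finsupp.add_apply,
      hk, hpf.out.factorization_pow, Finsupp.single_eq_of_ne' (Ne.symm hne), zero_add,
      Nat.factorization_pow, Finsupp.smul_apply, smul_eq_mul]
  have hQp : IsPGroup q Q := IsPGroup.of_card hQcard
  let QH : Subgroup H := Q.subgroupOf H
  haveI : QH.Normal := (Subgroup.normal_subgroupOf_iff_le_normalizer Subgroup.le_normalizer).2 le_rfl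
  have hav := char_value_isIntegral
    (Average.isCharacter_avg QH (isCharacter_restrict H (irr_isCharacter χ))) ⟨x, hxH⟩
  have hsum : ∑ n : QH, (χ : G → ℂ) ((n : H) * x) = -(e : ℂ) := by
    rw [Fintype.sum_eq_single (1 : QH)]
    · simp [D.value x hx hx1']
    · intro n hn
      by_contra h0
      have hnQ : ((n : H) : G) ∈ Q := n.2
      have hnx : ((n : H) : G) * x ∈ N := (hN _).2 h0
      have hnN : ((n : H) : G) ∈ N := (Subgroup.mul_mem_cancel_right N hx).1 hnx
      obtain ⟨i, hi⟩ := (IsPGroup.iff_orderOf.1 hp) ⟨_, hnN⟩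
      obtain ⟨j, hj⟩ := (IsPGroup.iff_orderOf.1 hQp) ⟨_, hnQ⟩
      rw [← Subgroup.orderOf_coe] at hi hj
      have hco : Nat.Coprime (p ^ i) (q ^ j) :=
        Nat.Coprime.pow _ _ ((Nat.coprime_primes hpf.out hq).2 (Ne.symm hne))
      have h1 : orderOf ((n : H) : G) = 1 := by
        have := hco
        rw [← hi, ← hj] at this
        simpa using this
      exact hn (Subtype.ext (Subtype.ext (orderOf_eq_one_iff.1 h1)))
  have hcardQH : Nat.card QH = q ^ (2 * e.factorization q) := by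
    rw [← hQcard]
    exact Nat.card_congr (Subgroup.subgroupOfEquivOfLe Subgroup.le_normalizer).toEquiv
  have hval : Average.avg QH (fun a : H => (χ : G → ℂ) a) ⟨x, hxH⟩ =
      (Nat.card QH : ℂ)⁻¹ * -(e : ℂ) := by
    rw [← hsum]
    rfl
  rw [hval] at hav
  have hdvd : Nat.card QH ∣ e := dvd_of_natCast_eq_mul hav.neg (by
    rw [mul_neg, mul_inv_cancel_left₀ natCard_ne_zero, neg_neg])
  rw [hcardQH, hq.pow_dvd_iff_le_factorization D.e_pos.ne'] at hdvd
  have := hq.factorization_pos_of_dvd D.e_pos.ne' hqe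
  omega

omit [Finite G] hNn in
theorem not_dvd_c {p : ℕ} [hpf : Fact p.Prime] (hp : IsPGroup p N) (hN1 : N ≠ ⊥) [Finite G]
    {c e : ℕ} (D : Data χ N c e) : ¬ p ∣ c := by
  intro hd
  obtain ⟨k, hk⟩ := hp.exists_card_eq
  have hk0 : k ≠ 0 := by
    rintro rfl
    exact hN1 (Subgroup.eq_bot_of_card_eq N (by simpa using hk))
  have : p ∣ c + 1 := D.card_N ▸ hk ▸ dvd_pow_self p hk0
  exact hpf.out.not_dvd_one ((Nat.dvd_add_right hd).1 this)

include hN in
omit hNn in
theorem exists_card_pow (hN1 : N ≠ ⊥) {p : ℕ} [Fact p.Prime] (hp : IsPGroup p N) {c e : ℕ}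
    (D : Data χ N c e) : ∃ k, Nat.card N * e ^ 2 = p ^ k := by
  obtain ⟨a, ha⟩ := e_eq_pow hN hN1 hp D
  obtain ⟨k, hk⟩ := hp.exists_card_eq
  exact ⟨k + a * 2, by rw [hk, ha, ← pow_mul, ← pow_add]⟩

include hN in
omit hNn in
/-- A subgroup of order `|N| e²` is a Sylow subgroup. -/
theorem exists_sylow_of_card (hN1 : N ≠ ⊥) {p : ℕ} [Fact p.Prime] (hp : IsPGroup p N) {c e : ℕ}
    (D : Data χ N c e) (T : Subgroup G) (hT : Nat.card T = Nat.card N * e ^ 2) :
    ∃ P : Sylow p G, (P : Subgroup G) = T := by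
  obtain ⟨k, hk⟩ := exists_card_pow hN hN1 hp D
  have hi : T.index = c := by
    have := T.index_mul_card
    rw [hT, D.card_G] at this
    exact Nat.eq_of_mul_eq_mul_right (Nat.mul_pos Nat.card_pos (pow_pos D.e_pos 2)) this
  have hTp : IsPGroup p T := IsPGroup.of_card (hT.trans hk)
  exact ⟨hTp.toSylow (hi ▸ not_dvd_c hp hN1 D), rfl⟩

include hN in
omit hNn in
theorem card_sylow (hN1 : N ≠ ⊥) {p : ℕ} [Fact p.Prime] (hp : IsPGroup p N) {c e : ℕ}
    (D : Data χ N c e) (P : Sylow p G) : Nat.card P = Nat.card N * e ^ 2 := by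
  obtain ⟨x, hx, hx1⟩ := exists_mem_ne_one hN1
  obtain ⟨S, hS⟩ := exists_sylow_of_card hN hN1 hp D _ (D.centralizer x hx hx1)
  rw [← D.centralizer x hx hx1, ← hS]
  exact Nat.card_congr (P.equiv S).toEquiv

/-- The inertia group of a function on `N`. -/
def inertia (N : Subgroup G) [N.Normal] (μ : N → ℂ) : Subgroup G where
  carrier := {g | Clifford.conjBy N g μ = μ}
  one_mem' := Clifford.conjBy_one N μ
  mul_mem' {a b} ha hb := by
    simp only [Set.mem_setOf_eq] at *
    have := Clifford.conjBy_conjBy N b a μ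
    funext n
    have h1 := congrFun this n
    simp only [Clifford.conjBy_apply] at *
    have h2 := congrFun hb n
    have h3 := congrFun ha ⟨b * n * b⁻¹, Subgroup.Normal.conj_mem inferInstance (n : G) n.2 b⟩
    simp only [Clifford.conjBy_apply] at h2 h3
    rw [← h2, ← h3]
    congr 1
    exact Subtype.ext (by simp [mul_assoc])
  inv_mem' {a} ha := by
    simp only [Set.mem_setOf_eq] at *
    funext n
    have h3 := congrFun ha ⟨a⁻¹ * n * a⁻¹⁻¹,
      Subgroup.Normal.conj_mem inferInstance (n : G) n.2 a⁻¹⟩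
    simp only [Clifford.conjBy_apply] at h3 ⊢
    rw [← h3]
    congr 1
    exact Subtype.ext (by simp [mul_assoc])

include hN in
/-- Every non-trivial character of `N` has inertia group of order `|N| e²`. -/
theorem card_inertia (hG : 2 < Nat.card G) (h : TwoClasses χ) {p : ℕ} [Fact p.Prime]
    (hp : IsPGroup p N) (hN1 : N ≠ ⊥) {c e : ℕ} (D : Data χ N c e) {μ : N → ℂ}
    (hμ : Cfsg.IsIrrCharacter N μ) (hne : μ ≠ fun _ => (1 : ℂ)) :
    Nat.card (inertia N μ) = Nat.card N * e ^ 2 := by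
  classical
  haveI := Fintype.ofFinite G
  have hμ1 : μ 1 = 1 := irr_degree_one_of_comm
    (fun a b => Subtype.ext (comm_of_isPGroup hN hG h hp hN1 a.2 b.2)) hμ
  have hin : Cfsg.classInner (fun n : N => (χ : G → ℂ) n) μ = (e : ℂ) := by
    have h0 := classInner_isIrr_ne hμ isIrrCharacter_one hne
    rw [classInner_def, mul_eq_zero] at h0
    have h1 : ∑ n : N, μ n = 0 := by
      simpa using h0.resolve_left (inv_ne_zero natCard_ne_zero)
    have hχn : ∀ n : N, (χ : G → ℂ) n =
        (if n = 1 then ((Nat.card N * e : ℕ) : ℂ) else 0) - (e : ℂ) := by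
      intro n
      split_ifs with hn
      · rw [hn, OneMemClass.coe_one, ← charDegree_cast, D.degree, D.card_N]
        push_cast
        ring
      · rw [D.value n n.2 (fun e => hn (Subtype.ext e)), zero_sub]
    rw [classInner_def]
    simp only [hχn, sub_mul, ite_mul, zero_mul, Finset.sum_sub_distrib]
    rw [Finset.sum_ite_eq', if_pos (Finset.mem_univ _), ← Finset.mul_sum, ← map_sum, h1, hμ1,
      map_one, map_zero, mul_zero, mul_one, sub_zero, Nat.cast_mul,
      inv_mul_cancel_left₀ natCard_ne_zero]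
  have hc := Clifford.card_mul_degree N χ.2 hμ (by rw [hin]; exact_mod_cast D.e_pos.ne')
    (inertia N μ) (fun g => Iff.rfl)
  rw [hin, hμ1, mul_one, ← charDegree_cast, D.degree] at hc
  have : Nat.card (inertia N μ) * (c * e) = e * Nat.card G := by exact_mod_cast hc
  rw [D.card_G] at this
  have hpos : 0 < c * e := Nat.mul_pos D.c_pos D.e_pos
  exact Nat.eq_of_mul_eq_mul_right hpos (this.trans (by ring))

end Cfsg.Agent.BlocksChars.Gagola
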