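import Mathlib
import Cfsg.Prelude.Def_Solvable
import Cfsg.Agent.BlocksChars.Gagola
import Cfsg.Agent.Solvable.Basics
import Cfsg.Agent.Lib.Cores.Basic

/-!
Gagola characters: centralizers outside the support, the centre and upper central series of a
Sylow subgroup, and degrees of characters of a Sylow subgroup over the support.
-/

set_option autoImplicit false
set_option linter.style.haveILetI false
set_option linter.unusedSectionVars false

namespace Cfsg.Agent.BlocksChars.GagolaSylow

open Cfsg.Agent.Characters Cfsg.Agent.BlocksChars.Degrees Cfsg.Agent.BlocksChars.Gagola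
open Cfsg.Agent.CharTheory
open scoped ComplexConjugate commutatorElement

universe u

variable {G : Type u} [Group G] [Finite G] {χ : Cfsg.IrrCharacter G}
variable {N : Subgroup G} [hNn : N.Normal] (hN : ∀ g : G, g ∈ N ↔ (χ : G → ℂ) g ≠ 0)

theorem val_eq_zero (hN : ∀ g : G, g ∈ N ↔ (χ : G → ℂ) g ≠ 0) {g : G} (hg : g ∉ N) :
    (χ : G → ℂ) g = 0 :=
  not_not.1 fun h0 => hg ((hN g).2 h0)

include hN in
/-- Outside `N`, the elements of one coset are conjugate. -/
theorem isConj_coset (hG : 2 < Nat.card G) (h : TwoClasses χ) {x : G} (hx : x ∉ N) {n : G}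
    (hn : n ∈ N) : IsConj x (n * x) := by
  refine isConj_of_forall_irr_eq fun ψ => ?_
  by_cases e : ψ = χ
  · rw [e, val_eq_zero hN hx, val_eq_zero hN fun hh => hx ((N.mul_mem_cancel_left hn).1 hh)]
  · rw [char_mul_of_eq_one (irr_isCharacter ψ) (irr_eq_one hG h ((hN n).1 hn) e)]

/-- The preimage of the centralizer of the coset of `x`. -/
noncomputable abbrev preCentralizer (N : Subgroup G) [N.Normal] (x : G) : Subgroup G :=
  (Subgroup.centralizer ({(x : G ⧸ N)} : Set (G ⧸ N))).comap (QuotientGroup.mk' N)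

theorem mem_preCentralizer {x g : G} :
    g ∈ preCentralizer N x ↔ g * x * g⁻¹ * x⁻¹ ∈ N := by
  rw [preCentralizer, Subgroup.mem_comap, Subgroup.mem_centralizer_singleton_iff,
    QuotientGroup.mk'_apply, ← QuotientGroup.eq_one_iff]
  simp only [QuotientGroup.mk_mul, QuotientGroup.mk_inv]
  rw [mul_inv_eq_one, mul_inv_eq_iff_eq_mul]
  try exact ⟨fun e => e.symm, fun e => e.symm⟩

include hN in
theorem card_centralizer_quot (hG : 2 < Nat.card G) (h : TwoClasses χ) {x : G} (hx : x ∉ N) :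
    Nat.card (Subgroup.centralizer ({x} : Set G)) =
      Nat.card (Subgroup.centralizer ({(x : G ⧸ N)} : Set (G ⧸ N))) := by
  classical
  set D := preCentralizer N x with hD
  have hex : ∀ n : N, ∃ g : D, (g : G) * x * (g : G)⁻¹ = n * x := by
    intro n
    obtain ⟨g, hg⟩ := isConj_iff.1 (isConj_coset hN hG h hx n.2)
    refine ⟨⟨g, mem_preCentralizer.2 ?_⟩, hg⟩
    rw [hg, mul_inv_cancel_right]
    exact n.2
  choose s hs using hex
  have e : D ≃ N × Subgroup.centralizer ({x} : Set G) :=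
    { toFun := fun g =>
        (⟨(g : G) * x * (g : G)⁻¹ * x⁻¹, mem_preCentralizer.1 g.2⟩,
          ⟨((s ⟨(g : G) * x * (g : G)⁻¹ * x⁻¹, mem_preCentralizer.1 g.2⟩ : D) : G)⁻¹ * g, by
            rw [Subgroup.mem_centralizer_singleton_iff]
            have := hs ⟨(g : G) * x * (g : G)⁻¹ * x⁻¹, mem_preCentralizer.1 g.2⟩
            simp only [inv_mul_cancel_right] at this
            generalize ((s _ : D) : G) = a at this ⊢
            have h2 : a⁻¹ * ((g : G) * x * (g : G)⁻¹) * a = x := by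
              rw [← this]; group
            calc a⁻¹ * g * x = a⁻¹ * ((g : G) * x * (g : G)⁻¹) * a * (a⁻¹ * g) := by group
              _ = x * (a⁻¹ * g) := by rw [h2]⟩)
      invFun := fun p => ⟨(s p.1 : G) * p.2, mem_preCentralizer.2 (by
        have h2 := Subgroup.mem_centralizer_singleton_iff.1 p.2.2
        have : ((s p.1 : G) * p.2) * x * ((s p.1 : G) * p.2)⁻¹ = p.1 * x := by
          rw [← hs p.1, mul_assoc (s p.1 : G), h2]; group
        rw [this, mul_inv_cancel_right]
        exact p.1.2)⟩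
      left_inv := fun g => Subtype.ext (by simp)
      right_inv := fun p => by
        have h2 := Subgroup.mem_centralizer_singleton_iff.1 p.2.2
        have h3 : ((s p.1 : G) * p.2) * x * ((s p.1 : G) * p.2)⁻¹ * x⁻¹ = p.1 := by
          rw [mul_inv_eq_iff_eq_mul, ← hs p.1, mul_assoc (s p.1 : G), h2]; group
        have h4 : (⟨((s p.1 : G) * p.2) * x * ((s p.1 : G) * p.2)⁻¹ * x⁻¹, h3 ▸ p.1.2⟩ : N)
            = p.1 := Subtype.ext h3
        refine Prod.ext h4 (Subtype.ext ?_)
        show ((s ⟨((s p.1 : G) * p.2) * x * ((s p.1 : G) * p.2)⁻¹ * x⁻¹, _⟩ : D) : G)⁻¹ *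
          ((s p.1 : G) * p.2) = p.2
        rw [show (⟨((s p.1 : G) * p.2) * x * ((s p.1 : G) * p.2)⁻¹ * x⁻¹, h3 ▸ p.1.2⟩ : N)
            = p.1 from h4, inv_mul_cancel_left] }
  have h1 := Nat.card_congr e
  rw [Nat.card_prod, Cfsg.Agent.Cores.card_comap_mk' N] at h1
  exact Nat.eq_of_mul_eq_mul_left Nat.card_pos (h1.symm.trans (by ring))

include hN in
/-- The centre of a Sylow subgroup lies in `N`. -/
theorem center_sylow_le (hG : 2 < Nat.card G) (h : TwoClasses χ) {p : ℕ} [hpf : Fact p.Prime]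
    (hp : IsPGroup p N) (hN1 : N ≠ ⊥) (P : Sylow p G) :
    (Subgroup.center ↥(P : Subgroup G)).map (P : Subgroup G).subtype ≤ N := by
  rintro _ ⟨z, hz, rfl⟩
  show (z : G) ∈ N
  by_contra hzN
  have hle : (P : Subgroup G) ≤ Subgroup.centralizer ({(z : G)} : Set G) := fun g hg =>
    Subgroup.mem_centralizer_singleton_iff.2
      (congrArg Subtype.val (Subgroup.mem_center_iff.1 hz ⟨g, hg⟩))
  have h1 : Nat.card (P : Subgroup G) ∣ Nat.card (G ⧸ N) := by
    refine (Subgroup.card_dvd_of_le hle).trans ?_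
    rw [card_centralizer_quot hN hG h hzN]
    exact Subgroup.card_subgroup_dvd_card _
  obtain ⟨k, hk⟩ := hp.exists_card_eq
  have hk0 : k ≠ 0 := by
    rintro rfl
    exact hN1 (Subgroup.eq_bot_of_card_eq N (by simpa using hk))
  have h2 : Nat.card (P : Subgroup G) * p ∣ Nat.card G := by
    rw [Subgroup.card_eq_card_quotient_mul_card_subgroup N, hk]
    exact mul_dvd_mul h1 (dvd_pow_self p hk0)
  rw [Sylow.card_eq_multiplicity, ← pow_succ,
    hpf.out.pow_dvd_iff_le_factorization Nat.card_pos.ne'] at h2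
  omega

include hN in
theorem center_sylow_eq_iff (hG : 2 < Nat.card G) (h : TwoClasses χ) {p : ℕ} [hpf : Fact p.Prime]
    (hp : IsPGroup p N) (hN1 : N ≠ ⊥) (P : Sylow p G) :
    (Subgroup.center ↥(P : Subgroup G)).map (P : Subgroup G).subtype = N ↔
      (P : Subgroup G).Normal := by
  obtain ⟨c, e, D⟩ := exists_data hN hG h
  have hNP : N ≤ (P : Subgroup G) := hp.le_sylow_of_normal P
  constructor
  · intro heq
    have hall : ∀ x ∈ N, x ≠ (1 : G) →
        Subgroup.centralizer ({x} : Set G) = (P : Subgroup G) := by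
      intro x hx hx1
      refine (Subgroup.eq_of_le_of_card_ge ?_ ?_).symm
      · intro g hg
        rw [← heq] at hx
        obtain ⟨z, hz, rfl⟩ := hx
        exact Subgroup.mem_centralizer_singleton_iff.2
          (congrArg Subtype.val (Subgroup.mem_center_iff.1 hz ⟨g, hg⟩))
      · rw [D.centralizer x hx hx1]
        exact (card_sylow hN hN1 hp D P).ge
    have hC : Subgroup.centralizer (N : Set G) = (P : Subgroup G) := by
      refine le_antisymm ?_ fun g hg => Subgroup.mem_centralizer_iff.2 fun x hx => ?_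
      · obtain ⟨x, hx, hx1⟩ := exists_mem_ne_one hN1
        rw [← hall x hx hx1]
        exact Subgroup.centralizer_le (Set.singleton_subset_iff.2 hx)
      · by_cases hx1 : x = 1
        · simp [hx1]
        · rw [← hall x hx hx1] at hg
          exact (Subgroup.mem_centralizer_singleton_iff.1 hg).symm
    rw [← hC]
    infer_instance
  · intro hP
    refine le_antisymm (center_sylow_le hN hG h hp hN1 P) fun x hx => ?_
    refine ⟨⟨x, hNP hx⟩, Subgroup.mem_center_iff.2 fun g => Subtype.ext ?_, rfl⟩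
    by_cases hx1 : x = 1
    · simp [hx1]
    obtain ⟨S, hS⟩ := exists_sylow_of_card hN hN1 hp D _ (D.centralizer x hx hx1)
    haveI := Sylow.unique_of_normal P hP
    have hgS : (g : G) ∈ (S : Subgroup G) := by
      rw [Subsingleton.elim S P]; exact g.2
    rw [hS] at hgS
    exact Subgroup.mem_centralizer_singleton_iff.1 hgS

include hN in
/-- A character of a subgroup over the support induces to a multiple of `χ`. -/
theorem index_mul_degree (hG : 2 < Nat.card G) (h : TwoClasses χ) {c e : ℕ} (D : Data χ N c e)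
    (P : Subgroup G) (ψ : Cfsg.IrrCharacter P)
    (hψ : ∃ n : P, (n : G) ∈ N ∧ (ψ : P → ℂ) n ≠ (ψ : P → ℂ) 1) :
    ∃ k : ℕ, P.index * Cfsg.charDegree (ψ : P → ℂ) = k * (c * e) := by
  classical
  haveI := Fintype.ofFinite G
  haveI := Fintype.ofFinite (Cfsg.IrrCharacter G)
  obtain ⟨n0, hn0, hne⟩ := hψ
  let K : Subgroup P := N.subgroupOf P
  have havg : Average.avg K (ψ : P → ℂ) = 0 := by
    refine (Average.avg_irr K ψ.2).resolve_left fun he => hne ?_
    have := Average.avg_mul_left K (ψ : P → ℂ) ⟨n0, hn0⟩ 1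
    rw [he] at this
    simpa using this
  have hzero : ∀ φ : Cfsg.IrrCharacter G, φ ≠ χ →
      Cfsg.classInner (Cfsg.indFun P (ψ : P → ℂ)) (φ : G → ℂ) = 0 := by
    intro φ hφ
    rw [frobenius_reciprocity P _ (irr_isClassFunction φ), classInner_def]
    have h1 := Average.sum_avg_mul K (ψ : P → ℂ) (fun g : P => conj ((φ : G → ℂ) g))
      (fun n g => by
        show conj ((φ : G → ℂ) (((n : P) : G) * g)) = _
        rw [char_mul_of_eq_one (irr_isCharacter φ) (irr_eq_one hG h ((hN ((n : P) : G)).1 n.2) hφ)])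
    rw [← h1, Finset.sum_eq_zero fun g _ => by rw [havg, Pi.zero_apply, zero_mul], mul_zero]
  have hind := isCharacter_indFun P (irr_isCharacter ψ)
  obtain ⟨k, hk⟩ := classInner_char_nat hind (irr_isCharacter χ)
  refine ⟨k, ?_⟩
  have h2 := congrFun (classFun_eq_sum (char_isClassFunction hind)) 1
  rw [Finset.sum_apply, Finset.sum_eq_single χ (fun φ _ hφ => by
    rw [Pi.smul_apply, hzero φ hφ, zero_smul]) (fun hh => (hh (Finset.mem_univ _)).elim),
    Pi.smul_apply, hk, smul_eq_mul, indFun_one, ← charDegree_cast ψ, ← charDegree_cast χ,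
    D.degree] at h2
  exact_mod_cast h2

/-- An element that is central modulo the kernel has value of modulus the degree. -/
theorem mul_inv_of_central {P : Type u} [Group P] [Finite P] (ψ : Cfsg.IrrCharacter P) (w : P)
    (hw : ∀ g : P, (ψ : P → ℂ) ⁅w⁻¹, g⁆ = (ψ : P → ℂ) 1) :
    ‖(ψ : P → ℂ) w‖ = (Cfsg.charDegree (ψ : P → ℂ) : ℝ) := by
  haveI := Fintype.ofFinite P
  have h1 := sum_mul_conjugates ψ.2 w⁻¹ w
  rw [Finset.sum_congr rfl (g := fun _ => (ψ : P → ℂ) 1) (fun g _ => by
      rw [← hw g, commutatorElement_def, inv_inv]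
      congr 1
      group), Finset.sum_const, Finset.card_univ, nsmul_eq_mul, ← Nat.card_eq_fintype_card,
    char_inv (irr_isCharacter ψ), eq_div_iff (irr_one_ne_zero ψ.2), mul_assoc, mul_assoc] at h1
  have h2 := mul_left_cancel₀ natCard_ne_zero h1
  rw [mul_comm (conj _), Complex.mul_conj', ← charDegree_cast ψ] at h2
  have h3 : (‖(ψ : P → ℂ) w‖ : ℝ) ^ 2 = (Cfsg.charDegree (ψ : P → ℂ) : ℝ) ^ 2 := by
    have : ((‖(ψ : P → ℂ) w‖ ^ 2 : ℝ) : ℂ) =
        (((Cfsg.charDegree (ψ : P → ℂ) : ℝ) ^ 2 : ℝ) : ℂ) := by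
      push_cast
      rw [sq, sq]
      linear_combination -h2
    exact_mod_cast this
  exact (sq_eq_sq₀ (norm_nonneg _) (Nat.cast_nonneg _)).1 h3

include hN in
/-- `N` is a term of the upper central series of a Sylow subgroup. -/
theorem exists_upperCentralSeries (hG : 2 < Nat.card G) (h : TwoClasses χ) {p : ℕ}
    [hpf : Fact p.Prime] (hp : IsPGroup p N) (hN1 : N ≠ ⊥) (P : Sylow p G) :
    ∃ i : ℕ, Subgroup.upperCentralSeries ↥(P : Subgroup G) i =
      N.subgroupOf (P : Subgroup G) := by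
  classical
  obtain ⟨c, e, D⟩ := exists_data hN hG h
  have hNP : N ≤ (P : Subgroup G) := hp.le_sylow_of_normal P
  have hPcard := card_sylow hN hN1 hp D P
  have hPindex : (P : Subgroup G).index = c := by
    have := (P : Subgroup G).index_mul_card
    rw [hPcard, D.card_G] at this
    exact Nat.eq_of_mul_eq_mul_right (Nat.mul_pos Nat.card_pos (pow_pos D.e_pos 2)) this
  set N' : Subgroup ↥(P : Subgroup G) := N.subgroupOf (P : Subgroup G) with hN'
  haveI : Group.IsNilpotent ↥(P : Subgroup G) := P.isPGroup'.isNilpotent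
  by_contra hno
  push Not at hno
  suffices hall : ∀ i, Subgroup.upperCentralSeries ↥(P : Subgroup G) i ≤ N' by
    obtain ⟨n, hn⟩ := Group.IsNilpotent.nilpotent (G := ↥(P : Subgroup G))
    exact hno n (hn.trans (top_le_iff.1 (hn ▸ hall n)).symm)
  intro i
  induction i with
  | zero => simp
  | succ i ih =>
    intro w hw
    by_contra hwN
    set A := Subgroup.upperCentralSeries ↥(P : Subgroup G) i with hA
    obtain ⟨M, hAM, ⟨hMn, hMle, hMne⟩, hmax⟩ := Set.Finite.exists_le_maximal
      (Set.toFinite {M : Subgroup ↥(P : Subgroup G) | M.Normal ∧ M ≤ N' ∧ M ≠ N'}) (a := A)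
      ⟨inferInstance, ih, hno i⟩
    haveI := hMn
    let q := QuotientGroup.mk' M
    let Z : Subgroup ↥(P : Subgroup G) := N' ⊓ (Subgroup.center _).comap q
    have hMZ : M ≤ Z := le_inf hMle fun m hm => by
      simp [q, Subgroup.mem_comap, (QuotientGroup.eq_one_iff m).2 hm, Subgroup.one_mem]
    have hZeq : Z = N' := by
      by_contra hne
      have hZM : Z ≤ M := hmax ⟨inferInstance, inf_le_left, hne⟩ hMZ
      have hne' : N'.map q ≠ ⊥ := by
        rw [Ne, Subgroup.map_eq_bot_iff, QuotientGroup.ker_mk']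
        exact fun hle => hMne (le_antisymm hMle hle)
      haveI : (N'.map q).Normal :=
        Subgroup.Normal.map inferInstance q (QuotientGroup.mk'_surjective M)
      refine Solvable.Basics.inf_center_ne_bot hne' ((Subgroup.eq_bot_iff_forall _).2 ?_)
      rintro z ⟨⟨y, hy, rfl⟩, hz⟩
      exact (QuotientGroup.eq_one_iff y).2 (hZM ⟨hy, hz⟩)
    obtain ⟨n0, hn0, hn0M⟩ := SetLike.exists_of_lt (lt_of_le_of_ne hMle hMne)
    obtain ⟨η, hη, hηne⟩ := exists_irr_ne (g := q n0) fun e =>
      hn0M ((QuotientGroup.eq_one_iff n0).1 e)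
    let ψ : Cfsg.IrrCharacter ↥(P : Subgroup G) :=
      ⟨η ∘ q, isIrrCharacter_comp_surjective _ (QuotientGroup.mk'_surjective M) hη⟩
    have hker : ∀ a ∈ M, (ψ : ↥(P : Subgroup G) → ℂ) a = (ψ : ↥(P : Subgroup G) → ℂ) 1 := by
      intro a ha
      simp [ψ, q, (QuotientGroup.eq_one_iff a).2 ha]
    obtain ⟨k, hk⟩ := index_mul_degree hN hG h D (P : Subgroup G) ψ
      ⟨n0, hn0, by simpa [ψ] using hηne⟩
    rw [hPindex, mul_left_comm] at hk
    have hdeg : Cfsg.charDegree (ψ : ↥(P : Subgroup G) → ℂ) = k * e :=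
      Nat.eq_of_mul_eq_mul_left D.c_pos hk
    have hnormN : ∀ n ∈ N', ‖(ψ : ↥(P : Subgroup G) → ℂ) n‖ =
        (Cfsg.charDegree (ψ : ↥(P : Subgroup G) → ℂ) : ℝ) := by
      intro n hn
      refine mul_inv_of_central ψ n fun g => hker _ ?_
      have hz : q n⁻¹ ∈ Subgroup.center _ := (hZeq.symm ▸ N'.inv_mem hn : n⁻¹ ∈ Z).2
      refine (QuotientGroup.eq_one_iff _).1 ?_
      show q ⁅n⁻¹, g⁆ = 1
      rw [map_commutatorElement, commutatorElement_eq_one_iff_mul_comm,
        Subgroup.mem_center_iff.1 hz (q g)]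
    have hnormw : ‖(ψ : ↥(P : Subgroup G) → ℂ) w‖ =
        (Cfsg.charDegree (ψ : ↥(P : Subgroup G) → ℂ) : ℝ) :=
      mul_inv_of_central ψ w fun g => hker _ (hAM
        (Subgroup.mem_upperCentralSeries_succ_iff.1 (Subgroup.inv_mem _ hw) g))
    haveI := Fintype.ofFinite ↥(P : Subgroup G)
    have htot : ∑ g : ↥(P : Subgroup G), ‖(ψ : ↥(P : Subgroup G) → ℂ) g‖ ^ 2 =
        (Nat.card (P : Subgroup G) : ℝ) := by
      have h1 := classInner_isIrr_self ψ.2
      rw [classInner_def, inv_mul_eq_iff_eq_mul₀ natCard_ne_zero, mul_one] at h1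
      simp only [Complex.mul_conj'] at h1
      exact_mod_cast h1
    set S : Finset ↥(P : Subgroup G) :=
      insert w (Finset.univ.filter fun g => g ∈ N') with hS
    have hScard : S.card = Nat.card N + 1 := by
      rw [hS, Finset.card_insert_of_notMem (by simp [hwN]), ← Fintype.card_subtype,
        ← Nat.card_eq_fintype_card]
      exact congrArg (· + 1) (Nat.card_congr (Subgroup.subgroupOfEquivOfLe hNP).toEquiv)
    have hle : ∑ g ∈ S, ‖(ψ : ↥(P : Subgroup G) → ℂ) g‖ ^ 2 ≤
        (Nat.card (P : Subgroup G) : ℝ) :=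
      htot ▸ Finset.sum_le_sum_of_subset_of_nonneg (Finset.subset_univ S)
        (fun _ _ _ => sq_nonneg _)
    rw [Finset.sum_congr rfl (g := fun _ =>
        ((Cfsg.charDegree (ψ : ↥(P : Subgroup G) → ℂ) : ℝ)) ^ 2) (fun g hg => by
        rw [hS, Finset.mem_insert, Finset.mem_filter] at hg
        rcases hg with rfl | ⟨-, hg⟩
        · rw [hnormw]
        · rw [hnormN g hg]),
      Finset.sum_const, hScard, nsmul_eq_mul, hPcard, hdeg] at hle
    have hle' : (Nat.card N + 1) * (k * e) ^ 2 ≤ Nat.card N * e ^ 2 := by exact_mod_cast hle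
    have hd := charDegree_pos ψ
    rw [hdeg] at hd
    have he2 : e ^ 2 ≤ (k * e) ^ 2 :=
      Nat.pow_le_pow_left (Nat.le_mul_of_pos_left e (Nat.pos_of_mul_pos_right hd)) 2
    have := pow_pos D.e_pos 2
    nlinarith

end Cfsg.Agent.BlocksChars.GagolaSylow
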