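import Mathlib
import Cfsg.Prelude.Def_Solvable
import Cfsg.Agent.BlocksChars.GagolaSylow
import Cfsg.Agent.Lib.Cores.Basic
import Cfsg.Agent.Lib.Characters.Frobenius
import Cfsg.Agent.Lib.Involutions.BaerSuzuki

/-!
Gagola characters with support equal to the `p`-core: the group is a doubly transitive
Frobenius group.
-/

set_option autoImplicit false
set_option linter.style.haveILetI false
set_option linter.unusedSectionVars false

namespace Cfsg.Agent.BlocksChars.GagolaFrobenius

open Cfsg.Agent.Characters Cfsg.Agent.BlocksChars.Degrees Cfsg.Agent.BlocksChars.Gagola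
open Cfsg.Agent.BlocksChars.GagolaSylow
open scoped Pointwise

universe u v

/-- A fixed point free map of odd period on an elementary abelian 2-group, inverted by `τ`:
every fixed point of `τ` has the form `n τ(n)`. -/
theorem exists_eq_mul_apply {M : Type v} [CommGroup M] (h2 : ∀ a : M, a * a = 1) (σ τ : M →* M)
    {r : ℕ} (hper : ∀ a, σ^[2 * r + 1] a = a) (hfix : ∀ a, σ a = a → a = 1)
    (hinv : ∀ a, σ (τ (σ a)) = τ a) {w : M} (hw : τ w = w) : ∃ n, w = n * τ n := by
  have hcomm : ∀ i a, σ^[i] (τ (σ^[i] a)) = τ a := by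
    intro i
    induction i with
    | zero => intro a; rfl
    | succ i ih =>
      intro a
      rw [Function.iterate_succ_apply' σ i a, Function.iterate_succ_apply σ i, hinv, ih]
  have hinj : ∀ {i : ℕ}, i ≤ 2 * r + 1 → Function.Injective (σ^[i]) := by
    intro i hi a b hab
    have := congrArg (σ^[2 * r + 1 - i]) hab
    rwa [← Function.iterate_add_apply, ← Function.iterate_add_apply, Nat.sub_add_cancel hi,
      hper, hper] at this
  have hτ : ∀ i ≤ 2 * r + 1, τ (σ^[i] w) = σ^[2 * r + 1 - i] w := by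
    intro i hi
    apply hinj hi
    rw [hcomm, hw, ← Function.iterate_add_apply, Nat.add_sub_cancel' hi, hper]
  set f : ℕ → M := fun i => σ^[i] w with hf
  have hT : ∏ i ∈ Finset.range (2 * r + 1), f i = 1 := by
    apply hfix
    rw [map_prod]
    have h1 : ∀ i, σ (f i) = f (i + 1) := fun i => (Function.iterate_succ_apply' σ i w).symm
    simp only [h1]
    rw [Finset.prod_range_succ (fun i => f (i + 1)), Finset.prod_range_succ' f,
      show f (2 * r + 1) = f 0 from hper w]
  refine ⟨∏ i ∈ Finset.range r, f (i + 1), ?_⟩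
  rw [Finset.prod_range_succ', show 2 * r = r + r by omega, Finset.prod_range_add,
    show f 0 = w from rfl] at hT
  have htn : τ (∏ i ∈ Finset.range r, f (i + 1)) = ∏ i ∈ Finset.range r, f (r + i + 1) := by
    rw [map_prod, ← Finset.prod_range_reflect (fun i => f (r + i + 1)) r]
    refine Finset.prod_congr rfl fun i hi => ?_
    rw [Finset.mem_range] at hi
    rw [show f (i + 1) = σ^[i + 1] w from rfl, hτ _ (by omega)]
    show _ = σ^[r + (r - 1 - i) + 1] w
    congr 2
    omega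
  rw [htn]
  calc w = w * (((∏ i ∈ Finset.range r, f (i + 1)) * ∏ i ∈ Finset.range r, f (r + i + 1)) *
        ((∏ i ∈ Finset.range r, f (i + 1)) * ∏ i ∈ Finset.range r, f (r + i + 1))) := by
        rw [h2, mul_one]
    _ = ((∏ i ∈ Finset.range r, f (i + 1)) * ∏ i ∈ Finset.range r, f (r + i + 1)) *
        (((∏ i ∈ Finset.range r, f (i + 1)) * ∏ i ∈ Finset.range r, f (r + i + 1)) * w) := by
        ac_rfl
    _ = _ := by rw [hT, mul_one]

variable {G : Type u} [Group G] [Finite G] {χ : Cfsg.IrrCharacter G}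
variable {N : Subgroup G} [hNn : N.Normal] (hN : ∀ g : G, g ∈ N ↔ (χ : G → ℂ) g ≠ 0)
variable {p : ℕ} [hpf : Fact p.Prime]

include hN in
theorem centralizer_eq (hG : 2 < Nat.card G) (h : TwoClasses χ) (hp : IsPGroup p N)
    (hN1 : N ≠ ⊥) {c e : ℕ} (D : Data χ N c e) (hcore : N = Cfsg.pCore p G) :
    Subgroup.centralizer (N : Set G) = N := by
  refine le_antisymm ?_ fun a ha => Subgroup.mem_centralizer_iff.2 fun b hb =>
    (comm_of_isPGroup hN hG h hp hN1 ha hb).symm
  obtain ⟨x, hx, hx1⟩ := exists_mem_ne_one hN1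
  obtain ⟨k, hk⟩ := exists_card_pow hN hN1 hp D
  have hC : IsPGroup p (Subgroup.centralizer ({x} : Set G)) :=
    IsPGroup.of_card ((D.centralizer x hx hx1).trans hk)
  calc Subgroup.centralizer (N : Set G) ≤ Cfsg.pCore p G :=
      Cfsg.Agent.Cores.le_pCore (hC.to_le
        (Subgroup.centralizer_le (Set.singleton_subset_iff.2 hx)))
    _ = N := hcore.symm

include hN in
/-- An element of prime order `q ≠ p` centralizes no non-identity element of `N`. -/
theorem eq_one_of_commute (hN1 : N ≠ ⊥) (hp : IsPGroup p N) {c e : ℕ} (D : Data χ N c e)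
    {k u : G} (hk : k ∈ N) (hu : u * k = k * u) {q : ℕ} (hq : q.Prime) (hqp : q ≠ p)
    (hqu : q ∣ orderOf u) : k = 1 := by
  by_contra hk1
  obtain ⟨j, hj⟩ := exists_card_pow hN hN1 hp D
  have hdvd : orderOf u ∣ p ^ j := by
    rw [← hj, ← D.centralizer k hk hk1]
    exact Subgroup.orderOf_dvd_natCard _ (Subgroup.mem_centralizer_singleton_iff.2 hu)
  exact hqp ((Nat.prime_dvd_prime_iff_eq hq hpf.out).1 (hq.dvd_of_dvd_pow (hqu.trans hdvd)))

include hN in
theorem e_eq_one_odd (hG : 2 < Nat.card G) (h : TwoClasses χ) (hp : IsPGroup p N) (hN1 : N ≠ ⊥)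
    {c e : ℕ} (D : Data χ N c e) (hcore : N = Cfsg.pCore p G) (hp2 : p ≠ 2) : e = 1 := by
  classical
  haveI := Fintype.ofFinite G
  have hcomm : ∀ {a b : G}, a ∈ N → b ∈ N → a * b = b * a :=
    fun ha hb => comm_of_isPGroup hN hG h hp hN1 ha hb
  have hCN := centralizer_eq hN hG h hp hN1 D hcore
  have hpodd : Odd p := hpf.out.odd_of_ne_two hp2
  obtain ⟨k, hk⟩ := hp.exists_card_eq
  obtain ⟨_, _, _, hpow⟩ := exists_prime_exponent hN hN1 h
  have heven : 2 ∣ Nat.card G := by
    have ho : Odd (Nat.card N) := hk ▸ hpodd.pow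
    rw [D.card_N, Nat.odd_add_one, Nat.not_odd_iff_even] at ho
    exact dvd_trans ho.two_dvd ⟨_, D.card_G⟩
  haveI : Fact (Nat.Prime 2) := ⟨Nat.prime_two⟩
  obtain ⟨j, hj⟩ := exists_prime_orderOf_dvd_card' 2 heven
  have hjj : j * j = 1 := by rw [← pow_two, ← hj, pow_orderOf_eq_one]
  have hjinv : j⁻¹ = j := inv_eq_of_mul_eq_one_right hjj
  have hfix : ∀ {n : G}, n ∈ N → j * n = n * j → n = 1 := fun hn hcom =>
    eq_one_of_commute hN hN1 hp D hn hcom Nat.prime_two (Ne.symm hp2) (hj ▸ dvd_rfl)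
  have hinv : ∀ {n : G}, n ∈ N → j * n * j = n⁻¹ := by
    intro n hn
    have hn' : j * n * j ∈ N := by
      have := hNn.conj_mem n hn j
      rwa [hjinv] at this
    have h1 : n * (j * n * j) = 1 := by
      refine hfix (N.mul_mem hn hn') ?_
      rw [show j * (n * (j * n * j)) = j * n * j * n * j by group, hcomm hn' hn]
    exact (eq_inv_of_mul_eq_one_right h1)
  have hexp : ∀ {n : G}, n ∈ N → n ^ p = 1 := by
    obtain ⟨q, hq, _, hpq⟩ := exists_prime_exponent hN hN1 h
    obtain ⟨x, hx, hx1⟩ := exists_mem_ne_one hN1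
    haveI := Fact.mk hq
    have hxo : orderOf x = q := orderOf_eq_prime (hpq x hx) hx1
    obtain ⟨i, hi⟩ := IsPGroup.iff_orderOf.1 hp ⟨x, hx⟩
    rw [← Subgroup.orderOf_coe, hxo] at hi
    have hqp : q = p := (Nat.prime_dvd_prime_iff_eq hq hpf.out).1
      (hq.dvd_of_dvd_pow (dvd_of_eq hi))
    intro n hn
    exact hqp ▸ hpq _ hn
  have hsplit : ∀ g : G, ∃ n ∈ N, n⁻¹ * g * j = j * (n⁻¹ * g) := by
    intro g
    have ht : j * (g * j * g⁻¹) ∈ N := by
      rw [← hCN, Subgroup.mem_centralizer_iff]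
      intro a ha
      have ha' : g⁻¹ * a * g ∈ N := by simpa using hNn.conj_mem a ha g⁻¹
      have h1 : g * j * g⁻¹ * a * (g * j * g⁻¹) = a⁻¹ := by
        rw [show g * j * g⁻¹ * a * (g * j * g⁻¹) = g * (j * (g⁻¹ * a * g) * j) * g⁻¹ by group,
          hinv ha']
        group
      have h2 : g * j * g⁻¹ * (g * j * g⁻¹) = 1 := by
        rw [show g * j * g⁻¹ * (g * j * g⁻¹) = g * (j * j) * g⁻¹ by group, hjj, mul_one,
          mul_inv_cancel]
      symm
      calc j * (g * j * g⁻¹) * a = j * (g * j * g⁻¹) * a *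
            ((g * j * g⁻¹) * (g * j * g⁻¹)) := by rw [h2, mul_one]
        _ = j * (g * j * g⁻¹ * a * (g * j * g⁻¹)) * (g * j * g⁻¹) := by group
        _ = j * a⁻¹ * (1 * (g * j * g⁻¹)) := by rw [h1, one_mul]
        _ = j * a⁻¹ * j * (j * (g * j * g⁻¹)) := by rw [← hjj]; group
        _ = _ := by rw [hinv (N.inv_mem ha), inv_inv]
    set t := j * (g * j * g⁻¹) with htdef
    set k := t ^ ((p + 1) / 2) with hkdef
    have hkN : k ∈ N := N.pow_mem ht _
    have hkk : k * k = t := by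
      obtain ⟨i, hi⟩ := hpodd
      rw [hkdef, ← pow_add, show (p + 1) / 2 + (p + 1) / 2 = p + 1 by omega, pow_succ, hexp ht,
        one_mul]
    refine ⟨k⁻¹, N.inv_mem hkN, ?_⟩
    rw [inv_inv]
    calc k * g * j = k * (j * j) * (g * j * g⁻¹) * g := by rw [hjj, mul_one]; group
      _ = k * j * t * g := by rw [htdef]; group
      _ = k * j * (k * k) * g := by rw [hkk]
      _ = 1 * (k * j * k) * (k * g) := by group
      _ = j * (j * k * j) * k * (k * g) := by rw [← hjj]; group
      _ = j * (k * g) := by rw [hinv hkN, inv_mul_cancel_right]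
  choose ν hνN hνj using hsplit
  have huniq : ∀ g n : G, n ∈ N → n⁻¹ * g * j = j * (n⁻¹ * g) → ν g = n := by
    intro g n hn hnj
    have h1 : (ν g)⁻¹ * n = 1 := by
      refine hfix (N.mul_mem (N.inv_mem (hνN g)) hn) ?_
      calc j * ((ν g)⁻¹ * n) = j * ((ν g)⁻¹ * g) * (n⁻¹ * g)⁻¹ := by group
        _ = (ν g)⁻¹ * g * ((n⁻¹ * g)⁻¹ * (n⁻¹ * g * j)) * (n⁻¹ * g)⁻¹ := by
          rw [← hνj g]; group
        _ = (ν g)⁻¹ * n * j := by rw [hnj]; group
    exact inv_mul_eq_one.1 h1
  obtain ⟨x, hx, hx1⟩ := exists_mem_ne_one hN1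
  obtain ⟨lam, hlam, hlne⟩ := exists_irr_ne (g := (⟨x, hx⟩ : N)) fun e => hx1 (congrArg Subtype.val e)
  have hl1 : lam 1 = 1 := irr_degree_one_of_comm (fun a b => Subtype.ext (hcomm a.2 b.2)) hlam
  have hlmul := char_mul_of_degree_one (isCharacter_of_isIrr hlam) hl1
  set T := inertia N lam with hT
  have hTcard : Nat.card T = Nat.card N * e ^ 2 :=
    card_inertia hN hG h hp hN1 D hlam fun e' => hlne (by rw [e'])
  have hTindex : T.index = c := by
    have := T.index_mul_card
    rw [hTcard, D.card_G] at this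
    exact Nat.eq_of_mul_eq_mul_right (Nat.mul_pos Nat.card_pos (pow_pos D.e_pos 2)) this
  have hNT : N ≤ T := by
    intro a ha
    show CharTheory.Clifford.conjBy N a lam = lam
    funext n
    rw [CharTheory.Clifford.conjBy_apply]
    congr 1
    exact Subtype.ext (by show a * n * a⁻¹ = n; rw [hcomm ha n.2, mul_inv_cancel_right])
  have hν1 : ∀ n ∈ N, ν n = n := fun n hn => huniq n n hn (by simp)
  let μ : T →* ℂ :=
    { toFun := fun g => lam ⟨ν g, hνN g⟩
      map_one' := by
        rw [show (⟨ν ((1 : T) : G), hνN _⟩ : N) = 1 from Subtype.ext (hν1 1 N.one_mem), hl1]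
      map_mul' := fun a b => by
        set u := (ν (a : G))⁻¹ * (a : G) with hu
        have huT : u ∈ T := T.mul_mem (T.inv_mem (hNT (hνN _))) a.2
        have hub : u * ν (b : G) * u⁻¹ ∈ N := hNn.conj_mem _ (hνN _) u
        have hab : ν ((a * b : T) : G) = ν (a : G) * (u * ν (b : G) * u⁻¹) := by
          refine huniq _ _ (N.mul_mem (hνN _) hub) ?_
          rw [show (ν (a : G) * (u * ν (b : G) * u⁻¹))⁻¹ * ((a * b : T) : G) =
            u * ((ν (b : G))⁻¹ * (b : G)) by rw [hu, Subgroup.coe_mul]; group]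
          rw [mul_assoc, hνj, ← mul_assoc, show u * j = j * u from hνj (a : G), mul_assoc]
        show lam ⟨ν ((a * b : T) : G), hνN _⟩ = lam ⟨_, hνN _⟩ * lam ⟨_, hνN _⟩
        rw [show (⟨ν ((a * b : T) : G), hνN _⟩ : N) =
          ⟨ν (a : G), hνN _⟩ * ⟨u * ν (b : G) * u⁻¹, hub⟩ from Subtype.ext hab, hlmul]
        congr 1
        exact congrFun (show CharTheory.Clifford.conjBy N u lam = lam from huT) ⟨_, hνN _⟩ }
  obtain ⟨k', hk'⟩ := index_mul_degree hN hG h D T
    ⟨μ, isIrrCharacter_monoidHom μ⟩ ⟨⟨x, hNT hx⟩, hx, by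
      show lam ⟨ν x, hνN x⟩ ≠ μ 1
      rw [show (⟨ν x, hνN x⟩ : N) = ⟨x, hx⟩ from Subtype.ext (hν1 x hx), map_one, ← hl1]
      exact hlne⟩
  have hdeg : Cfsg.charDegree ((⟨μ, isIrrCharacter_monoidHom μ⟩ : Cfsg.IrrCharacter T) : T → ℂ)
      = 1 := by
    have := charDegree_cast (⟨μ, isIrrCharacter_monoidHom μ⟩ : Cfsg.IrrCharacter T)
    rw [show ((⟨μ, isIrrCharacter_monoidHom μ⟩ : Cfsg.IrrCharacter T) : T → ℂ) 1 = 1 from
      map_one μ] at this
    exact_mod_cast this
  rw [hdeg, mul_one, hTindex, mul_left_comm] at hk'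
  exact Nat.eq_one_of_mul_eq_one_left
    (Nat.eq_of_mul_eq_mul_left D.c_pos (hk'.symm.trans (mul_one c).symm))

include hN in
theorem e_eq_one_two (hG : 2 < Nat.card G) (h : TwoClasses χ) (hp : IsPGroup p N) (hN1 : N ≠ ⊥)
    {c e : ℕ} (D : Data χ N c e) (hcore : N = Cfsg.pCore p G) (hp2 : p = 2) : e = 1 := by
  classical
  by_contra he1
  have hcomm : ∀ {a b : G}, a ∈ N → b ∈ N → a * b = b * a :=
    fun ha hb => comm_of_isPGroup hN hG h hp hN1 ha hb
  have hCN := centralizer_eq hN hG h hp hN1 D hcore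
  have hexp : ∀ n ∈ N, n * n = (1 : G) := by
    obtain ⟨q, hq, _, hpq⟩ := exists_prime_exponent hN hN1 h
    obtain ⟨x, hx, hx1⟩ := exists_mem_ne_one hN1
    haveI := Fact.mk hq
    have hxo : orderOf x = q := orderOf_eq_prime (hpq x hx) hx1
    obtain ⟨i, hi⟩ := IsPGroup.iff_orderOf.1 hp ⟨x, hx⟩
    rw [← Subgroup.orderOf_coe, hxo] at hi
    have hqp : q = 2 := hp2 ▸ (Nat.prime_dvd_prime_iff_eq hq hpf.out).1
      (hq.dvd_of_dvd_pow (dvd_of_eq hi))
    exact fun n hn => by rw [← pow_two, ← hqp]; exact hpq n hn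
  obtain ⟨a, ha⟩ := e_eq_pow hN hN1 hp D
  have ha0 : a ≠ 0 := fun e' => he1 (by rw [ha, e', pow_zero])
  have heven : 2 ∣ Nat.card (G ⧸ N) := by
    have h1 : Nat.card (G ⧸ N) = c * e ^ 2 := by
      apply Nat.eq_of_mul_eq_mul_right (Nat.card_pos (α := N))
      rw [← Subgroup.card_eq_card_quotient_mul_card_subgroup, D.card_G]
      ring
    rw [h1, ha, hp2, ← pow_mul]
    exact Dvd.dvd.mul_left (dvd_pow_self 2 (by omega)) c
  haveI : Fact (Nat.Prime 2) := ⟨Nat.prime_two⟩
  obtain ⟨t, ht⟩ := exists_prime_orderOf_dvd_card' 2 heven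
  have hO : Cfsg.pCore p (G ⧸ N) = ⊥ := by
    subst hcore
    exact Cfsg.Agent.Cores.pCore_quotient_self p
  obtain ⟨w, hw1, hwodd, htw⟩ := Involutions.BaerSuzuki.exists_inverted_odd t ht
    fun K hK hK2 htK => by
      have := Cfsg.Agent.Cores.le_pCore (hp2 ▸ hK2 : IsPGroup p K) htK
      rw [hO, Subgroup.mem_bot] at this
      exact Involutions.Basic.ne_one ht this
  obtain ⟨x, rfl⟩ := QuotientGroup.mk_surjective t
  obtain ⟨u, rfl⟩ := QuotientGroup.mk_surjective w
  obtain ⟨r, hr⟩ := hwodd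
  have hxN : x ∉ N := fun e' =>
    Involutions.Basic.ne_one ht ((QuotientGroup.eq_one_iff x).2 e')
  have hxx : x * x ∈ N := by
    rw [← QuotientGroup.eq_one_iff, QuotientGroup.mk_mul]
    exact Involutions.Basic.inv_sq_one ht
  have hn0 : x⁻¹ * u * x * u ∈ N := by
    have hti : (x : G ⧸ N)⁻¹ = (x : G ⧸ N) := Involutions.Basic.inv_eq ht
    rw [← QuotientGroup.eq_one_iff, QuotientGroup.mk_mul, QuotientGroup.mk_mul,
      QuotientGroup.mk_mul, QuotientGroup.mk_inv]
    rw [hti] at htw ⊢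
    rw [htw, inv_mul_cancel]
  have huq : u ^ (2 * r + 1) ∈ N := by
    rw [← QuotientGroup.eq_one_iff, QuotientGroup.mk_pow, ← hr, pow_orderOf_eq_one]
  letI : CommGroup N :=
    { (inferInstance : Group N) with mul_comm := fun a b => Subtype.ext (hcomm a.2 b.2) }
  let σ : N →* N := (MulAut.conjNormal u : N ≃* N).toMonoidHom
  let τ : N →* N := (MulAut.conjNormal x : N ≃* N).toMonoidHom
  have hiter : ∀ (i : ℕ) (a : N), ((σ^[i] a : N) : G) = u ^ i * a * (u ^ i)⁻¹ := by
    intro i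
    induction i with
    | zero => intro a; simp
    | succ i ih =>
      intro a
      rw [Function.iterate_succ_apply']
      show u * ((σ^[i] a : N) : G) * u⁻¹ = _
      rw [ih, pow_succ']
      group
  have hfix : ∀ a : N, σ a = a → a = 1 := by
    intro a ha'
    obtain ⟨q, hq, hqd⟩ := Nat.exists_prime_and_dvd (n := orderOf (u : G ⧸ N)) (by simpa using hw1)
    have hq2 : q ≠ p := by
      rintro rfl
      rw [hp2, hr] at hqd
      omega
    refine Subtype.ext (eq_one_of_commute hN hN1 hp D a.2 ?_ hq hq2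
      (hqd.trans (orderOf_map_dvd (QuotientGroup.mk' N) u)))
    exact mul_inv_eq_iff_eq_mul.1 (congrArg Subtype.val ha')
  obtain ⟨n, hn⟩ := exists_eq_mul_apply (fun a : N => Subtype.ext (hexp a a.2)) σ τ (r := r)
    (fun a => Subtype.ext (by rw [hiter, hcomm huq a.2, mul_inv_cancel_right])) hfix
    (fun a => Subtype.ext (by
      show u * (x * (u * a * u⁻¹) * x⁻¹) * u⁻¹ = x * a * x⁻¹
      rw [show u * (x * (u * (a : G) * u⁻¹) * x⁻¹) * u⁻¹ =
        x * ((x⁻¹ * u * x * u) * a * (x⁻¹ * u * x * u)⁻¹) * x⁻¹ by group, hcomm hn0 a.2,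
        mul_inv_cancel_right]))
    (w := ⟨x * x, hxx⟩) (Subtype.ext (by
      show x * (x * x) * x⁻¹ = x * x
      group))
  have hn' : x * x = n * (x * n * x⁻¹) := congrArg Subtype.val hn
  have hxn : x * n * x⁻¹ ∈ N := hNn.conj_mem _ n.2 x
  have hyy : x * n * (x * n) = 1 := by
    calc x * n * (x * n) = (x * n * x⁻¹) * (x * x) * n := by group
      _ = ((x * n * x⁻¹) * n) * ((x * n * x⁻¹) * n) := by rw [hn']; group
      _ = 1 := hexp _ (N.mul_mem hxn n.2)
  have hyN : x * (n : G) ∉ N := fun e' => hxN ((N.mul_mem_cancel_right n.2).1 e')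
  refine hyN (hCN.le ?_)
  rw [Subgroup.mem_centralizer_iff]
  intro k hk
  obtain ⟨g, hg⟩ := isConj_iff.1 (isConj_coset hN hG h hyN hk)
  have hky : k * (x * n) * (k * (x * n)) = 1 := by
    rw [← hg, show g * (x * n) * g⁻¹ * (g * (x * n) * g⁻¹) = g * (x * n * (x * n)) * g⁻¹ by group,
      hyy, mul_one, mul_inv_cancel]
  calc k * (x * n) = (k * (x * n))⁻¹ := eq_inv_of_mul_eq_one_left hky
    _ = (x * n)⁻¹ * k⁻¹ := mul_inv_rev _ _
    _ = _ := by rw [inv_eq_of_mul_eq_one_right hyy, inv_eq_of_mul_eq_one_right (hexp k hk)]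

include hN in
/-- If the support is the `p`-core, `G` is a doubly transitive Frobenius group. -/
theorem exists_frobeniusComplement (hG : 2 < Nat.card G) (h : TwoClasses χ) (hp : IsPGroup p N)
    (hN1 : N ≠ ⊥) (hcore : N = Cfsg.pCore p G) :
    ∃ H : Subgroup G, Cfsg.IsFrobeniusComplement H ∧ Cfsg.frobeniusKernel H = (N : Set G) ∧
      Nat.card H + 1 = Nat.card N := by
  obtain ⟨c, e, D⟩ := exists_data hN hG h
  have he : e = 1 := (em (p = 2)).elim (e_eq_one_two hN hG h hp hN1 D hcore)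
    (e_eq_one_odd hN hG h hp hN1 D hcore)
  have hcard : Nat.card G = c * Nat.card N := by rw [D.card_G, he]; ring
  have hindex : N.index = c := by
    have := N.index_mul_card
    rw [hcard] at this
    exact Nat.eq_of_mul_eq_mul_right Nat.card_pos this
  have hcop : (Nat.card N).Coprime N.index := by
    rw [hindex, D.card_N, Nat.coprime_comm]
    exact Nat.coprime_self_add_right.2 (by simp)
  obtain ⟨H, hH⟩ := Subgroup.exists_right_complement'_of_coprime hcop
  have hHc : Nat.card H = c := by rw [← hindex, hH.symm.index_eq_card]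
  have hdisj : ∀ a : G, a ∈ N → a ∈ H → a = 1 := fun a ha hb => by
    have : a ∈ N ⊓ H := ⟨ha, hb⟩
    rwa [hH.disjoint.eq_bot, Subgroup.mem_bot] at this
  have hc1 : c ≠ 1 := by
    intro e'
    rw [hcard, D.card_N, e'] at hG
    omega
  have hFC : Cfsg.IsFrobeniusComplement H := by
    refine ⟨fun e' => hc1 ?_, fun e' => hN1 ?_, fun g hg => (Subgroup.eq_bot_iff_forall _).2 ?_⟩
    · rw [← hHc, e', Subgroup.card_bot]
    · exact (Subgroup.eq_bot_iff_forall _).2 fun a ha => hdisj a ha (e' ▸ Subgroup.mem_top a)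
    · rintro a ⟨ha, hag⟩
      change a ∈ MulAut.conj g • H at hag
      rw [mem_conj_smul_iff] at hag
      obtain ⟨⟨⟨n, hn⟩, ⟨b, hb⟩⟩, rfl⟩ := hH.surjective g
      have hn1 : n ≠ 1 := by
        rintro rfl
        exact hg (by simpa using hb)
      have hm : n⁻¹ * a * n ∈ H := by
        have := H.mul_mem (H.mul_mem hb hag) (H.inv_mem hb)
        simpa [mul_assoc] using this
      have hk : n⁻¹ * a * n * a⁻¹ = 1 := hdisj _
        (by
          rw [show n⁻¹ * a * n * a⁻¹ = n⁻¹ * (a * n * a⁻¹) by group]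
          exact N.mul_mem (N.inv_mem hn) (hNn.conj_mem n hn a))
        (H.mul_mem hm (H.inv_mem ha))
      have hC : Subgroup.centralizer ({n} : Set G) = N := by
        refine (Subgroup.eq_of_le_of_card_ge (fun k hk' =>
          Subgroup.mem_centralizer_singleton_iff.2
            (comm_of_isPGroup hN hG h hp hN1 hk' hn)) ?_).symm
        rw [D.centralizer n hn hn1, he, one_pow, mul_one]
      refine hdisj a (hC.le (Subgroup.mem_centralizer_singleton_iff.2 ?_)) ha
      rw [mul_inv_eq_one, mul_assoc, inv_mul_eq_iff_eq_mul] at hk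
      exact hk
  refine ⟨H, hFC, (Set.eq_of_subset_of_ncard_le ?_ ?_).symm, by rw [hHc, D.card_N]⟩
  · intro a ha
    by_cases ha1 : a = 1
    · exact Or.inl ha1
    refine Or.inr fun g hag => ha1 ?_
    rw [mem_conj_smul_iff] at hag
    have : g⁻¹ * a * g = 1 := hdisj _ (by simpa using hNn.conj_mem a ha g⁻¹) hag
    have h2 := congrArg (fun z => g * z * g⁻¹) this
    simpa [mul_assoc] using h2
  · rw [← Nat.card_coe_set_eq, ← Nat.card_coe_set_eq, card_frobeniusKernel hFC]
    refine le_of_eq ?_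
    have := H.index_mul_card
    rw [hHc, hcard, mul_comm] at this
    exact Nat.eq_of_mul_eq_mul_left D.c_pos this

include hN in
/-- Conversely, a doubly transitive Frobenius group with kernel `N` has `p`-core `N`. -/
theorem eq_pCore (hG : 2 < Nat.card G) (h : TwoClasses χ) (hp : IsPGroup p N) (hN1 : N ≠ ⊥)
    {H : Subgroup G} (hH : Cfsg.IsFrobeniusComplement H)
    (hker : Cfsg.frobeniusKernel H = (N : Set G)) (hcardH : Nat.card H + 1 = Nat.card N) :
    N = Cfsg.pCore p G := by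
  obtain ⟨c, e, D⟩ := exists_data hN hG h
  have h1 : Nat.card N = H.index := by
    rw [← card_frobeniusKernel hH, hker]
    rfl
  have hHc : Nat.card H = c := by
    have := D.card_N
    omega
  have hcard : Nat.card G = c * Nat.card N := by
    rw [← H.index_mul_card, hHc, h1, mul_comm]
  refine Subgroup.eq_of_le_of_card_ge (Cfsg.Agent.Cores.le_pCore hp) ?_
  obtain ⟨k, hk⟩ := (Cfsg.Agent.Cores.pCore_isPGroup (G := G) p).exists_card_eq
  have hd : Nat.card (Cfsg.pCore p G) ∣ c * Nat.card N := hcard ▸ Subgroup.card_subgroup_dvd_card _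
  refine Nat.le_of_dvd Nat.card_pos ((Nat.Coprime.dvd_mul_left ?_).1 hd)
  rw [hk]
  exact ((hpf.out.coprime_iff_not_dvd).2 (not_dvd_c hp hN1 D)).pow_left k

end Cfsg.Agent.BlocksChars.GagolaFrobenius
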