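import Mathlib
import Cfsg.Prelude.Def_Solvable
import Cfsg.Prelude.Def_Transfer
import Cfsg.Agent.BlocksChars.GagolaFrobenius
import Cfsg.Agent.Lib.Coprime.FixedPointFree
import Cfsg.Agent.Lib.Cores.Fitting
import Cfsg.Agent.Lib.Transfer.NormalPComplement
import Cfsg.Agent.InvChar.CyclicIndexTwo
import Cfsg.Agent.S3742

/-!
Solvable groups with a Gagola character: modulo the `p`-core the derived group has order prime
to `p`.
-/

set_option autoImplicit false
set_option linter.style.haveILetI false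
set_option linter.unusedSectionVars false

namespace Cfsg.Agent.BlocksChars.GagolaSolvable

open Cfsg.Agent.BlocksChars.Gagola
open scoped Pointwise commutatorElement

universe u v

/-- A quaternion group of order 8 normalized by a transitive linear group over the field with
three elements acts on at most 9 vectors. -/
theorem card_le_nine {V : Type v} [AddCommGroup V] [Module (ZMod 3) V] [Finite V]
    (i j : V →ₗ[ZMod 3] V) (hii : ∀ x, i (i x) = -x) (hjj : ∀ x, j (j x) = -x)
    (hij : ∀ x, i (j x) = -j (i x)) {ι : Type*} (H : ι → (V →ₗ[ZMod 3] V))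
    (htrans : ∀ v w : V, v ≠ 0 → w ≠ 0 → ∃ g, H g v = w)
    (hnorm : ∀ W : Set V, (∀ x ∈ W, i x ∈ W) → (∀ x ∈ W, j x ∈ W) → ∀ g, ∀ x ∈ W,
      i (H g x) ∈ H g '' W ∧ j (H g x) ∈ H g '' W) :
    Nat.card V ≤ 9 := by
  classical
  by_contra hbig
  have h3 : ∀ x : V, x + x + x = 0 := fun x => by
    have : ((3 : ℕ) : ZMod 3) • x = 0 := by rw [ZMod.natCast_self, zero_smul]
    rw [Nat.cast_smul_eq_nsmul] at this
    rw [← this, succ_nsmul, succ_nsmul, one_nsmul]
  have hneg : ∀ x : V, -x = x + x := fun x => neg_eq_of_add_eq_zero_left (h3 x)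
  have hi_ne : ∀ x : V, x ≠ 0 → ∀ t : ZMod 3, i x ≠ t • x := by
    intro x hx t ht
    have h1 : (t * t + 1) • x = 0 := by
      rw [add_smul, one_smul, mul_smul, ← ht, ← map_smul, ← ht, hii, neg_add_cancel]
    have h2 : ∀ t : ZMod 3, t * t + 1 ≠ 0 := by decide
    exact hx ((smul_eq_zero.1 h1).resolve_left (h2 t))
  have hinj : ∀ x : V, x ≠ 0 →
      Function.Injective (fun ab : ZMod 3 × ZMod 3 => ab.1 • x + ab.2 • i x) := by
    rintro x hx ⟨a, b⟩ ⟨a', b'⟩ hab
    have h1 : (b - b') • i x = (a' - a) • x := by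
      rw [sub_smul, sub_smul, sub_eq_sub_iff_add_eq_add, add_comm _ (a • x)]
      exact hab
    by_cases hb : b - b' = 0
    · rw [hb, zero_smul, eq_comm, smul_eq_zero, or_iff_left hx] at h1
      exact Prod.ext (sub_eq_zero.1 h1).symm (sub_eq_zero.1 hb)
    · exact absurd (by rw [mul_smul, ← h1, inv_smul_smul₀ hb])
        (hi_ne x hx ((b - b')⁻¹ * (a' - a)))
  obtain ⟨x0, hx0⟩ : ∃ x : V, x ≠ 0 := by
    by_contra hno
    push Not at hno
    haveI : Subsingleton V := ⟨fun a b => by rw [hno a, hno b]⟩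
    have := Finite.card_le_one_iff_subsingleton.2 (inferInstance : Subsingleton V)
    omega
  obtain ⟨v0, hv0, hv0s⟩ : ∃ v : V, v ≠ 0 ∧ j v = v - i v := by
    by_cases h : x0 + i x0 + j x0 = 0
    · refine ⟨x0 - i x0, fun e => hi_ne x0 hx0 1 (by rw [one_smul]; exact (sub_eq_zero.1 e).symm),
        ?_⟩
      have hjx : j x0 = -x0 - i x0 := by
        rw [eq_sub_iff_add_eq, eq_neg_iff_add_eq_zero, ← h]; abel
      have hji : j (i x0) = i x0 - x0 := by
        have := hij x0
        rw [hjx, map_sub, map_neg, hii] at this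
        rw [← neg_eq_iff_eq_neg] at this
        rw [← this]; abel
      rw [map_sub, map_sub, hii, hjx, hji]
      have := h3 (i x0)
      have := h3 x0
      rw [sub_eq_iff_eq_add]
      rw [show x0 - i x0 - (i x0 - -x0) + (i x0 - x0) = -i x0 - x0 by abel]
      abel
    · refine ⟨x0 + i x0 + j x0, h, ?_⟩
      simp only [map_add, hii, hjj, hij]
      simp only [sub_eq_add_neg, hneg]
      have := h3 x0
      rw [show j x0 + j (i x0) + (x0 + x0) = x0 + x0 + (j x0 + j (i x0)) by abel]
      calc x0 + x0 + (j x0 + j (i x0)) = (x0 + x0) + (j x0 + j (i x0)) + 0 + 0 := by abel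
        _ = (x0 + x0) + (j x0 + j (i x0)) + (x0 + x0 + x0) + (i x0 + i x0 + i x0) +
            (j (i x0) + j (i x0) + j (i x0)) := by rw [h3, h3, h3]; abel
        _ = _ := by abel
  let f : V →ₗ[ZMod 3] (ZMod 3 × ZMod 3 →ₗ[ZMod 3] V) :=
    { toFun := fun v => (LinearMap.fst _ _ _).smulRight v + (LinearMap.snd _ _ _).smulRight (i v)
      map_add' := fun a b => by ext <;> simp
      map_smul' := fun a b => by ext <;> simp }
  have hf : ∀ v a b, f v (a, b) = a • v + b • i v := fun v a b => rfl
  let W0 : Set V := LinearMap.range (f v0)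
  have hW0i : ∀ x ∈ W0, i x ∈ W0 := by
    rintro _ ⟨⟨a, b⟩, rfl⟩
    refine ⟨(-b, a), ?_⟩
    rw [hf, hf, map_add, map_smul, map_smul, hii, neg_smul, smul_neg, add_comm]
  have hW0j : ∀ x ∈ W0, j x ∈ W0 := by
    rintro _ ⟨⟨a, b⟩, rfl⟩
    refine ⟨(a - b, -a - b), ?_⟩
    have hjiv : j (i v0) = -i v0 - v0 := by
      rw [← neg_neg (j (i v0)), ← hij, hv0s, map_sub, hii]
      abel
    rw [hf, hf, map_add, map_smul, map_smul, hv0s, hjiv]
    simp only [smul_sub, smul_neg, sub_smul, neg_smul]
    abel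
  have hrel : ∀ v : V, v ≠ 0 → ∃ a b : ZMod 3, j v = a • v + b • i v := by
    intro v hv
    obtain ⟨g, hg⟩ := htrans v0 v hv0 hv
    have hv0W : v0 ∈ W0 := ⟨(1, 0), by rw [hf, one_smul, zero_smul, add_zero]⟩
    obtain ⟨hiv, hjv⟩ := hnorm W0 hW0i hW0j g v0 hv0W
    rw [hg] at hiv hjv
    set R := LinearMap.range ((H g).comp (f v0)) with hR
    have hmemR : ∀ y ∈ H g '' W0, y ∈ R := by
      rintro _ ⟨_, ⟨ab, rfl⟩, rfl⟩
      exact ⟨ab, rfl⟩
    have hvR : v ∈ R := hmemR v ⟨v0, hv0W, hg⟩
    have hsub : (LinearMap.range (f v) : Set V) ⊆ R := by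
      rintro _ ⟨⟨a, b⟩, rfl⟩
      rw [hf]
      exact R.add_mem (R.smul_mem a hvR) (R.smul_mem b (hmemR _ hiv))
    have hle : (R : Set V).ncard ≤ 9 := by
      rw [← Nat.card_coe_set_eq]
      refine (Nat.card_le_card_of_surjective _ ((H g).comp (f v0)).surjective_rangeRestrict).trans ?_
      simp
    have heq : (LinearMap.range (f v) : Set V) = R := by
      refine Set.eq_of_subset_of_ncard_le hsub (hle.trans (le_of_eq ?_)) (Set.toFinite _)
      rw [show (LinearMap.range (f v) : Set V) = Set.range (f v) from LinearMap.coe_range _,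
        Set.ncard_range_of_injective (show Function.Injective (f v) from hinj v hv)]
      simp
    obtain ⟨⟨a, b⟩, hab⟩ : j v ∈ (LinearMap.range (f v) : Set V) := heq ▸ hmemR _ hjv
    exact ⟨a, b, by rw [← hab, hf]⟩
  obtain ⟨w, hw⟩ : ∃ w : V, w ∉ W0 := by
    by_contra hno
    push Not at hno
    refine hbig ((Nat.card_le_card_of_surjective (f v0) fun x => hno x).trans ?_)
    simp
  have hw0 : w ≠ 0 := fun e => hw (e ▸ (LinearMap.range (f v0)).zero_mem)
  obtain ⟨a, b, hab⟩ := hrel w hw0
  have key : ∀ c d : ZMod 3, c • w + d • i w ∈ W0 → c = 0 ∧ d = 0 := by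
    intro c d hcd
    by_contra hne
    have h1 := (LinearMap.range (f v0)).sub_mem ((LinearMap.range (f v0)).smul_mem c hcd)
      ((LinearMap.range (f v0)).smul_mem d (hW0i _ hcd))
    rw [map_add, map_smul, map_smul, hii] at h1
    rw [show c • (c • w + d • i w) - d • (c • i w + d • -w) = (c * c + d * d) • w by
      simp only [smul_add, smul_smul, smul_neg, add_smul, mul_comm c d]; abel] at h1
    have h2 : ∀ c d : ZMod 3, ¬(c = 0 ∧ d = 0) → c * c + d * d ≠ 0 := by decide
    exact hw ((Submodule.smul_mem_iff _ (h2 c d hne)).1 h1)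
  -- compare the coefficients of `v + w` for two vectors `v` of `W0`
  have hcomp : ∀ u : V, u ∈ W0 → u ≠ 0 → ∀ α β : ZMod 3, j u = α • u + β • i u →
      α = a := by
    intro u hu hu0 α β hαβ
    have huw : u + w ≠ 0 := fun e => hw (by
      rw [eq_neg_of_add_eq_zero_right e]
      exact (LinearMap.range (f v0)).neg_mem hu)
    obtain ⟨a', b', hab'⟩ := hrel (u + w) huw
    rw [map_add, map_add, hαβ, hab, smul_add, smul_add] at hab'
    have h1 : (a - a') • w + (b - b') • i w = (a' - α) • u + (b' - β) • i u := by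
      simp only [sub_smul]
      rw [← sub_eq_zero] at hab' ⊢
      rw [← hab']; abel
    have hmem : (a' - α) • u + (b' - β) • i u ∈ W0 :=
      (LinearMap.range (f v0)).add_mem ((LinearMap.range (f v0)).smul_mem _ hu)
        ((LinearMap.range (f v0)).smul_mem _ (hW0i u hu))
    obtain ⟨hc, -⟩ := key _ _ (h1 ▸ hmem)
    have h2 : (fun ab : ZMod 3 × ZMod 3 => ab.1 • u + ab.2 • i u) (a' - α, b' - β) =
        (fun ab : ZMod 3 × ZMod 3 => ab.1 • u + ab.2 • i u) (0, 0) := by
      obtain ⟨hc', hd'⟩ := key _ _ (h1 ▸ hmem)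
      simp only [zero_smul, add_zero]
      rw [← h1, hc', hd', zero_smul, zero_smul, add_zero]
    have h3' := congrArg Prod.fst (hinj u hu0 h2)
    exact (sub_eq_zero.1 h3').symm.trans (sub_eq_zero.1 hc).symm
  have hv0W : v0 ∈ W0 := ⟨(1, 0), by rw [hf, one_smul, zero_smul, add_zero]⟩
  have hone := hcomp v0 hv0W hv0 1 (-1) (by rw [hv0s, one_smul, neg_smul, one_smul, sub_eq_add_neg])
  have hiv0 : i v0 ≠ 0 := fun e => hv0 (by simpa [e] using hii v0)
  have hminus := hcomp (i v0) (hW0i _ hv0W) hiv0 (-1) 1 (by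
    rw [← neg_neg (j (i v0)), ← hij, hv0s, map_sub, hii, neg_smul, one_smul, one_smul]
    abel)
  exact absurd (hone.trans hminus.symm) (by decide)

/-- The automorphism group of a quaternion group of order at least 16 is a 2-group. -/
theorem isPGroup_mulAut_quaternion {n : ℕ} (hn : 2 ≤ n) :
    IsPGroup 2 (MulAut (QuaternionGroup (2 ^ n))) := by
  haveI : NeZero (2 ^ n) := ⟨by positivity⟩
  have hcard : Nat.card (QuaternionGroup (2 ^ n)) = 2 ^ (n + 2) := by
    rw [Nat.card_eq_fintype_card, QuaternionGroup.card]; ring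
  have hord : orderOf (QuaternionGroup.a 1 : QuaternionGroup (2 ^ n)) = 2 * 2 ^ n :=
    QuaternionGroup.orderOf_a_one
  refine InvChar.CyclicIndexTwo.isPGroup_mulAut (IsPGroup.of_card hcard)
    (Subgroup.zpowers (QuaternionGroup.a 1)) inferInstance ?_ ?_
  · intro φ h hh
    obtain ⟨k, rfl⟩ := hh
    simp only [map_zpow]
    refine Subgroup.zpow_mem _ ?_ k
    rcases hφ : φ (QuaternionGroup.a 1) with i | i
    · refine ⟨(i.val : ℤ), ?_⟩
      simp only [zpow_natCast, QuaternionGroup.a_one_pow, ZMod.natCast_zmod_val]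
    · exfalso
      have h1 := MulEquiv.orderOf_eq φ (QuaternionGroup.a 1)
      rw [hφ, QuaternionGroup.orderOf_xa, hord] at h1
      have : 4 ≤ 2 ^ n := by
        calc 4 = 2 ^ 2 := rfl
          _ ≤ 2 ^ n := Nat.pow_le_pow_right (by norm_num) hn
      omega
  · have h1 := (Subgroup.zpowers (QuaternionGroup.a 1 : QuaternionGroup (2 ^ n))).index_mul_card
    rw [Nat.card_zpowers, hord, hcard, pow_succ, pow_succ, mul_assoc (2 ^ n)] at h1
    have : (Subgroup.zpowers (QuaternionGroup.a 1 : QuaternionGroup (2 ^ n))).index = 2 := by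
      apply Nat.eq_of_mul_eq_mul_right (show 0 < 2 * 2 ^ n by positivity)
      rw [h1]; ring
    omega

variable {G : Type u} [Group G] [Finite G] {χ : Cfsg.IrrCharacter G}
variable {N : Subgroup G} [hNn : N.Normal] (hN : ∀ g : G, g ∈ N ↔ (χ : G → ℂ) g ≠ 0)
variable {p : ℕ} [hpf : Fact p.Prime]

include hN in
theorem pCore_eq_centralizer (hG : 2 < Nat.card G) (h : TwoClasses χ) (hp : IsPGroup p N)
    (hN1 : N ≠ ⊥) {c e : ℕ} (D : Data χ N c e) :
    Cfsg.pCore p G = Subgroup.centralizer (N : Set G) := by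
  obtain ⟨x, hx, hx1⟩ := exists_mem_ne_one hN1
  obtain ⟨k, hk⟩ := exists_card_pow hN hN1 hp D
  have hC : IsPGroup p (Subgroup.centralizer ({x} : Set G)) :=
    IsPGroup.of_card ((D.centralizer x hx hx1).trans hk)
  refine le_antisymm ?_ (Cfsg.Agent.Cores.le_pCore
    (hC.to_le (Subgroup.centralizer_le (Set.singleton_subset_iff.2 hx))))
  set U := Cfsg.pCore p G with hU
  haveI : Group.IsNilpotent U := (Cfsg.Agent.Cores.pCore_isPGroup p).isNilpotent
  have hNU : N ≤ U := Cfsg.Agent.Cores.le_pCore hp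
  have hne : N.subgroupOf U ≠ ⊥ := by
    rw [Ne, Subgroup.subgroupOf_eq_bot, disjoint_iff, inf_of_le_left hNU]
    exact hN1
  have hbot := Solvable.Basics.inf_center_ne_bot hne
  rw [Ne, Subgroup.eq_bot_iff_forall] at hbot
  push Not at hbot
  obtain ⟨z, ⟨hzN, hzc⟩, hz1⟩ := hbot
  haveI : U.Normal := by rw [hU]; infer_instance
  have hle : N ≤ Subgroup.centralizer (U : Set G) := by
    have hK : N ⊓ Subgroup.centralizer (U : Set G) ≠ ⊥ := fun e' => hz1 (Subtype.ext (by
      have : (z : G) ∈ N ⊓ Subgroup.centralizer (U : Set G) :=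
        ⟨hzN, Subgroup.mem_centralizer_iff.2 fun u hu =>
          congrArg Subtype.val (Subgroup.mem_center_iff.1 hzc ⟨u, hu⟩)⟩
      rwa [e', Subgroup.mem_bot] at this))
    exact (le_of_normal hN hG h _ hK).trans inf_le_right
  exact Subgroup.le_centralizer_iff.1 hle

include hN in
/-- If `O₂` of `G/O₃(G)` is quaternion of order 8, the support has order 9. -/
theorem card_eq_nine (hG : 2 < Nat.card G) (h : TwoClasses χ) (hp : IsPGroup 3 N) (hN1 : N ≠ ⊥)
    {c e : ℕ} (D : Data χ N c e) (Q : Subgroup (G ⧸ Cfsg.pCore 3 G)) [hQn : Q.Normal]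
    (hQ : Nonempty (Q ≃* QuaternionGroup 2)) : Nat.card N ≤ 9 := by
  classical
  haveI : Fact (Nat.Prime 3) := ⟨Nat.prime_three⟩
  obtain ⟨eQ⟩ := hQ
  have hcomm : ∀ {a b : G}, a ∈ N → b ∈ N → a * b = b * a :=
    fun ha hb => comm_of_isPGroup hN hG h hp hN1 ha hb
  have hUC := pCore_eq_centralizer hN hG h hp hN1 D
  have hexp : ∀ n ∈ N, n * (n * n) = (1 : G) := by
    obtain ⟨q, hq, _, hpq⟩ := exists_prime_exponent hN hN1 h
    obtain ⟨x, hx, hx1⟩ := exists_mem_ne_one hN1
    haveI := Fact.mk hq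
    have hxo : orderOf x = q := orderOf_eq_prime (hpq x hx) hx1
    obtain ⟨i, hi⟩ := IsPGroup.iff_orderOf.1 hp ⟨x, hx⟩
    rw [← Subgroup.orderOf_coe, hxo] at hi
    have hq3 : q = 3 := (Nat.prime_dvd_prime_iff_eq hq Nat.prime_three).1
      (hq.dvd_of_dvd_pow (dvd_of_eq hi))
    intro n hn
    have := hpq n hn
    rw [hq3, pow_succ', pow_two] at this
    exact this
  letI : CommGroup N :=
    { (inferInstance : Group N) with mul_comm := fun a b => Subtype.ext (hcomm a.2 b.2) }
  letI : Module (ZMod 3) (Additive N) := AddCommGroup.zmodModule fun x => by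
    refine Additive.toMul.injective ?_
    refine Subtype.ext ?_
    show ((Additive.toMul x) ^ 3 : N).1 = 1
    rw [SubgroupClass.coe_pow, pow_succ', pow_two]
    exact hexp _ (Additive.toMul x).2
  let ρ : G → (Additive N →ₗ[ZMod 3] Additive N) := fun g =>
    (MonoidHom.toAdditive (MulAut.conjNormal g : N ≃* N).toMonoidHom).toZModLinearMap 3
  have hρ : ∀ (g : G) (x : Additive N),
      ((Additive.toMul (ρ g x) : N) : G) = g * (Additive.toMul x : N) * g⁻¹ := fun g x => rfl
  have hext : ∀ {x y : Additive N},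
      ((Additive.toMul x : N) : G) = (Additive.toMul y : N) → x = y :=
    fun hxy => Additive.toMul.injective (Subtype.ext hxy)
  have hmul : ∀ (g g' : G) (x : Additive N), ρ (g * g') x = ρ g (ρ g' x) := fun g g' x =>
    hext (by simp only [hρ]; group)
  have hone : ∀ x : Additive N, ρ 1 x = x := fun x => hext (by simp [hρ])
  have hU1 : ∀ u ∈ Cfsg.pCore 3 G, ∀ x : Additive N, ρ u x = x := fun u hu x => hext (by
    rw [hρ]
    rw [hUC] at hu
    rw [← Subgroup.mem_centralizer_iff.1 hu _ (Additive.toMul x).2, mul_inv_cancel_right])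
  let mk := QuotientGroup.mk' (Cfsg.pCore 3 G)
  -- lifts of `Q`
  have hlift : ∀ q : QuaternionGroup 2, ∃ g : G, mk g = (eQ.symm q : Q) := fun q =>
    QuotientGroup.mk'_surjective _ _
  choose L hL using hlift
  have hρeq : ∀ g g' : G, mk g = mk g' → ρ g = ρ g' := by
    intro g g' he
    refine LinearMap.ext fun x => ?_
    have hu : g'⁻¹ * g ∈ Cfsg.pCore 3 G := QuotientGroup.eq.1 he.symm
    rw [show g = g' * (g'⁻¹ * g) by group, hmul, hU1 _ hu]
  have hLmul : ∀ q q', ρ (L (q * q')) = ρ (L q * L q') := fun q q' => hρeq _ _ (by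
    rw [map_mul mk, hL, hL, hL, map_mul eQ.symm, Subgroup.coe_mul])
  have hLone : ∀ x, ρ (L 1) x = x := fun x => by
    rw [hρeq (L 1) 1 (by rw [hL, map_one, map_one, OneMemClass.coe_one]), hone]
  set z : QuaternionGroup 2 := QuaternionGroup.a 2 with hz
  have hneg : ∀ x, ρ (L z) x = -x := by
    intro x
    have hzz : ∀ y, ρ (L z) (ρ (L z) y) = y := fun y => by
      rw [← hmul, ← hLmul, show z * z = 1 by rw [hz]; decide, hLone]
    have hfix : ρ (L z) (x + ρ (L z) x) = x + ρ (L z) x := by
      rw [map_add, hzz, add_comm]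
    have h0 : x + ρ (L z) x = 0 := by
      refine hext ?_
      show ((Additive.toMul (x + ρ (L z) x) : N) : G) = 1
      refine GagolaFrobenius.eq_one_of_commute hN hN1 hp D (Additive.toMul (x + ρ (L z) x) : N).2 ?_
        Nat.prime_two (by norm_num) ?_ (u := L z)
      · have := congrArg (fun w : Additive N => ((Additive.toMul w : N) : G)) hfix
        simp only [hρ] at this
        exact mul_inv_eq_iff_eq_mul.1 this
      · refine dvd_trans ?_ (orderOf_map_dvd mk (L z))
        rw [hL, Subgroup.orderOf_coe, MulEquiv.orderOf_eq, hz]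
        exact dvd_of_eq (orderOf_eq_prime (by decide) (by decide)).symm
    exact eq_neg_of_add_eq_zero_right h0
  set qi : QuaternionGroup 2 := QuaternionGroup.a 1 with hqi
  set qj : QuaternionGroup 2 := QuaternionGroup.xa 0 with hqj
  have hnine := card_le_nine (V := Additive N) (ρ (L qi)) (ρ (L qj))
    (fun x => by rw [← hmul, ← hLmul, show qi * qi = z by rw [hqi, hz]; decide, hneg])
    (fun x => by rw [← hmul, ← hLmul, show qj * qj = z by rw [hqj, hz]; decide, hneg])
    (fun x => by
      rw [← hmul, ← hLmul, show qi * qj = z * (qj * qi) by rw [hqi, hqj, hz]; decide, hLmul, hmul,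
        hLmul, hmul, hneg])
    ρ
    (fun v w hv hw => by
      obtain ⟨g, hg⟩ := isConj_iff.1 (isConj_of_mem hN h (Additive.toMul v).2 (Additive.toMul w).2
        (fun e' => hv (hext (by rw [e']; rfl))) (fun e' => hw (hext (by rw [e']; rfl))))
      exact ⟨g, hext (by rw [hρ]; exact hg)⟩)
    (fun W hi hj g x hx => by
      have hpres : ∀ q : QuaternionGroup 2, ∀ y ∈ W, ρ (L q) y ∈ W := by
        have hpow : ∀ (k : ℕ), ∀ y ∈ W, ρ (L (qi ^ k)) y ∈ W := by
          intro k
          induction k with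
          | zero => intro y hy; rwa [pow_zero, hLone]
          | succ k ih => intro y hy; rw [pow_succ, hLmul, hmul]; exact ih _ (hi y hy)
        have hgen : ∀ q : QuaternionGroup 2, ∃ k : Fin 4,
            q = qi ^ (k : ℕ) ∨ q = qi ^ (k : ℕ) * qj := by
          rw [hqi, hqj]; decide
        intro q y hy
        obtain ⟨k, rfl | rfl⟩ := hgen q
        · exact hpow k y hy
        · rw [hLmul, hmul]; exact hpow k _ (hj y hy)
      have hmain : ∀ q : QuaternionGroup 2, ρ (L q) (ρ g x) ∈ ρ g '' W := by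
        intro q
        let q' : QuaternionGroup 2 := eQ ⟨(mk g)⁻¹ * (eQ.symm q : Q) * mk g, by
          simpa using hQn.conj_mem _ (eQ.symm q).2 (mk g)⁻¹⟩
        refine ⟨ρ (L q') x, hpres q' x hx, ?_⟩
        rw [← hmul, ← hmul, hρeq (g * L q') (L q * g)]
        rw [map_mul mk, map_mul mk, hL, hL, MulEquiv.symm_apply_apply]
        group
      exact ⟨hmain qi, hmain qj⟩)
  exact hnine

include hN in
/-- Modulo the `p`-core, the derived group has no elements of order `p`. -/
theorem orderOf_commutator_ne [Group.IsSolvable G] (hG : 2 < Nat.card G) (h : TwoClasses χ)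
    (hp : IsPGroup p N) (hN1 : N ≠ ⊥) (y : G ⧸ Cfsg.pCore p G)
    (hy : y ∈ commutator (G ⧸ Cfsg.pCore p G)) : orderOf y ≠ p := by
  classical
  intro hyo
  obtain ⟨c, e, D⟩ := exists_data hN hG h
  have hy1 : y ≠ 1 := fun e' => hpf.out.ne_one (by rw [← hyo, e', orderOf_one])
  have hcent : ∀ q : ℕ, q.Prime → ∀ a ∈ Cfsg.pCore q (G ⧸ Cfsg.pCore p G), y * a = a * y := by
    intro q hq
    haveI := Fact.mk hq
    by_cases hqp : q = p
    · subst hqp
      intro a ha
      rw [Cfsg.Agent.Cores.pCore_quotient_self, Subgroup.mem_bot] at ha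
      simp [ha]
    set Q := Cfsg.pCore q (G ⧸ Cfsg.pCore p G) with hQdef
    haveI : Q.Normal := by rw [hQdef]; infer_instance
    let ψ : (G ⧸ Cfsg.pCore p G) →* MulAut Q := MulAut.conjNormal
    suffices hψ : ψ y = 1 by
      intro a ha
      have := congrArg Subtype.val (DFunLike.congr_fun hψ ⟨a, ha⟩)
      exact mul_inv_eq_iff_eq_mul.1 this
    -- a subgroup of `G` isomorphic to `Q`, acting without fixed points on `N`
    let L : Subgroup G := Q.comap (QuotientGroup.mk' (Cfsg.pCore p G))
    obtain ⟨S₀⟩ : Nonempty (Sylow q L) := inferInstance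
    let S : Subgroup G := (S₀ : Subgroup L).map L.subtype
    have hSq : IsPGroup q S := S₀.isPGroup'.map _
    let f : S →* Q := ((QuotientGroup.mk' (Cfsg.pCore p G)).comp S.subtype).codRestrict Q
      fun s => by
        obtain ⟨t, -, ht⟩ := s.2
        show QuotientGroup.mk' (Cfsg.pCore p G) (s : G) ∈ Q
        rw [← ht]
        exact (Subgroup.mem_comap.1 t.2 : _)
    have hfinj : Function.Injective f := by
      rw [← MonoidHom.ker_eq_bot_iff, Subgroup.eq_bot_iff_forall]
      intro s hs
      have hsU : (s : G) ∈ Cfsg.pCore p G := by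
        rw [← QuotientGroup.eq_one_iff]
        exact congrArg Subtype.val hs
      have : (s : G) ∈ S ⊓ Cfsg.pCore p G := ⟨s.2, hsU⟩
      rw [(IsPGroup.disjoint_of_ne q p hqp _ _ hSq
        (Cfsg.Agent.Cores.pCore_isPGroup p)).eq_bot, Subgroup.mem_bot] at this
      exact Subtype.ext this
    have hfsurj : Function.Surjective f := by
      refine ((Nat.bijective_iff_injective_and_card f).2 ⟨hfinj, ?_⟩).surjective
      obtain ⟨k, hk⟩ := (Cfsg.Agent.Cores.pCore_isPGroup (G := G ⧸ Cfsg.pCore p G) q).exists_card_eq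
      obtain ⟨i, hi⟩ := (Cfsg.Agent.Cores.pCore_isPGroup (G := G) p).exists_card_eq
      rw [show Nat.card S = Nat.card (S₀ : Subgroup L) from
        Subgroup.card_map_of_injective L.subtype_injective, Sylow.card_eq_multiplicity,
        Cfsg.Agent.Cores.card_comap_mk', hi, show Nat.card Q = q ^ k from hk,
        Nat.factorization_mul (pow_ne_zero _ hpf.out.ne_zero) (pow_ne_zero _ hq.ne_zero),
        Finsupp.add_apply, hpf.out.factorization_pow, hq.factorization_pow,
        Finsupp.single_eq_of_ne' (Ne.symm hqp), Finsupp.single_eq_same, zero_add]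
    let eS : S ≃* Q := MulEquiv.ofBijective f ⟨hfinj, hfsurj⟩
    have hstr := Cfsg.Agent.Coprime.fpf_isCyclic_or_quaternion hSq
      (K := N) (by rw [Subgroup.normalizer_eq_top_iff.2 hNn]; exact le_top)
      (fun a ha ha1 => (Subgroup.eq_bot_iff_forall _).2 fun k hk => by
        obtain ⟨i, hi⟩ := IsPGroup.iff_orderOf.1 hSq ⟨a, ha⟩
        rw [← Subgroup.orderOf_coe] at hi
        refine GagolaFrobenius.eq_one_of_commute hN hN1 hp D hk.1 ?_ hq hqp ?_ (u := a)
        · exact (Subgroup.mem_centralizer_singleton_iff.1 hk.2).symm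
        · refine hi ▸ dvd_pow_self q ?_
          rintro rfl
          exact ha1 (orderOf_eq_one_iff.1 (by simpa using hi))) hN1
    have hsmall : ∀ n : ℕ, orderOf (ψ y) ∣ n → ¬ p ∣ n → ψ y = 1 := by
      intro n hn hpn
      rw [← orderOf_eq_one_iff]
      rcases (Nat.dvd_prime hpf.out).1 (hyo ▸ orderOf_map_dvd ψ y) with h1 | h1
      · exact h1
      · exact absurd (h1 ▸ hn) hpn
    rcases hstr with hcyc | ⟨rfl, n, ⟨eq⟩⟩
    · haveI : IsCyclic Q := isCyclic_of_surjective eS.toMonoidHom eS.surjective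
      have := Abelianization.commutator_subset_ker
        ((IsCyclic.mulAutMulEquiv Q).toMonoidHom.comp ψ) hy
      rw [MonoidHom.mem_ker] at this
      exact (IsCyclic.mulAutMulEquiv Q).injective (this.trans (map_one _).symm)
    · have eQ : Q ≃* QuaternionGroup (2 ^ n) := eS.symm.trans eq
      have hp2 : ¬ p ∣ 2 := fun hd =>
        hqp ((Nat.prime_dvd_prime_iff_eq hpf.out Nat.prime_two).1 hd).symm
      rcases n with _ | _ | n
      · haveI : IsCyclic (QuaternionGroup (2 ^ 0)) :=
          isCyclic_of_orderOf_eq_card (QuaternionGroup.xa 0) (by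
            rw [QuaternionGroup.orderOf_xa, Nat.card_eq_fintype_card, QuaternionGroup.card]; rfl)
        haveI : IsCyclic Q := isCyclic_of_surjective eQ.symm.toMonoidHom eQ.symm.surjective
        have := Abelianization.commutator_subset_ker
          ((IsCyclic.mulAutMulEquiv Q).toMonoidHom.comp ψ) hy
        rw [MonoidHom.mem_ker] at this
        exact (IsCyclic.mulAutMulEquiv Q).injective (this.trans (map_one _).symm)
      · obtain ⟨eA⟩ := S3742.result
        have hA : Nat.card (MulAut Q) = 24 := by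
          rw [Nat.card_congr ((MulAut.congr eQ).trans eA).toEquiv, Nat.card_perm, Nat.card_fin]
          rfl
        by_cases hp3 : p = 3
        · subst hp3
          have hQ8 : Nat.card Q = 8 := by
            rw [Nat.card_congr eQ.toEquiv, Nat.card_eq_fintype_card, QuaternionGroup.card]
            rfl
          have hm : Nat.card N ≤ 9 := card_eq_nine hN hG h hp hN1 D Q ⟨eQ⟩
          -- the quotient by `Q C(Q)` has order 1 or 3
          set K : Subgroup (G ⧸ Cfsg.pCore 3 G) := Q ⊔ ψ.ker with hK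
          have hKd : K.index ∣ 24 :=
            (Subgroup.index_dvd_of_le (le_sup_right (a := Q))).trans
              (hA ▸ Subgroup.index_ker ψ ▸ Subgroup.card_subgroup_dvd_card _)
          have hKodd : ¬ 2 ∣ K.index := by
            intro h2
            obtain ⟨a, ha⟩ := e_eq_pow hN hN1 hp D
            obtain ⟨k, hk⟩ := hp.exists_card_eq
            have hc8 : c ≤ 8 := by have := D.card_N; omega
            have h16 : Nat.card Q * 2 ∣ Nat.card G := by
              refine dvd_trans (mul_dvd_mul_left _ h2) (dvd_trans ?_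
                (Subgroup.card_quotient_dvd_card (Cfsg.pCore 3 G)))
              exact (mul_dvd_mul (Subgroup.card_dvd_of_le le_sup_left) dvd_rfl).trans
                (dvd_of_eq K.card_mul_index)
            rw [hQ8, D.card_G, hk, ha, ← pow_mul, ← pow_add] at h16
            have h1 : 16 ∣ c :=
              (Nat.Coprime.dvd_mul_right (Nat.Coprime.pow_right _ (by norm_num))).1 h16
            have := Nat.le_of_dvd D.c_pos h1
            omega
          have hK3 : K.index ∣ 3 := by
            have hco : Nat.Coprime K.index 8 :=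
              (Nat.prime_two.coprime_iff_not_dvd.2 hKodd).symm.pow_right 3
            exact hco.dvd_of_dvd_mul_left (by simpa using hKd)
          have hyK : y ∈ K := by
            haveI : IsCyclic ((G ⧸ Cfsg.pCore 3 G) ⧸ K) := by
              rcases (Nat.dvd_prime Nat.prime_three).1 hK3 with h1 | h1
              · haveI : Subsingleton ((G ⧸ Cfsg.pCore 3 G) ⧸ K) :=
                  (Nat.card_eq_one_iff_unique.1 h1).1
                exact isCyclic_of_subsingleton
              · exact isCyclic_of_prime_card h1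
            letI : CommGroup ((G ⧸ Cfsg.pCore 3 G) ⧸ K) := IsCyclic.commGroup
            exact (QuotientGroup.eq_one_iff y).1
              (Abelianization.commutator_subset_ker (QuotientGroup.mk' K) hy)
          obtain ⟨a, ha, b, hb, rfl⟩ := Subgroup.mem_sup_of_normal_left.1 hyK
          refine hsmall 8 ?_ (by norm_num)
          rw [map_mul, MonoidHom.mem_ker.1 hb, mul_one]
          refine (orderOf_map_dvd ψ a).trans ?_
          rw [show a = ((⟨a, ha⟩ : Q) : G ⧸ Cfsg.pCore 3 G) from rfl, Subgroup.orderOf_coe]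
          exact hQ8 ▸ orderOf_dvd_natCard _
        · refine hsmall 24 (hA ▸ orderOf_dvd_natCard _) fun hd => ?_
          rw [show (24 : ℕ) = 2 ^ 3 * 3 from rfl] at hd
          rcases hpf.out.dvd_mul.1 hd with h1 | h1
          · exact hp2 (hpf.out.dvd_of_dvd_pow h1)
          · exact hp3 ((Nat.prime_dvd_prime_iff_eq hpf.out Nat.prime_three).1 h1)
      · obtain ⟨k, hk⟩ := IsPGroup.iff_orderOf.1
          (isPGroup_mulAut_quaternion (show 2 ≤ n + 1 + 1 by omega)) (MulAut.congr eQ (ψ y))
        rw [MulEquiv.orderOf_eq] at hk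
        exact hsmall _ (dvd_of_eq hk) fun hd => hp2 (hpf.out.dvd_of_dvd_pow hd)
  have hF : Cfsg.fittingSubgroup (G ⧸ Cfsg.pCore p G) ≤
      Subgroup.centralizer ({y} : Set (G ⧸ Cfsg.pCore p G)) := by
    rw [Cfsg.Agent.Cores.fittingSubgroup_eq_iSup, iSup_le_iff]
    intro q a ha
    rw [Subgroup.mem_centralizer_singleton_iff]
    exact (hcent q (Nat.prime_of_mem_primeFactors q.2) a ha).symm
  have hyF : y ∈ Cfsg.fittingSubgroup (G ⧸ Cfsg.pCore p G) :=
    Cfsg.Agent.Cores.centralizer_fittingSubgroup_le (Subgroup.mem_centralizer_iff.2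
      fun a ha => Subgroup.mem_centralizer_singleton_iff.1 (hF ha))
  have hpg : IsPGroup p (Subgroup.zpowers (⟨y, hyF⟩ : Cfsg.fittingSubgroup (G ⧸ Cfsg.pCore p G))) :=
    IsPGroup.of_card (n := 1) (by rw [Nat.card_zpowers, Subgroup.orderOf_mk, hyo, pow_one])
  obtain ⟨P, hP⟩ := hpg.exists_le_sylow
  have := Cfsg.Agent.Cores.sylow_fitting_map P ▸
    Subgroup.mem_map_of_mem (Cfsg.fittingSubgroup (G ⧸ Cfsg.pCore p G)).subtype
      (hP (Subgroup.mem_zpowers _))
  rw [Cfsg.Agent.Cores.pCore_quotient_self, Subgroup.mem_bot] at this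
  exact hy1 this

include hN in
theorem hasNormalPComplement [Group.IsSolvable G] (hG : 2 < Nat.card G) (h : TwoClasses χ)
    (hp : IsPGroup p N) (hN1 : N ≠ ⊥) :
    Cfsg.HasNormalPComplement p (G ⧸ Cfsg.pCore p G) ∧
      ∀ Q : Sylow p (G ⧸ Cfsg.pCore p G),
        IsMulCommutative (Q : Subgroup (G ⧸ Cfsg.pCore p G)) := by
  set X := G ⧸ Cfsg.pCore p G with hX
  have hcop : (Nat.card (commutator X)).Coprime p := by
    rw [Nat.coprime_comm, hpf.out.coprime_iff_not_dvd]
    intro hd
    obtain ⟨a, ha⟩ := exists_prime_orderOf_dvd_card' p hd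
    exact orderOf_commutator_ne hN hG h hp hN1 _ a.2 (by rw [Subgroup.orderOf_coe, ha])
  refine ⟨Transfer.NormalPComplement.hasNormalPComplement_of_quotient hcop ?_, fun Q => ⟨⟨?_⟩⟩⟩
  · obtain ⟨P⟩ : Nonempty (Sylow p (X ⧸ commutator X)) := inferInstance
    letI : CommGroup (X ⧸ commutator X) := inferInstanceAs (CommGroup (Abelianization X))
    refine Transfer.NormalPComplement.hasNormalPComplement_of_normalizer_le_centralizer P
      fun a _ => Subgroup.mem_centralizer_iff.2 fun b _ => ?_
    exact mul_comm b a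
  · rintro ⟨a, ha⟩ ⟨b, hb⟩
    have hd : (commutator X) ⊓ (Q : Subgroup X) = ⊥ := by
      obtain ⟨k, hk⟩ := Q.isPGroup'.exists_card_eq
      rw [← disjoint_iff]
      exact Subgroup.disjoint_of_coprime_natCard (hk ▸ Nat.Coprime.pow_right k hcop)
    have : ⁅a, b⁆ ∈ commutator X ⊓ (Q : Subgroup X) :=
      ⟨Subgroup.commutator_mem_commutator (Subgroup.mem_top a) (Subgroup.mem_top b),
        (Q : Subgroup X).mul_mem ((Q : Subgroup X).mul_mem ((Q : Subgroup X).mul_mem ha hb)
          ((Q : Subgroup X).inv_mem ha)) ((Q : Subgroup X).inv_mem hb)⟩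
    rw [hd, Subgroup.mem_bot, commutatorElement_eq_one_iff_mul_comm] at this
    exact Subtype.ext this

end Cfsg.Agent.BlocksChars.GagolaSolvable
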