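import Cfsg.Prelude.Def_Solvable
import Cfsg.Agent.OddChar.PowTwist
import Cfsg.Agent.Lib.GL2.PrincipalSL
import Cfsg.Agent.BlocksChars.Degrees

/-!
# A character times a Galois conjugate

If `χ` is faithful and `g ↦ χ g * χ (g ^ k)` is irreducible, a normal subgroup `A` with
`⁅A, A⁆` central is central: the operator `∑ a, ρ a ⊗ σ (a ^ c)`, `c k ≡ -1`, commutes with the
group, so it is a nonzero scalar, and taking traces against `ρ b ⊗ σ (b ^ c)` forces `b` central.
-/

set_option autoImplicit false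
set_option linter.style.haveILetI false

namespace Cfsg.Agent.BlocksChars.GaloisProductIrreducible

open Cfsg.Agent.Characters
open scoped ComplexConjugate TensorProduct commutatorElement

universe u

variable {G : Type u} [Group G] [Finite G]

/-- The hypotheses. -/
structure Hyp (χ : Cfsg.IrrCharacter G) (k : ℕ) : Prop where
  faith : ∀ g : G, (χ : G → ℂ) g = (χ : G → ℂ) 1 → g = 1
  cop : Nat.Coprime k (Nat.card G)
  irr : Cfsg.IsIrrCharacter G (fun g => (χ : G → ℂ) g * (χ : G → ℂ) (g ^ k))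

variable {χ : Cfsg.IrrCharacter G} {k : ℕ}

theorem exists_c (H : Hyp χ k) : ∃ c : ℕ, ∀ x : G, (x ^ c) ^ k = x⁻¹ := by
  set n := Nat.card G
  haveI : NeZero n := ⟨Nat.card_pos.ne'⟩
  refine ⟨(-((k : ZMod n)⁻¹)).val, fun x => ?_⟩
  rw [eq_inv_iff_mul_eq_one, ← pow_mul, ← pow_succ]
  refine orderOf_dvd_iff_pow_eq_one.1 ((orderOf_dvd_natCard x).trans ?_)
  rw [← ZMod.natCast_eq_zero_iff, Nat.cast_succ, Nat.cast_mul, ZMod.natCast_zmod_val, neg_mul,
    mul_comm _ (k : ZMod n), ZMod.coe_mul_inv_eq_one k H.cop, neg_add_cancel]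

/-- The trace identity of the scalar operator. -/
theorem exists_scalar (H : Hyp χ k) (A : Subgroup G) [A.Normal] [Fintype A] (c : ℕ) :
    ∃ t : ℂ, ∀ u v : G, ∑ a : A, (χ : G → ℂ) ((a : G) * u) * (χ : G → ℂ) (((a : G) ^ c * v) ^ k) =
      t * ((χ : G → ℂ) u * (χ : G → ℂ) (v ^ k)) := by
  classical
  haveI := Fintype.ofFinite G
  obtain ⟨n, ρ, hρ, hχ⟩ := χ.2
  obtain ⟨m, σ, hσ⟩ := OddChar.PowTwist.isCharacter_comp_pow (irr_isCharacter χ) H.cop
  set π := ρ.tprod σ with hπdef
  have hπc : π.character = fun g => (χ : G → ℂ) g * (χ : G → ℂ) (g ^ k) := by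
    rw [hπdef, Representation.char_tensor, hσ, hχ]
    rfl
  obtain ⟨l, τ, hτ, hτc⟩ := H.irr
  obtain ⟨φ⟩ := nonempty_equiv_of_character_eq π τ (hπc.trans hτc.symm)
  haveI : π.IsIrreducible := (isIrreducible_congr φ).2 hτ
  set T : ((Fin n → ℂ) ⊗[ℂ] (Fin m → ℂ)) →ₗ[ℂ] ((Fin n → ℂ) ⊗[ℂ] (Fin m → ℂ)) :=
    ∑ a : A, TensorProduct.map (ρ (a : G)) (σ ((a : G) ^ c)) with hT
  have hcomm : ∀ g : G, T * π g = π g * T := by
    intro g
    rw [hT, Finset.sum_mul, Finset.mul_sum]
    refine (Fintype.sum_equiv (MulAut.conjNormal g : A ≃* A).toEquiv _ _ fun a => ?_).symm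
    show π g * TensorProduct.map (ρ (a : G)) (σ ((a : G) ^ c)) =
      TensorProduct.map (ρ ((MulAut.conjNormal g : A ≃* A) a : G))
        (σ (((MulAut.conjNormal g : A ≃* A) a : G) ^ c)) * π g
    rw [hπdef, Representation.tprod_apply, ← TensorProduct.map_mul, ← TensorProduct.map_mul,
      ← map_mul, ← map_mul, ← map_mul, ← map_mul, MulAut.conjNormal_apply, conj_pow,
      show g * (a : G) * g⁻¹ * g = g * a by group,
      show g * (a : G) ^ c * g⁻¹ * g = g * (a : G) ^ c by group]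
  obtain ⟨t, ht⟩ := schur_scalar π T (fun g v => LinearMap.congr_fun (hcomm g) v)
  refine ⟨t, fun u v => ?_⟩
  have htr : ∀ x y : G, LinearMap.trace ℂ ((Fin n → ℂ) ⊗[ℂ] (Fin m → ℂ))
      (TensorProduct.map (ρ x) (σ y)) = (χ : G → ℂ) x * (χ : G → ℂ) (y ^ k) := fun x y => by
    rw [LinearMap.trace_tensorProduct']
    exact congrArg₂ (· * ·) (congrFun hχ x) (congrFun hσ y)
  have h := congrArg (LinearMap.trace ℂ _)
    (congrArg (fun S => S * TensorProduct.map (ρ u) (σ v)) ht)
  rw [hT, Finset.sum_mul, map_sum, smul_mul_assoc, map_smul, ← Module.End.one_eq_id, one_mul, htr,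
    smul_eq_mul] at h
  rw [← h]
  refine Finset.sum_congr rfl fun a _ => ?_
  rw [← TensorProduct.map_mul, ← map_mul, ← map_mul, htr]

theorem center_of_norm (H : Hyp χ k) {g : G}
    (hg : ‖(χ : G → ℂ) g‖ = ‖(χ : G → ℂ) 1‖) : g ∈ Subgroup.center G := by
  obtain ⟨n, ρ, hρ, hχ⟩ := χ.2
  have hfaith := H.faith
  rw [← hχ] at hg hfaith
  obtain ⟨w, hw⟩ := rep_apply_eq_smul_of_norm_eq ρ g (by
    rw [hg, ρ.char_one, Complex.norm_natCast])
  refine Subgroup.mem_center_iff.2 fun x => ?_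
  refine eq_of_mul_inv_eq_one (hfaith _ (rep_char_eq_of_apply_eq_id ?_))
  have h1 : ρ (x * g) = ρ (g * x) := by
    rw [map_mul, map_mul, hw]
    simp [Module.End.mul_eq_comp]
  rw [map_mul, h1, ← map_mul, mul_inv_cancel, map_one]
  rfl

theorem scalar_ne_zero (A : Subgroup G) [Fintype A] {c : ℕ}
    (hc : ∀ x : G, (x ^ c) ^ k = x⁻¹) {t : ℂ}
    (ht : ∀ u v : G, ∑ a : A, (χ : G → ℂ) ((a : G) * u) * (χ : G → ℂ) (((a : G) ^ c * v) ^ k) =
      t * ((χ : G → ℂ) u * (χ : G → ℂ) (v ^ k))) : t ≠ 0 := by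
  intro h0
  have h := ht 1 1
  simp only [h0, zero_mul, mul_one, hc, char_inv (irr_isCharacter χ), Complex.mul_conj] at h
  have h' : ∑ a : A, Complex.normSq ((χ : G → ℂ) (a : G)) = 0 := by exact_mod_cast h
  have h1 := (Finset.sum_eq_zero_iff_of_nonneg fun a _ => Complex.normSq_nonneg _).1 h' 1
    (Finset.mem_univ _)
  exact irr_one_ne_zero χ.2 (Complex.normSq_eq_zero.1 h1)

/-- An abelian normal subgroup is central. -/
theorem abelian_central (H : Hyp χ k) (A : Subgroup G) [A.Normal]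
    (hA : ∀ a ∈ A, ∀ b ∈ A, a * b = b * a) : A ≤ Subgroup.center G := by
  haveI := Fintype.ofFinite A
  obtain ⟨c, hc⟩ := exists_c H
  obtain ⟨t, ht⟩ := exists_scalar H A c
  intro b hb
  have h1 := ht 1 1
  have h2 := ht b (b ^ c)
  have he : ∑ a : A, (χ : G → ℂ) ((a : G) * b) * (χ : G → ℂ) (((a : G) ^ c * b ^ c) ^ k) =
      ∑ a : A, (χ : G → ℂ) ((a : G) * 1) * (χ : G → ℂ) (((a : G) ^ c * 1) ^ k) := by
    refine Fintype.sum_equiv (Equiv.mulRight (⟨b, hb⟩ : A)) _ _ fun a => ?_
    have hcm : Commute (a : G) b := hA _ a.2 _ hb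
    simp only [Equiv.coe_mulRight, Subgroup.coe_mul, mul_one]
    rw [hcm.mul_pow]
  rw [he, h1, hc] at h2
  have h3 := mul_left_cancel₀ (scalar_ne_zero A hc ht) h2
  rw [one_pow, char_inv (irr_isCharacter χ)] at h3
  obtain ⟨d, hd, hd1⟩ := irr_one_pos χ.2
  refine center_of_norm H ?_
  have h4 := congrArg norm h3
  simp only [norm_mul, Complex.norm_conj] at h4
  exact ((mul_self_inj (norm_nonneg _) (norm_nonneg _)).1 h4).symm

/-- A normal subgroup with central derived subgroup is central. -/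
theorem central_of_commutator_le (H : Hyp χ k) (A : Subgroup G) [hAn : A.Normal]
    (hA : ∀ a ∈ A, ∀ b ∈ A, ⁅a, b⁆ ∈ Subgroup.center G) : A ≤ Subgroup.center G := by
  haveI := Fintype.ofFinite A
  haveI := Fintype.ofFinite G
  -- the centre of `A`
  haveI hZn : (A ⊓ Subgroup.centralizer (A : Set G)).Normal := inferInstance
  have hZ : A ⊓ Subgroup.centralizer (A : Set G) ≤ Subgroup.center G :=
    abelian_central H _ fun a ha b hb => Subgroup.mem_centralizer_iff.1 hb.2 a ha.1
  have hvan : ∀ a ∈ A, a ∉ Subgroup.center G → (χ : G → ℂ) a = 0 := by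
    intro a ha hna
    obtain ⟨x, hx, hne⟩ : ∃ x ∈ A, x * a ≠ a * x := by
      by_contra hcon
      push Not at hcon
      exact hna (hZ ⟨ha, Subgroup.mem_centralizer_iff.2 fun y hy => hcon y hy⟩)
    have hz := hA x hx a ha
    have hmul := (GL2.PrincipalSL.center_mul χ.2
      (fun g => (Subgroup.mem_center_iff.1 hz g).symm) a).1
    have hconj : (χ : G → ℂ) (a * ⁅x, a⁆) = (χ : G → ℂ) a := by
      rw [Subgroup.mem_center_iff.1 hz a, show ⁅x, a⁆ * a = x * a * x⁻¹ by
        rw [commutatorElement_def]; group]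
      exact irr_isClassFunction χ a x
    by_contra h0
    rw [hconj, eq_div_iff (irr_one_ne_zero χ.2)] at hmul
    exact hne (commutatorElement_eq_one_iff_mul_comm.1
      (H.faith _ (mul_left_cancel₀ h0 hmul).symm))
  intro b hb
  by_contra hnb
  obtain ⟨c, hc⟩ := exists_c H
  obtain ⟨t, ht⟩ := exists_scalar H A c
  have h := ht b⁻¹ ((b⁻¹) ^ c)
  rw [hvan _ (A.inv_mem hb) (fun e => hnb (by simpa using Subgroup.inv_mem _ e)), zero_mul,
    mul_zero] at h
  classical
  -- only the terms of `Z b` survive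
  have hterm : ∀ a : A, (χ : G → ℂ) ((a : G) * b⁻¹) *
      (χ : G → ℂ) (((a : G) ^ c * (b⁻¹) ^ c) ^ k) =
      if (a : G) * b⁻¹ ∈ Subgroup.center G then (χ : G → ℂ) 1 * (χ : G → ℂ) 1 else 0 := by
    intro a
    split_ifs with hz
    · have ha : (a : G) = (a : G) * b⁻¹ * b := by group
      have hpow : ((a : G) ^ c * (b⁻¹) ^ c) = ((a : G) * b⁻¹) ^ c := by
        have hcm : Commute (a : G) b⁻¹ := by
          have h1 := (Subgroup.mem_center_iff.1 hz b⁻¹)
          show (a : G) * b⁻¹ = b⁻¹ * a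
          have h2 : b * ((a : G) * b⁻¹) = (a : G) * b⁻¹ * b := Subgroup.mem_center_iff.1 hz b
          rw [inv_mul_cancel_right] at h2
          calc (a : G) * b⁻¹ = b⁻¹ * (b * ((a : G) * b⁻¹)) := by group
            _ = b⁻¹ * a := by rw [h2]
        exact (hcm.mul_pow c).symm
      rw [hpow, hc, char_inv (irr_isCharacter χ), Complex.mul_conj, Complex.normSq_eq_norm_sq,
        (GL2.PrincipalSL.center_mul χ.2 (fun g => (Subgroup.mem_center_iff.1 hz g).symm) 1).2]
      obtain ⟨d, -, hd1⟩ := irr_one_pos χ.2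
      rw [hd1, Complex.norm_natCast]
      push_cast
      ring
    · rw [hvan _ (A.mul_mem a.2 (A.inv_mem hb)) hz, zero_mul]
  rw [Finset.sum_congr rfl (fun a _ => hterm a), ← Finset.sum_filter, Finset.sum_const,
    nsmul_eq_mul, mul_eq_zero, Nat.cast_eq_zero, Finset.card_eq_zero] at h
  rcases h with h | h
  · have : (⟨b, hb⟩ : A) ∈ (∅ : Finset A) := by
      rw [← h, Finset.mem_filter]
      exact ⟨Finset.mem_univ _, by simpa using Subgroup.one_mem _⟩
    exact Finset.notMem_empty _ this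
  · exact mul_self_ne_zero.2 (irr_one_ne_zero χ.2) h

/-- The Fitting subgroup is the centre. -/
theorem fitting_eq_center (H : Hyp χ k) : Cfsg.fittingSubgroup G = Subgroup.center G := by
  refine le_antisymm (sSup_le ?_) (le_sSup ⟨inferInstance, ?_⟩)
  · rintro N ⟨hN, hnil⟩
    haveI := hN
    obtain ⟨n, hn⟩ := (Subgroup.isNilpotent_iff_lowerCentralSeries N).1 hnil
    have hnormal : ∀ j, (N.lowerCentralSeries j).Normal := by
      intro j
      induction j with
      | zero => exact hN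
      | succ j ih =>
        haveI := ih
        rw [Subgroup.lowerCentralSeries_succ]
        exact Subgroup.commutator_normal _ _
    have hle : ∀ j, N.lowerCentralSeries j ≤ N := fun j =>
      N.lowerCentralSeries_antitone (Nat.zero_le j)
    have h0 : ∀ i, i ≤ n → N.lowerCentralSeries (n - i) ≤ Subgroup.center G := by
      intro i hi
      induction i with
      | zero => rw [Nat.sub_zero, hn]; exact bot_le
      | succ i ih =>
        haveI := hnormal (n - (i + 1))
        refine central_of_commutator_le H _ fun a ha b hb => ih (by omega) ?_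
        rw [show n - i = n - (i + 1) + 1 by omega, Subgroup.lowerCentralSeries_succ]
        exact Subgroup.commutator_mem_commutator ha (hle _ hb)
    simpa using h0 n le_rfl
  · refine (Subgroup.isNilpotent_iff_lowerCentralSeries _).2 ⟨1, ?_⟩
    rw [Subgroup.lowerCentralSeries_succ, Subgroup.lowerCentralSeries_zero, eq_bot_iff,
      Subgroup.commutator_le]
    intro a ha b hb
    rw [Subgroup.mem_bot, commutatorElement_eq_one_iff_mul_comm]
    exact Subgroup.mem_center_iff.1 hb a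

end Cfsg.Agent.BlocksChars.GaloisProductIrreducible
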