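import Mathlib
import Cfsg.Agent.Lib.Involutions.Basic
import Cfsg.Agent.Lib.Coprime.Sylow

/-!
If the centralizers of the nontrivial `p`-elements have odd order, an involution inverting some
nontrivial `p`-element inverts a whole Sylow `p`-subgroup, and the involutions of this kind form
one conjugacy class.
-/

set_option autoImplicit false

open scoped Pointwise

namespace Cfsg.Agent.BlocksChars.InvertedSylow

variable {G : Type*} [Group G]

/-- `t` inverts every element of `D`. -/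
def Inverts (t : G) (D : Subgroup G) : Prop := ∀ d ∈ D, t * d * t⁻¹ = d⁻¹

theorem Inverts.comm {t : G} {D : Subgroup G} (h : Inverts t D) :
    ∀ a ∈ D, ∀ b ∈ D, a * b = b * a := by
  intro a ha b hb
  have h1 := h (a * b) (mul_mem ha hb)
  rw [show t * (a * b) * t⁻¹ = (t * a * t⁻¹) * (t * b * t⁻¹) by group, h a ha, h b hb,
    ← mul_inv_rev, inv_inj] at h1
  exact h1.symm

theorem Inverts.isMulCommutative {t : G} {D : Subgroup G} (h : Inverts t D) : IsMulCommutative D :=
  ⟨⟨fun a b => Subtype.ext (h.comm _ a.2 _ b.2)⟩⟩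

theorem Inverts.mem_normalizer {t : G} {D : Subgroup G} (h : Inverts t D) :
    t ∈ Subgroup.normalizer (D : Set G) := by
  rw [Subgroup.mem_normalizer_iff]
  intro d
  refine ⟨fun hd => by rw [h d hd]; exact inv_mem hd, fun hd => ?_⟩
  have h1 := h _ (inv_mem hd)
  rw [inv_inv] at h1
  rw [← mul_left_cancel (mul_right_cancel h1)]
  exact inv_mem hd

theorem Inverts.conj {t : G} {D : Subgroup G} (h : Inverts t D) (g : G) :
    Inverts (g * t * g⁻¹) (D.map (MulAut.conj g).toMonoidHom) := by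
  rintro _ ⟨d, hd, rfl⟩
  show g * t * g⁻¹ * (g * d * g⁻¹) * (g * t * g⁻¹)⁻¹ = (g * d * g⁻¹)⁻¹
  calc g * t * g⁻¹ * (g * d * g⁻¹) * (g * t * g⁻¹)⁻¹ = g * (t * d * t⁻¹) * g⁻¹ := by group
    _ = _ := by rw [h d hd]; group

theorem Inverts.mul_mem_centralizer {s t : G} {D : Subgroup G} (hs : Inverts s D)
    (ht : Inverts t D) : s * t ∈ Subgroup.centralizer (D : Set G) := by
  rw [Subgroup.mem_centralizer_iff]
  intro d hd
  have h1 : s * (t * d * t⁻¹) * s⁻¹ = d := by rw [ht d hd, hs _ (inv_mem hd), inv_inv]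
  calc d * (s * t) = s * (t * d * t⁻¹) * s⁻¹ * (s * t) := by rw [h1]
    _ = s * t * d := by group

theorem inverts_zpowers {t u : G} (h : t * u * t⁻¹ = u⁻¹) : Inverts t (Subgroup.zpowers u) := by
  rintro _ ⟨k, rfl⟩
  show t * u ^ k * t⁻¹ = (u ^ k)⁻¹
  rw [← conj_zpow, h, inv_zpow]

theorem normalizer_le_normalizer_centralizer (D : Subgroup G) :
    Subgroup.normalizer (D : Set G) ≤
      Subgroup.normalizer (Subgroup.centralizer (D : Set G) : Set G) := by
  have key : ∀ g ∈ Subgroup.normalizer (D : Set G), ∀ x ∈ Subgroup.centralizer (D : Set G),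
      g * x * g⁻¹ ∈ Subgroup.centralizer (D : Set G) := by
    intro g hg x hx
    rw [Subgroup.mem_centralizer_iff] at hx ⊢
    intro d hd
    have h := hx (g⁻¹ * d * g)
      ((Subgroup.mem_normalizer_iff.1 hg _).2 (by simpa [mul_assoc] using hd))
    calc d * (g * x * g⁻¹) = g * (g⁻¹ * d * g * x) * g⁻¹ := by group
      _ = g * (x * (g⁻¹ * d * g)) * g⁻¹ := by rw [h]
      _ = g * x * g⁻¹ * d := by group
  intro g hg
  rw [Subgroup.mem_normalizer_iff]
  intro x
  refine ⟨key g hg x, fun hx => ?_⟩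
  have h := key g⁻¹ (inv_mem hg) _ hx
  simpa [mul_assoc] using h

variable [Finite G] (p : ℕ) [Fact p.Prime]

/-- The hypothesis: nontrivial `p`-elements have centralizers of odd order. -/
def OddCentralizers (G : Type*) [Group G] : Prop :=
  ∀ u : G, u ≠ 1 → (∃ k : ℕ, orderOf u = p ^ k) →
    Odd (Nat.card (Subgroup.centralizer ({u} : Set G)))

variable {p}

omit [Finite G] in
theorem exists_orderOf_eq_pow {D : Subgroup G} (hD : IsPGroup p D) {d : G} (hd : d ∈ D) :
    ∃ k : ℕ, orderOf d = p ^ k := by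
  obtain ⟨k, hk⟩ := hD ⟨d, hd⟩
  obtain ⟨j, -, hj⟩ := (Nat.dvd_prime_pow (Fact.out : p.Prime)).1
    (orderOf_dvd_of_pow_eq_one (congrArg Subtype.val hk))
  exact ⟨j, hj⟩

theorem not_commute (hC : OddCentralizers p G) {u t : G} (hu : u ≠ 1)
    (hu' : ∃ k : ℕ, orderOf u = p ^ k) (ht : orderOf t = 2) : t * u ≠ u * t := by
  intro h
  have hmem : t ∈ Subgroup.centralizer ({u} : Set G) :=
    Subgroup.mem_centralizer_singleton_iff.2 h
  have hdvd : orderOf t ∣ Nat.card (Subgroup.centralizer ({u} : Set G)) := by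
    rw [← Subgroup.orderOf_mk t hmem]; exact orderOf_dvd_natCard _
  rw [ht] at hdvd
  exact Nat.not_even_iff_odd.2 (hC u hu hu') (even_iff_two_dvd.2 hdvd)

theorem inverts_of_mem_normalizer (hC : OddCentralizers p G) {t : G} (ht : orderOf t = 2)
    {D : Subgroup G} (hD : IsPGroup p D) (hn : t ∈ Subgroup.normalizer (D : Set G)) :
    Inverts t D := by
  have htt : t * t = 1 := Involutions.Basic.inv_sq_one ht
  let φ : ↥D → ↥D := fun d => ⟨t * d * t⁻¹, (Subgroup.mem_normalizer_iff.1 hn d).1 d.2⟩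
  have hinv : Function.Involutive φ := by
    intro d
    apply Subtype.ext
    show t * (t * d * t⁻¹) * t⁻¹ = d
    calc t * (t * d * t⁻¹) * t⁻¹ = (t * t) * d * (t * t)⁻¹ := by group
      _ = d := by rw [htt]; group
  let f : ↥D →* ↥D :=
    { toFun := φ
      map_one' := Subtype.ext (by simp [φ])
      map_mul' := fun a b => Subtype.ext (by simp [φ]) }
  have hfree : MonoidHom.FixedPointFree f := by
    intro d hd
    by_contra hne
    apply not_commute hC (u := (d : G)) (fun h => hne (Subtype.ext h))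
      (exists_orderOf_eq_pow hD d.2) ht
    have : t * d * t⁻¹ = (d : G) := congrArg Subtype.val hd
    exact mul_inv_eq_iff_eq_mul.1 this
  have h := MonoidHom.FixedPointFree.coe_eq_inv_of_involutive hfree hinv
  intro d hd
  exact congrArg Subtype.val (congrFun h ⟨d, hd⟩)

/-- An involution inverting a nontrivial `p`-element inverts a Sylow `p`-subgroup. -/
theorem exists_sylow_inverts (hC : OddCentralizers p G) {t u : G} (ht : orderOf t = 2)
    (hu : u ≠ 1) (hu' : ∃ k : ℕ, orderOf u = p ^ k) (htu : t * u * t⁻¹ = u⁻¹) :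
    ∃ P : Sylow p G, Inverts t (P : Subgroup G) := by
  have hU : IsPGroup p (Subgroup.zpowers u) := by
    obtain ⟨k, hk⟩ := hu'
    exact IsPGroup.of_card (by rw [Nat.card_zpowers, hk])
  obtain ⟨D, hUD, ⟨hDp, htD⟩, hmax⟩ := Set.Finite.exists_le_maximal
    (Set.toFinite {D : Subgroup G | IsPGroup p D ∧ Inverts t D})
    (a := Subgroup.zpowers u) ⟨hU, inverts_zpowers htu⟩
  have huD : u ∈ D := hUD (Subgroup.mem_zpowers u)
  set C := Subgroup.centralizer (D : Set G) with hCdef
  have hCodd : Odd (Nat.card C) :=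
    (hC u hu hu').of_dvd_nat (Subgroup.card_dvd_of_le
      (Subgroup.centralizer_le (Set.singleton_subset_iff.2 huD)))
  have hnC : Subgroup.zpowers t ≤ Subgroup.normalizer (C : Set G) := by
    rw [Subgroup.zpowers_le]
    exact normalizer_le_normalizer_centralizer _ htD.mem_normalizer
  have hcop : (Nat.card (Subgroup.zpowers t)).Coprime (Nat.card C) := by
    rw [Nat.card_zpowers, ht]
    exact hCodd.coprime_two_left
  have hDC : D ≤ C := fun d hd => Subgroup.mem_centralizer_iff.2 fun e he => htD.comm e he d hd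
  obtain ⟨Q, hDQ, hQt⟩ := Coprime.exists_invariant_sylow_ge (p := p) hnC hcop
    (Or.inl (Coprime.isSolvable_of_isMulCommutative _)) hDC hDp (by
      rw [Subgroup.zpowers_le]; exact htD.mem_normalizer)
  have hQp : IsPGroup p ((Q : Subgroup C).map C.subtype) := Q.2.map _
  have hQinv : Inverts t ((Q : Subgroup C).map C.subtype) :=
    inverts_of_mem_normalizer hC ht hQp (hQt (Subgroup.mem_zpowers t))
  have hQD : (Q : Subgroup C).map C.subtype = D :=
    le_antisymm (hmax ⟨hQp, hQinv⟩ hDQ) hDQ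
  obtain ⟨P, hDP⟩ := hDp.exists_le_sylow
  refine ⟨P, ?_⟩
  suffices h : (P : Subgroup G) ≤ D by rwa [le_antisymm h hDP]
  by_contra hlt
  have hlt' : D.subgroupOf (P : Subgroup G) < ⊤ := lt_top_iff_ne_top.2 fun h =>
    hlt (Subgroup.subgroupOf_eq_top.1 h)
  have : Group.IsNilpotent ↥(P : Subgroup G) := P.2.isNilpotent
  have hnc := Group.normalizerCondition_of_isNilpotent (G := ↥(P : Subgroup G)) _ hlt'
  obtain ⟨n, hn, hnD⟩ := SetLike.exists_of_lt hnc
  have hnD' : (n : G) ∉ D := hnD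
  have hnN : (n : G) ∈ Subgroup.normalizer (D : Set G) := by
    rw [Subgroup.mem_normalizer_iff] at hn ⊢
    intro x
    constructor
    · intro hx
      exact (hn ⟨x, hDP hx⟩).1 hx
    · intro hx
      have hxP : x ∈ (P : Subgroup G) := by
        have := mul_mem (mul_mem (inv_mem n.2) (hDP hx)) n.2
        simpa [mul_assoc] using this
      exact (hn ⟨x, hxP⟩).2 hx
  -- `n` moves `t` to a conjugate under `C`
  have hconj : Inverts ((n : G) * t * (n : G)⁻¹) D := by
    have h := htD.conj (n : G)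
    have hmap : D.map (MulAut.conj (n : G)).toMonoidHom = D := by
      ext x
      rw [Subgroup.mem_map]
      constructor
      · rintro ⟨d, hd, rfl⟩; exact (Subgroup.mem_normalizer_iff.1 hnN d).1 hd
      · intro hx
        exact ⟨(n : G)⁻¹ * x * n, (Subgroup.mem_normalizer_iff.1 hnN _).2 (by
          simpa [mul_assoc] using hx), by simp [mul_assoc]⟩
    rwa [hmap] at h
  have ht' : orderOf ((n : G) * t * (n : G)⁻¹) = 2 := by rw [Involutions.Basic.orderOf_conj, ht]
  have hodd : Odd (orderOf (((n : G) * t * (n : G)⁻¹) * t)) := by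
    have hm : ((n : G) * t * (n : G)⁻¹) * t ∈ C := hconj.mul_mem_centralizer htD
    exact hCodd.of_dvd_nat (Subgroup.orderOf_mk _ hm ▸ orderOf_dvd_natCard _)
  obtain ⟨c, hc, hct⟩ := Involutions.Basic.exists_conj_of_odd ht' ht hodd
  have hcC : c ∈ C := (Subgroup.zpowers_le.2 (hconj.mul_mem_centralizer htD)) hc
  set z := c * (n : G) with hz
  have hzt : z * t = t * z := by
    have h1 : z * t * z⁻¹ = t := by
      calc z * t * z⁻¹ = c * ((n : G) * t * (n : G)⁻¹) * c⁻¹ := by rw [hz]; group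
        _ = t := hct
    exact mul_inv_eq_iff_eq_mul.1 h1
  -- `z` has order prime to `p` and maps to the image of `n` modulo `C`
  have hzp : ¬ p ∣ orderOf z := by
    intro hdvd
    have hne : z ^ (orderOf z / p) ≠ 1 := fun h1 => by
      have hpos : 0 < orderOf z / p :=
        Nat.div_pos (Nat.le_of_dvd (orderOf_pos z) hdvd) (Fact.out : p.Prime).pos
      exact Nat.not_le.2 (Nat.div_lt_self (orderOf_pos z) (Fact.out : p.Prime).one_lt)
        (orderOf_le_of_pow_eq_one hpos h1)
    refine not_commute hC hne ⟨1, ?_⟩ ht ((Commute.pow_right (show Commute t z from hzt.symm) _).eq)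
    rw [orderOf_pow_orderOf_div (orderOf_pos z).ne' hdvd, pow_one]
  obtain ⟨j, hj⟩ := exists_orderOf_eq_pow P.2 n.2
  let N := Subgroup.normalizer (D : Set G)
  have hCN : (C.subgroupOf N).Normal := by
    constructor
    intro x hx g
    rw [Subgroup.mem_subgroupOf] at hx ⊢
    exact (Subgroup.mem_normalizer_iff.1
      (normalizer_le_normalizer_centralizer D g.2) _).1 hx
  have hcN : c ∈ N := Subgroup.centralizer_le_normalizer _ hcC
  let q : ↥N →* ↥N ⧸ C.subgroupOf N := QuotientGroup.mk' _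
  have hq : q ⟨z, mul_mem hcN hnN⟩ = q ⟨n, hnN⟩ := by
    rw [show (⟨z, mul_mem hcN hnN⟩ : ↥N) = ⟨c, hcN⟩ * ⟨n, hnN⟩ from rfl, map_mul,
      show q ⟨c, hcN⟩ = 1 from (QuotientGroup.eq_one_iff _).2 hcC, one_mul]
  have h1 : orderOf (q ⟨n, hnN⟩) ∣ p ^ j := by
    rw [← hj, ← Subgroup.orderOf_mk (n : G) hnN]; exact orderOf_map_dvd q _
  have h2 : orderOf (q ⟨n, hnN⟩) ∣ orderOf z := by
    rw [← hq, ← Subgroup.orderOf_mk z (mul_mem hcN hnN)]; exact orderOf_map_dvd q _
  have h3 : orderOf (q ⟨n, hnN⟩) = 1 :=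
    Nat.eq_one_of_dvd_coprimes (Nat.Coprime.pow_left j
      ((Fact.out : p.Prime).coprime_iff_not_dvd.2 hzp)) h1 h2
  have hnC' : (n : G) ∈ C := Subgroup.mem_subgroupOf.1
    ((QuotientGroup.eq_one_iff (N := C.subgroupOf N) (⟨n, hnN⟩ : ↥N)).1 (orderOf_eq_one_iff.1 h3))
  -- so `D` and `n` generate a `p`-subgroup of `C`
  have hR : IsPGroup p ((D ⊔ Subgroup.zpowers (n : G)).subgroupOf C) :=
    IsPGroup.comap_of_injective (P.2.to_le (sup_le hDP (Subgroup.zpowers_le.2 n.2))) _
      C.subtype_injective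
  have hQR : (Q : Subgroup C) ≤ (D ⊔ Subgroup.zpowers (n : G)).subgroupOf C := by
    intro x hx
    exact Subgroup.mem_subgroupOf.2 (le_sup_left (a := D) (hQD ▸ Subgroup.mem_map_of_mem _ hx))
  have heq := Q.3 hR hQR
  apply hnD'
  rw [← hQD]
  refine ⟨⟨n, hnC'⟩, ?_, rfl⟩
  show (⟨n, hnC'⟩ : C) ∈ (Q : Subgroup C)
  rw [← heq]
  exact le_sup_right (a := D) (Subgroup.mem_zpowers (n : G))

/-- Sylow subgroups are abelian with normalizers of even order, as soon as some involution
inverts a nontrivial `p`-element. -/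
theorem sylow_of_inverted (hC : OddCentralizers p G) {t u : G} (ht : orderOf t = 2) (hu : u ≠ 1)
    (hu' : ∃ k : ℕ, orderOf u = p ^ k) (htu : t * u * t⁻¹ = u⁻¹) (P : Sylow p G) :
    ∃ g : G, Inverts (g * t * g⁻¹) (P : Subgroup G) := by
  obtain ⟨P₀, hP₀⟩ := exists_sylow_inverts hC ht hu hu' htu
  obtain ⟨g, hg⟩ := MulAction.exists_smul_eq G P₀ P
  refine ⟨g, ?_⟩
  rw [← hg, Sylow.coe_subgroup_smul, Coprime.conj_smul_eq_map]
  exact hP₀.conj g

theorem even_card_normalizer {s : G} (hs : orderOf s = 2) {P : Subgroup G} (h : Inverts s P) :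
    Even (Nat.card (Subgroup.normalizer (P : Set G))) := by
  rw [even_iff_two_dvd, ← hs, ← Subgroup.orderOf_mk s h.mem_normalizer]
  exact orderOf_dvd_natCard _

/-- The involutions inverting a nontrivial `p`-element are all conjugate. -/
theorem isConj_of_inverted (hC : OddCentralizers p G) {s t u v : G} (hs : orderOf s = 2)
    (ht : orderOf t = 2) (hu : u ≠ 1) (hu' : ∃ k : ℕ, orderOf u = p ^ k)
    (hsu : s * u * s⁻¹ = u⁻¹) (hv : v ≠ 1) (hv' : ∃ k : ℕ, orderOf v = p ^ k)
    (htv : t * v * t⁻¹ = v⁻¹) : IsConj s t := by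
  obtain ⟨P, hP⟩ := exists_sylow_inverts hC hs hu hu' hsu
  obtain ⟨g, hg⟩ := sylow_of_inverted hC ht hv hv' htv P
  have huP : ∃ d ∈ (P : Subgroup G), d ≠ 1 := by
    obtain ⟨Q, hQ⟩ := (IsPGroup.of_card (p := p) (G := Subgroup.zpowers u)
      (n := hu'.choose) (by rw [Nat.card_zpowers]; exact hu'.choose_spec)).exists_le_sylow
    refine (Subgroup.bot_or_exists_ne_one (P : Subgroup G)).resolve_left fun h => hu ?_
    obtain ⟨a, ha⟩ := MulAction.exists_smul_eq G P Q
    have h1 : u ∈ (MulAut.conj a • (P : Subgroup G)) := by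
      rw [← Sylow.coe_subgroup_smul, ha]; exact hQ (Subgroup.mem_zpowers u)
    rw [h, Coprime.conj_smul_eq_map, Subgroup.map_bot] at h1
    exact Subgroup.mem_bot.1 h1
  obtain ⟨d, hd, hd1⟩ := huP
  have hm : s * (g * t * g⁻¹) ∈ Subgroup.centralizer ({d} : Set G) :=
    Subgroup.centralizer_le (Set.singleton_subset_iff.2 hd) (hP.mul_mem_centralizer hg)
  have hodd : Odd (orderOf (s * (g * t * g⁻¹))) :=
    (hC d hd1 (exists_orderOf_eq_pow P.2 hd)).of_dvd_nat
      (Subgroup.orderOf_mk _ hm ▸ orderOf_dvd_natCard _)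
  obtain ⟨c, -, hc⟩ := Involutions.Basic.exists_conj_of_odd hs
    (by rw [Involutions.Basic.orderOf_conj, ht]) hodd
  exact (isConj_iff.2 ⟨c, hc⟩).trans ((isConj_iff.2 ⟨g, rfl⟩ : IsConj t _).symm)

end Cfsg.Agent.BlocksChars.InvertedSylow
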