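import Mathlib
import Cfsg.Agent.Lib.Cores.Basic
import Cfsg.Agent.Lib.Involutions.BrauerFowler

/-!
# Groups with a four-group all of whose involutions have small centralisers
-/

set_option linter.style.haveILetI false

namespace Cfsg.Agent.BlocksChars.InvolutionBound

open Cfsg.Agent.Cores

universe u

/-- A group of odd order with two commuting automorphisms of period two. -/
theorem card_odd_le {K : Type*} [Group K] [Finite K] (hodd : Odd (Nat.card K)) (σ τ : K ≃* K)
    (hσ : ∀ k, σ (σ k) = k) (hτ : ∀ k, τ (τ k) = k) (hst : ∀ k, σ (τ k) = τ (σ k)) :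
    Nat.card K ≤ Nat.card {k : K // σ k = k} *
      (Nat.card {k : K // σ (τ k) = k} * Nat.card {k : K // τ k = k}) := by
  set h := (Nat.card K + 1) / 2 with hh
  have h2 : h + h = Nat.card K + 1 := by
    obtain ⟨t, ht⟩ := hodd; omega
  have hsq : ∀ w : K, w ^ h * w ^ h = w := fun w => by
    rw [← pow_add, h2, pow_succ, pow_card_eq_one', one_mul]
  let S : K → K := fun g => ((σ g)⁻¹ * g) ^ h
  let Z : K → K := fun i => (τ i * i) ^ h
  have hS : ∀ g, σ (S g) = (S g)⁻¹ := fun g => by
    show σ (((σ g)⁻¹ * g) ^ h) = _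
    rw [map_pow, map_mul, map_inv, hσ, ← inv_pow, mul_inv_rev, inv_inv]
  have hc : ∀ g, σ (g * (S g)⁻¹) = g * (S g)⁻¹ := fun g => by
    rw [map_mul, map_inv, hS, inv_inv, eq_mul_inv_iff_mul_eq, mul_assoc, hsq,
      mul_inv_cancel_left]
  let U : K → K := fun g => S g * (Z (S g))⁻¹
  have hconj : ∀ i : K, (i * τ i) ^ h = i * Z i * i⁻¹ := fun i => by
    show _ = i * (τ i * i) ^ h * i⁻¹
    rw [← conj_pow, mul_assoc i (τ i * i) i⁻¹, mul_inv_cancel_right]
  have hτi : ∀ i : K, τ i = Z i * Z i * i⁻¹ := fun i => by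
    show τ i = (τ i * i) ^ h * (τ i * i) ^ h * i⁻¹
    rw [hsq, mul_inv_cancel_right]
  have hU : ∀ g, τ (U g) = (U g)⁻¹ := fun g => by
    have e : τ (Z (S g)) = S g * Z (S g) * (S g)⁻¹ := by
      rw [← hconj]; show τ ((τ (S g) * S g) ^ h) = _
      rw [map_pow, map_mul, hτ]
    show τ (S g * (Z (S g))⁻¹) = (S g * (Z (S g))⁻¹)⁻¹
    rw [map_mul, map_inv, e, hτi (S g)]
    group
  have hU' : ∀ g, σ (τ (U g)) = U g := fun g => by
    have e : σ (Z (S g)) = S g * (Z (S g))⁻¹ * (S g)⁻¹ := by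
      rw [show S g * (Z (S g))⁻¹ * (S g)⁻¹ = (S g * Z (S g) * (S g)⁻¹)⁻¹ by group, ← hconj]
      have a : σ (τ (S g)) = (τ (S g))⁻¹ := by rw [hst, hS, map_inv]
      show σ ((τ (S g) * S g) ^ h) = _
      rw [map_pow σ (τ (S g) * S g) h, map_mul, a, hS, ← inv_pow (S g * τ (S g)) h,
        mul_inv_rev (S g) (τ (S g))]
    rw [hU, map_inv]
    show (σ (S g * (Z (S g))⁻¹))⁻¹ = S g * (Z (S g))⁻¹
    rw [map_mul, map_inv, hS, e]
    group
  have hD : ∀ g, τ ((U g ^ h)⁻¹ * S g * (U g ^ h)⁻¹) = (U g ^ h)⁻¹ * S g * (U g ^ h)⁻¹ := fun g => by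
    have e : τ (U g ^ h) = (U g ^ h)⁻¹ := by rw [map_pow, hU, inv_pow]
    have e2 : τ (S g) = (U g)⁻¹ * S g * (U g)⁻¹ := by
      rw [hτi (S g)]
      show _ = (S g * (Z (S g))⁻¹)⁻¹ * S g * (S g * (Z (S g))⁻¹)⁻¹
      group
    rw [map_mul, map_mul, map_inv, e, inv_inv, e2]
    have e3 : U g ^ h * (U g)⁻¹ = (U g ^ h)⁻¹ := by
      apply eq_inv_of_mul_eq_one_left
      rw [mul_assoc, ← (Commute.pow_self (U g) h).inv_right.eq, ← mul_assoc, hsq, mul_inv_cancel]
    have e4 : (U g)⁻¹ * U g ^ h = (U g ^ h)⁻¹ := by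
      rw [← e3, (Commute.pow_self (U g) h).inv_right.eq]
    calc U g ^ h * ((U g)⁻¹ * S g * (U g)⁻¹) * U g ^ h
        = (U g ^ h * (U g)⁻¹) * S g * ((U g)⁻¹ * U g ^ h) := by group
      _ = _ := by rw [e3, e4]
  rw [← Nat.card_prod, ← Nat.card_prod]
  refine Nat.card_le_card_of_injective (fun g => (⟨_, hc g⟩, ⟨_, hU' g⟩, ⟨_, hD g⟩)) ?_
  intro a b hab
  simp only [Prod.mk.injEq, Subtype.mk.injEq] at hab
  obtain ⟨h1, h2', h3⟩ := hab
  rw [h2'] at h3
  rw [mul_left_inj, mul_right_inj] at h3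
  rw [h3] at h1
  exact mul_right_cancel h1

/-- A commutative group with two commuting automorphisms of period two. -/
theorem card_comm_le {K : Type*} [CommGroup K] [Finite K] (σ τ : K ≃* K)
    (hσ : ∀ k, σ (σ k) = k) (hτ : ∀ k, τ (τ k) = k) (hst : ∀ k, σ (τ k) = τ (σ k)) :
    Nat.card K ≤ Nat.card {k : K // σ k = k} *
      (Nat.card {k : K // σ (τ k) = k} * Nat.card {k : K // τ k = k}) := by
  let φ : K →* K := MonoidHom.mk' (fun k => σ k / k) (fun a b => by rw [map_mul, mul_div_mul_comm])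
  let ψ : K →* K := MonoidHom.mk' (fun k => τ k / k) (fun a b => by rw [map_mul, mul_div_mul_comm])
  have hker : ∀ (f : K →* K) (H : Subgroup K),
      Nat.card H = Nat.card (H.map f) * Nat.card {k : H // f (k : K) = 1} := by
    intro f H
    have h := (f.comp H.subtype).ker.index_mul_card
    rw [Subgroup.index_ker, MonoidHom.range_comp, Subgroup.range_subtype] at h
    rw [← h]
    rfl
  have h1 : Nat.card {k : (⊤ : Subgroup K) // φ (k : K) = 1} ≤ Nat.card {k : K // σ k = k} :=
    Nat.card_le_card_of_injective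
      (fun k => ⟨(k.1 : K), div_eq_one.1 (k.2 : φ _ = 1)⟩)
      fun a b h => Subtype.ext (Subtype.ext (congrArg Subtype.val h :))
  have h2 : Nat.card {k : (⊤ : Subgroup K).map φ // ψ (k : K) = 1} ≤ Nat.card {k : K // τ k = k} :=
    Nat.card_le_card_of_injective
      (fun k => ⟨(k.1 : K), div_eq_one.1 (k.2 : ψ _ = 1)⟩)
      fun a b h => Subtype.ext (Subtype.ext (congrArg Subtype.val h :))
  have h3 : Nat.card (((⊤ : Subgroup K).map φ).map ψ) ≤ Nat.card {k : K // σ (τ k) = k} := by
    refine Nat.card_le_card_of_injective (fun v => ⟨v.1, ?_⟩)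
      fun a b h => Subtype.ext (congrArg Subtype.val h :)
    obtain ⟨_, ⟨k, -, rfl⟩, hv⟩ := v.2
    rw [← hv]
    show σ (τ (τ (σ k / k) / (σ k / k))) = τ (σ k / k) / (σ k / k)
    simp only [map_div, hτ, hσ, hst]
    simp only [div_eq_mul_inv, mul_inv_rev, inv_inv, mul_comm, mul_left_comm, mul_assoc]
  rw [← Subgroup.card_top (G := K), hker φ ⊤, hker ψ ((⊤ : Subgroup K).map φ)]
  calc _ ≤ Nat.card {k : K // σ (τ k) = k} * Nat.card {k : K // τ k = k} *
        Nat.card {k : K // σ k = k} := Nat.mul_le_mul (Nat.mul_le_mul h3 h2) h1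
    _ = _ := by ring

variable {G : Type u} [Group G] [Finite G]

/-- The centraliser in a quotient. -/
theorem card_centralizer_quotient_le (N : Subgroup G) [N.Normal] (x : G) :
    Nat.card (Subgroup.centralizer ({(x : G ⧸ N)} : Set (G ⧸ N))) ≤
      Nat.card N * Nat.card (Subgroup.centralizer ({x} : Set G)) := by
  classical
  set X := (Subgroup.centralizer ({(x : G ⧸ N)} : Set (G ⧸ N))).comap (QuotientGroup.mk' N) with hX
  have h1 : Nat.card (Subgroup.centralizer ({(x : G ⧸ N)} : Set (G ⧸ N))) ≤ Nat.card X :=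
    Nat.card_le_card_of_surjective
      (fun g : X => (⟨(g.1 : G ⧸ N), g.2⟩ : Subgroup.centralizer ({(x : G ⧸ N)} : Set (G ⧸ N))))
      fun q => by
        obtain ⟨q, hq⟩ := q
        obtain ⟨g, rfl⟩ := QuotientGroup.mk_surjective q
        exact ⟨⟨g, hq⟩, rfl⟩
  refine h1.trans ?_
  have hmem : ∀ g : X, (g : G) * x * (g : G)⁻¹ * x⁻¹ ∈ N := fun g => by
    rw [← QuotientGroup.eq_one_iff]
    have := Subgroup.mem_centralizer_singleton_iff.1 (Subgroup.mem_comap.1 g.2)
    simp only [QuotientGroup.mk'_apply] at this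
    simp only [QuotientGroup.mk_mul, QuotientGroup.mk_inv]
    rw [this]
    group
  let v : X → N := fun g => ⟨_, hmem g⟩
  let r : N → G := fun n => if h : ∃ g : X, v g = n then ((h.choose : X) : G) else 1
  have hr : ∀ g : X, r (v g) * x * (r (v g))⁻¹ = (g : G) * x * (g : G)⁻¹ := fun g => by
    have hex : ∃ g' : X, v g' = v g := ⟨g, rfl⟩
    have := congrArg Subtype.val hex.choose_spec
    simp only [r, dif_pos hex]
    exact mul_right_cancel this
  have hcomm : ∀ g : X, (r (v g))⁻¹ * (g : G) ∈ Subgroup.centralizer ({x} : Set G) := fun g => by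
    rw [Subgroup.mem_centralizer_singleton_iff]
    have := hr g
    calc (r (v g))⁻¹ * (g : G) * x = (r (v g))⁻¹ * ((g : G) * x * (g : G)⁻¹) * g := by group
      _ = (r (v g))⁻¹ * (r (v g) * x * (r (v g))⁻¹) * g := by rw [this]
      _ = x * ((r (v g))⁻¹ * g) := by group
  rw [← Nat.card_prod]
  refine Nat.card_le_card_of_injective
    (fun g : X => (v g, (⟨_, hcomm g⟩ : Subgroup.centralizer ({x} : Set G)))) ?_
  intro a b h
  simp only [Prod.mk.injEq, Subtype.mk.injEq] at h
  have h2 := h.2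
  rw [h.1] at h2
  exact Subtype.ext (mul_left_cancel h2)

/-- A four-group with small centralisers. -/
structure SmallFour (G : Type u) [Group G] (m : ℕ) (x y : G) : Prop where
  ox : orderOf x = 2
  oy : orderOf y = 2
  comm : x * y = y * x
  ne : x ≠ y
  cx : Nat.card (Subgroup.centralizer ({x} : Set G)) ≤ m
  cy : Nat.card (Subgroup.centralizer ({y} : Set G)) ≤ m
  cxy : Nat.card (Subgroup.centralizer ({x * y} : Set G)) ≤ m

theorem card_fixed_le (N : Subgroup G) [N.Normal] (t : G) :
    Nat.card {k : N // MulAut.conjNormal t k = k} ≤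
      Nat.card (Subgroup.centralizer ({t} : Set G)) :=
  Nat.card_le_card_of_injective (fun k => ⟨((k.1 : N) : G), by
    have := congrArg Subtype.val k.2
    rw [MulAut.conjNormal_apply] at this
    exact Subgroup.mem_centralizer_singleton_iff.2 (mul_inv_eq_iff_eq_mul.1 this).symm⟩)
    fun a b h => Subtype.ext (Subtype.ext (congrArg Subtype.val h :))

theorem SmallFour.normal_bound {m : ℕ} {x y : G} (h : SmallFour G m x y) (N : Subgroup G) [N.Normal]
    (hN : Odd (Nat.card N) ∨ IsMulCommutative N) : Nat.card N ≤ m * (m * m) := by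
  set σ : N ≃* N := MulAut.conjNormal x
  set τ : N ≃* N := MulAut.conjNormal y
  have hx : x * x = 1 := by rw [← pow_two, ← h.ox, pow_orderOf_eq_one]
  have hy : y * y = 1 := by rw [← pow_two, ← h.oy, pow_orderOf_eq_one]
  have hσ : ∀ k, σ (σ k) = k := fun k => by
    rw [← MulAut.mul_apply, ← map_mul, hx, map_one]; rfl
  have hτ : ∀ k, τ (τ k) = k := fun k => by
    rw [← MulAut.mul_apply, ← map_mul, hy, map_one]; rfl
  have hst : ∀ k, σ (τ k) = τ (σ k) := fun k => by
    rw [← MulAut.mul_apply, ← MulAut.mul_apply, ← map_mul, ← map_mul, h.comm]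
  have he : {k : N // σ (τ k) = k} = {k : N // MulAut.conjNormal (x * y) k = k} := by
    congr 1; funext k; rw [map_mul]; rfl
  have hb : Nat.card {k : N // σ k = k} *
      (Nat.card {k : N // σ (τ k) = k} * Nat.card {k : N // τ k = k}) ≤ m * (m * m) := by
    rw [he]
    exact Nat.mul_le_mul ((card_fixed_le N x).trans h.cx)
      (Nat.mul_le_mul ((card_fixed_le N _).trans h.cxy) ((card_fixed_le N y).trans h.cy))
  rcases hN with hodd | hcomm
  · exact (card_odd_le hodd σ τ hσ hτ hst).trans hb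
  · letI : CommGroup N := { (inferInstance : Group N) with mul_comm := hcomm.is_comm.comm }
    exact (card_comm_le σ τ hσ hτ hst).trans hb

theorem SmallFour.quotient {m : ℕ} {x y : G} (h : SmallFour G m x y) (N : Subgroup G) [N.Normal]
    (hx : x ∉ N) (hy : y ∉ N) (hxy : x * y ∉ N) :
    SmallFour (G ⧸ N) (Nat.card N * m) (x : G ⧸ N) (y : G ⧸ N) := by
  have ho : ∀ t : G, orderOf t = 2 → t ∉ N → orderOf (t : G ⧸ N) = 2 := fun t ht htN => by
    refine ((Nat.dvd_prime Nat.prime_two).1 (ht ▸ orderOf_map_dvd (QuotientGroup.mk' N) t)).resolve_left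
      fun h1 => htN ?_
    rw [← QuotientGroup.eq_one_iff]
    exact orderOf_eq_one_iff.1 h1
  have hq : ∀ t : G, Nat.card (Subgroup.centralizer ({t} : Set G)) ≤ m →
      Nat.card (Subgroup.centralizer ({(t : G ⧸ N)} : Set (G ⧸ N))) ≤ Nat.card N * m := fun t ht =>
    (card_centralizer_quotient_le N t).trans (Nat.mul_le_mul_left _ ht)
  refine ⟨ho x h.ox hx, ho y h.oy hy, by rw [← QuotientGroup.mk_mul, h.comm]; rfl, fun e => ?_,
    hq x h.cx, hq y h.cy, by rw [← QuotientGroup.mk_mul]; exact hq _ h.cxy⟩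
  refine hxy ?_
  have hx' : x⁻¹ = x := inv_eq_of_mul_eq_one_right (by rw [← pow_two, ← h.ox, pow_orderOf_eq_one])
  have := QuotientGroup.eq.1 e
  rwa [hx'] at this

/-- The centraliser of a bounded normal subgroup has bounded index. -/
theorem index_centralizer_normal_le (W : Subgroup G) [W.Normal] :
    (Subgroup.centralizer (W : Set G)).index ≤ (Nat.card W).factorial := by
  have hker : (MulAut.conjNormal (H := W)).ker ≤ Subgroup.centralizer (W : Set G) := fun g hg w hw => by
    have := congrArg Subtype.val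
      (show MulAut.conjNormal g (⟨w, hw⟩ : W) = ⟨w, hw⟩ by rw [MonoidHom.mem_ker.1 hg]; rfl)
    rw [MulAut.conjNormal_apply] at this
    exact (mul_inv_eq_iff_eq_mul.1 this).symm
  refine (Nat.le_of_dvd (Nat.pos_of_ne_zero Subgroup.index_ne_zero_of_finite)
    (Subgroup.index_dvd_of_le hker)).trans ?_
  rw [Subgroup.index_ker]
  refine (Subgroup.card_le_card_group _).trans ?_
  rw [← Nat.card_perm]
  exact Nat.card_le_card_of_injective (fun e : W ≃* W => e.toEquiv)
    fun a b h => MulEquiv.ext fun w => Equiv.congr_fun h w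

theorem card_le_of_mem {m : ℕ} {t : G} (ht : Nat.card (Subgroup.centralizer ({t} : Set G)) ≤ m)
    (W : Subgroup G) [W.Normal] (htW : t ∈ W) : Nat.card G ≤ (Nat.card W).factorial * m := by
  rw [← Subgroup.index_mul_card (Subgroup.centralizer (W : Set G))]
  refine Nat.mul_le_mul (index_centralizer_normal_le W) ((Subgroup.card_le_of_le ?_).trans ht)
  exact fun g hg => Subgroup.mem_centralizer_singleton_iff.2 (Subgroup.mem_centralizer_iff.1 hg t htW).symm

/-- A bounded nontrivial normal subgroup, unless the group is small. -/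
theorem SmallFour.exists_normal {m : ℕ} {x y : G} (h : SmallFour G m x y) :
    Nat.card G ≤ 2 * m ^ 2 ∨ ∃ W : Subgroup G, W.Normal ∧ W ≠ ⊥ ∧
      Nat.card W ≤ (2 * m ^ 2).factorial * (m * (m * m)) := by
  classical
  haveI := Fintype.ofFinite G
  set g := Nat.card G with hg
  set n := Nat.card {t : G // orderOf t = 2} with hn
  by_cases hy : ∃ z : G, z ≠ 1 ∧ (Subgroup.centralizer ({z} : Set G)).index ≤ 2 * m ^ 2
  · refine Or.inr ?_
    obtain ⟨z, hz1, hz⟩ := hy
    set N := (Subgroup.centralizer ({z} : Set G)).normalCore with hN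
    set C := Subgroup.centralizer (N : Set G) with hC
    have hNi : N.index ≤ (2 * m ^ 2).factorial := by
      rw [hN, Subgroup.normalCore_eq_ker, Subgroup.index_ker]
      refine (Subgroup.card_le_card_group _).trans ?_
      rw [Nat.card_perm, ← Subgroup.index_eq_card]
      exact Nat.factorial_le hz
    refine ⟨C, inferInstance, fun hbot => hz1 ?_, ?_⟩
    · refine (Subgroup.eq_bot_iff_forall C).1 hbot z (Subgroup.mem_centralizer_iff.2 fun w hw => ?_)
      exact Subgroup.mem_centralizer_singleton_iff.1 (Subgroup.normalCore_le _ hw)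
    · have hab : IsMulCommutative (C ⊓ N : Subgroup G) := ⟨⟨fun a b =>
        Subtype.ext (Subgroup.mem_centralizer_iff.1 b.2.1 a a.2.2)⟩⟩
      have h1 := h.normal_bound (C ⊓ N) (Or.inr hab)
      have h2 : Nat.card C = Nat.card (C ⊓ N : Subgroup G) * N.relIndex C := by
        rw [← Subgroup.index_mul_card ((C ⊓ N).subgroupOf C),
          Nat.card_congr (Subgroup.subgroupOfEquivOfLe (inf_le_left : C ⊓ N ≤ C)).toEquiv,
          Subgroup.inf_subgroupOf_left, mul_comm]
        rfl
      rw [h2, mul_comm]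
      exact Nat.mul_le_mul ((Nat.le_of_dvd (Nat.pos_of_ne_zero Subgroup.index_ne_zero_of_finite)
        (Subgroup.relIndex_dvd_index_of_normal N C)).trans hNi) h1
  · refine Or.inl ?_
    push Not at hy
    have hgn : g ≤ n * m := by
      rw [hg, ← Subgroup.index_mul_card (Subgroup.centralizer ({x} : Set G))]
      exact Nat.mul_le_mul (Cfsg.Agent.Involutions.BrauerFowler.index_centralizer_le h.ox) h.cx
    have hsum : 2 * m ^ 2 * n ^ 2 ≤ 2 * m ^ 2 * n + g * g := by
      rw [hn, ← Cfsg.Agent.Involutions.BrauerFowler.sum_pairsWith,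
        ← Finset.add_sum_erase _ _ (Finset.mem_univ (1 : G)),
        Cfsg.Agent.Involutions.BrauerFowler.pairsWith_one, mul_add]
      refine Nat.add_le_add_left ?_ _
      rw [Finset.mul_sum]
      refine (Finset.sum_le_sum (g := fun _ => g) fun z hz => ?_).trans ?_
      · refine (Nat.mul_le_mul_left _
          (Cfsg.Agent.Involutions.BrauerFowler.pairsWith_le z)).trans ?_
        rw [hg, ← Subgroup.index_mul_card (Subgroup.centralizer ({z} : Set G))]
        exact Nat.mul_le_mul_right _ (hy z (Finset.mem_erase.1 hz).1).le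
      · rw [Finset.sum_const, smul_eq_mul, hg, Nat.card_eq_fintype_card, ← Finset.card_univ]
        exact Nat.mul_le_mul_right _ (Finset.card_le_card (Finset.erase_subset _ _))
    have hm : 0 < m := lt_of_lt_of_le Nat.card_pos h.cx
    have h1 : g * g ≤ m ^ 2 * n ^ 2 := by nlinarith
    have h2 : m ^ 2 * n ^ 2 ≤ m ^ 2 * (2 * n) := by nlinarith
    have h3 : n ^ 2 ≤ 2 * n := Nat.le_of_mul_le_mul_left h2 (by positivity)
    have h4 : n ≤ 2 := by nlinarith
    nlinarith

/-- Groups with such a four-group and bounded Sylow `2`-order have bounded order. -/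
theorem exists_bound (a : ℕ) : ∀ m : ℕ, ∃ F : ℕ, ∀ (G : Type u) [Group G] [Finite G] (x y : G),
    (Nat.card G).factorization 2 ≤ a → SmallFour G m x y → Nat.card G ≤ F := by
  induction a with
  | zero =>
    refine fun m => ⟨0, fun G _ _ x y ha h => absurd ha ?_⟩
    have : 2 ∣ Nat.card G := h.ox ▸ orderOf_dvd_natCard x
    exact not_le.2 (Nat.Prime.factorization_pos_of_dvd Nat.prime_two Nat.card_pos.ne' this)
  | succ a ih =>
    intro m
    -- after the odd core
    set m₀ := m * (m * m) with hm₀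
    set m₁ := m₀ * m with hm₁
    set K := (2 * m₁ ^ 2).factorial * (m₁ * (m₁ * m₁)) with hK
    obtain ⟨F, hF⟩ := ih (K * m₁)
    refine ⟨m₀ * (2 * m₁ ^ 2 + K.factorial * m₁ + K * F), fun G _ _ x y ha h => ?_⟩
    haveI : Fact (Nat.Prime 2) := ⟨Nat.prime_two⟩
    set O := Cfsg.pPrimeCore 2 G with hO
    have hOodd : Odd (Nat.card O) := by
      rw [← Nat.not_even_iff_odd, even_iff_two_dvd]; exact pPrimeCore_not_dvd 2
    have hnot : ∀ t : G, orderOf t = 2 → t ∉ O := fun t ht hmem => by
      have h2 := Subgroup.orderOf_dvd_natCard O hmem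
      rw [ht] at h2
      exact (Nat.not_even_iff_odd.2 hOodd) (even_iff_two_dvd.2 h2)
    have hxy2 : orderOf (x * y) = 2 := by
      refine orderOf_eq_prime ?_ fun e => h.ne ?_
      · rw [(show Commute x y from h.comm).mul_pow,
          show x ^ 2 = 1 from h.ox ▸ pow_orderOf_eq_one x,
          show y ^ 2 = 1 from h.oy ▸ pow_orderOf_eq_one y, one_mul]
      · rw [eq_inv_of_mul_eq_one_left e]
        exact inv_eq_of_mul_eq_one_right (by rw [← pow_two, ← h.oy, pow_orderOf_eq_one])
    have hO0 := h.normal_bound O (Or.inl hOodd)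
    have hQ : SmallFour (G ⧸ O) m₁ (x : G ⧸ O) (y : G ⧸ O) := by
      have h' := h.quotient O (hnot x h.ox) (hnot y h.oy) (hnot _ hxy2)
      exact ⟨h'.ox, h'.oy, h'.comm, h'.ne, h'.cx.trans (Nat.mul_le_mul_right _ hO0),
        h'.cy.trans (Nat.mul_le_mul_right _ hO0), h'.cxy.trans (Nat.mul_le_mul_right _ hO0)⟩
    rw [← O.index_mul_card, Subgroup.index_eq_card, mul_comm]
    refine Nat.mul_le_mul hO0 ?_
    rcases hQ.exists_normal with hsmall | ⟨W, hWn, hW1, hWK⟩
    · omega
    haveI := hWn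
    by_cases hin : (x : G ⧸ O) ∈ W ∨ (y : G ⧸ O) ∈ W ∨ (x : G ⧸ O) * y ∈ W
    · have hb : Nat.card (G ⧸ O) ≤ K.factorial * m₁ := by
        rcases hin with hw | hw | hw
        · exact (card_le_of_mem hQ.cx W hw).trans
            (Nat.mul_le_mul_right _ (Nat.factorial_le hWK))
        · exact (card_le_of_mem hQ.cy W hw).trans
            (Nat.mul_le_mul_right _ (Nat.factorial_le hWK))
        · exact (card_le_of_mem hQ.cxy W hw).trans
            (Nat.mul_le_mul_right _ (Nat.factorial_le hWK))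
      omega
    push Not at hin
    have hWeven : 2 ∣ Nat.card W := by
      by_contra hodd
      refine hW1 (le_bot_iff.1 ?_)
      have hbot : Cfsg.pPrimeCore 2 (G ⧸ O) = ⊥ := pPrimeCore_quotient_self 2
      rw [← hbot]
      exact le_pPrimeCore ((Nat.prime_two.coprime_iff_not_dvd.2 hodd).symm)
    have hfac : (Nat.card ((G ⧸ O) ⧸ W)).factorization 2 ≤ a := by
      have hb : (Nat.card (G ⧸ O)).factorization 2 ≤ (Nat.card G).factorization 2 :=
        (Nat.factorization_le_iff_dvd Nat.card_pos.ne' Nat.card_pos.ne').2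
          (Subgroup.card_quotient_dvd_card O) 2
      have hmul : Nat.card (G ⧸ O) = Nat.card ((G ⧸ O) ⧸ W) * Nat.card W :=
        Subgroup.card_eq_card_quotient_mul_card_subgroup W
      rw [hmul, Nat.factorization_mul Nat.card_pos.ne' Nat.card_pos.ne', Finsupp.add_apply] at hb
      have := Nat.Prime.factorization_pos_of_dvd Nat.prime_two Nat.card_pos.ne' hWeven
      omega
    have hQ2 := hQ.quotient W hin.1 hin.2.1 hin.2.2
    have hle : Nat.card W * m₁ ≤ K * m₁ := Nat.mul_le_mul_right _ hWK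
    have h2 := hF ((G ⧸ O) ⧸ W) _ _ hfac ⟨hQ2.ox, hQ2.oy, hQ2.comm, hQ2.ne, hQ2.cx.trans hle,
      hQ2.cy.trans hle, hQ2.cxy.trans hle⟩
    have hb : Nat.card (G ⧸ O) ≤ K * F := by
      rw [Subgroup.card_eq_card_quotient_mul_card_subgroup W, mul_comm K F]
      exact Nat.mul_le_mul h2 hWK
    omega

end Cfsg.Agent.BlocksChars.InvolutionBound
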