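import Mathlib
import Cfsg.Agent.BlocksChars.Degrees
import Cfsg.Agent.Lib.Involutions.Basic

/-!
The element `Ω = ∑_{g² = 1} g` of the group algebra in characteristic 2: it acts by zero modulo
any prime over 2 on characters of positive 2-defect. This gives a lower bound for the number of
characters of 2-defect zero.
-/

set_option autoImplicit false
set_option linter.style.haveILetI false

namespace Cfsg.Agent.BlocksChars.InvolutionCount

open Cfsg.Agent.Characters Cfsg.Agent.BlocksChars.ClassAlg
open scoped ComplexConjugate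

variable {G : Type*} [Group G] [Fintype G]

/-- The indicator of the elements of square one. -/
noncomputable def sqOne (G : Type*) [Group G] : G → ℂ := fun g => by
  classical exact if g * g = 1 then 1 else 0

omit [Fintype G] in
open scoped Classical in
theorem sqOne_apply (g : G) : sqOne G g = if g * g = 1 then 1 else 0 := by simp [sqOne]

omit [Fintype G] in
theorem sqOne_isClassFunction : Cfsg.IsClassFunction G (sqOne G) := fun g h => by
  classical
  rw [sqOne_apply, sqOne_apply]
  refine if_congr ?_ rfl rfl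
  rw [show h * g * h⁻¹ * (h * g * h⁻¹) = h * (g * g) * h⁻¹ by group]
  exact ⟨fun e => by simpa [mul_assoc] using congrArg (fun a => h⁻¹ * a * h) e, fun e => by rw [e]; group⟩

theorem conv_sqOne_eq (z : G) : conv (sqOne G) (sqOne G) z =
    (Nat.card {u : G // u * u = 1 ∧ (u⁻¹ * z) * (u⁻¹ * z) = 1} : ℂ) := by
  classical
  simp only [conv, sqOne_apply, ite_mul, one_mul, zero_mul, ← ite_and]
  rw [Nat.card_eq_fintype_card, Fintype.card_subtype, ← Finset.sum_boole]

theorem even_count {z : G} (hz : Even (Nat.card (Subgroup.centralizer ({z} : Set G)))) :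
    Even (Nat.card {u : G // u * u = 1 ∧ (u⁻¹ * z) * (u⁻¹ * z) = 1}) := by
  classical
  obtain ⟨s, hs⟩ := exists_prime_orderOf_dvd_card' 2 (even_iff_two_dvd.1 hz)
  have hs2 : orderOf (s : G) = 2 := by rw [Subgroup.orderOf_coe]; exact hs
  have hss : (s : G) * s = 1 := Involutions.Basic.inv_sq_one hs2
  have hs1 : (s : G) ≠ 1 := Involutions.Basic.ne_one hs2
  have hsz : (s : G) * z = z * s := Subgroup.mem_centralizer_singleton_iff.1 s.2
  let S : Finset G := Finset.univ.filter fun u => u * u = 1 ∧ (u⁻¹ * z) * (u⁻¹ * z) = 1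
  suffices h : ∑ _u ∈ S, (1 : ZMod 2) = 0 by
    rw [Nat.card_eq_fintype_card, Fintype.card_subtype, even_iff_two_dvd,
      ← ZMod.natCast_eq_zero_iff]
    simpa [S] using h
  have hmem : ∀ u, u ∈ S ↔ u * u = 1 ∧ u⁻¹ = u ∧ (u * z) * (u * z) = 1 := by
    intro u
    simp only [S, Finset.mem_filter, Finset.mem_univ, true_and]
    refine ⟨fun h => ?_, fun h => ⟨h.1, by rw [h.2.1]; exact h.2.2⟩⟩
    have hi := inv_eq_of_mul_eq_one_right h.1
    exact ⟨h.1, hi, by rw [hi] at h; exact h.2⟩
  refine Finset.sum_involution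
    (fun u _ => if (s : G) * u = u * s then u * s else (s : G) * u * s) ?_ ?_ ?_ ?_
  · intro u _; decide
  · intro u _ _
    split_ifs with h
    · exact fun e => hs1 (mul_left_cancel (e.trans (mul_one u).symm))
    · intro e
      apply h
      conv_rhs => rw [← e]
      rw [mul_assoc _ (s : G) s, hss, mul_one]
  · intro u hu
    obtain ⟨h1, hi, h2⟩ := (hmem u).1 hu
    rw [hmem]
    split_ifs with h
    · refine ⟨?_, ?_, ?_⟩
      · rw [mul_assoc, ← mul_assoc (s : G) u, h, mul_assoc, hss, mul_one, h1]
      · rw [mul_inv_rev, hi, Involutions.Basic.inv_eq hs2, h]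
      · have hc : (s : G) * (u * z) = (u * z) * s := by
          rw [← mul_assoc, h, mul_assoc, hsz, ← mul_assoc]
        have e : u * s * z = (u * z) * s := by rw [mul_assoc, hsz, ← mul_assoc]
        calc u * s * z * (u * s * z) = (u * z) * s * ((u * z) * s) := by rw [e]
          _ = (u * z) * ((s : G) * (u * z)) * s := by group
          _ = (u * z) * (u * z) * ((s : G) * s) := by rw [hc]; group
          _ = 1 := by rw [h2, hss, mul_one]
    · refine ⟨?_, ?_, ?_⟩
      · calc (s : G) * u * s * (s * u * s) = s * u * ((s : G) * s) * u * s := by group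
          _ = s * (u * u) * s := by rw [hss]; group
          _ = 1 := by rw [h1, mul_one, hss]
      · rw [mul_inv_rev, mul_inv_rev, hi, Involutions.Basic.inv_eq hs2, mul_assoc]
      · have e : (s : G) * u * s * z = s * (u * z) * s := by
          rw [mul_assoc, hsz, ← mul_assoc, mul_assoc (s : G) u]
        rw [e]
        calc (s : G) * (u * z) * s * (s * (u * z) * s)
            = s * (u * z) * ((s : G) * s) * (u * z) * s := by group
          _ = s * ((u * z) * (u * z)) * s := by rw [hss]; group
          _ = 1 := by rw [h2, mul_one, hss]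
  · intro u _
    by_cases h : (s : G) * u = u * s
    · have h' : (s : G) * (u * s) = u * s * s := by rw [← mul_assoc, h]
      simp only [if_pos h, if_pos h']
      rw [mul_assoc, hss, mul_one]
    · have h' : ¬ (s : G) * (s * u * s) = s * u * s * s := by
        intro e
        apply h
        rw [← mul_assoc, ← mul_assoc, hss, one_mul, mul_assoc _ (s : G) s, hss, mul_one] at e
        exact e.symm
      simp only [if_neg h, if_neg h']
      rw [← mul_assoc, ← mul_assoc, hss, one_mul, mul_assoc, hss, mul_one]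

/-- `ω_χ(Ω)` lies in every prime over 2 when `χ` has positive 2-defect. -/
theorem omega_sqOne_mem (M : Ideal Cfsg.AlgInt) [M.IsPrime] (h2 : (2 : Cfsg.AlgInt) ∈ M)
    (χ : Cfsg.IrrCharacter G)
    (hdef : (Cfsg.charDegree (χ : G → ℂ)).factorization 2 ≠ (Nat.card G).factorization 2)
    (w : Cfsg.AlgInt) (hw : (w : ℂ) = omega (χ : G → ℂ) (sqOne G)) : w ∈ M := by
  classical
  haveI : Fintype (ConjClasses G) := Fintype.ofFinite _
  refine ((Ideal.IsPrime.mul_mem_iff_mem_or_mem (I := M) inferInstance (x := w) (y := w)).1 ?_).elim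
    id id
  -- `ω(Ω)²` is a combination of class scalars
  let W : ConjClasses G → Cfsg.AlgInt := fun C =>
    ⟨omega (χ : G → ℂ) (classInd C.out), omega_classInd_isIntegral χ C.out⟩
  let N : ConjClasses G → ℕ := fun C =>
    Nat.card {u : G // u * u = 1 ∧ (u⁻¹ * C.out) * (u⁻¹ * C.out) = 1}
  have hsq : w * w = ∑ C : ConjClasses G, (N C : Cfsg.AlgInt) * W C := by
    apply Subtype.ext
    push_cast
    rw [hw, ← omega_conv χ sqOne_isClassFunction sqOne_isClassFunction, omega_eq_sum_classes _
      (conv_isClassFunction sqOne_isClassFunction sqOne_isClassFunction)]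
    exact Finset.sum_congr rfl fun C _ => by rw [conv_sqOne_eq]
  rw [hsq]
  refine Ideal.sum_mem _ fun C _ => ?_
  by_cases hev : Even (Nat.card (Subgroup.centralizer ({C.out} : Set G)))
  · obtain ⟨k, hk⟩ := even_iff_two_dvd.1 (even_count hev)
    apply Ideal.mul_mem_right
    show (N C : Cfsg.AlgInt) ∈ M
    rw [show N C = 2 * k from hk, Nat.cast_mul]
    exact Ideal.mul_mem_right _ _ (by simpa using h2)
  · apply Ideal.mul_mem_left
    -- the class has centralizer of odd order
    set d := Cfsg.charDegree (χ : G → ℂ) with hd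
    set c := Nat.card (Subgroup.centralizer ({C.out} : Set G)) with hc
    have hd0 : d ≠ 0 := (Degrees.charDegree_pos χ).ne'
    have hlt : d.factorization 2 < (Nat.card G).factorization 2 :=
      lt_of_le_of_ne ((Nat.factorization_le_iff_dvd hd0 Nat.card_pos.ne').2
        (Degrees.charDegree_dvd_card χ) 2) hdef
    set d' := d / 2 ^ d.factorization 2 with hd'
    have hdd : 2 ^ d.factorization 2 * d' = d := Nat.ordProj_mul_ordCompl_eq_self d 2
    obtain ⟨g, hg⟩ : 2 * 2 ^ d.factorization 2 ∣ Nat.card G := by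
      rw [← pow_succ']
      exact (pow_dvd_pow 2 hlt).trans (Nat.ordProj_dvd _ 2)
    let X : Cfsg.AlgInt := ⟨(χ : G → ℂ) C.out, char_value_isIntegral (irr_isCharacter χ) C.out⟩
    have hkey : ((c * d' : ℕ) : Cfsg.AlgInt) * W C = 2 * ((g : Cfsg.AlgInt) * X) := by
      apply Subtype.ext
      push_cast
      show (c : ℂ) * (d' : ℂ) * omega (χ : G → ℂ) (classInd C.out) = 2 * ((g : ℂ) * (χ : G → ℂ) C.out)
      rw [omega_classInd]
      have h1 : (classSize C.out : ℂ) * c = 2 * 2 ^ d.factorization 2 * g := by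
        rw [hc, ← Nat.cast_mul, classSize_mul_card_centralizer, hg]; push_cast; ring
      have h3 : (χ : G → ℂ) 1 = 2 ^ d.factorization 2 * d' := by
        rw [← Degrees.charDegree_cast χ, ← hd]
        exact_mod_cast hdd.symm
      have hne := irr_one_ne_zero χ.2
      rw [← mul_div_assoc, div_eq_iff hne, h3]
      linear_combination (d' : ℂ) * (χ : G → ℂ) C.out * h1
    have hmem : ((c * d' : ℕ) : Cfsg.AlgInt) * W C ∈ M := hkey ▸ Ideal.mul_mem_right _ _ h2
    refine (Ideal.IsPrime.mem_or_mem inferInstance hmem).resolve_left fun hm => ?_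
    have hodd : Odd (c * d') := by
      refine Odd.mul (Nat.not_even_iff_odd.1 hev) (Nat.not_even_iff_odd.1 ?_)
      rw [even_iff_two_dvd]
      exact Nat.not_dvd_ordCompl Nat.prime_two hd0
    obtain ⟨j, hj⟩ := hodd
    rw [hj] at hm
    push_cast at hm
    exact (Ideal.IsPrime.ne_top inferInstance) ((Ideal.eq_top_iff_one M).2
      ((Ideal.add_mem_iff_right M (Ideal.mul_mem_right _ _ h2)).1 hm))

theorem quotient_count [Fintype (Cfsg.IrrCharacter G)] (x y : G) :
    (Nat.card G : ℂ) * ((classSize x : ℂ) *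
      ∑ g : G, classInd y g * sqOne G (x * g)) =
    ∑ χ : Cfsg.IrrCharacter G, ((classSize x : ℂ) * (χ : G → ℂ) x) *
      ((classSize y : ℂ) * (χ : G → ℂ) y) * omega (χ : G → ℂ) (sqOne G) := by
  classical
  let φ : G → ℂ := fun a => ∑ g : G, classInd y g * sqOne G (a * g)
  have hφ : Cfsg.IsClassFunction G φ := fun a h => by
    refine (Fintype.sum_equiv (MulAut.conj h).toEquiv _ _ fun g => ?_).symm
    simp only [MulEquiv.toEquiv_eq_coe, MulEquiv.coe_toEquiv, MulAut.conj_apply]
    rw [classInd_isClassFunction y g h,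
      show h * a * h⁻¹ * (h * g * h⁻¹) = h * (a * g) * h⁻¹ by group, sqOne_isClassFunction]
  have hl : ∑ z : G, conv (classInd x) (classInd y) z * sqOne G z = (classSize x : ℂ) * φ x := by
    rw [sum_conv_mul, ← sum_classInd_mul hφ]
    exact Finset.sum_congr rfl fun a _ => by
      rw [Finset.mul_sum]; exact Finset.sum_congr rfl fun g _ => by ring
  rw [← hl, Finset.mul_sum]
  simp only [← mul_assoc, conv_eq_sum (classInd_isClassFunction x) (classInd_isClassFunction y),
    Finset.sum_mul]
  rw [Finset.sum_comm]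
  refine Finset.sum_congr rfl fun χ _ => ?_
  have h1 := irr_one_ne_zero χ.2
  have h2 : ∑ z : G, conj ((χ : G → ℂ) z) * sqOne G z =
      (χ : G → ℂ) 1 * omega (χ : G → ℂ) (sqOne G) := by
    rw [mul_omega h1]
    refine Finset.sum_congr rfl fun z _ => ?_
    rw [sqOne_apply]
    split_ifs with hz
    · rw [← char_inv (irr_isCharacter χ), inv_eq_of_mul_eq_one_right hz, mul_comm]
    · simp
  simp only [omega_classInd, mul_assoc, ← Finset.mul_sum, h2]
  field_simp

/-- An injective family of classes of odd centralizer, pairwise without a quotient of square one,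
is no larger than the set of characters of 2-defect zero. -/
theorem card_le_defectZero {ι : Type*} [Finite ι] (x : ι → G)
    (hodd : ∀ i, Odd (Nat.card (Subgroup.centralizer ({x i} : Set G))))
    (hne : ∀ i j, i ≠ j → ¬ IsConj (x i) (x j))
    (hone : ∀ i j (g : G), IsConj (x j) g → (x i * g⁻¹) * (x i * g⁻¹) = 1 → g = x i) :
    Nat.card ι ≤ Nat.card {χ : Cfsg.IrrCharacter G //
      (Cfsg.charDegree (χ : G → ℂ)).factorization 2 = (Nat.card G).factorization 2} := by
  classical
  haveI := Fintype.ofFinite ι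
  haveI := Fintype.ofFinite (Cfsg.IrrCharacter G)
  obtain ⟨M, hM, h2M⟩ : ∃ M : Ideal Cfsg.AlgInt, M.IsMaximal ∧ (2 : Cfsg.AlgInt) ∈ M := by
    obtain ⟨M, hM, hle⟩ := Ideal.exists_le_maximal (Ideal.span {(2 : Cfsg.AlgInt)}) (by
      rw [Ne, Ideal.span_singleton_eq_top, isUnit_iff_exists_inv]
      rintro ⟨b, hb⟩
      have h2 : ((2 : ℕ) : ℂ) * (b : ℂ) = ((1 : ℕ) : ℂ) := by
        have := congrArg Subtype.val hb; push_cast at this ⊢; exact this
      exact absurd (Degrees.dvd_of_natCast_eq_mul b.2 h2.symm) (by norm_num))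
    exact ⟨M, hM, hle (Ideal.subset_span rfl)⟩
  haveI := hM.isPrime
  letI := Ideal.Quotient.field M
  let q := Ideal.Quotient.mk M
  let X : ι → Cfsg.IrrCharacter G → Cfsg.AlgInt := fun i χ =>
    ⟨(χ : G → ℂ) (x i), char_value_isIntegral (irr_isCharacter χ) _⟩
  let Y : ι → Cfsg.IrrCharacter G → Cfsg.AlgInt := fun i χ =>
    ⟨(χ : G → ℂ) (x i)⁻¹, char_value_isIntegral (irr_isCharacter χ) _⟩
  let R : Cfsg.IrrCharacter G → Cfsg.AlgInt := fun χ =>
    ⟨omega (χ : G → ℂ) (sqOne G), omega_isIntegral χ sqOne_isClassFunction fun g => by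
      rw [sqOne_apply]
      split_ifs
      · exact ⟨1, by simp⟩
      · exact ⟨0, by simp⟩⟩
  have hrel : ∀ i j, ∑ χ : Cfsg.IrrCharacter G, X i χ * Y j χ * R χ =
      if i = j then (Nat.card (Subgroup.centralizer ({x i} : Set G)) : Cfsg.AlgInt) else 0 := by
    intro i j
    apply Subtype.ext
    have hq := quotient_count (x i) (x j)⁻¹
    have hcl : classSize (x j)⁻¹ = classSize (x j) := by
      refine Nat.card_congr (Equiv.subtypeEquiv (Equiv.inv G) fun g => ?_)
      simp only [Equiv.inv_apply]
      exact ⟨fun h => by simpa using Degrees.isConj_inv h, fun h => by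
        simpa using Degrees.isConj_inv h⟩
    have hpos : ∀ a : G, (classSize a : ℂ) ≠ 0 := fun a => by
      have : Nonempty {g : G // IsConj a g} := ⟨⟨a, IsConj.refl a⟩⟩
      exact_mod_cast (Nat.card_pos (α := {g : G // IsConj a g})).ne'
    have hsum : ∑ g : G, classInd (x j)⁻¹ g * sqOne G (x i * g) = if i = j then 1 else 0 := by
      have hterm : ∀ g : G, classInd (x j)⁻¹ g * sqOne G (x i * g) =
          if i = j ∧ g = (x i)⁻¹ then 1 else 0 := by
        intro g
        have himp : IsConj (x j)⁻¹ g → x i * g * (x i * g) = 1 → i = j ∧ g = (x i)⁻¹ := by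
          intro hg1 hg2
          have hc1 : IsConj (x j) g⁻¹ := by simpa using Degrees.isConj_inv hg1
          have h1 : g⁻¹ = x i := hone i j g⁻¹ hc1 (by simpa using hg2)
          exact ⟨by_contra fun hij => hne i j hij (h1 ▸ hc1).symm, inv_eq_iff_eq_inv.1 h1⟩
        rw [classInd_apply, sqOne_apply]
        by_cases hc : i = j ∧ g = (x i)⁻¹
        · obtain ⟨rfl, rfl⟩ := hc
          rw [if_pos (IsConj.refl _), if_pos (by simp), if_pos ⟨rfl, rfl⟩, one_mul]
        · rw [if_neg hc]
          by_cases h1 : IsConj (x j)⁻¹ g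
          · rw [if_neg (fun h2 => hc (himp h1 h2)), mul_zero]
          · rw [if_neg h1, zero_mul]
      simp only [hterm]
      split_ifs with h <;> simp [h]
    rw [hsum, hcl] at hq
    push_cast
    apply mul_left_cancel₀ (mul_ne_zero (hpos (x i)) (hpos (x j)))
    rw [Finset.mul_sum]
    trans (Nat.card G : ℂ) * ((classSize (x i) : ℂ) * if i = j then 1 else 0)
    · rw [hq]
      refine Finset.sum_congr rfl fun χ _ => ?_
      simp only [X, Y, R]
      ring
    · split_ifs with h
      · subst h
        rw [← classSize_mul_card_centralizer (x i)]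
        push_cast
        ring
      · simp
  let D := {χ : Cfsg.IrrCharacter G //
    (Cfsg.charDegree (χ : G → ℂ)).factorization 2 = (Nat.card G).factorization 2}
  let A : Matrix ι D (Cfsg.AlgInt ⧸ M) := Matrix.of fun i χ => q (X i χ.1 * R χ.1)
  let B : Matrix D ι (Cfsg.AlgInt ⧸ M) := Matrix.of fun χ j => q (Y j χ.1)
  have hAB : A * B = 1 := by
    ext i j
    have hpos : ∀ χ : Cfsg.IrrCharacter G, ¬ ((Cfsg.charDegree (χ : G → ℂ)).factorization 2 =
        (Nat.card G).factorization 2) → q (R χ) = 0 := fun χ hχ =>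
      Ideal.Quotient.eq_zero_iff_mem.2 (omega_sqOne_mem M h2M χ hχ (R χ) rfl)
    have h := congrArg q (hrel i j)
    simp only [map_sum, map_mul] at h
    rw [Matrix.mul_apply, Matrix.one_apply]
    trans ∑ χ : Cfsg.IrrCharacter G, q (X i χ) * q (Y j χ) * q (R χ)
    · rw [← Finset.sum_filter_of_ne (s := Finset.univ)
        (p := fun χ : Cfsg.IrrCharacter G =>
          (Cfsg.charDegree (χ : G → ℂ)).factorization 2 = (Nat.card G).factorization 2)
        (f := fun χ => q (X i χ) * q (Y j χ) * q (R χ)) (fun χ _ hχ => by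
          by_contra hn
          exact hχ (by rw [hpos χ hn, mul_zero]))]
      rw [Finset.sum_subtype (p := fun χ : Cfsg.IrrCharacter G =>
          (Cfsg.charDegree (χ : G → ℂ)).factorization 2 = (Nat.card G).factorization 2) _
        (fun χ => by simp)]
      refine Finset.sum_congr rfl fun χ _ => ?_
      simp only [A, B, Matrix.of_apply, map_mul]
      ring
    · rw [h]
      split_ifs with hij
      · obtain ⟨k, hk⟩ := hodd i
        rw [hk]
        push_cast
        rw [map_add, map_mul, map_one, Ideal.Quotient.eq_zero_iff_mem.2 h2M, zero_mul, zero_add]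
      · exact map_zero q
  have hrank := Matrix.rank_mul_le_left A B
  rw [hAB, Matrix.rank_one] at hrank
  rw [Nat.card_eq_fintype_card, Nat.card_eq_fintype_card]
  exact hrank.trans A.rank_le_card_width

end Cfsg.Agent.BlocksChars.InvolutionCount
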