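import Mathlib
import Cfsg.Prelude.Def_DegreeGraph
import Cfsg.Agent.Lib.GL2.CountsSL
import Cfsg.Agent.Lib.GL2.ValuesSL
import Cfsg.Agent.Lib.Classical.SL2Rep
import Cfsg.Agent.BlocksChars.Degrees

/-!
# Character degrees and degree graphs of `SL₂(q)` and `PSL₂(q)`
-/

set_option autoImplicit false
set_option linter.unusedSectionVars false
set_option linter.style.haveILetI false

open Matrix
open scoped MatrixGroups ComplexConjugate

namespace Cfsg.Agent.BlocksChars.SL2Degrees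

open Cfsg.Agent.GL2 Cfsg.Agent.GL2.Borel Cfsg.Agent.GL2.PrincipalSL Cfsg.Agent.GL2.ClassifySL
open Cfsg.Agent.GL2.CountsSL
open Cfsg.Agent.Characters Cfsg.Agent.BlocksChars.Degrees

universe u v

variable {F : Type u} [Field F] [Fintype F] [DecidableEq F]

/-! ## Transport of degrees -/

theorem charDegrees_subset_of_surjective {A : Type u} {B : Type v} [Group A] [Group B]
    (f : A →* B) (hf : Function.Surjective f) : Cfsg.charDegrees B ⊆ Cfsg.charDegrees A := by
  rintro d ⟨χ, rfl⟩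
  exact ⟨⟨_, isIrrCharacter_comp_surjective f hf χ.2⟩, by simp [Cfsg.charDegree]⟩

theorem charDegrees_congr {A : Type u} {B : Type v} [Group A] [Group B] (e : A ≃* B) :
    Cfsg.charDegrees A = Cfsg.charDegrees B :=
  Set.Subset.antisymm (charDegrees_subset_of_surjective e.symm.toMonoidHom e.symm.surjective)
    (charDegrees_subset_of_surjective e.toMonoidHom e.surjective)

/-! ## Central elements -/

/-- The element `-1`. -/
def negOne : SL(2, F) := mkS (-1) 0

theorem coe_negOne : ((negOne : SL(2, F)) : Matrix (Fin 2) (Fin 2) F) = -1 := by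
  ext i j
  fin_cases i <;> fin_cases j <;> simp [negOne]

theorem negOne_comm (g : SL(2, F)) : negOne * g = g * negOne := by
  apply Subtype.ext
  simp [coe_negOne]

theorem negOne_mul_self : (negOne * negOne : SL(2, F)) = 1 := by
  apply Subtype.ext
  simp [coe_negOne]

theorem center_cases {g : SL(2, F)} (hg : g ∈ Subgroup.center SL(2, F)) : g = 1 ∨ g = negOne := by
  obtain ⟨h01, h10, h⟩ := (Cfsg.Agent.Classical.SL2Rep.mem_center_two g).1 hg
  have hdet := g.2
  rw [Matrix.det_fin_two, h01, h10, mul_zero, sub_zero, ← h] at hdet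
  rcases mul_self_eq_one_iff.1 hdet with e | e
  · left
    apply Subtype.ext
    ext i j
    fin_cases i <;> fin_cases j <;> simp [h01, h10, ← h, e]
  · right
    apply Subtype.ext
    ext i j
    fin_cases i <;> fin_cases j <;> simp [negOne, mkS, h01, h10, ← h, e]

/-- An irreducible character with `-1` in the kernel gives a degree of `PSL₂`. -/
theorem degree_mem_psl (χ : Cfsg.IrrCharacter SL(2, F))
    (h : (χ : SL(2, F) → ℂ) negOne = (χ : SL(2, F) → ℂ) 1) :
    Cfsg.charDegree (χ : SL(2, F) → ℂ) ∈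
      Cfsg.charDegrees (ProjectiveSpecialLinearGroup (Fin 2) F) := by
  have htriv : ∀ n ∈ Subgroup.center SL(2, F),
      (χ : SL(2, F) → ℂ) n = (χ : SL(2, F) → ℂ) 1 := fun n hn => by
    rcases center_cases hn with rfl | rfl
    · rfl
    · exact h
  obtain ⟨φ, -, hφ, hirr⟩ := exists_deflate_quotient (Subgroup.center SL(2, F)) (irr_isCharacter χ) htriv
  refine ⟨⟨φ, hirr χ.2⟩, ?_⟩
  unfold Cfsg.charDegree
  rw [← hφ 1]
  rfl

/-! ## Kinds -/

theorem degree_of_kind {χ : Cfsg.IrrCharacter SL(2, F)} {i : Fin 6}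
    (h : Kind i (χ : SL(2, F) → ℂ)) :
    2 * Cfsg.charDegree (χ : SL(2, F) → ℂ) = deg2 (Fintype.card F) i := by
  have h2 := h.2
  rw [← charDegree_cast] at h2
  exact_mod_cast h2

theorem degree_dvd (χ : Cfsg.IrrCharacter SL(2, F)) :
    Cfsg.charDegree (χ : SL(2, F) → ℂ) ∣ Fintype.card F ∨
      Cfsg.charDegree (χ : SL(2, F) → ℂ) ∣ Fintype.card F + 1 ∨
      Cfsg.charDegree (χ : SL(2, F) → ℂ) ∣ Fintype.card F - 1 := by
  obtain ⟨i, hi⟩ := exists_kind χ.2
  have h2 := degree_of_kind hi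
  set d := Cfsg.charDegree (χ : SL(2, F) → ℂ)
  fin_cases i <;> simp [deg2] at h2
  · left; rw [h2]; exact one_dvd _
  · left; rw [h2]
  · right; left; exact ⟨1, by omega⟩
  · right; left; exact ⟨2, by omega⟩
  · right; right; exact ⟨1, by omega⟩
  · right; right; exact ⟨2, by omega⟩

theorem degree_of_dvd_char {p : ℕ} [Fact p.Prime] [CharP F p]
    {χ : Cfsg.IrrCharacter SL(2, F)} (h : p ∣ Cfsg.charDegree (χ : SL(2, F) → ℂ)) :
    (χ : SL(2, F) → ℂ) = StS := by
  obtain ⟨i, hi⟩ := exists_kind χ.2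
  have h2 := degree_of_kind hi
  obtain ⟨n, -, hn⟩ := FiniteField.card F p
  have hp : p.Prime := Fact.out
  have hpq : p ∣ Fintype.card F := hn ▸ dvd_pow_self p n.ne_zero
  have hd := h.trans ⟨2, rfl⟩
  rw [mul_comm, h2] at hd
  have hnot1 : ¬ p ∣ Fintype.card F + 1 := fun e =>
    hp.not_dvd_one ((Nat.dvd_add_right hpq).1 e)
  have hnot2 : ¬ p ∣ Fintype.card F - 1 := fun e => by
    have hq := Fintype.one_lt_card (α := F)
    have := Nat.dvd_sub hpq e
    rw [show Fintype.card F - (Fintype.card F - 1) = 1 by omega] at this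
    exact hp.not_dvd_one this
  fin_cases i
  · exfalso
    simp [deg2] at h2
    rw [h2] at h
    exact hp.not_dvd_one h
  · exact (kind_cases χ.2).2.1 hi
  · exfalso
    simp [deg2] at h2
    rw [show Cfsg.charDegree (χ : SL(2, F) → ℂ) = Fintype.card F + 1 by omega] at h
    exact hnot1 h
  · exfalso
    simp [deg2] at hd
    exact hnot1 hd
  · exfalso
    simp [deg2] at h2
    rw [h2] at h
    exact hnot2 h
  · exfalso
    simp [deg2] at hd
    exact hnot2 hd

/-! ## Values at `-1` and at `-u` -/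

theorem value_negOne_cases {χ : SL(2, F) → ℂ} (hχ : Cfsg.IsIrrCharacter SL(2, F) χ) :
    χ negOne = χ 1 ∨ χ negOne = -χ 1 := by
  have h := (center_mul hχ negOne_comm negOne).1
  rw [negOne_mul_self, eq_div_iff (irr_one_ne_zero hχ)] at h
  exact mul_self_eq_mul_self_iff.1 h.symm

theorem pindS_negOne (α : MulChar F ℂ) :
    pindS α negOne = ((Fintype.card F : ℂ) + 1) * α ((-1 : Fˣ) : F) := by
  classical
  have h := sum_pindS α (-1 : Fˣ)
  rw [inv_neg_one, ← Finset.add_sum_erase _ _ (Finset.mem_univ (0 : F)),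
    Finset.sum_congr rfl (fun x hx => pindS_uni α (by rw [inv_neg_one]) (Finset.mem_erase.1 hx).1),
    Finset.sum_const, Finset.card_erase_of_mem (Finset.mem_univ _), Finset.card_univ,
    nsmul_eq_mul, Nat.cast_sub Fintype.card_pos, Nat.cast_one] at h
  unfold negOne
  linear_combination h

theorem StS_negOne : (StS : SL(2, F) → ℂ) negOne = (StS : SL(2, F) → ℂ) 1 := by
  rw [StS_one]
  show pindS 1 negOne - 1 = _
  rw [pindS_negOne, MulChar.one_apply_coe]
  ring

theorem StS_uni : (StS : SL(2, F) → ℂ) (mkS 1 1) = 0 := by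
  show pindS 1 (mkS 1 1) - 1 = 0
  rw [pindS_uni _ (by simp) one_ne_zero, MulChar.one_apply_coe, sub_self]

theorem pindS_uni_one (α : MulChar F ℂ) : pindS α (mkS 1 1) = 1 := by
  rw [pindS_uni α (by simp) one_ne_zero, Units.val_one, map_one]

theorem value_cusp_four (hq : 4 ≤ Fintype.card F) {χ : SL(2, F) → ℂ}
    (hχ : Cfsg.IsIrrCharacter SL(2, F) χ) (h : Kind 4 χ) : χ (mkS 1 1) = -1 := by
  rcases classify_degree hχ with ⟨rfl, -⟩ | ⟨rfl, -⟩ | ⟨⟨α, hα, rfl⟩, -⟩ | ⟨hh, -⟩ | ⟨-, -, h2⟩ |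
    ⟨hc, -, h1⟩
  · exact absurd (kind_unique kind_zero h) (by decide)
  · exact absurd (kind_unique kind_one h) (by decide)
  · exact absurd (kind_unique (kind_two hα) h) (by decide)
  · exact absurd (kind_unique (kind_three hχ hh) h) (by decide)
  · exact h2
  · exfalso
    have h3 := h.2
    simp [deg2, h1, GL2.CountsSL.cast_sub_one] at h3
    have : (Fintype.card F : ℂ) = ((1 : ℕ) : ℂ) := by push_cast; linear_combination -h3
    have := Nat.cast_injective (R := ℂ) this
    omega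

theorem pair_five (hq : 4 ≤ Fintype.card F) {χ : SL(2, F) → ℂ}
    (hχ : Cfsg.IsIrrCharacter SL(2, F) χ) (h5 : Kind 5 χ) :
    ∃ χ', Cfsg.IsIrrCharacter SL(2, F) χ' ∧ χ' ≠ χ ∧ Kind 5 χ' ∧
      χ (mkS 1 1) + χ' (mkS 1 1) = -1 ∧ χ' negOne = χ negOne := by
  classical
  obtain ⟨ψ, hψ, hψc, h | ⟨-, χ', hχ', hne, h⟩⟩ := GL2.ClassifySL.cusp_data hχ (h5.1.2 rfl)
  · exfalso
    have h2 := h5.2
    rw [← h] at h2
    simp [res, (GL2.ClassifyGL.families.2.2.2.2 ψ hψ hψc).1, deg2, GL2.ClassifySL.cast_card_units,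
      GL2.CountsSL.cast_sub_one] at h2
    have : (Fintype.card F : ℂ) = ((1 : ℕ) : ℂ) := by push_cast; linear_combination h2
    have := Nat.cast_injective (R := ℂ) this
    omega
  · obtain ⟨e1, e2⟩ := GL2.ClassifySL.split_degree hψ hχ hχ' hne.symm h
    have hv := congrFun h (mkS 1 1)
    rw [res, Function.comp_apply, toGL_mkS, inv_one,
      (GL2.ClassifyGL.families.2.2.2.2 ψ hψ hψc).2, Pi.add_apply] at hv
    refine ⟨χ', hχ', hne, kind_of_degree hq hχ' (e1 ▸ h5.2), hv.symm, ?_⟩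
    -- the central value of `ψ`
    set Z : GL (Fin 2) F := Matrix.SpecialLinearGroup.toGL negOne with hZ
    have hZc : ∀ g, Z * g = g * Z := fun g => by
      apply Units.ext
      simp [hZ, coe_negOne]
    have hsq := (center_mul hψ hZc Z).1
    rw [hZ, ← map_mul, negOne_mul_self, map_one, eq_div_iff (irr_one_ne_zero hψ)] at hsq
    have hsum := congrFun h negOne
    rw [res, Function.comp_apply, Pi.add_apply] at hsum
    rcases mul_self_eq_mul_self_iff.1 hsq.symm with hz | hz <;>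
      rcases value_negOne_cases hχ with a | a <;> rcases value_negOne_cases hχ' with b | b <;>
      rw [hz, a, b, ← e2] at hsum <;> rw [a, b, ← e1] <;>
      exact absurd (show χ 1 = 0 by
        simp only [← e1] at hsum
        first | linear_combination hsum / 2 | linear_combination -hsum / 2) (irr_one_ne_zero hχ)

theorem orth (g : SL(2, F)) (hg : g ≠ 1) [Fintype (Cfsg.IrrCharacter SL(2, F))] :
    ∑ χ : Cfsg.IrrCharacter SL(2, F),
      (χ : SL(2, F) → ℂ) g * (χ : SL(2, F) → ℂ) 1 = 0 := by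
  classical
  have h := second_orthogonality (G := SL(2, F)) g 1
  rw [if_neg (fun e => hg (isConj_one_left.1 e))] at h
  rw [← h]
  refine Finset.sum_congr rfl fun χ _ => ?_
  rw [← charDegree_cast, Complex.conj_natCast]

/-- For odd `q > 5` both degrees `q + 1` and `q - 1` occur with `-1` in the kernel. -/
theorem exists_trivial_on_negOne (hodd : Odd (Fintype.card F)) (h5 : 5 < Fintype.card F) :
    (∃ χ : Cfsg.IrrCharacter SL(2, F), Kind 2 (χ : SL(2, F) → ℂ) ∧
        (χ : SL(2, F) → ℂ) negOne = (χ : SL(2, F) → ℂ) 1) ∧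
      ∃ χ : Cfsg.IrrCharacter SL(2, F), Kind 4 (χ : SL(2, F) → ℂ) ∧
        (χ : SL(2, F) → ℂ) negOne = (χ : SL(2, F) → ℂ) 1 := by
  classical
  haveI := Fintype.ofFinite (Cfsg.IrrCharacter SL(2, F))
  set q := Fintype.card F with hq
  have hq4 : 4 ≤ q := by omega
  have h2 : (2 : F) ≠ 0 := GL2.Counts.two_ne_zero_of_odd hodd
  obtain ⟨k, hk, f0, f1, f2, f3, f4, f5⟩ := GL2.CountsSL.families (F := F)
  obtain rfl : k = 2 := hk ▸ GL2.Counts.sq_eq_one_card_odd h2
  rw [Fintype.card_units, ← hq] at f2 f4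
  let K : Fin 6 → Finset (Cfsg.IrrCharacter SL(2, F)) := fun i =>
    Finset.univ.filter fun χ => Kind i (χ : SL(2, F) → ℂ)
  have hK : ∀ i χ, χ ∈ K i ↔ Kind i (χ : SL(2, F) → ℂ) := fun i χ => by simp [K]
  have hcard : ∀ i, Nat.card {χ : Cfsg.IrrCharacter SL(2, F) // Kind i (χ : SL(2, F) → ℂ)} =
      (K i).card := fun i => by rw [Nat.card_eq_fintype_card, Fintype.card_subtype]
  rw [hcard] at f0 f1 f2 f3 f4 f5
  have hsum : ∀ f : Cfsg.IrrCharacter SL(2, F) → ℂ,
      ∑ χ, f χ = ∑ i : Fin 6, ∑ χ ∈ K i, f χ := by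
    intro f
    choose kd hkd using fun χ : Cfsg.IrrCharacter SL(2, F) => exists_kind χ.2
    rw [← Finset.sum_fiberwise Finset.univ kd f]
    refine Finset.sum_congr rfl fun i _ => Finset.sum_congr (Finset.ext fun χ => ?_) fun _ _ => rfl
    rw [Finset.mem_filter, hK]
    exact ⟨fun h => h.2 ▸ hkd χ, fun h => ⟨Finset.mem_univ _, kind_unique (hkd χ) h⟩⟩
  have hdeg : ∀ i, ∀ χ ∈ K i, (χ : SL(2, F) → ℂ) 1 = (deg2 q i : ℂ) / 2 := fun i χ hχ => by
    have := ((hK i χ).1 hχ).2
    linear_combination this / 2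
  set u : SL(2, F) := mkS 1 1 with hu
  have hu1 : u ≠ 1 := fun e => by
    have := congrFun (congrFun (congrArg Subtype.val e) 0) 1
    simp [hu, mkS] at this
  have hz1 : (negOne : SL(2, F)) ≠ 1 := fun e => by
    have := congrFun (congrFun (congrArg Subtype.val e) 0) 0
    simp [negOne, mkS] at this
    exact h2 (by linear_combination -this)
  have huz : u * negOne ≠ 1 := fun e => by
    have := congrFun (congrFun (congrArg (fun m : SL(2, F) => (m : Matrix (Fin 2) (Fin 2) F)) e) 0) 1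
    simp [hu, coe_negOne, Matrix.SpecialLinearGroup.coe_mul] at this
  have hA := orth negOne hz1
  have hB : ∑ χ : Cfsg.IrrCharacter SL(2, F),
      (χ : SL(2, F) → ℂ) negOne * (χ : SL(2, F) → ℂ) u = 0 := by
    rw [← orth (u * negOne) huz]
    refine Finset.sum_congr rfl fun χ _ => ?_
    rw [(center_mul χ.2 negOne_comm u).1, div_mul_cancel₀ _ (irr_one_ne_zero χ.2), mul_comm]
  rw [hsum, Fin.sum_univ_six] at hA hB
  -- the six sums
  set T : Fin 6 → ℂ := fun i => ∑ χ ∈ K i, (χ : SL(2, F) → ℂ) negOne with hT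
  have hAi : ∀ i, ∑ χ ∈ K i, (χ : SL(2, F) → ℂ) negOne * (χ : SL(2, F) → ℂ) 1 =
      (deg2 q i : ℂ) / 2 * T i := fun i => by
    rw [hT, Finset.mul_sum]
    exact Finset.sum_congr rfl fun χ hχ => by rw [hdeg i χ hχ]; ring
  simp only [hAi] at hA
  have hT0 : T 0 = 1 := by
    obtain ⟨χ, hχ⟩ := Finset.card_eq_one.1 f0
    have h' := (kind_cases χ.2).1 ((hK 0 χ).1 (by rw [hχ]; exact Finset.mem_singleton_self _))
    simp only [hT, hχ, Finset.sum_singleton, h']
  have hB0 : ∑ χ ∈ K 0, (χ : SL(2, F) → ℂ) negOne * (χ : SL(2, F) → ℂ) u = 1 := by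
    obtain ⟨χ, hχ⟩ := Finset.card_eq_one.1 f0
    have h' := (kind_cases χ.2).1 ((hK 0 χ).1 (by rw [hχ]; exact Finset.mem_singleton_self _))
    simp only [hχ, Finset.sum_singleton, h', mul_one]
  have hS : ∀ χ ∈ K 1, (χ : SL(2, F) → ℂ) = StS := fun χ hχ => (kind_cases χ.2).2.1 ((hK 1 χ).1 hχ)
  have hT1 : T 1 = q := by
    rw [hT]
    simp only []
    rw [Finset.sum_congr rfl (fun χ hχ => by rw [hS χ hχ, StS_negOne, StS_one]), Finset.sum_const, f1,
      one_smul]
  have hB1 : ∑ χ ∈ K 1, (χ : SL(2, F) → ℂ) negOne * (χ : SL(2, F) → ℂ) u = 0 :=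
    Finset.sum_eq_zero fun χ hχ => by rw [hS χ hχ, hu, StS_uni, mul_zero]
  have hB2 : ∑ χ ∈ K 2, (χ : SL(2, F) → ℂ) negOne * (χ : SL(2, F) → ℂ) u = T 2 :=
    Finset.sum_congr rfl fun χ hχ => by
      obtain ⟨α, -, e⟩ := (kind_cases χ.2).2.2.1 ((hK 2 χ).1 hχ)
      rw [e, hu, pindS_uni_one, mul_one]
  have hB4 : ∑ χ ∈ K 4, (χ : SL(2, F) → ℂ) negOne * (χ : SL(2, F) → ℂ) u = -T 4 := by
    rw [hT, ← Finset.sum_neg_distrib]
    exact Finset.sum_congr rfl fun χ hχ => by
      rw [hu, value_cusp_four hq4 χ.2 ((hK 4 χ).1 hχ)]; ring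
  -- the two pairs
  have hK3 : ∃ α : MulChar F ℂ,
      T 3 = ((q : ℂ) + 1) * α ((-1 : Fˣ) : F) ∧
      2 * ∑ χ ∈ K 3, (χ : SL(2, F) → ℂ) negOne * (χ : SL(2, F) → ℂ) u = T 3 ∧
      (α ((-1 : Fˣ) : F) = 1 ∨ α ((-1 : Fˣ) : F) = -1) := by
    obtain ⟨χ, χ', hne, he⟩ := Finset.card_eq_two.1 (show (K 3).card = 2 by omega)
    have h1 : Kind 3 (χ : SL(2, F) → ℂ) := (hK 3 χ).1 (by rw [he]; simp)
    have h2' : Kind 3 (χ' : SL(2, F) → ℂ) := (hK 3 χ').1 (by rw [he]; simp)
    obtain ⟨α, -, -, hα⟩ := half_pair χ.2 χ'.2 (fun e => hne (Subtype.ext e))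
      ((kind_cases χ.2).2.2.2 h1) ((kind_cases χ'.2).2.2.2 h2')
    refine ⟨α, ?_⟩
    have ez := congrFun hα negOne
    have eu := congrFun hα u
    rw [pindS_negOne, Pi.add_apply, ← hq] at ez
    rw [hu, pindS_uni_one, Pi.add_apply, ← hu] at eu
    have d1 := hdeg 3 χ (by rw [he]; simp)
    have d2 := hdeg 3 χ' (by rw [he]; simp)
    have hT3 : T 3 = (χ : SL(2, F) → ℂ) negOne + (χ' : SL(2, F) → ℂ) negOne := by
      simp only [hT, he, Finset.sum_pair hne]
    have hα1 : α ((-1 : Fˣ) : F) = 1 ∨ α ((-1 : Fˣ) : F) = -1 := by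
      refine mul_self_eq_one_iff.1 ?_
      rw [← map_mul]
      simp
    refine ⟨by rw [hT3, ← ez], ?_, hα1⟩
    rw [hT3, he, Finset.sum_pair hne]
    simp [deg2] at d1 d2
    have hq0 : ((q : ℂ) + 1) ≠ 0 := by exact_mod_cast Nat.succ_ne_zero q
    rcases value_negOne_cases χ.2 with a | a <;> rcases value_negOne_cases χ'.2 with c | c <;>
      rw [a, c, d1, d2] at ez ⊢
    · linear_combination -((q : ℂ) + 1) * eu
    · exfalso
      rcases hα1 with e | e <;> rw [e] at ez <;> exact hq0 (by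
        first | linear_combination ez | linear_combination -ez)
    · exfalso
      rcases hα1 with e | e <;> rw [e] at ez <;> exact hq0 (by
        first | linear_combination ez | linear_combination -ez)
    · linear_combination ((q : ℂ) + 1) * eu
  obtain ⟨α, hT3, hB3, hα⟩ := hK3
  have hK5 : 2 * ∑ χ ∈ K 5, (χ : SL(2, F) → ℂ) negOne * (χ : SL(2, F) → ℂ) u = -T 5 ∧
      (T 5 = (q : ℂ) - 1 ∨ T 5 = -((q : ℂ) - 1)) := by
    obtain ⟨χ, χ', hne, he⟩ := Finset.card_eq_two.1 (show (K 5).card = 2 by omega)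
    have h1 : Kind 5 (χ : SL(2, F) → ℂ) := (hK 5 χ).1 (by rw [he]; simp)
    obtain ⟨η, hη, hηne, hη5, hηu, hηz⟩ := pair_five hq4 χ.2 h1
    have hη' : (⟨η, hη⟩ : Cfsg.IrrCharacter SL(2, F)) ∈ K 5 := (hK 5 _).2 hη5
    rw [he, Finset.mem_insert, Finset.mem_singleton] at hη'
    rcases hη' with e | e
    · exact absurd (congrArg Subtype.val e) hηne
    have e' : η = (χ' : SL(2, F) → ℂ) := congrArg Subtype.val e
    subst e'
    have hT5 : T 5 = (χ : SL(2, F) → ℂ) negOne + (χ' : SL(2, F) → ℂ) negOne := by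
      simp only [hT, he, Finset.sum_pair hne]
    have d1 := hdeg 5 χ (by rw [he]; simp)
    simp [deg2] at d1
    refine ⟨?_, ?_⟩
    · rw [hT5, he, Finset.sum_pair hne, hηz, hu]
      linear_combination 2 * (χ : SL(2, F) → ℂ) negOne * hηu
    · rw [hT5, hηz]
      rcases value_negOne_cases χ.2 with a | a <;> rw [a, d1, Nat.cast_sub (by omega : 1 ≤ q)]
      · left; push_cast; ring
      · right; push_cast; ring
  obtain ⟨hB5, hT5⟩ := hK5
  rw [hB0, hB1, hB2, hB4] at hB
  simp [deg2, Nat.cast_sub (show 1 ≤ q by omega)] at hA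
  rw [hT0, hT1] at hA
  have hqne : (q : ℂ) ≠ 0 := Nat.cast_ne_zero.2 (by omega)
  have e45 : 2 * T 4 + T 5 = -((q : ℂ) - 1) := by
    have : (q : ℂ) * ((2 * T 4 + T 5) + ((q : ℂ) - 1)) = 0 := by
      linear_combination hA - ((q : ℂ) + 1) * (hB - hB3 / 2 - hB5 / 2)
    linear_combination (mul_eq_zero.1 this).resolve_left hqne
  have e23 : 2 * T 2 + T 3 = -((q : ℂ) + 1) := by
    linear_combination 2 * hB + e45 - hB3 - hB5
  refine ⟨?_, ?_⟩
  · by_contra hcon
    push Not at hcon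
    have hT2 : T 2 = -((K 2).card : ℂ) * ((q : ℂ) + 1) := by
      rw [hT]
      simp only []
      rw [Finset.sum_congr rfl (g := fun _ => -((q : ℂ) + 1)) fun χ hχ => ?_, Finset.sum_const,
        nsmul_eq_mul]
      · ring
      · rw [(value_negOne_cases χ.2).resolve_left (hcon χ ((hK 2 χ).1 hχ)), hdeg 2 χ hχ]
        simp [deg2]; ring
    rw [hT2, hT3] at e23
    have hq0 : ((q : ℂ) + 1) ≠ 0 := by exact_mod_cast Nat.succ_ne_zero q
    rcases hα with e | e <;> rw [e] at e23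
    · have : (((K 2).card : ℕ) : ℂ) = ((1 : ℕ) : ℂ) := by
        refine mul_left_cancel₀ hq0 ?_
        push_cast
        linear_combination -e23 / 2
      have := Nat.cast_injective (R := ℂ) this
      omega
    · have : (((K 2).card : ℕ) : ℂ) = ((0 : ℕ) : ℂ) := by
        refine mul_left_cancel₀ hq0 ?_
        push_cast
        linear_combination -e23 / 2
      have := Nat.cast_injective (R := ℂ) this
      omega
  · by_contra hcon
    push Not at hcon
    have hT4 : T 4 = -((K 4).card : ℂ) * ((q : ℂ) - 1) := by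
      rw [hT]
      simp only []
      rw [Finset.sum_congr rfl (g := fun _ => -((q : ℂ) - 1)) fun χ hχ => ?_, Finset.sum_const,
        nsmul_eq_mul]
      · ring
      · rw [(value_negOne_cases χ.2).resolve_left (hcon χ ((hK 4 χ).1 hχ)), hdeg 4 χ hχ]
        simp [deg2, Nat.cast_sub (show 1 ≤ q by omega)]
    rw [hT4] at e45
    have hq0 : ((q : ℂ) - 1) ≠ 0 := sub_ne_zero.2 (by exact_mod_cast (by omega : q ≠ 1))
    rcases hT5 with e | e <;> rw [e] at e45
    · have : (((K 4).card : ℕ) : ℂ) = ((1 : ℕ) : ℂ) := by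
        refine mul_left_cancel₀ hq0 ?_
        push_cast
        linear_combination -e45 / 2
      have := Nat.cast_injective (R := ℂ) this
      omega
    · have : (((K 4).card : ℕ) : ℂ) = ((0 : ℕ) : ℂ) := by
        refine mul_left_cancel₀ hq0 ?_
        push_cast
        linear_combination -e45 / 2
      have := Nat.cast_injective (R := ℂ) this
      omega

end Cfsg.Agent.BlocksChars.SL2Degrees
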