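import Mathlib

/-!
Fixed point free automorphisms `σ` with `σ ^ 4 = 1` (Gorenstein–Herstein): the group is solvable
and its derived subgroup is nilpotent. Elementary: with `C` the fixed points and `I` the inverted
points of `σ ^ 2`, the elements of `I` of coprime prime power orders commute, by counting.
-/

set_option autoImplicit false
set_option linter.style.haveILetI false

namespace Cfsg.Agent.BlocksChars.OrderFour

open scoped commutatorElement

variable {G : Type*} [Group G] [Finite G] {σ : G ≃* G}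
  (hfpf : ∀ g : G, σ g = g → g = 1) (h4 : ∀ g : G, σ (σ (σ (σ g))) = g)

include hfpf in
theorem inv_mul_map_bijective : Function.Bijective fun d : G => d⁻¹ * σ d := by
  refine Finite.injective_iff_bijective.1 fun a b h => ?_
  replace h : a⁻¹ * σ a = b⁻¹ * σ b := h
  have : σ (a * b⁻¹) = a * b⁻¹ := by
    rw [map_mul, map_inv, show σ a = a * (b⁻¹ * σ b) by rw [← h, mul_inv_cancel_left]]
    group
  exact mul_inv_eq_one.1 (hfpf _ this)

include hfpf in
theorem sigma_fixed {c : G} (hc : σ (σ c) = c) : σ c = c⁻¹ := by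
  obtain ⟨d, rfl⟩ := (inv_mul_map_bijective hfpf).surjective c
  have hd : σ (σ d) = d := by
    apply (inv_mul_map_bijective hfpf).injective
    simp only [map_mul, map_inv] at hc ⊢
    exact hc
  simp only [map_mul, map_inv, hd]
  group

include hfpf in
theorem fixed_commute {c c' : G} (hc : σ (σ c) = c) (hc' : σ (σ c') = c') : c * c' = c' * c := by
  have h := sigma_fixed hfpf (c := c * c') (by rw [map_mul, map_mul, hc, hc'])
  rw [map_mul, sigma_fixed hfpf hc, sigma_fixed hfpf hc', ← mul_inv_rev] at h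
  exact (inv_injective h).symm

include hfpf h4 in
theorem norm_eq_one (g : G) : g * σ g * σ (σ g) * σ (σ (σ g)) = 1 := by
  obtain ⟨d, rfl⟩ := (inv_mul_map_bijective hfpf).surjective g
  simp only [map_mul, map_inv, h4]
  group

include hfpf h4 in
theorem commute_key {c x : G} (hc : σ (σ c) = c) (hx : σ (σ x) = x⁻¹) :
    Commute (c * x * c⁻¹) (σ x) := by
  have h := norm_eq_one hfpf h4 (c * x)
  simp only [map_mul, map_inv, hx, sigma_fixed hfpf hc, inv_inv] at h
  have h' : c * x * c⁻¹ * σ x * (c * x * c⁻¹)⁻¹ * (σ x)⁻¹ = 1 := by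
    calc c * x * c⁻¹ * σ x * (c * x * c⁻¹)⁻¹ * (σ x)⁻¹
        = c * x * (c⁻¹ * σ x) * (c * x⁻¹) * (c⁻¹ * (σ x)⁻¹) := by group
      _ = 1 := h
  show c * x * c⁻¹ * σ x = σ x * (c * x * c⁻¹)
  rw [mul_inv_eq_one, mul_inv_eq_iff_eq_mul] at h'
  exact h'

include hfpf h4 in
theorem odd_card : Odd (Nat.card G) := by
  classical
  haveI := Fintype.ofFinite G
  by_contra h
  rw [Nat.not_odd_iff_even, even_iff_two_dvd] at h
  let ψ : Function.End G := fun g => σ (σ g)
  have hψ : ψ ^ 2 ^ 1 = 1 := by funext g; exact h4 g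
  haveI : Fact (Nat.Prime 2) := ⟨Nat.prime_two⟩
  have hmod := Equiv.Perm.card_fixedPoints_modEq (p := 2) (n := 1) hψ
  let C : Subgroup G :=
    { carrier := {g | σ (σ g) = g}
      mul_mem' := fun {a b} ha hb => by
        show σ (σ (a * b)) = a * b
        rw [map_mul, map_mul, show σ (σ a) = a from ha, show σ (σ b) = b from hb]
      one_mem' := by simp
      inv_mem' := fun {a} ha => by
        show σ (σ a⁻¹) = a⁻¹
        rw [map_inv, map_inv, show σ (σ a) = a from ha] }
  have hC : (Fintype.card (Function.fixedPoints ψ)) = Nat.card C := by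
    rw [← Nat.card_eq_fintype_card]
    rfl
  rw [hC, ← Nat.card_eq_fintype_card] at hmod
  have h2C : 2 ∣ Nat.card C := (Nat.ModEq.dvd_iff hmod dvd_rfl).1 h
  obtain ⟨t, ht⟩ := exists_prime_orderOf_dvd_card' 2 h2C
  have hte : σ (t : G) = t := by
    rw [sigma_fixed hfpf (show σ (σ (t : G)) = t from t.2)]
    apply inv_eq_of_mul_eq_one_left
    rw [← sq, ← Subgroup.coe_pow, ← ht, pow_orderOf_eq_one, Subgroup.coe_one]
  rw [show t = 1 from Subtype.ext (hfpf _ hte), orderOf_one] at ht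
  exact absurd ht (by omega)

/-- A subgroup mapped into itself by `σ`. -/
def Invariant (σ : G ≃* G) (H : Subgroup G) : Prop := ∀ g ∈ H, σ g ∈ H

theorem Invariant.map_eq {H : Subgroup G} (hH : Invariant σ H) : H.map (σ : G →* G) = H :=
  Subgroup.eq_of_le_of_card_ge (by rintro _ ⟨g, hg, rfl⟩; exact hH g hg)
    (Subgroup.card_map_of_injective σ.injective).ge

/-- The fixed point subgroup of `σ ^ 2`. -/
def fix (σ : G ≃* G) : Subgroup G where
  carrier := {g | σ (σ g) = g}
  mul_mem' {a b} ha hb := by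
    show σ (σ (a * b)) = a * b
    rw [map_mul, map_mul, show σ (σ a) = a from ha, show σ (σ b) = b from hb]
  one_mem' := by simp
  inv_mem' {a} ha := by
    show σ (σ a⁻¹) = a⁻¹
    rw [map_inv, map_inv, show σ (σ a) = a from ha]

omit [Finite G] in
theorem mem_fix {g : G} : g ∈ fix σ ↔ σ (σ g) = g := Iff.rfl

include hfpf in
theorem invariant_le_fix {H : Subgroup G} (hH : H ≤ fix σ) : Invariant σ H := fun g hg => by
  rw [sigma_fixed hfpf (hH hg)]; exact H.inv_mem hg

omit [Finite G] in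
theorem inverted_pow {x : G} (hx : σ (σ x) = x⁻¹) (k : ℕ) : σ (σ (x ^ k)) = (x ^ k)⁻¹ := by
  rw [map_pow, map_pow, hx, inv_pow]

include hfpf h4 in
/-- Every element is uniquely a fixed point times an inverted one. -/
theorem card_invariant (H : Subgroup G) (hH : Invariant σ H) :
    Nat.card H = Nat.card (H ⊓ fix σ : Subgroup G) * Nat.card {x : G // x ∈ H ∧ σ (σ x) = x⁻¹} := by
  obtain ⟨k, hk⟩ := odd_card hfpf h4
  have hroot : ∀ u : G, (u ^ (k + 1)) ^ 2 = u := fun u => by
    rw [← pow_mul, show (k + 1) * 2 = Nat.card G + 1 by omega, pow_add, pow_card_eq_one', one_mul,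
      pow_one]
  rw [← Nat.card_prod]
  symm
  refine Nat.card_congr (Equiv.ofBijective
    (fun cx => (⟨cx.1.1 * cx.2.1, H.mul_mem (Subgroup.mem_inf.1 cx.1.2).1 cx.2.2.1⟩ : H)) ⟨?_, ?_⟩)
  · rintro ⟨⟨c, hc⟩, ⟨x, hx⟩⟩ ⟨⟨c', hc'⟩, ⟨x', hx'⟩⟩ h
    have h1 : c * x = c' * x' := congrArg Subtype.val h
    have h2 : c * x⁻¹ = c' * x'⁻¹ := by
      have e1 := mem_fix.1 (Subgroup.mem_inf.1 hc).2
      have e2 := mem_fix.1 (Subgroup.mem_inf.1 hc').2
      have := congrArg (fun g => σ (σ g)) h1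
      simpa [map_mul, hx.2, hx'.2, e1, e2] using this
    have h3 : x ^ 2 = x' ^ 2 := by
      calc x ^ 2 = (c * x⁻¹)⁻¹ * (c * x) := by rw [sq]; group
        _ = x' ^ 2 := by rw [h1, h2, sq]; group
    have h4' : x = x' := by
      have e1 := congrArg (fun u => u ^ (k + 1)) h3
      simp only [← pow_mul] at e1
      rwa [show 2 * (k + 1) = Nat.card G + 1 by omega, pow_add, pow_add, pow_card_eq_one',
        pow_card_eq_one', one_mul, one_mul, pow_one, pow_one] at e1
    subst h4'
    obtain rfl := mul_right_cancel h1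
    rfl
  · rintro ⟨g, hg⟩
    have hψg : σ (σ g) ∈ H := hH _ (hH _ hg)
    set u := (σ (σ g))⁻¹ * g with hu
    have huψ : σ (σ u) = u⁻¹ := by
      rw [hu, map_mul, map_mul, map_inv, map_inv, h4]
      group
    set x := u ^ (k + 1) with hx
    have hxψ : σ (σ x) = x⁻¹ := inverted_pow huψ _
    have hxH : x ∈ H := H.pow_mem (H.mul_mem (H.inv_mem hψg) hg) _
    have hc : g * x⁻¹ ∈ H ⊓ fix σ := by
      refine Subgroup.mem_inf.2 ⟨H.mul_mem hg (H.inv_mem hxH), ?_⟩
      show σ (σ (g * x⁻¹)) = g * x⁻¹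
      rw [map_mul, map_mul, map_inv, map_inv, hxψ, inv_inv]
      have : σ (σ g) = g * u⁻¹ := by rw [hu]; group
      rw [this, ← hroot u, ← hx]
      group
    exact ⟨(⟨g * x⁻¹, hc⟩, ⟨x, hxH, hxψ⟩), Subtype.ext (inv_mul_cancel_right g x)⟩

/-! ### The invariant Sylow subgroups -/

variable {p : ℕ} [Fact p.Prime]

include hfpf in
theorem invariant_sylow_unique {P Q : Sylow p G} (hP : Invariant σ P) (hQ : Invariant σ Q) :
    P = Q := by
  obtain ⟨g, rfl⟩ := MulAction.exists_smul_eq G P Q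
  have hmemQ : ∀ y : G, y ∈ ((g • P : Sylow p G) : Subgroup G) ↔ g⁻¹ * y * g ∈ (P : Subgroup G) := by
    intro y
    rw [Sylow.smul_def, Sylow.pointwise_smul_def, Subgroup.mem_pointwise_smul_iff_inv_smul_mem,
      ← map_inv, MulAut.smul_def, MulAut.conj_apply]
    simp
  have hN : g⁻¹ * σ g ∈ Subgroup.normalizer (P : Set G) := by
    refine Subgroup.mem_normalizer_fintype fun y hy => ?_
    obtain ⟨y', hy', rfl⟩ : y ∈ (P : Subgroup G).map (σ : G →* G) := by rw [hP.map_eq]; exact hy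
    have h1 : g * y' * g⁻¹ ∈ ((g • P : Sylow p G) : Subgroup G) :=
      (hmemQ _).2 (by rw [show g⁻¹ * (g * y' * g⁻¹) * g = y' by group]; exact hy')
    have h2 := (hmemQ _).1 (hQ _ h1)
    show g⁻¹ * σ g * σ y' * (g⁻¹ * σ g)⁻¹ ∈ (P : Subgroup G)
    rw [map_mul, map_mul, map_inv] at h2
    rw [show g⁻¹ * σ g * σ y' * (g⁻¹ * σ g)⁻¹ = g⁻¹ * (σ g * σ y' * (σ g)⁻¹) * g by group]
    exact h2
  set N := Subgroup.normalizer (P : Set G)
  have hNinv : ∀ h ∈ N, σ h ∈ N := by
    intro h hh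
    refine Subgroup.mem_normalizer_fintype fun y hy => ?_
    obtain ⟨y', hy', rfl⟩ : y ∈ (P : Subgroup G).map (σ : G →* G) := by rw [hP.map_eq]; exact hy
    have := hP _ ((Subgroup.mem_normalizer_iff.1 hh y').1 hy')
    rw [map_mul, map_mul, map_inv] at this
    exact this
  have hsurj : Function.Surjective fun h : N =>
      (⟨(h : G)⁻¹ * σ h, N.mul_mem (N.inv_mem h.2) (hNinv _ h.2)⟩ : N) :=
    Finite.surjective_of_injective fun a b h =>
      Subtype.ext ((inv_mul_map_bijective hfpf).injective (congrArg Subtype.val h))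
  obtain ⟨h, hh⟩ := hsurj ⟨_, hN⟩
  have hgh : (h : G) = g := (inv_mul_map_bijective hfpf).injective (congrArg Subtype.val hh)
  exact (Sylow.smul_eq_iff_mem_normalizer.2 (hgh ▸ h.2)).symm

include hfpf in
theorem exists_invariant_sylow_ge (H : Subgroup G) (hH : Invariant σ H) (hp : IsPGroup p H) :
    ∃ P : Sylow p G, H ≤ P ∧ Invariant σ P := by
  classical
  haveI : Nonempty {Q : Subgroup G // H ≤ Q ∧ Invariant σ Q ∧ IsPGroup p Q} := ⟨⟨H, le_rfl, hH, hp⟩⟩
  obtain ⟨⟨Q, hHQ, hQi, hQp⟩, hmax⟩ := Finite.exists_max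
    (fun Q : {Q : Subgroup G // H ≤ Q ∧ Invariant σ Q ∧ IsPGroup p Q} => Nat.card Q.1)
  obtain ⟨S, hQS⟩ := hQp.exists_le_sylow
  rcases hQS.lt_or_eq with hlt | rfl
  swap
  · exact ⟨S, hHQ, hQi⟩
  exfalso
  set N := Subgroup.normalizer (Q : Set G) with hN
  have hNinv : Invariant σ N := by
    intro h hh
    refine Subgroup.mem_normalizer_fintype fun y hy => ?_
    obtain ⟨y', hy', rfl⟩ : y ∈ Q.map (σ : G →* G) := by rw [hQi.map_eq]; exact hy
    have := hQi _ ((Subgroup.mem_normalizer_iff.1 hh y').1 hy')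
    simpa using this
  -- an invariant Sylow subgroup of `N`
  obtain ⟨T0⟩ : Nonempty (Sylow p N) := inferInstance
  let σN : N ≃* N := ((σ.subgroupMap N).trans (MulEquiv.subgroupCongr hNinv.map_eq))
  have hσN : ∀ n : N, (σN n : G) = σ n := fun n => rfl
  have hT0' : Nat.card ((T0 : Subgroup N).map (σN : N →* N)) = Nat.card (T0 : Subgroup N) :=
    Subgroup.card_map_of_injective σN.injective
  let T1 : Sylow p N := Sylow.ofCard ((T0 : Subgroup N).map (σN : N →* N)) (by
    rw [hT0', T0.card_eq_multiplicity])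
  obtain ⟨a, ha⟩ := MulAction.exists_smul_eq N T0 T1
  have hinjN : Function.Injective fun d : N => d⁻¹ * σN d := fun x y h =>
    Subtype.ext ((inv_mul_map_bijective hfpf).injective (by
      have := congrArg Subtype.val h
      simpa [hσN] using this))
  obtain ⟨b, hb⟩ := Finite.surjective_of_injective hinjN a⁻¹
  simp only at hb
  let T : Sylow p N := b • T0
  have hTinv : ∀ n ∈ (T : Subgroup N), σN n ∈ (T : Subgroup N) := by
    intro n hn
    simp only [T, Sylow.smul_def, Sylow.pointwise_smul_def,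
      Subgroup.mem_pointwise_smul_iff_inv_smul_mem, ← map_inv, MulAut.smul_def,
      MulAut.conj_apply, inv_inv] at hn ⊢
    have h1 : σN (b⁻¹ * n * b) ∈ (T1 : Subgroup N) := ⟨_, hn, rfl⟩
    rw [← ha] at h1
    simp only [Sylow.smul_def, Sylow.pointwise_smul_def,
      Subgroup.mem_pointwise_smul_iff_inv_smul_mem, ← map_inv, MulAut.smul_def,
      MulAut.conj_apply, inv_inv] at h1
    have e : b⁻¹ * σN n * b = a⁻¹ * σN (b⁻¹ * n * b) * a := by
      rw [map_mul, map_mul, map_inv, show σN b = b * a⁻¹ by rw [← hb, mul_inv_cancel_left]]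
      group
    rw [e]; exact h1
  let Q' := (T : Subgroup N).map N.subtype
  have hQ'i : Invariant σ Q' := by
    rintro _ ⟨n, hn, rfl⟩
    exact ⟨σN n, hTinv n hn, hσN n⟩
  have hQ'p : IsPGroup p Q' := T.isPGroup'.map _
  have hQN : Q ≤ N := Subgroup.le_normalizer
  have hQQ' : Q ≤ Q' := by
    intro q hq
    haveI : (Q.comap N.subtype).Normal := Subgroup.normal_in_normalizer
    have hle : Q.comap N.subtype ≤ (T : Subgroup N) :=
      IsPGroup.le_sylow_of_normal (hQp.comap_of_injective _ N.subtype_injective) T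
    exact ⟨⟨q, hQN hq⟩, hle hq, rfl⟩
  have hQ'eq : Q' = Q := by
    refine (Subgroup.eq_of_le_of_card_ge hQQ' ?_).symm
    exact hmax ⟨Q', hHQ.trans hQQ', hQ'i, hQ'p⟩
  have hpS : IsPGroup p (N ⊓ (S : Subgroup G) : Subgroup G) := S.isPGroup'.to_le inf_le_right
  have hlt' : Q < N ⊓ (S : Subgroup G) := by
    haveI := Fintype.ofFinite (S : Subgroup G)
    haveI : Group.IsNilpotent (S : Subgroup G) := S.isPGroup'.isNilpotent
    have hne : Q.subgroupOf S < ⊤ := by
      refine lt_top_iff_ne_top.2 fun h => hlt.not_ge ?_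
      exact Subgroup.subgroupOf_eq_top.1 h
    have hn := Group.normalizerCondition_of_isNilpotent _ hne
    obtain ⟨s, hs, hsQ⟩ := SetLike.exists_of_lt hn
    refine lt_of_le_of_ne (le_inf hQN hlt.le) fun he => hsQ ?_
    have hsN : (s : G) ∈ N := by
      refine Subgroup.mem_normalizer_fintype fun y hy => ?_
      have := (Subgroup.mem_normalizer_iff.1 hs ⟨y, hlt.le hy⟩).1 hy
      exact this
    show (s : G) ∈ Q
    rw [he]; exact ⟨hsN, s.2⟩
  obtain ⟨T', hT'⟩ := (hpS.comap_of_injective N.subtype N.subtype_injective).exists_le_sylow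
  have hc1 : Nat.card (N ⊓ (S : Subgroup G) : Subgroup G) ≤ Nat.card T' := by
    have := Nat.card_le_card_of_injective _ (Subgroup.inclusion_injective hT')
    refine le_trans (le_of_eq ?_) this
    exact Nat.card_congr
      { toFun := fun x => ⟨⟨x.1, x.2.1⟩, x.2⟩
        invFun := fun x => ⟨x.1.1, x.2⟩
        left_inv := fun x => rfl
        right_inv := fun x => rfl }
  have hc2 : Nat.card T' = Nat.card Q := by
    rw [T'.card_eq_multiplicity, ← T.card_eq_multiplicity,
      ← Subgroup.card_map_of_injective (K := (T : Subgroup N)) (f := N.subtype) N.subtype_injective]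
    exact congrArg (fun X : Subgroup G => Nat.card X) hQ'eq
  exact hlt'.ne (Subgroup.eq_of_le_of_card_ge hlt'.le (hc1.trans hc2.le))

include hfpf in
theorem le_invariant_sylow {H : Subgroup G} (hH : Invariant σ H) (hp : IsPGroup p H)
    (P : Sylow p G) (hP : Invariant σ P) : H ≤ P := by
  obtain ⟨Q, hHQ, hQ⟩ := exists_invariant_sylow_ge hfpf H hH hp
  rwa [invariant_sylow_unique hfpf hP hQ]

include hfpf h4 in
/-- The orbit of an inverted `p`-element under `C` lies in the invariant Sylow subgroup. -/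
theorem conj_mem_sylow {x c : G} (hx : σ (σ x) = x⁻¹) (hc : σ (σ c) = c) {e : ℕ}
    (hxp : orderOf x = p ^ e) (P : Sylow p G) (hP : Invariant σ P) :
    c * x * c⁻¹ ∈ (P : Subgroup G) := by
  classical
  set A : Set G := {y | ∃ d, σ (σ d) = d ∧ y = d * x * d⁻¹} with hA
  set B : Set G := {y | ∃ d, σ (σ d) = d ∧ y = d * σ x * d⁻¹} with hB
  have hcomm : ∀ a ∈ A, ∀ b ∈ B, b * a = a * b := by
    rintro _ ⟨d1, hd1, rfl⟩ _ ⟨d2, hd2, rfl⟩
    have hd : σ (σ (d2⁻¹ * d1)) = d2⁻¹ * d1 := by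
      rw [map_mul, map_mul, map_inv, map_inv, hd1, hd2]
    have h := ((commute_key hfpf h4 hd hx).map (MulAut.conj d2).toMonoidHom).eq
    simp only [MulEquiv.coe_toMonoidHom, MulAut.conj_apply] at h
    calc d2 * σ x * d2⁻¹ * (d1 * x * d1⁻¹)
        = d2 * σ x * d2⁻¹ * (d2 * (d2⁻¹ * d1 * x * (d2⁻¹ * d1)⁻¹) * d2⁻¹) := by group
      _ = d2 * (d2⁻¹ * d1 * x * (d2⁻¹ * d1)⁻¹) * d2⁻¹ * (d2 * σ x * d2⁻¹) := h.symm
      _ = d1 * x * d1⁻¹ * (d2 * σ x * d2⁻¹) := by group
  set X := Subgroup.closure A with hXdef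
  set Y := Subgroup.closure B with hYdef
  have hYX : Y ≤ Subgroup.centralizer (X : Set G) := by
    rw [hYdef, Subgroup.closure_le]
    intro b hb
    refine Subgroup.mem_centralizer_iff.2 fun a ha => ?_
    have : X ≤ Subgroup.centralizer {b} := by
      rw [hXdef, Subgroup.closure_le]
      intro a' ha'
      exact Subgroup.mem_centralizer_singleton_iff.2 (hcomm a' ha' b hb).symm
    exact Subgroup.mem_centralizer_singleton_iff.1 (this ha)
  have hxy : Commute x (σ x) := by simpa using commute_key hfpf h4 (c := 1) (by simp) hx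
  -- commutators of generators of `X` are central in `X`
  have hcen : ∀ a ∈ A, ∀ a' ∈ A, ⁅a, a'⁆ ∈ Y := by
    have base : ∀ d, σ (σ d) = d → ⁅d * x * d⁻¹, x⁻¹⁆ ∈ Y := by
      intro d hd
      have hu : σ (σ (x * σ x)) = (x * σ x)⁻¹ := by
        rw [map_mul, map_mul, hx, map_inv, ← mul_inv_rev, ← hxy.eq]
      have k := (commute_key hfpf h4 hd hu).eq
      rw [map_mul, hx] at k
      have m1 : d * σ x * d⁻¹ ∈ Y := Subgroup.subset_closure ⟨d, hd, rfl⟩
      have m2 : σ x ∈ Y := Subgroup.subset_closure ⟨1, by simp, by simp⟩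
      have m3 : d * x * d⁻¹ ∈ X := Subgroup.subset_closure ⟨d, hd, rfl⟩
      have m4 : x⁻¹ ∈ X := X.inv_mem (Subgroup.subset_closure ⟨1, by simp, by simp⟩)
      set a := d * x * d⁻¹
      set b := d * σ x * d⁻¹
      set e := σ x
      set f := x⁻¹
      have c2 : b * f = f * b := (Subgroup.mem_centralizer_iff.1 (hYX m1) f m4).symm
      have c1 : e * a = a * e := (Subgroup.mem_centralizer_iff.1 (hYX m2) a m3).symm
      have c3 : e * f = f * e := (Subgroup.mem_centralizer_iff.1 (hYX m2) f m4).symm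
      have k' : a * b * (e * f) = e * f * (a * b) := by
        have : d * (x * σ x) * d⁻¹ = a * b := by simp only [a, b]; group
        rw [← this]; exact k
      have h2 : a * f * (b * e) = f * a * (e * b) := by
        calc a * f * (b * e) = a * b * (e * f) := by
              rw [c3, mul_assoc a f, ← mul_assoc f b, ← c2]; group
          _ = e * f * (a * b) := k'
          _ = f * a * (e * b) := by
              rw [c3, mul_assoc f e, ← mul_assoc e a, c1]; group
      have h3 : a * f * (f * a)⁻¹ = f * a * (e * b * (b * e)⁻¹) * (f * a)⁻¹ := by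
        calc a * f * (f * a)⁻¹ = a * f * (b * e) * (b * e)⁻¹ * (f * a)⁻¹ := by group
          _ = f * a * (e * b) * (b * e)⁻¹ * (f * a)⁻¹ := by rw [h2]
          _ = _ := by group
      have hmY : e * b * (b * e)⁻¹ ∈ Y :=
        Y.mul_mem (Y.mul_mem m2 m1) (Y.inv_mem (Y.mul_mem m1 m2))
      have h5 : f * a * (e * b * (b * e)⁻¹) * (f * a)⁻¹ = e * b * (b * e)⁻¹ := by
        rw [(Subgroup.mem_centralizer_iff.1 (hYX hmY) (f * a) (X.mul_mem m4 m3)),
          mul_inv_cancel_right]
      rw [h5] at h3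
      rw [show ⁅a, f⁆ = a * f * (f * a)⁻¹ by simp [commutatorElement_def, mul_assoc], h3]
      exact hmY
    rintro _ ⟨d1, hd1, rfl⟩ _ ⟨d2, hd2, rfl⟩
    have hd : σ (σ (d2⁻¹ * d1)) = d2⁻¹ * d1 := by
      rw [map_mul, map_mul, map_inv, map_inv, hd1, hd2]
    have hb := base _ hd
    have hYn : ∀ y ∈ Y, d2 * y * d2⁻¹ ∈ Y := by
      have : Y.map (MulAut.conj d2).toMonoidHom ≤ Y := by
        rw [hYdef, MonoidHom.map_closure, Subgroup.closure_le]
        rintro _ ⟨_, ⟨d, hd', rfl⟩, rfl⟩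
        refine Subgroup.subset_closure ⟨d2 * d, by rw [map_mul, map_mul, hd2, hd'], ?_⟩
        simp [mul_assoc]
      intro y hy
      exact this ⟨y, hy, by simp⟩
    have h1 := hYn _ hb
    -- rewrite `⁅a, a'⁻¹⁆` into `⁅a, a'⁆`
    have m3 : d1 * x * d1⁻¹ ∈ X := Subgroup.subset_closure ⟨d1, hd1, rfl⟩
    have m4 : d2 * x * d2⁻¹ ∈ X := Subgroup.subset_closure ⟨d2, hd2, rfl⟩
    set a := d1 * x * d1⁻¹ with ha
    set a' := d2 * x * d2⁻¹ with ha'
    have h2 : ⁅a, a'⁻¹⁆ ∈ Y := by
      have e : ⁅a, a'⁻¹⁆ = d2 * ⁅d2⁻¹ * d1 * x * (d2⁻¹ * d1)⁻¹, x⁻¹⁆ * d2⁻¹ := by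
        simp [ha, ha', commutatorElement_def, mul_assoc]
      rw [e]; exact h1
    have h3 : a' * ⁅a, a'⁻¹⁆⁻¹ * a'⁻¹ = ⁅a, a'⁻¹⁆⁻¹ := by
      rw [(Subgroup.mem_centralizer_iff.1 (hYX (Y.inv_mem h2)) a' m4), mul_inv_cancel_right]
    rw [show ⁅a, a'⁆ = a' * ⁅a, a'⁻¹⁆⁻¹ * a'⁻¹ by simp [commutatorElement_def, mul_assoc], h3]
    exact Y.inv_mem h2
  -- `X` is nilpotent
  haveI hXnil : Group.IsNilpotent X := by
    refine Group.of_quotient_center_nilpotent ?_
    have hcomm' : ∀ u v : X ⧸ Subgroup.center X, u * v = v * u := by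
      have hgen : ∀ a ∈ A, ∀ v ∈ X, ⁅v, a⁆ ∈ Y := by
        intro a ha v hv
        induction hv using Subgroup.closure_induction with
        | mem w hw => exact hcen w hw a ha
        | one => simp
        | mul u v hu hv iu iv =>
            have hcu := Subgroup.mem_centralizer_iff.1 (hYX iv) u hu
            rw [show ⁅u * v, a⁆ = u * ⁅v, a⁆ * u⁻¹ * ⁅u, a⁆ by
              simp [commutatorElement_def, mul_assoc], hcu, mul_inv_cancel_right]
            exact Y.mul_mem iv iu
        | inv u hu iu =>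
            have hcu := Subgroup.mem_centralizer_iff.1 (hYX (Y.inv_mem iu)) u⁻¹ (X.inv_mem hu)
            rw [show ⁅u⁻¹, a⁆ = u⁻¹ * ⁅u, a⁆⁻¹ * (u⁻¹)⁻¹ by
              simp [commutatorElement_def, mul_assoc], hcu, mul_inv_cancel_right]
            exact Y.inv_mem iu
      have hall : ∀ v ∈ X, ∀ a ∈ X, ⁅v, a⁆ ∈ Y := by
        intro v hv a ha
        induction ha using Subgroup.closure_induction with
        | mem w hw => exact hgen w hw v hv
        | one => simp
        | mul u w hu hw iu iw =>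
            have hcu := Subgroup.mem_centralizer_iff.1 (hYX iw) u hu
            rw [show ⁅v, u * w⁆ = ⁅v, u⁆ * (u * ⁅v, w⁆ * u⁻¹) by
              simp [commutatorElement_def, mul_assoc], hcu, mul_inv_cancel_right]
            exact Y.mul_mem iu iw
        | inv u hu iu =>
            have hcu := Subgroup.mem_centralizer_iff.1 (hYX (Y.inv_mem iu)) u⁻¹ (X.inv_mem hu)
            rw [show ⁅v, u⁻¹⁆ = u⁻¹ * ⁅v, u⁆⁻¹ * (u⁻¹)⁻¹ by
              simp [commutatorElement_def, mul_assoc], hcu, mul_inv_cancel_right]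
            exact Y.inv_mem iu
      intro u v
      induction u using QuotientGroup.induction_on with
      | H u =>
        induction v using QuotientGroup.induction_on with
        | H v =>
          rw [← QuotientGroup.mk_mul, ← QuotientGroup.mk_mul, QuotientGroup.eq]
          refine Subgroup.mem_center_iff.2 fun w => Subtype.ext ?_
          have hm := hall _ (X.inv_mem v.2) _ (X.inv_mem u.2)
          have := Subgroup.mem_centralizer_iff.1 (hYX hm) w.1 w.2
          simpa [commutatorElement_def, mul_assoc] using this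
    letI : CommGroup (X ⧸ Subgroup.center X) :=
      { (inferInstance : Group (X ⧸ Subgroup.center X)) with mul_comm := hcomm' }
    infer_instance
  -- hence a `p`-group
  have hXp : IsPGroup p X := by
    obtain ⟨S⟩ : Nonempty (Sylow p X) := inferInstance
    haveI hSn : (S : Subgroup X).Normal :=
      S.normal_of_normalizerCondition (Group.normalizerCondition_of_isNilpotent)
    have hle : X ≤ (S : Subgroup X).map X.subtype := by
      conv_lhs => rw [hXdef]
      rw [Subgroup.closure_le]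
      rintro _ ⟨d, hd, rfl⟩
      have hm : d * x * d⁻¹ ∈ X := Subgroup.subset_closure ⟨d, hd, rfl⟩
      refine ⟨⟨_, hm⟩, ?_, rfl⟩
      have hord : orderOf (⟨_, hm⟩ : X) = p ^ e := by
        rw [← hxp, ← Subgroup.orderOf_coe]
        exact MulEquiv.orderOf_eq (MulAut.conj d) x
      have hz : IsPGroup p (Subgroup.zpowers (⟨_, hm⟩ : X)) :=
        IsPGroup.of_card (n := e) (by rw [Nat.card_zpowers, hord])
      obtain ⟨S', hS'⟩ := hz.exists_le_sylow
      haveI := Sylow.unique_of_normal S hSn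
      rw [Subsingleton.elim S S']
      exact hS' (Subgroup.mem_zpowers _)
    exact (S.isPGroup'.map X.subtype).to_le hle
  have hYmap : X.map (σ : G →* G) = Y := by
    rw [hXdef, hYdef, MonoidHom.map_closure]
    congr 1
    ext y
    constructor
    · rintro ⟨_, ⟨d, hd, rfl⟩, rfl⟩
      exact ⟨σ d, by rw [hd], by simp⟩
    · rintro ⟨d, hd, rfl⟩
      refine ⟨σ d * x * (σ d)⁻¹, ⟨σ d, by rw [hd], rfl⟩, ?_⟩
      simp [hd]
  have hYp : IsPGroup p Y := hYmap ▸ hXp.map _
  have hLi : Invariant σ (X ⊔ Y) := by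
    intro g hg
    have h2 : (X ⊔ Y).map (σ : G →* G) ≤ X ⊔ Y := by
      rw [Subgroup.map_sup, hYmap]
      refine sup_le le_sup_right ?_
      rw [hYdef, MonoidHom.map_closure, Subgroup.closure_le]
      rintro _ ⟨_, ⟨d, hd, rfl⟩, rfl⟩
      refine (show X ≤ X ⊔ Y from le_sup_left) ?_
      have : σ (d * σ x * d⁻¹) = (σ d * x * (σ d)⁻¹)⁻¹ := by
        simp [hx, mul_assoc]
      rw [MonoidHom.coe_coe, this]
      exact X.inv_mem (Subgroup.subset_closure ⟨σ d, by rw [hd], rfl⟩)
    exact h2 ⟨g, hg, rfl⟩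
  have hLp : IsPGroup p (X ⊔ Y : Subgroup G) :=
    hXp.to_sup_of_normal_right' hYp (fun a ha => Subgroup.mem_normalizer_fintype fun y hy => by
      have := Subgroup.mem_centralizer_iff.1 (hYX hy) a ha
      rw [this, mul_inv_cancel_right]; exact hy)
  exact le_invariant_sylow hfpf hLi hLp P hP
    (le_sup_left (b := Y) (Subgroup.subset_closure (k := A) ⟨c, hc, rfl⟩))

/-! ### The inverted elements -/

include hfpf h4 in
theorem card_fix_inf (P : Sylow p G) (hP : Invariant σ P) :
    Nat.card ((P : Subgroup G) ⊓ fix σ : Subgroup G) = p ^ (Nat.card (fix σ)).factorization p := by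
  obtain ⟨S⟩ : Nonempty (Sylow p (fix σ)) := inferInstance
  have hS : (S : Subgroup (fix σ)).map (fix σ).subtype ≤ P := by
    refine le_invariant_sylow hfpf ?_ (S.isPGroup'.map _) P hP
    refine invariant_le_fix hfpf ?_
    rintro _ ⟨c, -, rfl⟩
    exact c.2
  obtain ⟨j, hj⟩ :=
    (P.isPGroup'.to_le (inf_le_left : (P : Subgroup G) ⊓ fix σ ≤ P)).exists_card_eq
  have hd : p ^ j ∣ Nat.card (fix σ) := hj ▸ Subgroup.card_dvd_of_le inf_le_right
  have hge : p ^ (Nat.card (fix σ)).factorization p ≤ p ^ j := by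
    rw [← hj, ← S.card_eq_multiplicity,
      ← Subgroup.card_map_of_injective (f := (fix σ).subtype) (fix σ).subtype_injective]
    refine Subgroup.card_le_of_le ?_
    exact le_inf hS (by rintro _ ⟨c, -, rfl⟩; exact c.2)
  rw [hj]
  refine le_antisymm (Nat.pow_le_pow_right (Fact.out : p.Prime).pos ?_) hge
  exact ((Fact.out : p.Prime).pow_dvd_iff_le_factorization Nat.card_pos.ne').1 hd

include hfpf h4 in
theorem card_inverted (P : Sylow p G) (hP : Invariant σ P) :
    Nat.card {x : G // x ∈ (P : Subgroup G) ∧ σ (σ x) = x⁻¹} =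
      p ^ (Nat.card {x : G // σ (σ x) = x⁻¹}).factorization p := by
  have h1 := card_invariant hfpf h4 (P : Subgroup G) hP
  have h2 := card_invariant hfpf h4 (⊤ : Subgroup G) (fun g _ => Subgroup.mem_top _)
  rw [Subgroup.card_top, top_inf_eq,
    Nat.card_congr (Equiv.subtypeEquivRight (fun x : G => and_iff_right (Subgroup.mem_top x)))] at h2
  rw [P.card_eq_multiplicity, card_fix_inf hfpf h4 P hP, h2] at h1
  haveI : Nonempty {x : G // σ (σ x) = x⁻¹} := ⟨⟨1, by simp⟩⟩
  rw [Nat.factorization_mul Nat.card_pos.ne' Nat.card_pos.ne', Finsupp.add_apply, pow_add] at h1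
  exact (Nat.eq_of_mul_eq_mul_left (pow_pos (Fact.out : p.Prime).pos _) h1).symm

omit [Finite G] in
theorem pow_eq_of_gcd {u v : G} {n : ℕ} (ks : Set ℕ) (hn : u ^ n = v ^ n)
    (hk : ∀ k ∈ ks, u ^ k = v ^ k) (hg : ∀ q : ℕ, q.Prime → q ∣ n → ∃ k ∈ ks, ¬ q ∣ k) : u = v := by
  let S : AddSubgroup ℤ :=
    { carrier := {k | u ^ k = v ^ k}
      add_mem' := fun {a b} ha hb => by
        show u ^ (a + b) = v ^ (a + b)
        rw [zpow_add, zpow_add, show u ^ a = v ^ a from ha, show u ^ b = v ^ b from hb]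
      zero_mem' := by simp
      neg_mem' := fun {a} ha => by
        show u ^ (-a) = v ^ (-a)
        rw [zpow_neg, zpow_neg, show u ^ a = v ^ a from ha] }
  obtain ⟨d, hd⟩ := Int.subgroup_cyclic S
  have hmem : ∀ k : ℕ, u ^ k = v ^ k → d.natAbs ∣ k := fun k hk => by
    have : (k : ℤ) ∈ S := show u ^ (k : ℤ) = v ^ (k : ℤ) by simpa using hk
    rw [hd, ← AddSubgroup.zmultiples_eq_closure, Int.mem_zmultiples_iff] at this
    exact Int.natCast_dvd_natCast.1 (Int.natAbs_dvd.2 this)
  have h1 : d.natAbs = 1 := by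
    by_contra hne
    obtain ⟨q, hq, hqd⟩ := Nat.exists_prime_and_dvd hne
    obtain ⟨k, hks, hqk⟩ := hg q hq (hqd.trans (hmem n hn))
    exact hqk (hqd.trans (hmem k (hk k hks)))
  have : (1 : ℤ) ∈ S := by
    rw [hd, ← AddSubgroup.zmultiples_eq_closure, Int.mem_zmultiples_iff]
    exact Int.natAbs_dvd.1 (by simp [h1])
  simpa using (show u ^ (1 : ℤ) = v ^ (1 : ℤ) from this)

include hfpf h4 in
theorem exists_family : ∃ P : (p : ℕ) → p.Prime → Subgroup G,
    (∀ p (hp : p.Prime), IsPGroup p (P p hp)) ∧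
    (∀ p (hp : p.Prime) (x : G) (e : ℕ), orderOf x = p ^ e → σ (σ x) = x⁻¹ →
      ∀ c, σ (σ c) = c → c * x * c⁻¹ ∈ P p hp) ∧
    (∀ p (hp : p.Prime), Nat.card {x : G // x ∈ P p hp ∧ σ (σ x) = x⁻¹} =
      p ^ (Nat.card {x : G // σ (σ x) = x⁻¹}).factorization p) := by
  have h : ∀ p : ℕ, ∀ _ : p.Prime, ∃ P : Sylow p G, Invariant σ P := fun p hp => by
    haveI := Fact.mk hp
    obtain ⟨P, -, hP⟩ := exists_invariant_sylow_ge (p := p) hfpf (⊥ : Subgroup G)
      (fun g hg => by rw [Subgroup.mem_bot] at hg ⊢; rw [hg, map_one]) IsPGroup.of_bot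
    exact ⟨P, hP⟩
  choose P hP using h
  refine ⟨fun p hp => P p hp, fun p hp => (P p hp).isPGroup', fun p hp x e hxe hx c hc => ?_,
    fun p hp => ?_⟩ <;> haveI := Fact.mk hp
  · exact conj_mem_sylow hfpf h4 hx hc hxe _ (hP p hp)
  · exact card_inverted hfpf h4 _ (hP p hp)

include hfpf h4 in
/-- The inverted elements generate a nilpotent normal subgroup containing the derived subgroup. -/
theorem exists_nilpotent_normal :
    ∃ N : Subgroup G, N.Normal ∧ commutator G ≤ N ∧ Group.IsNilpotent N := by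
  classical
  haveI := Fintype.ofFinite G
  obtain ⟨P, hPp, hPconj, hPcard⟩ := exists_family hfpf h4
  set m := Nat.card {x : G // σ (σ x) = x⁻¹} with hm
  have hm0 : m ≠ 0 := by
    haveI : Nonempty {x : G // σ (σ x) = x⁻¹} := ⟨⟨1, by simp⟩⟩
    exact Nat.card_pos.ne'
  set n := Nat.card G with hn
  have hn0 : n ≠ 0 := Nat.card_pos.ne'
  have hpart : ∀ (u : G) (p : ℕ) (hp : p.Prime), σ (σ u) = u⁻¹ →
      u ^ ordCompl[p] n ∈ P p hp := by
    intro u p hp hu
    have h1 : (u ^ ordCompl[p] n) ^ p ^ n.factorization p = 1 := by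
      rw [← pow_mul, mul_comm, Nat.ordProj_mul_ordCompl_eq_self, hn, pow_card_eq_one']
    obtain ⟨e, -, he⟩ := (Nat.dvd_prime_pow hp).1 (orderOf_dvd_of_pow_eq_one h1)
    simpa using hPconj p hp _ e he (inverted_pow hu _) 1 (by simp)
  -- the map to the prime parts is bijective
  let ι := {p : ℕ // p ∈ n.primeFactors}
  let Φ : {x : G // σ (σ x) = x⁻¹} →
      ((p : ι) → {x : G // x ∈ P p.1 (Nat.prime_of_mem_primeFactors p.2) ∧ σ (σ x) = x⁻¹}) :=
    fun u p => ⟨u.1 ^ ordCompl[p.1] n, hpart u.1 p.1 _ u.2, inverted_pow u.2 _⟩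
  have hΦinj : Function.Injective Φ := by
    rintro ⟨u, hu⟩ ⟨v, hv⟩ h
    apply Subtype.ext
    refine pow_eq_of_gcd (n := n) {k | ∃ p ∈ n.primeFactors, k = ordCompl[p] n} ?_ ?_ ?_
    · rw [hn, pow_card_eq_one', pow_card_eq_one']
    · rintro k ⟨p, hp, rfl⟩
      exact congrArg Subtype.val (congrFun h ⟨p, hp⟩)
    · intro q hq hqn
      exact ⟨_, ⟨q, Nat.mem_primeFactors.2 ⟨hq, hqn, hn0⟩, rfl⟩,
        Nat.not_dvd_ordCompl hq hn0⟩
  have hsupp : ∀ p : ℕ, m.factorization p ≠ 0 → p ∈ n.primeFactors := by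
    intro p hp
    have h2 := card_invariant hfpf h4 (⊤ : Subgroup G) (fun g _ => Subgroup.mem_top _)
    rw [Subgroup.card_top, Nat.card_congr
      (Equiv.subtypeEquivRight (fun x : G => and_iff_right (Subgroup.mem_top x))), ← hm, ← hn] at h2
    have hmn : m ∣ n := h2 ▸ dvd_mul_left m _
    refine Nat.primeFactors_mono hmn hn0 ?_
    rw [← Nat.support_factorization]
    exact Finsupp.mem_support_iff.2 hp
  have hΦcard : Nat.card {x : G // σ (σ x) = x⁻¹} = Nat.card
      ((p : ι) → {x : G // x ∈ P p.1 (Nat.prime_of_mem_primeFactors p.2) ∧ σ (σ x) = x⁻¹}) := by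
    rw [Nat.card_pi, Finset.prod_congr rfl fun (p : ι) _ => hPcard p.1 _, ← hm]
    change m = ∏ p : {p : ℕ // p ∈ n.primeFactors}, p.1 ^ m.factorization p.1
    rw [Finset.univ_eq_attach, Finset.prod_attach n.primeFactors (fun p => p ^ m.factorization p)]
    conv_lhs => rw [← Nat.prod_factorization_pow_eq_self hm0]
    rw [Finsupp.prod]
    refine Finset.prod_subset (fun p hp => hsupp p (Finsupp.mem_support_iff.1 hp)) ?_
    intro p _ hp
    rw [Finsupp.notMem_support_iff.1 hp, pow_zero]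
  have hΦ : Function.Bijective Φ :=
    (Nat.bijective_iff_injective_and_card Φ).2 ⟨hΦinj, hΦcard⟩
  have hcomm : ∀ (p q : ι), p ≠ q → ∀ x y : G,
      x ∈ P p.1 (Nat.prime_of_mem_primeFactors p.2) → σ (σ x) = x⁻¹ →
      y ∈ P q.1 (Nat.prime_of_mem_primeFactors q.2) → σ (σ y) = y⁻¹ → Commute x y := by
    intro p q hpq x y hxP hx hyP hy
    obtain ⟨u, hu⟩ := hΦ.surjective (Function.update
      (Function.update (fun r => ⟨1, Subgroup.one_mem _, by simp⟩) p ⟨x, hxP, hx⟩) q ⟨y, hyP, hy⟩)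
    have e1 : u.1 ^ ordCompl[q.1] n = y := by
      have := congrArg Subtype.val (congrFun hu q)
      simpa [Φ] using this
    have e2 : u.1 ^ ordCompl[p.1] n = x := by
      have := congrArg Subtype.val (congrFun hu p)
      simpa [Φ, Function.update_of_ne hpq] using this
    rw [← e1, ← e2]
    exact Commute.pow_pow_self _ _ _
  set N := Subgroup.closure {x : G | σ (σ x) = x⁻¹} with hNdef
  -- `N` is nilpotent
  let K : ι → Subgroup G := fun p =>
    Subgroup.closure {x : G | x ∈ P p.1 (Nat.prime_of_mem_primeFactors p.2) ∧ σ (σ x) = x⁻¹}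
  have hK : Pairwise fun p q => ∀ x y : G, x ∈ K p → y ∈ K q → Commute x y := by
    intro p q hpq x y hx hy
    induction hx using Subgroup.closure_induction with
    | mem a ha =>
      induction hy using Subgroup.closure_induction with
      | mem b hb => exact hcomm p q hpq a b ha.1 ha.2 hb.1 hb.2
      | one => exact Commute.one_right _
      | mul _ _ _ _ h1 h2 => exact h1.mul_right h2
      | inv _ _ h1 => exact h1.inv_right
    | one => exact Commute.one_left _
    | mul _ _ _ _ h1 h2 => exact h1.mul_left h2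
    | inv _ _ h1 => exact h1.inv_left
  haveI : ∀ p : ι, Group.IsNilpotent (K p) := fun p => by
    haveI := Fact.mk (Nat.prime_of_mem_primeFactors p.2)
    refine ((hPp p.1 (Nat.prime_of_mem_primeFactors p.2)).to_le ?_).isNilpotent
    rw [Subgroup.closure_le]
    exact fun x hx => hx.1
  have hrange : N ≤ (Subgroup.noncommPiCoprod hK).range := by
    rw [Subgroup.noncommPiCoprod_range, hNdef, Subgroup.closure_le]
    intro u hu
    -- `u` lies in the subgroup generated by its parts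
    by_cases hn1 : n = 1
    · haveI : Subsingleton G := (Nat.card_eq_one_iff_unique.1 (hn ▸ hn1)).1
      rw [Subsingleton.elim u 1]
      exact Subgroup.one_mem _
    let S : AddSubgroup ℤ :=
      { carrier := {k | u ^ k ∈ ⨆ p, K p}
        add_mem' := fun {a b} ha hb => by
          show u ^ (a + b) ∈ ⨆ p, K p
          rw [zpow_add]; exact Subgroup.mul_mem _ ha hb
        zero_mem' := by simp
        neg_mem' := fun {a} ha => by
          show u ^ (-a) ∈ ⨆ p, K p
          rw [zpow_neg]; exact Subgroup.inv_mem _ ha }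
    obtain ⟨d, hd⟩ := Int.subgroup_cyclic S
    have hmem : ∀ k : ℕ, (k : ℤ) ∈ S → d.natAbs ∣ k := fun k hk => by
      rw [hd, ← AddSubgroup.zmultiples_eq_closure, Int.mem_zmultiples_iff] at hk
      exact Int.natCast_dvd_natCast.1 (Int.natAbs_dvd.2 hk)
    have hnS : (n : ℤ) ∈ S := show u ^ (n : ℤ) ∈ ⨆ p, K p by
      rw [zpow_natCast, hn, pow_card_eq_one']; exact Subgroup.one_mem _
    have h1 : d.natAbs = 1 := by
      by_contra hne
      obtain ⟨q, hq, hqd⟩ := Nat.exists_prime_and_dvd hne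
      have hqn := hqd.trans (hmem n hnS)
      have hmemq : ((ordCompl[q] n : ℕ) : ℤ) ∈ S := by
        show u ^ ((ordCompl[q] n : ℕ) : ℤ) ∈ ⨆ p, K p
        rw [zpow_natCast]
        exact Subgroup.mem_iSup_of_mem ⟨q, Nat.mem_primeFactors.2 ⟨hq, hqn, hn0⟩⟩
          (Subgroup.subset_closure ⟨hpart u q hq hu, inverted_pow hu _⟩)
      exact Nat.not_dvd_ordCompl hq hn0 (hqd.trans (hmem _ hmemq))
    have : (1 : ℤ) ∈ S := by
      rw [hd, ← AddSubgroup.zmultiples_eq_closure, Int.mem_zmultiples_iff]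
      exact Int.natAbs_dvd.1 (by simp [h1])
    simpa using (show u ^ (1 : ℤ) ∈ ⨆ p, K p from this)
  have hNnil : Group.IsNilpotent N := by
    haveI : Group.IsNilpotent (Subgroup.noncommPiCoprod hK).range :=
      Group.nilpotent_of_surjective _ (Subgroup.noncommPiCoprod hK).rangeRestrict_surjective
    exact isNilpotent_of_ker_le_center (Subgroup.inclusion hrange)
      (by rw [(Subgroup.inclusion hrange).ker_eq_bot_iff.2 (Subgroup.inclusion_injective hrange)]
          exact bot_le)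
  -- decomposition `g = c x`
  have hdec : ∀ g : G, ∃ c ∈ fix σ, ∃ x ∈ N, g = c * x := by
    obtain ⟨k, hk⟩ := odd_card hfpf h4
    intro g
    set w := (σ (σ g))⁻¹ * g with hw
    have hwψ : σ (σ w) = w⁻¹ := by
      rw [hw, map_mul, map_mul, map_inv, map_inv, h4]; group
    refine ⟨g * (w ^ (k + 1))⁻¹, ?_, w ^ (k + 1),
      Subgroup.subset_closure (inverted_pow hwψ _), (inv_mul_cancel_right _ _).symm⟩
    show σ (σ _) = _
    rw [map_mul, map_mul, map_inv, map_inv, inverted_pow hwψ, inv_inv]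
    have e1 : σ (σ g) = g * w⁻¹ := by rw [hw]; group
    have e2 : (w ^ (k + 1)) * (w ^ (k + 1)) = w := by
      rw [← pow_add, show k + 1 + (k + 1) = Nat.card G + 1 by omega, pow_add, pow_card_eq_one',
        one_mul, pow_one]
    rw [e1]
    calc g * w⁻¹ * w ^ (k + 1) = g * (w ^ (k + 1) * w ^ (k + 1))⁻¹ * w ^ (k + 1) := by rw [e2]
      _ = g * (w ^ (k + 1))⁻¹ := by group
  have hCnorm : ∀ c ∈ fix σ, ∀ z ∈ N, c * z * c⁻¹ ∈ N := by
    intro c hc z hz
    have h1 : N.map (MulAut.conj c).toMonoidHom ≤ N := by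
      rw [hNdef, MonoidHom.map_closure, Subgroup.closure_le]
      rintro _ ⟨u, hu, rfl⟩
      refine Subgroup.subset_closure ?_
      show σ (σ (c * u * c⁻¹)) = (c * u * c⁻¹)⁻¹
      rw [map_mul, map_mul, map_mul, map_mul, map_inv, map_inv, mem_fix.1 hc,
        show σ (σ u) = u⁻¹ from hu]
      group
    exact h1 ⟨z, hz, by simp⟩
  haveI hNn : N.Normal := ⟨fun z hz g => by
    obtain ⟨c, hc, x, hx, rfl⟩ := hdec g
    rw [show c * x * z * (c * x)⁻¹ = c * (x * z * x⁻¹) * c⁻¹ by group]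
    exact hCnorm c hc _ (N.mul_mem (N.mul_mem hx hz) (N.inv_mem hx))⟩
  refine ⟨N, hNn, ?_, hNnil⟩
  rw [commutator_def, Subgroup.commutator_le]
  intro a _ b _
  rw [← QuotientGroup.eq_one_iff, ← QuotientGroup.mk'_apply, map_commutatorElement,
    commutatorElement_eq_one_iff_commute]
  obtain ⟨c, hc, x, hx, rfl⟩ := hdec a
  obtain ⟨c', hc', x', hx', rfl⟩ := hdec b
  simp only [map_mul, QuotientGroup.mk'_apply, (QuotientGroup.eq_one_iff _).2 hx,
    (QuotientGroup.eq_one_iff _).2 hx', mul_one]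
  exact congrArg (QuotientGroup.mk : G → G ⧸ N) (fixed_commute hfpf hc hc')

include hfpf h4 in
theorem commutator_isNilpotent : Group.IsNilpotent (commutator G) := by
  obtain ⟨N, -, hle, hN⟩ := exists_nilpotent_normal hfpf h4
  exact isNilpotent_of_ker_le_center (Subgroup.inclusion hle)
    (by rw [(Subgroup.inclusion hle).ker_eq_bot_iff.2 (Subgroup.inclusion_injective hle)]
        exact bot_le)

include hfpf h4 in
theorem isSolvable : Group.IsSolvable G := by
  haveI := commutator_isNilpotent hfpf h4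
  have hinj := (commutator G).subtype_injective
  refine Group.isSolvable_of_ker_le_range (commutator G).subtype (Abelianization.of (G := G)) ?_
  intro g hg
  rw [Abelianization.ker_of] at hg
  exact ⟨⟨g, hg⟩, rfl⟩

end Cfsg.Agent.BlocksChars.OrderFour
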