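import Mathlib
import Cfsg.Agent.BlocksChars.OrderFour
import Cfsg.Agent.Solvable.Thompson

/-!
A normal subgroup `K` with central-type Sylow subgroup `P0` and an element `y` whose centralizer is a
`p`-group containing no more than the given data is solvable.
-/

set_option autoImplicit false
set_option linter.style.haveILetI false

namespace Cfsg.Agent.BlocksChars.SplitCosetFinish

open scoped commutatorElement

/-- Burnside's complement, described by element orders. -/
theorem exists_complement {p : ℕ} [Fact p.Prime] {K : Type*} [Group K] [Finite K] (S : Sylow p K)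
    (hS : Subgroup.normalizer (S : Set K) ≤ Subgroup.centralizer (S : Set K)) :
    ∃ O : Subgroup K, O.Normal ∧ Subgroup.IsComplement' O S ∧
      ∀ x : K, x ∈ O ↔ ¬ p ∣ orderOf x := by
  refine ⟨(MonoidHom.transferSylow S hS).ker, inferInstance,
    MonoidHom.ker_transferSylow_isComplement' S hS, fun x => ⟨fun hx hdvd => ?_, fun hx => ?_⟩⟩
  · have hc := MonoidHom.ker_transferSylow_isComplement' S hS
    have hidx : Nat.card (MonoidHom.transferSylow S hS).ker = (S : Subgroup K).index :=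
      mul_right_cancel₀ (Nat.card_pos (α := (S : Subgroup K))).ne'
        (hc.card_mul_card.trans ((S : Subgroup K).index_mul_card).symm)
    refine S.not_dvd_index (hidx ▸ hdvd.trans ?_)
    exact Subgroup.orderOf_dvd_natCard _ hx
  · rw [MonoidHom.mem_ker, ← orderOf_eq_one_iff]
    refine Nat.eq_one_of_dvd_coprimes ?_ (orderOf_map_dvd _ x) (orderOf_dvd_natCard _)
    obtain ⟨i, hi⟩ := S.isPGroup'.exists_card_eq
    rw [hi]
    exact Nat.Coprime.pow_right i ((Nat.Prime.coprime_iff_not_dvd Fact.out).2 hx).symm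

variable {G : Type*} [Group G] [Finite G] {p : ℕ} [Fact p.Prime]

/-- The data. -/
structure Hyp (p : ℕ) (K P P0 : Subgroup G) (y : G) : Prop where
  normal : K.Normal
  isPGroup : IsPGroup p P
  le : P0 ≤ P
  leK : P0 ≤ K
  sylow : ¬ p ∣ P0.relIndex K
  central : ∀ d ∈ P0, ∀ x ∈ P, d * x = x * d
  mem : y ∈ P
  cent : Subgroup.centralizer ({y} : Set G) ≤ P
  cls : ∀ d ∈ P0, ∃ u ∈ P, u * y * u⁻¹ = y * d
  exp_two : p = 2 → y ^ 4 = 1
  exp_odd : p ≠ 2 → y ^ p = 1

variable {K P P0 : Subgroup G} {y : G}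

theorem Hyp.isSolvable (H : Hyp p K P P0 y) : Group.IsSolvable K := by
  classical
  haveI := H.normal
  have hp : p.Prime := Fact.out
  have hP0p : IsPGroup p (P0.subgroupOf K) :=
    (H.isPGroup.to_le H.le).of_equiv (Subgroup.subgroupOfEquivOfLe H.leK).symm
  let S : Sylow p K := hP0p.toSylow H.sylow
  have hSmem : ∀ x : K, x ∈ (S : Subgroup K) ↔ (x : G) ∈ P0 := fun x => Subgroup.mem_subgroupOf
  have hy : ∀ d ∈ P0, d * y = y * d := fun d hd => H.central d hd y H.mem
  have hcy : ∀ x : G, x * y = y * x → x ∈ P := fun x hx =>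
    H.cent (Subgroup.mem_centralizer_singleton_iff.2 hx)
  -- `y` normalizes `K` and fixes only `p`-elements
  have hS : Subgroup.normalizer (S : Set K) ≤ Subgroup.centralizer (S : Set K) := by
    intro n hn
    -- the centralizer of the Sylow subgroup
    let C0 : Subgroup K := Subgroup.centralizer (S : Set K)
    have hSC : (S : Subgroup K) ≤ C0 := fun s hs => Subgroup.mem_centralizer_iff.2 fun t ht =>
      Subtype.ext ((H.central t ((hSmem t).1 ht) s (H.le ((hSmem s).1 hs))))
    let S' : Sylow p C0 := S.subtype hSC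
    have hS'C : Subgroup.normalizer (S' : Set C0) ≤ Subgroup.centralizer (S' : Set C0) := by
      intro c _
      refine Subgroup.mem_centralizer_iff.2 fun t ht => ?_
      exact Subtype.ext (Subgroup.mem_centralizer_iff.1 c.2 (t : K) ht)
    obtain ⟨O, -, hO, hOmem⟩ := exists_complement S' hS'C
    have hmemC0 : ∀ x : K, x ∈ C0 ↔ ∀ d ∈ P0, d * (x : G) = x * d := by
      intro x
      constructor
      · intro hx d hd
        have := Subgroup.mem_centralizer_iff.1 hx ⟨d, H.leK hd⟩ ((hSmem _).2 hd)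
        exact congrArg Subtype.val this
      · exact fun hx => Subgroup.mem_centralizer_iff.2 fun t ht => Subtype.ext (hx t ((hSmem t).1 ht))
    -- `y` acts on `C0`
    have hconjC : ∀ x : C0, (⟨y * (x : K) * y⁻¹, H.normal.conj_mem _ (x : K).2 y⟩ : K) ∈ C0 := by
      intro x
      rw [hmemC0]
      intro d hd
      have h1 := (hmemC0 x).1 x.2 d hd
      show d * (y * (x : G) * y⁻¹) = y * (x : G) * y⁻¹ * d
      calc d * (y * (x : G) * y⁻¹) = y * (d * (x : G)) * y⁻¹ := by
            rw [← mul_assoc, ← mul_assoc, hy d hd]; group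
        _ = y * (x : G) * (d * y⁻¹) := by rw [h1]; group
        _ = y * (x : G) * (y⁻¹ * d) := by
            rw [show d * y⁻¹ = y⁻¹ * d from (Commute.inv_right (hy d hd)).eq]
        _ = _ := by group
    let γ : C0 → C0 := fun x => ⟨_, hconjC x⟩
    have hγO : ∀ x ∈ O, γ x ∈ O := by
      intro x hx
      rw [hOmem] at hx ⊢
      rwa [← Subgroup.orderOf_coe, ← Subgroup.orderOf_coe,
        show (((γ x : C0) : K) : G) = MulAut.conj y ((x : K) : G) from rfl,
        MulEquiv.orderOf_eq, Subgroup.orderOf_coe, Subgroup.orderOf_coe]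
    -- `o ↦ o * γ o⁻¹` is bijective on `O`
    let β : O → O := fun o => ⟨o * (γ o)⁻¹, O.mul_mem o.2 (O.inv_mem (hγO o o.2))⟩
    have hβ : Function.Injective β := by
      intro a b hab
      have h1 : ((a : C0) : K) * ((γ a : C0) : K)⁻¹ = ((b : C0) : K) * ((γ b : C0) : K)⁻¹ :=
        congrArg (fun o : O => ((o : C0) : K)) hab
      have h1' := congrArg Subtype.val h1
      simp only [Subgroup.coe_mul, Subgroup.coe_inv, γ] at h1'
      set a' : G := (((a : C0) : K) : G) with ha'
      set b' : G := (((b : C0) : K) : G) with hb'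
      have hc : b'⁻¹ * a' * y = y * (b'⁻¹ * a') := by
        calc b'⁻¹ * a' * y = b'⁻¹ * (a' * (y * a' * y⁻¹)⁻¹) * (y * a') := by group
          _ = b'⁻¹ * (b' * (y * b' * y⁻¹)⁻¹) * (y * a') := by rw [h1']
          _ = y * (b'⁻¹ * a') := by group
      have hpel := hcy _ hc
      obtain ⟨j, hj⟩ := H.isPGroup ⟨_, hpel⟩
      have hj' : (b'⁻¹ * a') ^ p ^ j = 1 := congrArg Subtype.val hj
      have hco : ¬ p ∣ orderOf ((b : C0)⁻¹ * a) := (hOmem _).1 (O.mul_mem (O.inv_mem b.2) a.2)
      have hord : orderOf ((b : C0)⁻¹ * a) = orderOf (b'⁻¹ * a') := by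
        rw [← Subgroup.orderOf_coe, ← Subgroup.orderOf_coe]; rfl
      obtain ⟨i, -, hi⟩ := (Nat.dvd_prime_pow hp).1 (orderOf_dvd_of_pow_eq_one hj')
      rw [hord, hi] at hco
      rcases i with _ | i
      · rw [pow_zero, orderOf_eq_one_iff] at hi
        apply Subtype.ext; apply Subtype.ext; apply Subtype.ext
        exact (inv_mul_eq_one.1 hi).symm
      · exact absurd (dvd_pow_self p (Nat.succ_ne_zero i)) hco
    -- the commutator of `n` and `y`
    set n' : G := (n : G) with hn'
    have hnd : ∀ d ∈ P0, n' * d * n'⁻¹ ∈ P0 ∧ n'⁻¹ * d * n' ∈ P0 := by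
      intro d hd
      have h1 := (Subgroup.mem_normalizer_iff.1 hn ⟨d, H.leK hd⟩).1 ((hSmem _).2 hd)
      have h2 := (Subgroup.mem_normalizer_iff.1 (Subgroup.inv_mem _ hn) ⟨d, H.leK hd⟩).1
        ((hSmem _).2 hd)
      refine ⟨(hSmem _).1 h1, ?_⟩
      simpa using (hSmem _).1 h2
    have hcmem : ⁅n', y⁆ ∈ K := by
      rw [commutatorElement_def, mul_assoc, mul_assoc]
      exact K.mul_mem n.2 (by simpa [mul_assoc] using H.normal.conj_mem _ (K.inv_mem n.2) y)
    have hcC : (⟨⁅n', y⁆, hcmem⟩ : K) ∈ C0 := by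
      rw [hmemC0]
      intro d hd
      show d * ⁅n', y⁆ = ⁅n', y⁆ * d
      have h1 := hy _ (hnd d hd).2
      have h2 : d * (n' * y * n'⁻¹) = (n' * y * n'⁻¹) * d := by
        calc d * (n' * y * n'⁻¹) = n' * ((n'⁻¹ * d * n') * y) * n'⁻¹ := by group
          _ = (n' * y * n'⁻¹) * d := by rw [h1]; group
      rw [commutatorElement_def, ← mul_assoc d, h2, mul_assoc, (Commute.inv_right (hy d hd)).eq,
        ← mul_assoc]
    obtain ⟨⟨⟨o, ho⟩, ⟨s, hs⟩⟩, hos, -⟩ := Subgroup.isComplement_iff_existsUnique.1 hO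
      ⟨⟨⁅n', y⁆, hcmem⟩, hcC⟩
    dsimp only at hos
    obtain ⟨o', ho'⟩ := Finite.surjective_of_injective hβ ⟨o, ho⟩
    have hd : ((s : K) : G) ∈ P0 := (hSmem _).1 (show (s : K) ∈ (S : Subgroup K) from hs)
    set d := ((s : K) : G)
    set w := (((o' : C0) : K) : G) with hw
    have hwd : d * w = w * d := (hmemC0 _).1 (o' : C0).2 d hd
    have he : n' * y * n'⁻¹ = w * (y * d) * w⁻¹ := by
      have h1 : ⁅n', y⁆ = ((o : K) : G) * d := (congrArg (fun c : C0 => ((c : K) : G)) hos).symm
      have h2 : ((o : K) : G) = w * (y * w * y⁻¹)⁻¹ :=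
        (congrArg (fun c : O => (((c : C0) : K) : G)) ho').symm
      calc n' * y * n'⁻¹ = ⁅n', y⁆ * y := by simp [commutatorElement_def, mul_assoc]
        _ = w * (y * w * y⁻¹)⁻¹ * (d * y) := by rw [h1, h2, mul_assoc]
        _ = w * y * (w⁻¹ * d) := by rw [hy d hd]; group
        _ = w * y * (d * w⁻¹) := by
            rw [show d * w⁻¹ = w⁻¹ * d from (Commute.inv_right hwd).eq]
        _ = _ := by group
    obtain ⟨u, hu, hud⟩ := H.cls d hd
    rw [← hud] at he
    have hcomm : u⁻¹ * w⁻¹ * n' * y = y * (u⁻¹ * w⁻¹ * n') := by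
      calc u⁻¹ * w⁻¹ * n' * y = u⁻¹ * w⁻¹ * (n' * y * n'⁻¹) * n' := by group
        _ = _ := by rw [he]; group
    have hmem := hcy _ hcomm
    refine (hmemC0 n).2 fun t ht => ?_
    show t * n' = n' * t
    have hwt : t * w = w * t := (hmemC0 _).1 (o' : C0).2 t ht
    calc t * n' = t * w * (u * (u⁻¹ * w⁻¹ * n')) := by group
      _ = w * (t * u) * (u⁻¹ * w⁻¹ * n') := by rw [hwt]; group
      _ = w * u * (t * (u⁻¹ * w⁻¹ * n')) := by rw [H.central t ht u hu]; group
      _ = w * u * ((u⁻¹ * w⁻¹ * n') * t) := by rw [H.central t ht _ hmem]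
      _ = n' * t := by group
  obtain ⟨O, hOn, hO, hOmem⟩ := exists_complement S hS
  -- `y` acts without fixed points on `O`
  have hinv : ∀ x : K, x ∈ O → (⟨y * x * y⁻¹, H.normal.conj_mem _ x.2 y⟩ : K) ∈ O := by
    intro x hx
    rw [hOmem] at hx ⊢
    rw [← Subgroup.orderOf_coe]
    show ¬ p ∣ orderOf (MulAut.conj y (x : G))
    rw [MulEquiv.orderOf_eq, Subgroup.orderOf_coe]
    exact hx
  let O' := O.map K.subtype
  have hO'inv : ∀ z ∈ O', y * z * y⁻¹ ∈ O' := by
    rintro _ ⟨x, hx, rfl⟩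
    exact ⟨_, hinv x hx, rfl⟩
  have hyn : y ∈ Subgroup.normalizer (O' : Set G) := Subgroup.mem_normalizer_fintype hO'inv
  let σ : MulAut O' := O'.normalizerMonoidHom ⟨y, hyn⟩
  have hσ : ∀ z : O', (σ z : G) = y * z * y⁻¹ := fun z => rfl
  have hfpf : ∀ z : O', σ z = z → z = 1 := by
    rintro ⟨z, x, hx, rfl⟩ hz
    have hz' : y * (x : G) * y⁻¹ = x := congrArg Subtype.val hz
    obtain ⟨j, hj⟩ := H.isPGroup ⟨_, hcy _ (mul_inv_eq_iff_eq_mul.1 hz').symm⟩
    have hx' := (hOmem x).1 hx
    obtain ⟨i, -, hi⟩ := (Nat.dvd_prime_pow hp).1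
      (orderOf_dvd_of_pow_eq_one (congrArg Subtype.val hj : (x : G) ^ p ^ j = 1))
    rw [← Subgroup.orderOf_coe x] at hx'
    rw [hi] at hx'
    rcases i with _ | i
    · rw [pow_zero, orderOf_eq_one_iff] at hi
      exact Subtype.ext hi
    · exact absurd (dvd_pow_self p (Nat.succ_ne_zero i)) hx'
  have hpow : ∀ i : ℕ, y ^ i = 1 → σ ^ i = 1 := fun i hi => by
    rw [← map_pow, show (⟨y, hyn⟩ : Subgroup.normalizer (O' : Set G)) ^ i = 1 from Subtype.ext hi,
      map_one]
  haveI hsolO' : Group.IsSolvable O' := by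
    rcases eq_or_ne p 2 with h2 | h2
    · refine OrderFour.isSolvable (σ := σ) hfpf fun z => ?_
      have h := DFunLike.congr_fun (hpow 4 (H.exp_two h2)) z
      simpa [pow_succ, MulAut.mul_apply] using h
    · haveI := Solvable.Thompson.isNilpotent_of_fixedPointFree σ hp hfpf (hpow p (H.exp_odd h2))
      infer_instance
  haveI : Group.IsSolvable O :=
    Group.isSolvable_of_isSolvable_injective (f := (O.equivMapOfInjective K.subtype K.subtype_injective).toMonoidHom)
      (MulEquiv.injective _)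
  haveI : Group.IsNilpotent (S : Subgroup K) := S.isPGroup'.isNilpotent
  haveI : Group.IsSolvable (K ⧸ O) :=
    Group.isSolvable_of_surjective (f := (QuotientGroup.mk' O).comp (S : Subgroup K).subtype) (by
      intro q
      induction q using QuotientGroup.induction_on with
      | H x =>
        obtain ⟨⟨o, s⟩, hos, -⟩ := Subgroup.isComplement_iff_existsUnique.1 hO x
        dsimp only at hos
        refine ⟨s, ?_⟩
        show ((s : K) : K ⧸ O) = (x : K ⧸ O)
        rw [← hos, QuotientGroup.mk_mul, (QuotientGroup.eq_one_iff _).2 o.2, one_mul])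
  exact Group.isSolvable_of_ker_le_range O.subtype (QuotientGroup.mk' O)
    (by rw [QuotientGroup.ker_mk', Subgroup.range_subtype])

end Cfsg.Agent.BlocksChars.SplitCosetFinish
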