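import Mathlib
import Cfsg.Agent.Lib.PGroups.Normal
import Cfsg.Agent.Solvable.Basics

/-!
A 2-group `T` with a normal subgroup `P0` and an element `y` such that the class of `y` is `y P0`
and all commutators lie in `P0 ∪ y P0` but not all in `P0`, all squares likewise: then `|P0| ≤ 2`.
-/

set_option autoImplicit false
set_option linter.style.haveILetI false

namespace Cfsg.Agent.BlocksChars.SplitCosetTwo

open scoped commutatorElement

variable {T : Type*} [Group T] [Finite T]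

/-- The hypotheses. -/
structure Hyp (P0 : Subgroup T) (y : T) : Prop where
  notMem : y ∉ P0
  cls : ∀ d ∈ P0, ∃ u : T, ⁅u, y⁆ = d
  central : ∀ u : T, ⁅u, y⁆ ∈ P0
  sq : ∀ a : T, a * a ∈ P0 ∨ ∃ d ∈ P0, a * a = y * d
  nonab : ∃ a b : T, ∃ d ∈ P0, ⁅a, b⁆ = y * d
  comm : ∀ a b : T, ⁅a, b⁆ ∈ P0 ∨ ∃ d ∈ P0, ⁅a, b⁆ = y * d

theorem card_ne_four (hT : IsPGroup 2 T) {P0 : Subgroup T} [hn : P0.Normal] {y : T} (H : Hyp P0 y) :
    Nat.card P0 ≠ 4 := by
  classical
  intro h4
  haveI : Fact (Nat.Prime 2) := ⟨Nat.prime_two⟩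
  haveI : Group.IsNilpotent T := hT.isNilpotent
  have hP0 : P0 ≠ ⊥ := fun h => by rw [h, Subgroup.card_bot] at h4; omega
  haveI := (Subgroup.nontrivial_iff_ne_bot _).2
    (Cfsg.Agent.Solvable.Basics.inf_center_ne_bot (N := P0) hP0)
  obtain ⟨⟨c, hc⟩, hc1'⟩ := exists_ne (1 : ↥(P0 ⊓ Subgroup.center T))
  have hc1 : c ≠ 1 := fun h => hc1' (Subtype.ext h)
  obtain ⟨j, hj⟩ := hT c
  -- an element of order two in `P0 ⊓ Z(T)`
  have hdvd : 2 ∣ Nat.card (P0 ⊓ Subgroup.center T : Subgroup T) := by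
    obtain ⟨i, hi⟩ := (hT.to_subgroup (P0 ⊓ Subgroup.center T)).exists_card_eq
    rcases i with _ | i
    · rw [pow_zero] at hi
      exact absurd (Subgroup.mem_bot.1 ((Subgroup.card_eq_one.1 hi) ▸ hc)) hc1
    · exact ⟨2 ^ i, by rw [hi, pow_succ']⟩
  obtain ⟨⟨z, hz⟩, hzord⟩ := exists_prime_orderOf_dvd_card' 2 hdvd
  rw [← Subgroup.orderOf_coe] at hzord
  obtain ⟨hzP, hzC⟩ := Subgroup.mem_inf.1 hz
  have hzc : ∀ g : T, g * z = z * g := fun g => (Subgroup.mem_center_iff.1 hzC g)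
  have hz2 : z * z = 1 := by
    have h := pow_orderOf_eq_one z
    simp only at hzord
    rw [hzord, sq] at h; exact h
  have hz1 : z ≠ 1 := fun h => by simp [h] at hzord
  -- `P0 = {1, z, v, v z}`
  obtain ⟨v, hv, hv1, hvz⟩ : ∃ v ∈ P0, v ≠ 1 ∧ v ≠ z := by
    by_contra hne
    push Not at hne
    haveI := Fintype.ofFinite P0
    have hsub : (Finset.univ : Finset P0).image Subtype.val ⊆ {1, z} := by
      intro x hx
      simp only [Finset.mem_image, Finset.mem_univ, true_and] at hx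
      obtain ⟨⟨x, hxm⟩, rfl⟩ := hx
      simp only [Finset.mem_insert, Finset.mem_singleton]
      by_cases h1 : x = 1
      · exact Or.inl h1
      · exact Or.inr (hne x hxm h1)
    have := Finset.card_le_card hsub
    rw [Finset.card_image_of_injective _ Subtype.val_injective, Finset.card_univ,
      ← Nat.card_eq_fintype_card, h4] at this
    have h2 : ({1, z} : Finset T).card ≤ 2 := Finset.card_le_two
    omega
  have hfour : ∀ d ∈ P0, d = 1 ∨ d = z ∨ d = v ∨ d = v * z := by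
    haveI := Fintype.ofFinite P0
    have hsub : ({1, z, v, v * z} : Finset T) ⊆ (Finset.univ : Finset P0).image Subtype.val := by
      intro x hx
      simp only [Finset.mem_image, Finset.mem_univ, true_and]
      simp only [Finset.mem_insert, Finset.mem_singleton] at hx
      refine ⟨⟨x, ?_⟩, rfl⟩
      rcases hx with rfl | rfl | rfl | rfl
      exacts [P0.one_mem, hzP, hv, P0.mul_mem hv hzP]
    have hvzz : v * z ≠ z := fun h => hv1 (mul_eq_right.1 h)
    have hvzv : v * z ≠ v := fun h => hz1 (mul_eq_left.1 h)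
    have hvz1 : v * z ≠ 1 := fun h => hvz (by
      calc v = v * (z * z) := by rw [hz2, mul_one]
        _ = z := by rw [← mul_assoc, h, one_mul])
    have hcard : ({1, z, v, v * z} : Finset T).card = 4 :=
      Finset.card_eq_four.2 ⟨1, z, v, v * z, hz1.symm, hv1.symm, hvz1.symm, hvz.symm, hvzz.symm,
        hvzv.symm, rfl⟩
    have heq := Finset.eq_of_subset_of_card_le hsub (by
      rw [Finset.card_image_of_injective _ Subtype.val_injective, Finset.card_univ,
        ← Nat.card_eq_fintype_card, h4, hcard])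
    intro d hd
    have : d ∈ ({1, z, v, v * z} : Finset T) := by
      rw [heq]; exact Finset.mem_image.2 ⟨⟨d, hd⟩, Finset.mem_univ _, rfl⟩
    simpa using this
  -- conjugation moves elements of `P0` by powers of `z`
  have hconj : ∀ (a : T), a * v * a⁻¹ = v ∨ a * v * a⁻¹ = v * z := by
    intro a
    rcases hfour _ (hn.conj_mem v hv a) with h | h | h | h
    · exact absurd (by
        calc v = a⁻¹ * (a * v * a⁻¹) * a := by group
          _ = 1 := by rw [h]; group) hv1
    · refine absurd ?_ hvz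
      calc v = a⁻¹ * (a * v * a⁻¹) * a := by group
        _ = z := by rw [h, mul_assoc, ← hzc, inv_mul_cancel_left]
    · exact Or.inl h
    · exact Or.inr h
  have hconjz : ∀ a : T, a * z * a⁻¹ = z := fun a => by rw [hzc, mul_inv_cancel_right]
  have hab : ∀ (a b : T), a * (b * v * b⁻¹) * a⁻¹ = b * (a * v * a⁻¹) * b⁻¹ := by
    intro a b
    have hcv : ∀ c : T, c * (v * z) * c⁻¹ = c * v * c⁻¹ * z := fun c => by
      conv_rhs => rw [← hconjz c]
      group
    rcases hconj a with ha | ha <;> rcases hconj b with hb | hb <;>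
      simp only [ha, hb, hcv]
  have hcomV : ∀ a b : T, ⁅a, b⁆ * v = v * ⁅a, b⁆ := fun a b => by
    have h := hab a⁻¹ b⁻¹
    simp only [inv_inv] at h
    have key : ⁅a, b⁆ * v * ⁅a, b⁆⁻¹ = v := by
      calc ⁅a, b⁆ * v * ⁅a, b⁆⁻¹
          = a * b * (a⁻¹ * (b⁻¹ * v * b) * a) * (a * b)⁻¹ := by
            simp [commutatorElement_def, mul_assoc]
        _ = v := by rw [h]; group
    exact mul_inv_eq_iff_eq_mul.1 key
  -- `y` centralizes `P0`
  obtain ⟨a0, b0, d0, hd0, hy0⟩ := H.nonab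
  have hvd : ∀ d ∈ P0, v * d = d * v := by
    intro d hd
    rcases hfour d hd with rfl | rfl | rfl | rfl
    · simp
    · exact hzc v
    · rfl
    · rw [mul_assoc v z v, ← hzc v]
  have hyv : y * v = v * y := by
    have h1 := hcomV a0 b0
    rw [hy0] at h1
    have h2 : y * v * d0 = v * y * d0 := by rw [mul_assoc, hvd d0 hd0, ← mul_assoc, h1, mul_assoc]
    exact mul_right_cancel h2
  have hyd : ∀ d ∈ P0, y * d = d * y := by
    intro d hd
    rcases hfour d hd with rfl | rfl | rfl | rfl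
    · simp
    · exact hzc y
    · exact hyv
    · rw [← mul_assoc, hyv, mul_assoc, hzc y, mul_assoc]
  -- the two double conjugates of `y` agree
  have hyy : ∀ a b : T, a * (b * y * b⁻¹) * a⁻¹ = b * (a * y * a⁻¹) * b⁻¹ := by
    intro a b
    have hc : ⁅a⁻¹, b⁻¹⁆ * y = y * ⁅a⁻¹, b⁻¹⁆ := by
      rcases H.comm a⁻¹ b⁻¹ with h | ⟨d, hd, h⟩
      · exact (hyd _ h).symm
      · rw [h, mul_assoc, ← hyd d hd]
    calc a * (b * y * b⁻¹) * a⁻¹
        = b * a * (⁅a⁻¹, b⁻¹⁆ * y * ⁅a⁻¹, b⁻¹⁆⁻¹) * (b * a)⁻¹ := by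
          simp [commutatorElement_def, mul_assoc]
      _ = b * (a * y * a⁻¹) * b⁻¹ := by rw [hc, mul_inv_cancel_right]; group
  -- elements moving `y` square into `P0`
  obtain ⟨b1, hb1⟩ := H.cls v hv
  have hsq : ∀ a : T, ⁅a, y⁆ ≠ 1 → a * a ∈ P0 := by
    intro a hne
    rcases H.sq a with h | ⟨d, hd, h⟩
    · exact h
    exfalso
    have hfix : a * y * a⁻¹ * (a * d * a⁻¹) = y * d := by
      calc a * y * a⁻¹ * (a * d * a⁻¹) = a * (y * d) * a⁻¹ := by group
        _ = y * d := by rw [← h]; group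
    set u := ⁅a, y⁆ with hu
    have hay : a * y * a⁻¹ = u * y := by simp [hu, commutatorElement_def, mul_assoc]
    rw [hay, mul_assoc, hyd _ (hn.conj_mem d hd a), ← mul_assoc, hyd d hd] at hfix
    have hu' : u * (a * d * a⁻¹) = d := mul_right_cancel hfix
    have hud : u = d * (a * d * a⁻¹)⁻¹ := eq_mul_inv_of_mul_eq hu'
    -- hence `u = z` and `a` moves `v`
    have hcase : a * v * a⁻¹ = v * z ∧ u = z := by
      have hzi : z⁻¹ = z := inv_eq_of_mul_eq_one_left hz2
      have hcv : a * (v * z) * a⁻¹ = a * v * a⁻¹ * z := by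
        conv_rhs => rw [← hconjz a]
        group
      rcases hconj a with hav | hav
      · exfalso; apply hne
        rcases hfour d hd with rfl | rfl | rfl | rfl
        · simpa using hud
        · rw [hud, hconjz, mul_inv_cancel]
        · rw [hud, hav, mul_inv_cancel]
        · rw [hud, hcv, hav, mul_inv_cancel]
      · refine ⟨hav, ?_⟩
        rcases hfour d hd with rfl | rfl | rfl | rfl
        · exact absurd (by simpa using hud) hne
        · exact absurd (by rw [hud, hconjz, mul_inv_cancel]) hne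
        · rw [hud, hav, mul_inv_rev, hzi, ← mul_assoc, hzc d, mul_inv_cancel_right]
        · rw [hud, hcv, hav, mul_assoc v z z, hz2, mul_one, hzc v, mul_inv_cancel_right]
    obtain ⟨hav, huz⟩ := hcase
    have hby : b1 * y * b1⁻¹ = v * y := by rw [← hb1]; simp [commutatorElement_def, mul_assoc]
    have h1 := hyy a b1
    rw [hby, hay, huz] at h1
    have e1 : a * (v * y) * a⁻¹ = v * z * (z * y) := by
      calc a * (v * y) * a⁻¹ = (a * v * a⁻¹) * (a * y * a⁻¹) := by group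
        _ = _ := by rw [hav, hay, huz]
    have e2 : b1 * (z * y) * b1⁻¹ = z * (v * y) := by
      calc b1 * (z * y) * b1⁻¹ = (b1 * z * b1⁻¹) * (b1 * y * b1⁻¹) := by group
        _ = _ := by rw [hconjz, hby]
    rw [e1, e2, mul_assoc v z, ← mul_assoc z z y, hz2, one_mul, ← mul_assoc z v] at h1
    exact hz1 (mul_eq_right.1 (mul_right_cancel h1).symm)
  -- modulo `P0` every element squares to one
  obtain ⟨a1, ha1⟩ := H.cls z hzP
  have hne1 : ⁅a1, y⁆ ≠ 1 := by rw [ha1]; exact hz1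
  have hne2 : ⁅b1, y⁆ ≠ 1 := by rw [hb1]; exact hv1
  have hmul : ∀ a b : T, ⁅a * b, y⁆ = a * ⁅b, y⁆ * a⁻¹ * ⁅a, y⁆ := fun a b => by
    simp [commutatorElement_def, mul_assoc]
  have hne3 : ⁅a1 * b1, y⁆ ≠ 1 := by
    rw [hmul, hb1, ha1]
    rcases hconj a1 with h | h <;> rw [h]
    · exact fun hh => hvz (by
        calc v = v * (z * z) := by rw [hz2, mul_one]
          _ = z := by rw [← mul_assoc, hh, one_mul])
    · rw [mul_assoc, hz2, mul_one]; exact hv1
  have hall : ∀ b : T, b * b ∈ P0 := by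
    intro b
    by_cases hb : ⁅b, y⁆ = 1
    swap
    · exact hsq b hb
    have q0 : ∀ a : T, ⁅a, y⁆ ≠ 1 → (a : T ⧸ P0) * (a : T ⧸ P0) = 1 ∧
        (a : T ⧸ P0) * (b : T ⧸ P0) * (a : T ⧸ P0)⁻¹ = (b : T ⧸ P0)⁻¹ := by
      intro a ha
      have h1 := (QuotientGroup.eq_one_iff _).2 (hsq a ha)
      have hab' : ⁅a * b, y⁆ ≠ 1 := by rw [hmul, hb, mul_one, mul_inv_cancel, one_mul]; exact ha
      have h2 := (QuotientGroup.eq_one_iff _).2 (hsq (a * b) hab')
      simp only [QuotientGroup.mk_mul] at h1 h2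
      refine ⟨h1, ?_⟩
      rw [inv_eq_of_mul_eq_one_left h1]
      exact eq_inv_of_mul_eq_one_left (by rw [← h2]; group)
    obtain ⟨-, q1⟩ := q0 a1 hne1
    obtain ⟨-, q2⟩ := q0 b1 hne2
    obtain ⟨-, q3⟩ := q0 (a1 * b1) hne3
    rw [QuotientGroup.mk_mul] at q3
    have : (b : T ⧸ P0) = (b : T ⧸ P0)⁻¹ := by
      calc (b : T ⧸ P0) = ((b : T ⧸ P0)⁻¹)⁻¹ := (inv_inv _).symm
        _ = (a1 : T ⧸ P0) * ((b1 : T ⧸ P0) * b * (b1 : T ⧸ P0)⁻¹) * (a1 : T ⧸ P0)⁻¹ := by
            rw [q2, ← conj_inv, q1]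
        _ = (b : T ⧸ P0)⁻¹ := by rw [← q3]; group
    rw [← QuotientGroup.eq_one_iff, QuotientGroup.mk_mul]
    exact eq_inv_iff_mul_eq_one.1 this
  apply H.notMem
  have hq2 : ∀ q : T ⧸ P0, q * q = 1 := fun q => by
    induction q using QuotientGroup.induction_on with
    | H b => rw [← QuotientGroup.mk_mul, QuotientGroup.eq_one_iff]; exact hall b
  have hinv : ∀ q : T ⧸ P0, q⁻¹ = q := fun q => inv_eq_of_mul_eq_one_left (hq2 q)
  have h1 : ((⁅a0, b0⁆ : T) : T ⧸ P0) = 1 := by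
    simp only [commutatorElement_def, QuotientGroup.mk_mul, QuotientGroup.mk_inv, hinv]
    rw [mul_assoc ((a0 : T ⧸ P0) * b0), hq2]
  rw [hy0, QuotientGroup.mk_mul, (QuotientGroup.eq_one_iff d0).2 hd0, mul_one,
    QuotientGroup.eq_one_iff] at h1
  exact h1

theorem card_le_two (hT : IsPGroup 2 T) {P0 : Subgroup T} [hn : P0.Normal] {y : T} (H : Hyp P0 y) :
    Nat.card P0 ≤ 2 := by
  classical
  haveI : Fact (Nat.Prime 2) := ⟨Nat.prime_two⟩
  obtain ⟨a, ha⟩ := (hT.to_subgroup P0).exists_card_eq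
  by_contra hgt
  push Not at hgt
  have ha2 : 2 ≤ a := by
    by_contra h
    interval_cases a <;> omega
  obtain ⟨M, hMn, hMP, hMcard⟩ := Cfsg.Agent.PGroups.Normal.exists_normal_le_card hT P0 (a - 2)
    (by rw [ha]; exact Nat.pow_le_pow_right two_pos (by omega))
  let π := QuotientGroup.mk' M
  have hπ : Function.Surjective π := QuotientGroup.mk'_surjective M
  haveI : (P0.map π).Normal := hn.map π hπ
  have hmemP : ∀ x : T, π x ∈ P0.map π → x ∈ P0 := by
    rintro x ⟨d, hd, hdx⟩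
    have h1 : d⁻¹ * x ∈ M := QuotientGroup.eq.1 hdx
    simpa using P0.mul_mem hd (hMP h1)
  have hc : Nat.card (P0.map π) = 4 := by
    have e := Subgroup.card_mul_index ((π.domRestrict P0).ker)
    rw [Subgroup.index_ker, MonoidHom.domRestrict_range] at e
    have hk : Nat.card (π.domRestrict P0).ker = Nat.card M := by
      rw [MonoidHom.ker_domRestrict, QuotientGroup.ker_mk']
      exact Nat.card_congr (Subgroup.subgroupOfEquivOfLe hMP).toEquiv
    rw [hk, hMcard, ha, show 2 ^ a = 2 ^ (a - 2) * 4 by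
      rw [show (4 : ℕ) = 2 ^ 2 by norm_num, ← pow_add, Nat.sub_add_cancel ha2]] at e
    exact mul_left_cancel₀ (by positivity) e
  refine card_ne_four (hT.to_quotient M) (P0 := P0.map π) (y := π y) ?_ hc
  refine ⟨fun h => H.notMem (hmemP y h), ?_, ?_, ?_, ?_, ?_⟩
  · rintro _ ⟨d, hd, rfl⟩
    obtain ⟨u, hu⟩ := H.cls d hd
    exact ⟨π u, by rw [← map_commutatorElement, hu]⟩
  · intro u
    obtain ⟨u, rfl⟩ := hπ u
    exact ⟨_, H.central u, map_commutatorElement π u y⟩
  · intro u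
    obtain ⟨u, rfl⟩ := hπ u
    rcases H.sq u with h | ⟨d, hd, h⟩
    · exact Or.inl ⟨_, h, map_mul π u u⟩
    · exact Or.inr ⟨π d, ⟨d, hd, rfl⟩, by rw [← map_mul, h, map_mul]⟩
  · obtain ⟨u, w, d, hd, h⟩ := H.nonab
    exact ⟨π u, π w, π d, ⟨d, hd, rfl⟩, by rw [← map_commutatorElement, h, map_mul]⟩
  · intro u w
    obtain ⟨u, rfl⟩ := hπ u
    obtain ⟨w, rfl⟩ := hπ w
    rcases H.comm u w with h | ⟨d, hd, h⟩
    · exact Or.inl ⟨_, h, map_commutatorElement π u w⟩
    · exact Or.inr ⟨π d, ⟨d, hd, rfl⟩, by rw [← map_commutatorElement, h, map_mul]⟩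

end Cfsg.Agent.BlocksChars.SplitCosetTwo
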