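import Mathlib
import Cfsg.Agent.BlocksChars.CaminaClassTwo
import Cfsg.Agent.BlocksChars.SplitCosetTwo
import Cfsg.Agent.BlocksChars.SplitCosetFinish
import Cfsg.Agent.Lib.Coprime.FixedPointFree
import Cfsg.Agent.Solvable.Basics

/-!
If `G' ∖ K` is one class of `G`, the centre of `G ⧸ K` lies in `G' / K` and the centralizer of that
class has order `[G : G'] m / (m - 1)`, `m = [G' : K]`, then `G` is solvable.
-/

set_option autoImplicit false
set_option linter.style.haveILetI false

namespace Cfsg.Agent.BlocksChars.OneNonlinearGroup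

open scoped commutatorElement

variable {G : Type*} [Group G] [Finite G]

/-- The hypotheses. -/
structure Hyp (K : Subgroup G) (g : G) : Prop where
  normal : K.Normal
  le : K ≤ commutator G
  mem : g ∈ commutator G
  notMem : g ∉ K
  cls : ∀ x ∈ commutator G, x ∉ K → IsConj g x
  ord : (K.relIndex (commutator G) - 1) * Nat.card (Subgroup.centralizer ({g} : Set G)) =
    (commutator G).index * K.relIndex (commutator G)
  cen : ∀ x ∉ commutator G, ∃ y, ⁅x, y⁆ ∉ K

theorem sylow_inf {p : ℕ} [hp : Fact p.Prime] (P : Sylow p G) (K : Subgroup G) [K.Normal] :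
    ¬ p ∣ ((P : Subgroup G) ⊓ K).relIndex K := by
  intro hdvd
  have e1 := Subgroup.relIndex_mul_index (inf_le_right : (P : Subgroup G) ⊓ K ≤ K)
  have e2 := Subgroup.relIndex_mul_index (inf_le_left : (P : Subgroup G) ⊓ K ≤ P)
  obtain ⟨i, hi⟩ := P.isPGroup'.index (((P : Subgroup G) ⊓ K).subgroupOf P)
  have hi' : ((P : Subgroup G) ⊓ K).relIndex P = p ^ i := hi
  have hd : p ^ i ∣ K.index := by
    have h1 := K.relIndex_dvd_index_of_normal (P : Subgroup G)
    rwa [← Subgroup.inf_relIndex_left (P : Subgroup G) K, hi'] at h1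
  have : p ^ i * p ∣ p ^ i * (P : Subgroup G).index := by
    rw [← hi', e2, ← e1, hi', mul_comm (p ^ i)]
    exact mul_dvd_mul hdvd hd
  exact P.not_dvd_index (Nat.dvd_of_mul_dvd_mul_left (pow_pos hp.out.pos i) this)

/-- An orbit filling a coset. -/
theorem class_eq_coset {T P0 : Subgroup G} {y : G} (hP0 : P0 ≤ T) (hy : y ∈ T)
    (hcent : ∀ u ∈ T, y⁻¹ * (u * y * u⁻¹) ∈ P0)
    (hle : Nat.card (Subgroup.centralizer ({y} : Set G)) * Nat.card P0 ≤ Nat.card T) :
    (∀ d ∈ P0, ∃ u ∈ T, u * y * u⁻¹ = y * d) ∧ Subgroup.centralizer ({y} : Set G) ≤ T := by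
  classical
  let C := Subgroup.centralizer ({y} : Set G)
  let F : T ⧸ (C.subgroupOf T) → P0 := Quotient.lift
    (fun u : T => (⟨y⁻¹ * ((u : G) * y * (u : G)⁻¹), hcent u u.2⟩ : P0)) (fun a b hab => by
      replace hab := QuotientGroup.leftRel_apply.1 hab
      rw [Subgroup.mem_subgroupOf, Subgroup.mem_centralizer_singleton_iff] at hab
      push_cast at hab
      apply Subtype.ext
      show y⁻¹ * ((a : G) * y * (a : G)⁻¹) = y⁻¹ * ((b : G) * y * (b : G)⁻¹)
      congr 1
      calc (a : G) * y * (a : G)⁻¹ = (a : G) * ((a : G)⁻¹ * b * y) * (b : G)⁻¹ := by rw [hab]; group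
        _ = _ := by group)
  have hF : Function.Injective F := by
    intro a b hab
    induction a using QuotientGroup.induction_on with
    | H a =>
      induction b using QuotientGroup.induction_on with
      | H b =>
        have h : (a : G) * y * (a : G)⁻¹ = (b : G) * y * (b : G)⁻¹ :=
          mul_left_cancel (congrArg Subtype.val hab)
        rw [QuotientGroup.eq, Subgroup.mem_subgroupOf, Subgroup.mem_centralizer_singleton_iff]
        push_cast
        calc (a : G)⁻¹ * b * y = (a : G)⁻¹ * ((b : G) * y * (b : G)⁻¹) * b := by group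
          _ = _ := by rw [← h]; group
  have hT : Nat.card (T ⧸ C.subgroupOf T) * Nat.card (C.subgroupOf T) = Nat.card T :=
    (Subgroup.card_eq_card_quotient_mul_card_subgroup _).symm
  have hCT : Nat.card (C.subgroupOf T) ≤ Nat.card C :=
    Nat.card_le_card_of_injective (fun c => ⟨(c : T), c.2⟩)
      fun a b h => Subtype.ext (Subtype.ext (congrArg (fun c : C => (c : G)) h))
  have h1 : Nat.card (T ⧸ C.subgroupOf T) ≤ Nat.card P0 := Nat.card_le_card_of_injective F hF
  have h2 : Nat.card C * Nat.card P0 ≤ Nat.card (T ⧸ C.subgroupOf T) * Nat.card (C.subgroupOf T) :=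
    hT.symm ▸ hle
  have hCpos : 0 < Nat.card (C.subgroupOf T) := Nat.card_pos
  have hcq : Nat.card (T ⧸ C.subgroupOf T) = Nat.card P0 := by
    refine le_antisymm h1 ?_
    by_contra hlt
    push Not at hlt
    have h3 : Nat.card (T ⧸ C.subgroupOf T) * Nat.card (C.subgroupOf T) <
        Nat.card P0 * Nat.card (C.subgroupOf T) := mul_lt_mul_of_pos_right hlt hCpos
    have h4 := Nat.mul_le_mul_left (Nat.card P0) hCT
    rw [mul_comm (Nat.card C)] at h2
    omega
  refine ⟨fun d hd => ?_, ?_⟩
  · obtain ⟨q, hq⟩ := ((Nat.bijective_iff_injective_and_card F).2 ⟨hF, hcq⟩).2 ⟨d, hd⟩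
    induction q using QuotientGroup.induction_on with
    | H u =>
      refine ⟨u, u.2, ?_⟩
      have h : y⁻¹ * ((u : G) * y * (u : G)⁻¹) = d := congrArg Subtype.val hq
      rw [← h, mul_inv_cancel_left]
  · have hCeq : Nat.card C ≤ Nat.card (C.subgroupOf T) := by
      rw [hcq, mul_comm (Nat.card P0)] at h2
      exact Nat.le_of_mul_le_mul_right h2 Nat.card_pos
    intro c hc
    have hinj : Function.Injective (fun c : C.subgroupOf T => (⟨(c : T), c.2⟩ : C)) :=
      fun a b h => Subtype.ext (Subtype.ext (congrArg (fun c : C => (c : G)) h))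
    have hbij := (Nat.bijective_iff_injective_and_card _).2 ⟨hinj, le_antisymm hCT hCeq⟩
    obtain ⟨c', hc'⟩ := hbij.2 ⟨c, hc⟩
    rw [← show ((c' : T) : G) = c from congrArg Subtype.val hc']
    exact (c' : T).2

variable {K : Subgroup G} {g : G}

theorem Hyp.exists_prime (H : Hyp K g) :
    ∃ p b : ℕ, p.Prime ∧ orderOf g = p ^ b ∧ g ^ p ∈ K ∧
      ∀ x ∈ commutator G, x ∉ K → orderOf x = p ^ b ∧ x ^ p ∈ K := by
  haveI := H.normal
  have hord : ∀ x ∈ commutator G, x ∉ K → orderOf x = orderOf g := fun x hx hx' => by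
    obtain ⟨c, hc⟩ := isConj_iff.1 (H.cls x hx hx')
    rw [← hc, show c * g * c⁻¹ = MulAut.conj c g from rfl, MulEquiv.orderOf_eq]
  set o := orderOf g with ho
  have ho0 : 0 < o := orderOf_pos g
  have hcop : ∀ j : ℕ, g ^ j ∉ K → Nat.gcd o j = 1 := by
    intro j hj
    have h := hord _ ((commutator G).pow_mem H.mem j) hj
    rw [orderOf_pow, ← ho] at h
    have h1 := Nat.div_mul_cancel (Nat.gcd_dvd_left o j)
    rw [h] at h1
    exact mul_left_cancel₀ ho0.ne' (h1.trans (mul_one o).symm)
  have ho1 : o ≠ 1 := fun h => H.notMem (by rw [orderOf_eq_one_iff.1 h]; exact K.one_mem)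
  obtain ⟨p, hp, hpo⟩ := Nat.exists_prime_and_dvd ho1
  have hgp : ∀ q : ℕ, q.Prime → q ∣ o → g ^ q ∈ K := fun q hq hqo => by
    by_contra h
    exact hq.ne_one (Nat.dvd_one.1 ((hcop q h) ▸ Nat.dvd_gcd hqo dvd_rfl))
  have honly : ∀ q : ℕ, q.Prime → q ∣ o → q = p := by
    intro q hq hqo
    by_contra hne
    have hc : Nat.gcd q p = 1 := (Nat.coprime_primes hq hp).2 hne
    apply H.notMem
    have := Nat.gcd_eq_gcd_ab q p
    rw [hc] at this
    rw [← zpow_one g, show (1 : ℤ) = _ from this, zpow_add, zpow_mul, zpow_mul, zpow_natCast,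
      zpow_natCast]
    exact K.mul_mem (K.zpow_mem (hgp q hq hqo) _) (K.zpow_mem (hgp p hp hpo) _)
  refine ⟨p, o.primeFactorsList.length, hp,
    Nat.eq_prime_pow_of_unique_prime_dvd ho0.ne' (fun {d} hd hdo => honly d hd hdo),
    hgp p hp hpo, fun x hx hxK => ⟨?_, ?_⟩⟩
  · exact (hord x hx hxK).trans
      (Nat.eq_prime_pow_of_unique_prime_dvd ho0.ne' (fun {d} hd hdo => honly d hd hdo))
  · obtain ⟨c, hc⟩ := isConj_iff.1 (H.cls x hx hxK)
    rw [← hc, conj_pow]
    exact H.normal.conj_mem _ (hgp p hp hpo) c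

theorem Hyp.isSolvable (H : Hyp K g) : Group.IsSolvable G := by
  classical
  haveI := H.normal
  obtain ⟨p, b, hp, hgo, hgp, hall⟩ := H.exists_prime
  haveI := Fact.mk hp
  set D := commutator G with hD
  have hDn : D.Normal := inferInstance
  have hpD : ∀ x ∈ D, x ^ p ∈ K := fun x hx => by
    by_cases hxK : x ∈ K
    · exact K.pow_mem hxK p
    · exact (hall x hx hxK).2
  let π := QuotientGroup.mk' K
  have hπ : Function.Surjective π := QuotientGroup.mk'_surjective K
  have hπK : ∀ x : G, π x = 1 ↔ x ∈ K := fun x => QuotientGroup.eq_one_iff x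
  set M := D.map π with hMdef
  haveI : M.Normal := hDn.map π hπ
  have hMcomm : commutator (G ⧸ K) = M := by
    rw [hMdef, hD, commutator_def, commutator_def, Subgroup.map_commutator,
      Subgroup.map_top_of_surjective π hπ]
  have hMexp : ∀ x ∈ M, x ^ p = 1 := by
    rintro _ ⟨x, hx, rfl⟩; rw [← map_pow, hπK]; exact hpD x hx
  have hMp : IsPGroup p M := fun x => ⟨1, Subtype.ext (by simpa using hMexp x x.2)⟩
  have hMconj : ∀ x ∈ M, x ≠ 1 → IsConj (π g) x := by
    rintro _ ⟨x, hx, rfl⟩ hne
    exact π.map_isConj (H.cls x hx fun h => hne ((hπK x).2 h))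
  have hgM : π g ∈ M := ⟨g, H.mem, rfl⟩
  have hg1 : π g ≠ 1 := fun h => H.notMem ((hπK g).1 h)
  -- `M` is abelian
  have hMab : ∀ x ∈ M, ∀ y ∈ M, x * y = y * x := by
    haveI : Group.IsNilpotent M := hMp.isNilpotent
    haveI : Nontrivial M := ⟨⟨⟨π g, hgM⟩, 1, fun h => hg1 (congrArg Subtype.val h)⟩⟩
    have hne := Cfsg.Agent.Solvable.Basics.inf_center_ne_bot (N := (⊤ : Subgroup M)) top_ne_bot
    rw [top_inf_eq] at hne
    haveI := (Subgroup.nontrivial_iff_ne_bot _).2 hne
    obtain ⟨⟨z, hz⟩, hz1⟩ := exists_ne (1 : Subgroup.center M)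
    have hz1' : (z : G ⧸ K) ≠ 1 := fun h => hz1 (Subtype.ext (Subtype.ext h))
    intro x hx y hy
    rcases eq_or_ne x 1 with rfl | hx1
    · simp
    obtain ⟨c, hc⟩ := isConj_iff.1 ((hMconj z z.2 hz1').symm.trans (hMconj x hx hx1))
    have hy' : c⁻¹ * y * c ∈ M := by simpa using ‹M.Normal›.conj_mem y hy c⁻¹
    have h := congrArg Subtype.val (Subgroup.mem_center_iff.1 hz ⟨_, hy'⟩)
    push_cast at h
    rw [← hc]
    calc c * z * c⁻¹ * y = c * (z * (c⁻¹ * y * c)) * c⁻¹ := by group
      _ = c * (c⁻¹ * y * c * z) * c⁻¹ := by rw [h]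
      _ = _ := by group
  set m := K.relIndex D with hm
  have hMcard : Nat.card M = m := by
    rw [hMdef, ← MonoidHom.domRestrict_range, ← Subgroup.index_ker, MonoidHom.ker_domRestrict,
      QuotientGroup.ker_mk']
    rfl
  have hMidx : M.index = D.index := D.index_map_eq hπ (by rw [QuotientGroup.ker_mk']; exact H.le)
  obtain ⟨k, hk⟩ := hMp.exists_card_eq
  rw [hMcard] at hk
  have hk0 : 0 < k := by
    rcases Nat.eq_zero_or_pos k with rfl | h
    · exfalso
      rw [pow_zero, ← hMcard] at hk
      exact hg1 (Subgroup.mem_bot.1 ((Subgroup.card_eq_one.1 hk) ▸ hgM))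
    · exact h
  -- centre of the quotient
  have hcen : ∀ q : G ⧸ K, (∀ r, q * r = r * q) → q ∈ M := by
    intro q hq
    obtain ⟨x, rfl⟩ := hπ q
    by_contra hxM
    obtain ⟨y, hy⟩ := H.cen x fun hx => hxM ⟨x, hx, rfl⟩
    apply hy
    rw [← hπK, map_commutatorElement, commutatorElement_eq_one_iff_mul_comm]
    exact hq _
  -- it suffices that `K` is solvable
  suffices hK : Group.IsSolvable K by
    haveI : Group.IsSolvable M := by
      letI : CommGroup M := { (inferInstance : Group M) with
        mul_comm := fun a b => Subtype.ext (hMab a a.2 b b.2) }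
      infer_instance
    haveI : Group.IsSolvable ((G ⧸ K) ⧸ M) := by
      letI : CommGroup ((G ⧸ K) ⧸ M) := { (inferInstance : Group ((G ⧸ K) ⧸ M)) with
        mul_comm := fun a b => by
          induction a using QuotientGroup.induction_on with
          | H a =>
            induction b using QuotientGroup.induction_on with
            | H b =>
              rw [← QuotientGroup.mk_mul, ← QuotientGroup.mk_mul, QuotientGroup.eq, ← hMcomm]
              have := Subgroup.commutator_mem_commutator (Subgroup.mem_top b⁻¹) (Subgroup.mem_top a⁻¹)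
              simpa [commutatorElement_def, mul_assoc, commutator_def] using this }
      infer_instance
    haveI : Group.IsSolvable (G ⧸ K) := Group.isSolvable_of_ker_le_range M.subtype (QuotientGroup.mk' M)
      (by rw [QuotientGroup.ker_mk', Subgroup.range_subtype])
    exact Group.isSolvable_of_ker_le_range K.subtype π (by rw [QuotientGroup.ker_mk', Subgroup.range_subtype])
  -- the conjugates of `g` in `M`
  have hord := H.ord
  rw [← hm, ← hD] at hord
  have hcardQ : Nat.card (G ⧸ K) = D.index * m := by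
    rw [← M.card_mul_index, hMcard, hMidx, mul_comm]
  rcases Nat.lt_or_ge m 3 with hm3 | hm3
  · -- `m = 2`
    have hm2 : m = 2 := by
      have : 2 ≤ p ^ k := Nat.one_lt_pow hk0.ne' hp.one_lt
      omega
    have hp2 : p = 2 := by
      have h1 : p ∣ m := hk ▸ dvd_pow_self p hk0.ne'
      rw [hm2] at h1
      exact (Nat.prime_dvd_prime_iff_eq hp Nat.prime_two).1 h1
    subst hp2
    have hMeq : ∀ x ∈ M, x = 1 ∨ x = π g := by
      intro x hx
      haveI := Fintype.ofFinite M
      have h2 : Fintype.card M = 2 := by rw [← Nat.card_eq_fintype_card, hMcard, hm2]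
      by_contra hne
      push Not at hne
      have h3 : ({1, ⟨π g, hgM⟩, ⟨x, hx⟩} : Finset M).card = 3 :=
        Finset.card_eq_three.2 ⟨_, _, _, fun h => hg1 (congrArg Subtype.val h).symm,
          fun h => hne.1 (congrArg Subtype.val h).symm,
          fun h => hne.2 (congrArg Subtype.val h).symm, rfl⟩
      have := Finset.card_le_univ ({1, ⟨π g, hgM⟩, ⟨x, hx⟩} : Finset M)
      omega
    have hMcen : ∀ x ∈ M, ∀ r : G ⧸ K, x * r = r * x := by
      intro x hx r
      have h1 : r * x * r⁻¹ ∈ M := ‹M.Normal›.conj_mem x hx r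
      rcases hMeq x hx with rfl | rfl
      · simp
      · rcases hMeq _ h1 with h | h
        · exact absurd (conj_eq_one_iff.1 h) hg1
        · exact (mul_inv_eq_iff_eq_mul.1 h).symm
    have hsq : ∀ q : G ⧸ K, q * q ∈ M := by
      intro q
      refine hcen _ fun r => ?_
      have hc : ⁅q, r⁆ ∈ M := hMcomm ▸ Subgroup.commutator_mem_commutator
        (Subgroup.mem_top q) (Subgroup.mem_top r)
      have h2 : ⁅q, r⁆ * ⁅q, r⁆ = 1 := by simpa [sq] using hMexp _ hc
      rw [← commutatorElement_eq_one_iff_mul_comm]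
      calc ⁅q * q, r⁆ = q * ⁅q, r⁆ * q⁻¹ * ⁅q, r⁆ := by simp [commutatorElement_def, mul_assoc]
        _ = 1 := by rw [← hMcen _ hc q, mul_inv_cancel_right, h2]
    have hQp : IsPGroup 2 (G ⧸ K) := fun q => ⟨2, by
      rw [pow_mul q 2 1 |>.trans (by rw [pow_one]) |> fun _ => (show (2 : ℕ) ^ 2 = 2 * 2 from rfl),
        pow_mul, sq q]
      exact hMexp _ (hsq q)⟩
    have hCcard : Nat.card (Subgroup.centralizer ({g} : Set G)) = Nat.card (G ⧸ K) := by
      rw [hcardQ]
      rw [hm2] at hord ⊢
      simpa using hord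
    obtain ⟨e, he⟩ := hQp.exists_card_eq
    have hCp : IsPGroup 2 (Subgroup.centralizer ({g} : Set G)) := IsPGroup.of_card (hCcard.trans he)
    obtain ⟨T, hCT⟩ := hCp.exists_le_sylow
    have hgT : g ∈ (T : Subgroup G) :=
      hCT (Subgroup.mem_centralizer_singleton_iff.2 rfl)
    have hTtop : (T : Subgroup G).map π = ⊤ := by
      rw [← Subgroup.index_eq_one]
      have h1 := (T : Subgroup G).index_map_dvd hπ
      obtain ⟨i, hi⟩ := hQp.index ((T : Subgroup G).map π)
      rw [hi] at h1 ⊢
      rcases i with _ | i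
      · rfl
      · exact absurd ((dvd_pow_self 2 (Nat.succ_ne_zero i)).trans h1) T.not_dvd_index
    set P0 := (T : Subgroup G) ⊓ K with hP0
    have hTcard : Nat.card T = Nat.card (G ⧸ K) * Nat.card P0 := by
      have h := Subgroup.card_mul_index ((π.domRestrict (T : Subgroup G)).ker)
      rw [Subgroup.index_ker, MonoidHom.domRestrict_range, hTtop, Subgroup.card_top,
        MonoidHom.ker_domRestrict, QuotientGroup.ker_mk'] at h
      rw [← h, mul_comm]
      congr 1
      rw [hP0, ← Nat.card_congr (Subgroup.subgroupOfEquivOfLe (inf_le_left :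
        (T : Subgroup G) ⊓ K ≤ T)).toEquiv, Subgroup.inf_subgroupOf_left]
    have hmemP0 : ∀ x ∈ (T : Subgroup G), π x = 1 → x ∈ P0 := fun x hx h => ⟨hx, (hπK x).1 h⟩
    have hcent : ∀ u ∈ (T : Subgroup G), g⁻¹ * (u * g * u⁻¹) ∈ P0 := fun u hu =>
      hmemP0 _ ((T : Subgroup G).mul_mem ((T : Subgroup G).inv_mem hgT)
        ((T : Subgroup G).mul_mem ((T : Subgroup G).mul_mem hu hgT) ((T : Subgroup G).inv_mem hu)))
        (by simp only [map_mul, map_inv]; rw [← hMcen _ hgM (π u), mul_inv_cancel_right,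
          inv_mul_cancel])
    obtain ⟨hcls, hcT⟩ := class_eq_coset (inf_le_left : P0 ≤ T) hgT hcent
      (by rw [hCcard, hTcard])
    let P0' : Subgroup T := P0.subgroupOf T
    haveI : P0'.Normal := ⟨fun d hd u => by
      rw [Subgroup.mem_subgroupOf] at hd ⊢
      exact ⟨(T : Subgroup G).mul_mem ((T : Subgroup G).mul_mem u.2 d.2)
        ((T : Subgroup G).inv_mem u.2), H.normal.conj_mem _ hd.2 u⟩⟩
    have hdic : ∀ a : T, π (a : G) ∈ M → a ∈ P0' ∨ ∃ d ∈ P0', a = (⟨g, hgT⟩ : T) * d := by
      intro a ha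
      rcases hMeq _ ha with h | h
      · exact Or.inl (Subgroup.mem_subgroupOf.2 (hmemP0 _ a.2 h))
      · refine Or.inr ⟨(⟨g, hgT⟩ : T)⁻¹ * a, Subgroup.mem_subgroupOf.2 (hmemP0 _ ?_ ?_), by group⟩
        · exact ((⟨g, hgT⟩ : T)⁻¹ * a).2
        · push_cast
          rw [map_mul, map_inv, h, inv_mul_cancel]
    have hcomM : ∀ a b : T, π ((⁅a, b⁆ : T) : G) ∈ M := fun a b => by
      rw [← hMcomm]
      have : ((⁅a, b⁆ : T) : G) = ⁅(a : G), (b : G)⁆ := by simp [commutatorElement_def]
      rw [this, map_commutatorElement]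
      exact Subgroup.commutator_mem_commutator (Subgroup.mem_top _) (Subgroup.mem_top _)
    have hS : SplitCosetTwo.Hyp P0' (⟨g, hgT⟩ : T) := by
      refine ⟨fun h => H.notMem (Subgroup.mem_subgroupOf.1 h).2, ?_, ?_, fun a => ?_, ?_, fun a b => hdic _ (hcomM a b)⟩
      · intro d hd
        rw [Subgroup.mem_subgroupOf] at hd
        obtain ⟨u, hu, hud⟩ := hcls (g⁻¹ * d * g) ⟨(T : Subgroup G).mul_mem
          ((T : Subgroup G).mul_mem ((T : Subgroup G).inv_mem hgT) hd.1) hgT,
          by simpa using H.normal.conj_mem _ hd.2 g⁻¹⟩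
        refine ⟨⟨u, hu⟩, Subtype.ext ?_⟩
        show u * g * u⁻¹ * g⁻¹ = _
        rw [hud]; group
      · intro u
        rw [Subgroup.mem_subgroupOf]
        refine hmemP0 _ (⁅u, (⟨g, hgT⟩ : T)⁆).2 ?_
        show π ((u : G) * g * (u : G)⁻¹ * g⁻¹) = 1
        simp only [map_mul, map_inv]
        rw [← hMcen _ hgM (π (u : G)), mul_inv_cancel_right, mul_inv_cancel]
      · refine hdic _ ?_
        push_cast
        rw [map_mul]
        exact hsq _
      · by_contra hno
        push Not at hno
        apply hg1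
        have hle : commutator (G ⧸ K) ≤ ⊥ := by
          rw [commutator_def, Subgroup.commutator_le]
          intro a _ c _
          obtain ⟨a', ha', rfl⟩ : a ∈ (T : Subgroup G).map π := hTtop ▸ Subgroup.mem_top a
          obtain ⟨c', hc', rfl⟩ : c ∈ (T : Subgroup G).map π := hTtop ▸ Subgroup.mem_top c
          rw [Subgroup.mem_bot, ← map_commutatorElement, hπK]
          rcases hdic _ (hcomM ⟨a', ha'⟩ ⟨c', hc'⟩) with h | ⟨d, hd, h⟩
          · have h' := (Subgroup.mem_subgroupOf.1 h).2
            simpa [commutatorElement_def] using h'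
          · exact absurd h (hno _ _ d hd)
        rw [hMcomm] at hle
        exact Subgroup.mem_bot.1 (hle hgM)
    have hle2 : Nat.card P0 ≤ 2 := by
      have := SplitCosetTwo.card_le_two T.isPGroup' hS
      rwa [Nat.card_congr (Subgroup.subgroupOfEquivOfLe (inf_le_left : P0 ≤ T)).toEquiv] at this
    have hP0sq : ∀ d ∈ P0, d * d = 1 := by
      intro d hd
      have hdvd := Subgroup.orderOf_dvd_natCard P0 hd
      have h0 : 0 < Nat.card P0 := Nat.card_pos
      interval_cases h : Nat.card P0
      · rw [Nat.dvd_one, orderOf_eq_one_iff] at hdvd; simp [hdvd]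
      · rw [← sq, ← orderOf_dvd_iff_pow_eq_one]; exact hdvd
    have hcentral : ∀ d ∈ P0, ∀ x ∈ (T : Subgroup G), d * x = x * d := by
      intro d hd x hx
      by_cases hd1 : d = 1
      · simp [hd1]
      have hmem : x * d * x⁻¹ ∈ P0 := ⟨(T : Subgroup G).mul_mem ((T : Subgroup G).mul_mem hx hd.1)
        ((T : Subgroup G).inv_mem hx), H.normal.conj_mem _ hd.2 x⟩
      suffices x * d * x⁻¹ = d from (mul_inv_eq_iff_eq_mul.1 this).symm
      by_contra hne
      haveI := Fintype.ofFinite P0
      have h3 : ({1, ⟨d, hd⟩, ⟨_, hmem⟩} : Finset P0).card = 3 :=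
        Finset.card_eq_three.2 ⟨_, _, _, fun h => hd1 (congrArg Subtype.val h).symm,
          fun h => hd1 (conj_eq_one_iff.1 (congrArg Subtype.val h.symm)),
          fun h => hne (congrArg Subtype.val h).symm, rfl⟩
      have := Finset.card_le_univ ({1, ⟨d, hd⟩, ⟨_, hmem⟩} : Finset P0)
      rw [Nat.card_eq_fintype_card] at hle2
      omega
    exact SplitCosetFinish.Hyp.isSolvable (p := 2) (P := (T : Subgroup G)) (P0 := P0) (y := g)
      { normal := H.normal
        isPGroup := T.isPGroup'
        le := inf_le_left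
        leK := inf_le_right
        sylow := sylow_inf T K
        central := hcentral
        mem := hgT
        cent := hcT
        cls := hcls
        exp_two := fun _ => by
          rw [show (4 : ℕ) = 2 * 2 from rfl, pow_mul, sq (g ^ 2)]
          exact hP0sq _ ⟨(T : Subgroup G).pow_mem hgT 2, hgp⟩
        exp_odd := fun h => absurd rfl h }
  · -- `m > 2`
    have hstab : ∀ x ∈ M, x ≠ 1 → ∀ u : G ⧸ K, u * x * u⁻¹ = x → ∀ y ∈ M, u * y * u⁻¹ = y := by
      intro x hx hx1 u hu y hy
      rcases eq_or_ne y 1 with rfl | hy1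
      · simp
      obtain ⟨v, hv⟩ := isConj_iff.1 ((hMconj x hx hx1).symm.trans (hMconj y hy hy1))
      have hc : ⁅u, v⁆ ∈ M := hMcomm ▸ Subgroup.commutator_mem_commutator
        (Subgroup.mem_top u) (Subgroup.mem_top v)
      have hvx : v * x * v⁻¹ ∈ M := ‹M.Normal›.conj_mem x hx v
      rw [← hv]
      calc u * (v * x * v⁻¹) * u⁻¹
          = ⁅u, v⁆ * (v * (u * x * u⁻¹) * v⁻¹) * ⁅u, v⁆⁻¹ := by
            simp [commutatorElement_def, mul_assoc]
        _ = v * x * v⁻¹ := by rw [hu, hMab _ hc _ hvx, mul_inv_cancel_right]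
    set A := Subgroup.centralizer (M : Set (G ⧸ K)) with hA
    haveI : A.Normal := Subgroup.normal_centralizer
    have hmemA : ∀ u, u ∈ A ↔ ∀ y ∈ M, u * y * u⁻¹ = y := by
      intro u
      rw [hA, Subgroup.mem_centralizer_iff]
      exact ⟨fun h y hy => by rw [← h y hy, mul_inv_cancel_right],
        fun h y hy => (mul_inv_eq_iff_eq_mul.1 (h y hy)).symm⟩
    -- class of `π g`
    have hCQ : Subgroup.centralizer ({π g} : Set (G ⧸ K)) = A := by
      ext u
      rw [Subgroup.mem_centralizer_singleton_iff, hmemA]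
      exact ⟨fun h => hstab _ hgM hg1 u (by rw [h, mul_inv_cancel_right]),
        fun h => mul_inv_eq_iff_eq_mul.1 (h _ hgM)⟩
    have hAidx : A.index = m - 1 := by
      rw [← hCQ, Subgroup.index_eq_card, ← hMcard]
      let f : (G ⧸ K) ⧸ Subgroup.centralizer ({π g} : Set (G ⧸ K)) → {x : M // x ≠ 1} :=
        Quotient.lift (fun u : G ⧸ K => (⟨⟨u * π g * u⁻¹, ‹M.Normal›.conj_mem _ hgM u⟩, fun h =>
          hg1 (conj_eq_one_iff.1 (congrArg Subtype.val h))⟩ : {x : M // x ≠ 1}))
          (fun a c hac => by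
            replace hac := Subgroup.mem_centralizer_singleton_iff.1
              (QuotientGroup.leftRel_apply.1 hac)
            refine Subtype.ext (Subtype.ext ?_)
            show a * π g * a⁻¹ = c * π g * c⁻¹
            calc a * π g * a⁻¹ = a * (a⁻¹ * c * π g) * c⁻¹ := by rw [hac]; group
              _ = _ := by group)
      have hf : Function.Bijective f := by
        constructor
        · intro a c hac
          induction a using QuotientGroup.induction_on with
          | H a =>
            induction c using QuotientGroup.induction_on with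
            | H c =>
              have h : a * π g * a⁻¹ = c * π g * c⁻¹ :=
                congrArg (fun x : {x : M // x ≠ 1} => ((x : M) : G ⧸ K)) hac
              rw [QuotientGroup.eq, Subgroup.mem_centralizer_singleton_iff]
              calc a⁻¹ * c * π g = a⁻¹ * (c * π g * c⁻¹) * c := by group
                _ = _ := by rw [← h]; group
        · rintro ⟨⟨x, hx⟩, hx1⟩
          obtain ⟨c, hc⟩ := isConj_iff.1 (hMconj x hx fun h => hx1 (Subtype.ext h))
          exact ⟨(c : (G ⧸ K) ⧸ _), Subtype.ext (Subtype.ext hc)⟩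
      rw [Nat.card_eq_of_bijective f hf]
      haveI := Fintype.ofFinite M
      rw [Nat.card_eq_fintype_card, Fintype.card_subtype_compl, Fintype.card_subtype_eq,
        Nat.card_eq_fintype_card]
    have hcop : Nat.Coprime (m - 1) p := by
      rw [Nat.coprime_comm, hp.coprime_iff_not_dvd]
      intro h
      have h1 : p ∣ m := hk ▸ dvd_pow_self p hk0.ne'
      have := Nat.dvd_sub h1 h
      rw [show m - (m - 1) = 1 by omega] at this
      exact hp.ne_one (Nat.dvd_one.1 this)
    have hZ : ∀ q : G ⧸ K, (∀ r, q * r = r * q) → q = 1 := by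
      intro q hq
      by_contra hq1
      have hqM := hcen q hq
      haveI := Fintype.ofFinite M
      have hsub : ∀ x : M, x = 1 ∨ x = ⟨q, hqM⟩ := by
        intro x
        by_cases hx : (x : G ⧸ K) = 1
        · exact Or.inl (Subtype.ext hx)
        · obtain ⟨c, hc⟩ := isConj_iff.1 ((hMconj q hqM hq1).symm.trans (hMconj x x.2 hx))
          refine Or.inr (Subtype.ext ?_)
          rw [← hc, ← hq c, mul_inv_cancel_right]
      have : Fintype.card M ≤ ({1, ⟨q, hqM⟩} : Finset M).card :=
        Finset.card_le_card (fun x _ => by simpa using hsub x)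
      rw [← Nat.card_eq_fintype_card, hMcard] at this
      have h2 : ({1, ⟨q, hqM⟩} : Finset M).card ≤ 2 := Finset.card_le_two
      omega
    have hAp : IsPGroup p A := by
      rintro ⟨x, hx⟩
      obtain ⟨hpd, n', hn'⟩ : True ∧ ∃ n', orderOf x = p ^ (orderOf x).factorization p * n' :=
        ⟨trivial, _, (Nat.ordProj_mul_ordCompl_eq_self _ _).symm⟩
      refine ⟨(orderOf x).factorization p, Subtype.ext ?_⟩
      show x ^ p ^ (orderOf x).factorization p = 1
      set x' := x ^ p ^ (orderOf x).factorization p with hx'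
      have hxA : x' ∈ A := A.pow_mem hx _
      have hn'p : ¬ p ∣ n' := by
        intro h
        refine Nat.pow_succ_factorization_not_dvd (orderOf_pos x).ne' hp ?_
        rw [pow_succ]
        conv_rhs => rw [hn']
        exact mul_dvd_mul_left _ h
      have hxn : x' ^ n' = 1 := by rw [hx', ← pow_mul, ← hn', pow_orderOf_eq_one]
      refine hZ _ fun r => ?_
      have hc : ⁅r, x'⁆ ∈ M := hMcomm ▸ Subgroup.commutator_mem_commutator
        (Subgroup.mem_top r) (Subgroup.mem_top x')
      have hcx : Commute ⁅r, x'⁆ x' := (mul_inv_eq_iff_eq_mul.1 ((hmemA x').1 hxA _ hc)).symm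
      have h1 : (⁅r, x'⁆ * x') ^ n' = 1 := by
        rw [show ⁅r, x'⁆ * x' = r * x' * r⁻¹ by simp [commutatorElement_def, mul_assoc], conj_pow,
          hxn, mul_one, mul_inv_cancel]
      rw [hcx.mul_pow, hxn, mul_one] at h1
      have hc1 : ⁅r, x'⁆ = 1 := orderOf_eq_one_iff.1 (Nat.eq_one_of_dvd_coprimes
        ((hp.coprime_iff_not_dvd).2 hn'p) (orderOf_dvd_of_pow_eq_one (hMexp _ hc))
        (orderOf_dvd_of_pow_eq_one h1))
      exact (commutatorElement_eq_one_iff_mul_comm.1 hc1).symm
    obtain ⟨a', ha'⟩ := hAp.exists_card_eq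
    obtain ⟨Hc, hHc⟩ := Subgroup.exists_right_complement'_of_coprime (N := A)
      (by rw [ha', hAidx]; exact (Nat.Coprime.pow_left a' hcop.symm))
    have hMA : M ≤ A := fun x hx => (hmemA x).2 fun y hy => by rw [hMab x hx y hy, mul_inv_cancel_right]
    have hHM : ∀ x, x ∈ Hc → x ∈ M → x = 1 := fun x hx hxM =>
      Subgroup.disjoint_def.1 hHc.disjoint (hMA hxM) hx
    have hHab : ∀ x ∈ Hc, ∀ y ∈ Hc, x * y = y * x := fun x hx y hy => by
      rw [← commutatorElement_eq_one_iff_mul_comm]
      refine hHM _ ?_ (hMcomm ▸ Subgroup.commutator_mem_commutator (Subgroup.mem_top x) (Subgroup.mem_top y))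
      rw [commutatorElement_def]
      exact Hc.mul_mem (Hc.mul_mem (Hc.mul_mem hx hy) (Hc.inv_mem hx)) (Hc.inv_mem hy)
    haveI : IsMulCommutative Hc := ⟨⟨fun a c => Subtype.ext (hHab a a.2 c c.2)⟩⟩
    have hfix : ∀ x ∈ Hc, x ≠ 1 → M ⊓ Subgroup.centralizer {x} = ⊥ := by
      intro x hx hx1
      rw [Subgroup.eq_bot_iff_forall]
      rintro y ⟨hyM, hy⟩
      by_contra hy1
      apply hx1
      refine Subgroup.disjoint_def.1 hHc.disjoint ((hmemA x).2 (hstab y hyM hy1 x ?_)) hx
      rw [← Subgroup.mem_centralizer_singleton_iff.1 hy, mul_inv_cancel_right]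
    have hMbot : M ≠ ⊥ := fun h => hg1 (Subgroup.mem_bot.1 (h ▸ hgM))
    haveI : IsCyclic Hc := Cfsg.Agent.Coprime.fpf_isCyclic_of_abelian
      (fun x _ => Subgroup.mem_normalizer_fintype fun y hy => ‹M.Normal›.conj_mem y hy x) hfix hMbot
    have hHcard : Nat.card Hc = m - 1 := by
      have := hHc.card_mul_card
      rw [← A.card_mul_index, hAidx] at this
      exact mul_left_cancel₀ Nat.card_pos.ne' this
    obtain ⟨⟨hb, hbm⟩, hgen⟩ := IsCyclic.exists_ofOrder_eq_natCard (α := Hc)
    rw [hHcard, ← Subgroup.orderOf_coe] at hgen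
    simp only at hgen
    have hb1 : hb ≠ 1 := fun h => by rw [h, orderOf_one] at hgen; omega
    -- `A = M`
    have hAM : A = M := by
      refine le_antisymm (fun a ha => ?_) hMA
      -- a representative commuting with `hb`
      let F : M → M := fun x => ⟨(x : G ⧸ K) * (hb * x * hb⁻¹)⁻¹,
        M.mul_mem x.2 (M.inv_mem (‹M.Normal›.conj_mem _ x.2 hb))⟩
      have hF : Function.Injective F := by
        intro x y hxy
        have h : (x : G ⧸ K) * (hb * x * hb⁻¹)⁻¹ = (y : G ⧸ K) * (hb * y * hb⁻¹)⁻¹ :=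
          congrArg Subtype.val hxy
        have h1 : (y : G ⧸ K)⁻¹ * x ∈ M ⊓ Subgroup.centralizer {hb} := by
          refine ⟨M.mul_mem (M.inv_mem y.2) x.2, Subgroup.mem_centralizer_singleton_iff.2 ?_⟩
          calc (y : G ⧸ K)⁻¹ * x * hb
              = (y : G ⧸ K)⁻¹ * ((x : G ⧸ K) * (hb * x * hb⁻¹)⁻¹) * (hb * x) := by group
            _ = _ := by rw [h]; group
        rw [hfix hb hbm hb1, Subgroup.mem_bot, inv_mul_eq_one] at h1
        exact Subtype.ext h1.symm
      have hc : ⁅hb, a⁆ ∈ M := hMcomm ▸ Subgroup.commutator_mem_commutator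
        (Subgroup.mem_top hb) (Subgroup.mem_top a)
      obtain ⟨⟨x, hxM⟩, hx⟩ := Finite.surjective_of_injective hF ⟨_, hc⟩
      have hx' : x * (hb * x * hb⁻¹)⁻¹ = ⁅hb, a⁆ := congrArg Subtype.val hx
      have hax : ∀ y ∈ M, a * y = y * a := fun y hy => mul_inv_eq_iff_eq_mul.1 ((hmemA a).1 ha y hy)
      set a2 := a * x with ha2
      have ha2A : a2 ∈ A := A.mul_mem ha (hMA hxM)
      have hba : hb * a2 = a2 * hb := by
        have : hb * a * hb⁻¹ = a * ⁅hb, a⁆ := by
          rw [hax _ hc]; simp [commutatorElement_def, mul_assoc]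
        calc hb * a2 = (hb * a * hb⁻¹) * (hb * x * hb⁻¹) * hb := by rw [ha2]; group
          _ = a2 * hb := by rw [this, ← hx', ha2]; group
      have hcentral : ∀ c ∈ A, hb * c = c * hb → a2 * c = c * a2 := by
        intro c hcA hbc
        rw [← commutatorElement_eq_one_iff_mul_comm]
        have h1 : ⁅a2, c⁆ ∈ M ⊓ Subgroup.centralizer {hb} := by
          refine ⟨hMcomm ▸ Subgroup.commutator_mem_commutator (Subgroup.mem_top _) (Subgroup.mem_top _), ?_⟩
          show ⁅a2, c⁆ ∈ Subgroup.centralizer ({hb} : Set (G ⧸ K))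
          rw [Subgroup.mem_centralizer_singleton_iff]
          have e1 : Commute hb a2 := hba
          have e2 : Commute hb c := hbc
          exact ((((e1.mul_right e2).mul_right e1.inv_right).mul_right e2.inv_right).symm).eq
        rw [hfix hb hbm hb1, Subgroup.mem_bot] at h1
        exact h1
      have hA2 : ∀ c ∈ A, a2 * c = c * a2 := by
        intro c hcA
        have hc' : ⁅hb, c⁆ ∈ M := hMcomm ▸ Subgroup.commutator_mem_commutator
          (Subgroup.mem_top hb) (Subgroup.mem_top c)
        obtain ⟨⟨x', hx'M⟩, hxx⟩ := Finite.surjective_of_injective hF ⟨_, hc'⟩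
        have hxx' : x' * (hb * x' * hb⁻¹)⁻¹ = ⁅hb, c⁆ := congrArg Subtype.val hxx
        have hcy : ∀ y ∈ M, c * y = y * c := fun y hy => mul_inv_eq_iff_eq_mul.1 ((hmemA c).1 hcA y hy)
        have hbc : hb * (c * x') = c * x' * hb := by
          have : hb * c * hb⁻¹ = c * ⁅hb, c⁆ := by
            rw [hcy _ hc']; simp [commutatorElement_def, mul_assoc]
          calc hb * (c * x') = (hb * c * hb⁻¹) * (hb * x' * hb⁻¹) * hb := by group
            _ = _ := by rw [this, ← hxx']; group
        have h1 := hcentral _ (A.mul_mem hcA (hMA hx'M)) hbc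
        have h2 : a2 * x' = x' * a2 := by
          have := (hmemA a2).1 ha2A x' hx'M
          exact mul_inv_eq_iff_eq_mul.1 this
        have h3 : a2 * c * x' = c * a2 * x' := by
          calc a2 * c * x' = a2 * (c * x') := mul_assoc _ _ _
            _ = c * x' * a2 := h1
            _ = c * (a2 * x') := by rw [mul_assoc, h2]
            _ = _ := (mul_assoc _ _ _).symm
        exact mul_right_cancel h3
      have hH2 : ∀ c ∈ Hc, a2 * c = c * a2 := by
        intro c hcH
        rw [← commutatorElement_eq_one_iff_mul_comm]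
        have h1 : ⁅a2, c⁆ ∈ M ⊓ Subgroup.centralizer {hb} := by
          refine ⟨hMcomm ▸ Subgroup.commutator_mem_commutator (Subgroup.mem_top _) (Subgroup.mem_top _), ?_⟩
          show ⁅a2, c⁆ ∈ Subgroup.centralizer ({hb} : Set (G ⧸ K))
          rw [Subgroup.mem_centralizer_singleton_iff]
          have e1 : Commute hb a2 := hba
          have e2 : Commute hb c := hHab hb hbm c hcH
          exact ((((e1.mul_right e2).mul_right e1.inv_right).mul_right e2.inv_right).symm).eq
        rw [hfix hb hbm hb1, Subgroup.mem_bot] at h1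
        exact h1
      have ha2one : a2 = 1 := hZ a2 fun r => by
        obtain ⟨⟨⟨c, hcA⟩, ⟨d, hdH⟩⟩, hr, -⟩ := Subgroup.isComplement_iff_existsUnique.1 hHc r
        rw [← hr]
        show a2 * (c * d) = c * d * a2
        rw [← mul_assoc, hA2 c hcA, mul_assoc, hH2 d hdH, mul_assoc]
      rw [ha2, mul_eq_one_iff_eq_inv] at ha2one
      rw [ha2one]
      exact M.inv_mem hxM
    have ht : D.index = m - 1 := by rw [← hMidx, ← hAM, hAidx]
    have hCg : Nat.card (Subgroup.centralizer ({g} : Set G)) = m := by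
      rw [ht] at hord
      exact mul_left_cancel₀ (by omega) hord
    -- the Sylow subgroup
    obtain ⟨P⟩ : Nonempty (Sylow p G) := inferInstance
    have hPD : (P : Subgroup G) ≤ D := by
      intro x hx
      obtain ⟨i, hi⟩ := P.isPGroup' ⟨x, hx⟩
      rw [← QuotientGroup.eq_one_iff, ← orderOf_eq_one_iff]
      refine Nat.eq_one_of_dvd_coprimes (Nat.Coprime.pow_left i hcop.symm) ?_ ?_
      · refine orderOf_dvd_of_pow_eq_one ?_
        rw [← QuotientGroup.mk_pow, show x ^ p ^ i = 1 from congrArg Subtype.val hi, QuotientGroup.mk_one]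
      · rw [← ht, Subgroup.index_eq_card]; exact orderOf_dvd_natCard _
    have hPM : (P : Subgroup G).map π = M := by
      have hle : (P : Subgroup G).map π ≤ M := Subgroup.map_mono hPD
      refine le_antisymm hle (Subgroup.relIndex_eq_one.1 ?_)
      have h1 := ((P : Subgroup G).map π).relIndex_mul_index |> fun f => f hle
      have h2 := (P : Subgroup G).index_map_dvd hπ
      obtain ⟨i, hi⟩ := hMp.index (((P : Subgroup G).map π).subgroupOf M)
      have hi' : ((P : Subgroup G).map π).relIndex M = p ^ i := hi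
      rw [hi']
      rcases i with _ | i
      · rfl
      · refine absurd (((dvd_pow_self p (Nat.succ_ne_zero i)).trans ?_).trans h2) P.not_dvd_index
        rw [← hi', ← h1]
        exact dvd_mul_right _ _
    set P0 := (P : Subgroup G) ⊓ K with hP0
    have hPcard : Nat.card P = m * Nat.card P0 := by
      have h := Subgroup.card_mul_index ((π.domRestrict (P : Subgroup G)).ker)
      rw [Subgroup.index_ker, MonoidHom.domRestrict_range, hPM, hMcard, MonoidHom.ker_domRestrict,
        QuotientGroup.ker_mk'] at h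
      rw [← h, mul_comm]
      congr 1
      rw [hP0, ← Nat.card_congr (Subgroup.subgroupOfEquivOfLe (inf_le_left :
        (P : Subgroup G) ⊓ K ≤ P)).toEquiv, Subgroup.inf_subgroupOf_left]
    have hmemP0 : ∀ x ∈ (P : Subgroup G), π x = 1 → x ∈ P0 := fun x hx h => ⟨hx, (hπK x).1 h⟩
    have hπP : ∀ x ∈ (P : Subgroup G), π x ∈ M := fun x hx => hPM ▸ ⟨x, hx, rfl⟩
    -- the element `h`
    obtain ⟨h0, hh0⟩ := hπ hb
    have hN : h0 ∈ Subgroup.normalizer ((P : Subgroup G) : Set G) ⊔ D := by
      rw [show Subgroup.normalizer ((P : Subgroup G) : Set G) ⊔ D = ⊤ from P.normalizer_sup_eq_top' hPD]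
      exact Subgroup.mem_top _
    obtain ⟨n, hn, d, hd, hnd⟩ := Subgroup.mem_sup_of_normal_right.1 hN
    have hnbar : hb⁻¹ * π n ∈ M := by
      have : π n = hb * (π d)⁻¹ := by rw [← hh0, ← hnd, map_mul, mul_inv_cancel_right]
      rw [this, inv_mul_cancel_left]
      exact M.inv_mem ⟨d, hd, rfl⟩
    have hfree : ∀ x ∈ (P : Subgroup G), x ∉ P0 → ∀ j : ℕ,
        x⁻¹ * (n ^ j * x * (n ^ j)⁻¹) ∈ P0 → p ^ k - 1 ∣ j := by
      intro x hx hx0 j hj
      have hx1 : π x ≠ 1 := fun h => hx0 (hmemP0 x hx h)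
      have h1 : (π n) ^ j * π x * ((π n) ^ j)⁻¹ = π x := by
        have h2 := (hπK _).2 hj.2
        simp only [map_mul, map_inv, map_pow] at h2
        exact (inv_mul_eq_one.1 h2).symm
      have h3 : (π n) ^ j ∈ A := (hmemA _).2 (hstab _ (hπP x hx) hx1 _ h1)
      rw [hAM] at h3
      have h4 : hb ^ j ∈ M := by
        rw [← QuotientGroup.eq_one_iff] at h3 hnbar ⊢
        simp only [QuotientGroup.mk_mul, QuotientGroup.mk_inv, inv_mul_eq_one] at hnbar
        rw [QuotientGroup.mk_pow] at h3 ⊢
        rw [hnbar]; exact h3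
      rw [← hk, ← hgen]
      exact orderOf_dvd_of_pow_eq_one (hHM _ (Hc.pow_mem hbm j) h4)
    -- classes
    have hclass : ∀ y ∈ (P : Subgroup G), y ∉ P0 → (∀ d ∈ P0, ∃ u ∈ (P : Subgroup G),
        u * y * u⁻¹ = y * d) ∧ Subgroup.centralizer ({y} : Set G) ≤ P := by
      intro y hy hy0
      have hy1 : π y ≠ 1 := fun h => hy0 (hmemP0 y hy h)
      have hcard : Nat.card (Subgroup.centralizer ({y} : Set G)) = m := by
        obtain ⟨c, hc⟩ := isConj_iff.1 (H.cls y (hPD hy) fun h => hy0 ⟨hy, h⟩)
        rw [← hCg, ← hc]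
        refine (Nat.card_congr
          { toFun := fun (u : Subgroup.centralizer ({g} : Set G)) =>
              (⟨c * (u : G) * c⁻¹, Subgroup.mem_centralizer_singleton_iff.2 ?_⟩ :
                Subgroup.centralizer ({c * g * c⁻¹} : Set G))
            invFun := fun (u : Subgroup.centralizer ({c * g * c⁻¹} : Set G)) =>
              (⟨c⁻¹ * (u : G) * c, Subgroup.mem_centralizer_singleton_iff.2 ?_⟩ :
                Subgroup.centralizer ({g} : Set G))
            left_inv := fun u => Subtype.ext (by simp [mul_assoc])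
            right_inv := fun u => Subtype.ext (by simp [mul_assoc]) }).symm
        · have := Subgroup.mem_centralizer_singleton_iff.1 u.2
          calc c * (u : G) * c⁻¹ * (c * g * c⁻¹) = c * ((u : G) * g) * c⁻¹ := by group
            _ = _ := by rw [this]; group
        · have := Subgroup.mem_centralizer_singleton_iff.1 u.2
          calc c⁻¹ * (u : G) * c * g = c⁻¹ * ((u : G) * (c * g * c⁻¹)) * c := by group
            _ = _ := by rw [this]; group
      refine class_eq_coset inf_le_left hy (fun u hu => hmemP0 _ ?_ ?_) (by rw [hcard, hPcard])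
      · exact (P : Subgroup G).mul_mem ((P : Subgroup G).inv_mem hy)
          ((P : Subgroup G).mul_mem ((P : Subgroup G).mul_mem hu hy) ((P : Subgroup G).inv_mem hu))
      · simp only [map_mul, map_inv]
        rw [hMab _ (hπP u hu) _ (hπP y hy), mul_inv_cancel_right, inv_mul_cancel]
    have hCam : CaminaClassTwo.Hyp p k (P : Subgroup G) P0 n := by
      refine ⟨P.isPGroup', inf_le_left, hk0, by rw [hPcard, hk], fun x hx y hy => hmemP0 _ ?_ ?_,
        fun x hx => ⟨(P : Subgroup G).pow_mem hx p, hpD x (hPD hx)⟩,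
        fun y hy hy0 => (hclass y hy hy0).1, fun x hx => (Subgroup.mem_normalizer_iff.1 hn x).1 hx,
        fun x hx => ⟨(Subgroup.mem_normalizer_iff.1 hn x).1 hx.1, H.normal.conj_mem x hx.2 n⟩, hfree⟩
      · rw [commutatorElement_def]
        exact (P : Subgroup G).mul_mem ((P : Subgroup G).mul_mem ((P : Subgroup G).mul_mem hx hy)
          ((P : Subgroup G).inv_mem hx)) ((P : Subgroup G).inv_mem hy)
      · rw [map_commutatorElement, commutatorElement_eq_one_iff_mul_comm]
        exact hMab _ (hπP x hx) _ (hπP y hy)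
    obtain ⟨y, hy, hy0⟩ := hCam.exists_outside hp.one_lt
    exact SplitCosetFinish.Hyp.isSolvable (p := p) (P := (P : Subgroup G)) (P0 := P0) (y := y)
      { normal := H.normal
        isPGroup := P.isPGroup'
        le := inf_le_left
        leK := inf_le_right
        sylow := sylow_inf P K
        central := fun d hd x hx => hCam.commute hd hx
        mem := hy
        cent := (hclass y hy hy0).2
        cls := (hclass y hy hy0).1
        exp_two := (hCam.exponent hy).1
        exp_odd := (hCam.exponent hy).2 }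

end Cfsg.Agent.BlocksChars.OneNonlinearGroup
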