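import Mathlib
import Cfsg.Agent.BlocksChars.Degrees
import Cfsg.Agent.BlocksChars.DefectZero
import Cfsg.Agent.BlocksChars.InvertedSylow
import Cfsg.Agent.Lib.Involutions.Basic

/-!
Without characters of `p`-defect zero the number of ways of writing an element with centraliser of
order prime to `p` as a product of two conjugates of another such element is a multiple of `p`.
In a transitive group of degree `p ^ r` with odd centralisers of `p`-elements this forces each
point to be fixed by exactly one involution.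
-/

set_option autoImplicit false
set_option linter.style.haveILetI false
set_option linter.unusedSectionVars false

namespace Cfsg.Agent.BlocksChars.OnePointInvolution

open Cfsg.Agent.BlocksChars Cfsg.Agent.BlocksChars.ClassAlg Cfsg.Agent.BlocksChars.Degrees
open Cfsg.Agent.BlocksChars.InvertedSylow
open Cfsg.Agent.Characters
open Cfsg.Agent.Involutions
open scoped ComplexConjugate

variable {G : Type*} [Group G] [Finite G] {p : ℕ} [Fact p.Prime]

theorem dvd_pairs (hdz : ¬ DefectZero.HasDefectZero p G) {s y : G}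
    (hs : ¬ p ∣ Nat.card (Subgroup.centralizer ({s} : Set G)))
    (hy : ¬ p ∣ Nat.card (Subgroup.centralizer ({y} : Set G))) :
    p ∣ Nat.card {g : G // IsConj s g ∧ IsConj s (g⁻¹ * y)} := by
  classical
  haveI := Fintype.ofFinite G
  haveI := Fintype.ofFinite (Cfsg.IrrCharacter G)
  have hp : p.Prime := Fact.out
  set R := (Nat.card G).factorization p with hR
  set q := Nat.card G / p ^ R with hq
  have hG : Nat.card G = p ^ R * q := (Nat.ordProj_mul_ordCompl_eq_self _ p).symm
  have hqp : ¬ p ∣ q := Nat.not_dvd_ordCompl hp Nat.card_pos.ne'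
  set N := Nat.card {g : G // IsConj s g ∧ IsConj s (g⁻¹ * y)} with hN
  have hval : ∀ x : G, ¬ p ∣ Nat.card (Subgroup.centralizer ({x} : Set G)) →
      (classSize x).factorization p = R ∧ classSize x ≠ 0 := by
    intro x hx
    have h := classSize_mul_card_centralizer x
    have h0 : classSize x ≠ 0 := fun h0 => by
      rw [h0, zero_mul] at h; exact Nat.card_pos.ne' h.symm
    refine ⟨?_, h0⟩
    rw [hR, ← h, Nat.factorization_mul h0 Nat.card_pos.ne', Finsupp.add_apply,
      Nat.factorization_eq_zero_of_not_dvd hx, add_zero]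
  obtain ⟨hvs, hs0⟩ := hval s hs
  obtain ⟨hvy, hy0⟩ := hval y hy
  have hcl : classSize y⁻¹ = classSize y := by
    refine Nat.card_congr (Equiv.subtypeEquiv (Equiv.inv G) fun g => ?_)
    simp only [Equiv.inv_apply]
    exact ⟨fun h => by simpa using Degrees.isConj_inv h,
      fun h => by simpa using Degrees.isConj_inv h⟩
  have hsR : p ^ R ∣ classSize s := hvs ▸ Nat.ordProj_dvd (classSize s) p
  obtain ⟨ks, hks⟩ := hsR
  -- each scaled scalar at `y⁻¹` is `p` times an algebraic integer
  have hterm : ∀ χ : Cfsg.IrrCharacter G, ∃ z : ℂ, IsIntegral ℤ z ∧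
      (q : ℂ) * ((χ : G → ℂ) 1 * ((χ : G → ℂ) 1 * (omega (χ : G → ℂ) (classInd s) *
        omega (χ : G → ℂ) (classInd s)) * omega (χ : G → ℂ) (classInd y⁻¹))) =
        ((p ^ (2 * R + 1) : ℕ) : ℂ) * z := by
    intro χ
    set d := Cfsg.charDegree (χ : G → ℂ) with hd
    have hd0 : d ≠ 0 := (charDegree_pos χ).ne'
    have hdd : d ∣ Nat.card G := charDegree_dvd_card χ
    set e := d.factorization p with he
    have heR : e < R := by
      have h1 : e ≤ R := (Nat.factorization_le_iff_dvd hd0 Nat.card_pos.ne').2 hdd p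
      refine lt_of_le_of_ne h1 fun h2 => hdz ⟨χ, h2⟩
    obtain ⟨ky, hky⟩ : p ^ (e + 1) ∣ classSize y :=
      (pow_dvd_pow p (by omega)).trans (hvy ▸ Nat.ordProj_dvd (classSize y) p)
    obtain ⟨m, hm⟩ := Nat.ordCompl_dvd_ordCompl_of_dvd hdd p
    have hdeq : d = p ^ e * (d / p ^ e) := (Nat.ordProj_mul_ordCompl_eq_self d p).symm
    refine ⟨(ks : ℂ) * ks * m * ky *
      ((χ : G → ℂ) s * (χ : G → ℂ) s * (χ : G → ℂ) y⁻¹), ?_, ?_⟩
    · exact ((((natCast_isIntegral _).mul (natCast_isIntegral _)).mul (natCast_isIntegral _)).mul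
        (natCast_isIntegral _)).mul (((char_value_isIntegral (irr_isCharacter χ) s).mul
          (char_value_isIntegral (irr_isCharacter χ) s)).mul
          (char_value_isIntegral (irr_isCharacter χ) y⁻¹))
    · have h1 := irr_one_ne_zero χ.2
      rw [omega_classInd, omega_classInd, hcl]
      have hqd : (q : ℂ) = (((d / p ^ e : ℕ) : ℂ)) * m := by
        exact_mod_cast (show q = d / p ^ e * m from hm)
      have hd1 : (χ : G → ℂ) 1 = (p : ℂ) ^ e * ((d / p ^ e : ℕ) : ℂ) := by
        rw [← charDegree_cast χ, ← hd]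
        exact_mod_cast hdeq
      have hcs : (classSize s : ℂ) = (p : ℂ) ^ R * ks := by exact_mod_cast hks
      have hcy : (classSize y : ℂ) = (p : ℂ) ^ (e + 1) * ky := by exact_mod_cast hky
      field_simp
      rw [hqd, hcs, hcy, hd1]
      push_cast
      ring
  choose z hz hzeq using hterm
  have hsum : ((q * (classSize y * (Nat.card G * N)) : ℕ) : ℂ) =
      ((p ^ (2 * R + 1) : ℕ) : ℂ) * ∑ χ, z χ := by
    rw [Finset.mul_sum, ← Finset.sum_congr rfl fun χ _ => hzeq χ, ← Finset.mul_sum, Nat.cast_mul,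
      Nat.cast_mul, Nat.cast_mul]
    congr 1
    rw [hN, ← conv_classInd, conv_eq_sum (classInd_isClassFunction s) (classInd_isClassFunction s) y,
      Finset.mul_sum]
    refine Finset.sum_congr rfl fun χ _ => ?_
    have h1 := irr_one_ne_zero χ.2
    rw [omega_classInd χ y⁻¹, hcl, char_inv (irr_isCharacter χ) y]
    field_simp
  have hdiv := dvd_of_natCast_eq_mul (IsIntegral.sum _ fun χ _ => hz χ) hsum
  have hq0 : q ≠ 0 := fun h => hqp (h ▸ dvd_zero p)
  rcases Nat.eq_zero_or_pos N with hN0 | hN0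
  · rw [hN0]; exact dvd_zero p
  have hne : q * (classSize y * (Nat.card G * N)) ≠ 0 :=
    mul_ne_zero hq0 (mul_ne_zero hy0 (mul_ne_zero Nat.card_pos.ne' hN0.ne'))
  have hv := (hp.pow_dvd_iff_le_factorization hne).1 hdiv
  rw [Nat.factorization_mul hq0 (mul_ne_zero hy0 (mul_ne_zero Nat.card_pos.ne' hN0.ne')),
    Nat.factorization_mul hy0 (mul_ne_zero Nat.card_pos.ne' hN0.ne'),
    Nat.factorization_mul Nat.card_pos.ne' hN0.ne'] at hv
  simp only [Finsupp.add_apply, Nat.factorization_eq_zero_of_not_dvd hqp, hvy, ← hR] at hv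
  exact Nat.dvd_of_factorization_pos (by omega)

/-- All involutions invert a Sylow subgroup and are conjugate. -/
theorem inverts_and_conj (hC : OddCentralizers p G) (hdz : ¬ DefectZero.HasDefectZero p G) :
    (∀ s : G, orderOf s = 2 → ∃ Q : Sylow p G, Inverts s (Q : Subgroup G)) ∧
      ∀ s t : G, orderOf s = 2 → orderOf t = 2 → IsConj s t := by
  have hp' : ∀ t : G, orderOf t = 2 → ¬ p ∣ Nat.card (Subgroup.centralizer ({t} : Set G)) := by
    intro t ht hdvd
    obtain ⟨u, hu⟩ := exists_prime_orderOf_dvd_card' p hdvd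
    have hu' : orderOf (u : G) = p := by rw [Subgroup.orderOf_coe]; exact hu
    have hu1 : (u : G) ≠ 1 := fun h => by
      rw [h, orderOf_one] at hu'; exact (Fact.out : p.Prime).ne_one hu'.symm
    exact not_commute hC hu1 ⟨1, by rw [hu', pow_one]⟩ ht
      (Subgroup.mem_centralizer_singleton_iff.1 u.2).symm
  have key : ∀ t : G, orderOf t = 2 → ∃ u : G, u ≠ 1 ∧ (∃ k : ℕ, orderOf u = p ^ k) ∧
      t * u * t⁻¹ = u⁻¹ := by
    intro t ht
    obtain ⟨g, h, hg, hh, hne, hk⟩ :=
      (DefectZero.exists_quotient_or_defectZero (p := p) (hp' t ht)).resolve_left hdz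
    obtain ⟨cg, hcg⟩ := isConj_iff.1 hg
    obtain ⟨ch, hch⟩ := isConj_iff.1 hh
    have hg2 : orderOf g = 2 := by rw [← hcg, Basic.orderOf_conj, ht]
    have hh2 : orderOf h = 2 := by rw [← hch, Basic.orderOf_conj, ht]
    have hinv : g * (g * h⁻¹) * g⁻¹ = (g * h⁻¹)⁻¹ := by
      rw [mul_inv_rev, inv_inv, Basic.inv_eq hg2, Basic.inv_eq hh2, ← mul_assoc,
        Basic.inv_sq_one hg2, one_mul]
    refine ⟨cg⁻¹ * (g * h⁻¹) * cg, ?_, ?_, ?_⟩
    · intro h1
      refine hne ((conj_eq_one_iff (a := cg⁻¹)).1 ?_)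
      rw [inv_inv]; exact h1
    · obtain ⟨k, hk⟩ := hk
      refine ⟨k, ?_⟩
      rw [← hk]
      conv_lhs => rw [show cg = (cg⁻¹)⁻¹ by group]
      rw [inv_inv cg⁻¹]
      exact Basic.orderOf_conj cg⁻¹ _
    · have ht' : t = cg⁻¹ * g * cg := by rw [← hcg]; group
      calc t * (cg⁻¹ * (g * h⁻¹) * cg) * t⁻¹ = cg⁻¹ * (g * (g * h⁻¹) * g⁻¹) * cg := by
            rw [ht']; group
        _ = (cg⁻¹ * (g * h⁻¹) * cg)⁻¹ := by rw [hinv]; group
  refine ⟨fun s hs => ?_, fun s t hs ht => ?_⟩
  · obtain ⟨u, hu, hk, hinv⟩ := key s hs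
    exact exists_sylow_inverts hC hs hu hk hinv
  · obtain ⟨u, hu, hk, hinv⟩ := key s hs
    obtain ⟨u', hu', hk', hinv'⟩ := key t ht
    exact isConj_of_inverted hC hs ht hu hk hinv hu' hk' hinv'

section Action

variable {Ω : Type*} [MulAction G Ω] [FaithfulSMul G Ω] [Finite Ω] [MulAction.IsPretransitive G Ω]

/-- A Sylow `p`-subgroup is transitive on a transitive set of `p`-power size. -/
theorem sylow_orbit {r : ℕ} (hΩ : Nat.card Ω = p ^ r) (Q : Sylow p G) (ω : Ω) :
    MulAction.orbit (Q : Subgroup G) ω = Set.univ := by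
  have hp : p.Prime := Fact.out
  set H := MulAction.stabilizer G ω with hH
  have hidx : H.index = p ^ r := by rw [hH, MulAction.index_stabilizer_of_transitive G ω, hΩ]
  set S := MulAction.stabilizer (Q : Subgroup G) ω with hS
  have hle : S.map (Q : Subgroup G).subtype ≤ H := by
    rintro _ ⟨x, hx, rfl⟩; exact hx
  obtain ⟨b, hb⟩ := IsPGroup.iff_card.1 (Q.2.to_subgroup S)
  obtain ⟨a, -, ha⟩ := (Nat.dvd_prime_pow hp).1
    ((Subgroup.index_dvd_card S).trans (dvd_of_eq Q.card_eq_multiplicity))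
  have h1 : p ^ b ∣ Nat.card H := by
    rw [← hb, ← Subgroup.card_map_of_injective (K := S) (f := (Q : Subgroup G).subtype)
      (Q : Subgroup G).subtype_injective]
    exact Subgroup.card_dvd_of_le hle
  have h2 : p ^ (b + r) ∣ Nat.card G := by
    rw [← H.card_mul_index, hidx, pow_add]
    exact Nat.mul_dvd_mul h1 dvd_rfl
  have h3 := (hp.pow_dvd_iff_le_factorization Nat.card_pos.ne').1 h2
  have h4 : (Nat.card G).factorization p = b + a := by
    refine (Nat.pow_right_injective hp.two_le (a₁ := (Nat.card G).factorization p) ?_)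
    show p ^ (Nat.card G).factorization p = p ^ (b + a)
    rw [← Q.card_eq_multiplicity, ← S.card_mul_index, hb, ha, pow_add]
  refine Set.eq_of_subset_of_ncard_le (Set.subset_univ _) ?_ (Set.toFinite _)
  rw [Set.ncard_univ, hΩ, ← MulAction.index_stabilizer, ← hS, ha]
  exact Nat.pow_le_pow_right hp.pos (by omega)

theorem exists_smul_eq {r : ℕ} (hΩ : Nat.card Ω = p ^ r) (Q : Sylow p G) (ω x : Ω) :
    ∃ q ∈ (Q : Subgroup G), q • ω = x := by
  have h : x ∈ MulAction.orbit (Q : Subgroup G) ω := by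
    rw [sylow_orbit hΩ Q ω]; exact Set.mem_univ x
  obtain ⟨q, hq⟩ := h
  exact ⟨q, q.2, hq⟩

/-- An abelian Sylow subgroup is regular. -/
theorem sylow_regular {r : ℕ} (hΩ : Nat.card Ω = p ^ r) (Q : Sylow p G)
    (hQ : ∀ a ∈ (Q : Subgroup G), ∀ b ∈ (Q : Subgroup G), a * b = b * a) {q : G}
    (hq : q ∈ (Q : Subgroup G)) {ω : Ω} (h : q • ω = ω) : q = 1 := by
  refine eq_of_smul_eq_smul fun x : Ω => ?_
  rw [one_smul]
  obtain ⟨c, hc, rfl⟩ := exists_smul_eq hΩ Q ω x
  rw [← mul_smul, hQ q hq c hc, mul_smul, h]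

theorem eq_one_of_sq_eq_one (hp2 : p ≠ 2) {Q : Subgroup G} (hQ : IsPGroup p Q) {q : G} (hq : q ∈ Q)
    (h : q * q = 1) : q = 1 := by
  obtain ⟨k, hk⟩ := exists_orderOf_eq_pow hQ hq
  rw [← orderOf_eq_one_iff]
  refine Nat.eq_one_of_dvd_coprimes (Nat.Coprime.pow_left k
    ((Nat.coprime_primes Fact.out Nat.prime_two).2 hp2)) (dvd_of_eq hk)
    (orderOf_dvd_of_pow_eq_one (by rw [pow_two, h]))

theorem inverts_smul {s : G} {Q : Subgroup G} (h : Inverts s Q) {q : G} (hq : q ∈ Q) {ω : Ω}
    (hω : s • ω = ω) : s • q • ω = q⁻¹ • ω := by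
  conv_lhs => rw [← hω, ← mul_smul, ← mul_smul]
  conv_rhs => rw [← h q hq, mul_smul, mul_smul, inv_smul_eq_iff.2 hω.symm]
  rw [mul_smul, hω, mul_smul]

/-- An involution fixes exactly one point. -/
theorem existsUnique_fixed (hp2 : p ≠ 2) (hC : OddCentralizers p G)
    (hdz : ¬ DefectZero.HasDefectZero p G) {r : ℕ} (hΩ : Nat.card Ω = p ^ r) {s : G}
    (hs : orderOf s = 2) : ∃! ω : Ω, s • ω = ω := by
  haveI : Fact (Nat.Prime 2) := ⟨Nat.prime_two⟩
  have hz : IsPGroup 2 (Subgroup.zpowers s) :=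
    IsPGroup.of_card (n := 1) (by rw [Nat.card_zpowers, hs, pow_one])
  obtain ⟨ω, hω⟩ := hz.nonempty_fixed_point_of_prime_not_dvd_card Ω (by
    rw [hΩ]
    exact fun h => hp2 ((Nat.prime_dvd_prime_iff_eq Nat.prime_two Fact.out).1
      (Nat.prime_two.dvd_of_dvd_pow h)).symm)
  have hsω : s • ω = ω := hω ⟨s, Subgroup.mem_zpowers s⟩
  refine ⟨ω, hsω, fun x hx => ?_⟩
  obtain ⟨Q, hQ⟩ := (inverts_and_conj hC hdz).1 s hs
  obtain ⟨q, hq, rfl⟩ := exists_smul_eq hΩ Q ω x
  rw [inverts_smul hQ hq hsω, inv_smul_eq_iff, ← mul_smul] at hx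
  rw [eq_one_of_sq_eq_one hp2 Q.2 hq (sylow_regular hΩ Q hQ.comm (mul_mem hq hq) hx.symm), one_smul]

/-- Two involutions moving `ω` to `ν` and back fix a common point. -/
theorem common_fixed (hp2 : p ≠ 2) (hC : OddCentralizers p G)
    (hdz : ¬ DefectZero.HasDefectZero p G) {r : ℕ} (hΩ : Nat.card Ω = p ^ r)
    (hnorm : ∀ a : G, a ≠ 1 → (∃ k : ℕ, orderOf a = p ^ k) → ∃ Q : Sylow p G,
      Subgroup.centralizer ({a} : Set G) ≤ Subgroup.normalizer ((Q : Subgroup G) : Set G))
    {w w' : G} (hw : orderOf w = 2) (hw' : orderOf w' = 2) {ω ν : Ω} (hne : ω ≠ ν)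
    (h1 : w • ω = ν) (h2 : w' • ω = ν) : ∃ l : Ω, w • l = l ∧ w' • l = l := by
  classical
  have hww : ∀ {v : G}, orderOf v = 2 → ∀ {a b : Ω}, v • a = b → v • b = a := by
    intro v hv a b h
    rw [← h, ← mul_smul, Basic.inv_sq_one hv, one_smul]
  set y := w * w' with hy
  have hyω : y • ω = ω := by rw [hy, mul_smul, h2, hww hw h1]
  have hyν : y • ν = ν := by rw [hy, mul_smul, hww hw' h2, h1]
  by_cases hy1 : y = 1
  · have hweq : w' = w := by
      rw [← Basic.inv_eq hw]; exact (inv_eq_of_mul_eq_one_right hy1).symm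
    obtain ⟨l, hl, -⟩ := existsUnique_fixed hp2 hC hdz hΩ hw
    exact ⟨l, hl, hweq ▸ hl⟩
  set F := {l : Ω | y • l = l} with hF
  have hinvy : w * y * w⁻¹ = y⁻¹ := Basic.conj_prod_left hw hw'
  -- `F` has an odd number of points
  have hFodd : Odd (Nat.card F) := by
    set C := Subgroup.centralizer ({y} : Set G) with hCdef
    have hcomm : ∀ c ∈ C, ∀ l ∈ F, c • l ∈ F := by
      intro c hc l hl
      show y • c • l = c • l
      rw [← mul_smul, ← Subgroup.mem_centralizer_singleton_iff.1 hc, mul_smul,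
        show y • l = l from hl]
    rcases Nat.even_or_odd (Nat.card C) with heven | hCodd
    · -- a central involution fixes exactly one point, which lies in `F`
      haveI : Fact (Nat.Prime 2) := ⟨Nat.prime_two⟩
      obtain ⟨z, hz⟩ := exists_prime_orderOf_dvd_card' (G := C) 2 (even_iff_two_dvd.1 heven)
      have hz' : orderOf (z : G) = 2 := by rw [Subgroup.orderOf_coe]; exact hz
      obtain ⟨l₀, hl₀, huniq⟩ := existsUnique_fixed (Ω := Ω) hp2 hC hdz hΩ hz'
      have hl₀F : y • l₀ = l₀ := by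
        refine huniq _ ?_
        show (z : G) • y • l₀ = y • l₀
        rw [← mul_smul, Subgroup.mem_centralizer_singleton_iff.1 z.2, mul_smul, hl₀]
      let σ : F → F := fun l => ⟨(z : G) • (l : Ω), hcomm _ z.2 _ l.2⟩
      haveI := Fintype.ofFinite F
      have hσ : Function.Involutive σ := fun l =>
        Subtype.ext (by simp only [σ, ← mul_smul, Basic.inv_sq_one hz', one_smul])
      let f : Function.End F := σ
      have hpow : f ^ (2 : ℕ) ^ 1 = 1 := by
        funext l
        rw [pow_one, pow_two]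
        exact hσ l
      have hmod := Equiv.Perm.card_fixedPoints_modEq (p := 2) (n := 1) (f := f) hpow
      have h1' : Fintype.card (Function.fixedPoints f) = 1 := by
        rw [Fintype.card_eq_one_iff]
        refine ⟨⟨⟨l₀, hl₀F⟩, Subtype.ext hl₀⟩, fun l => Subtype.ext (Subtype.ext ?_)⟩
        exact huniq _ (congrArg Subtype.val l.2)
      rw [h1'] at hmod
      rw [Nat.card_eq_fintype_card, Nat.odd_iff]
      exact hmod.trans rfl
    · by_cases hpC : p ∣ Nat.card C
      · obtain ⟨a, ha⟩ := exists_prime_orderOf_dvd_card' (G := C) p hpC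
        have ha' : orderOf (a : G) = p := by rw [Subgroup.orderOf_coe]; exact ha
        have ha1 : (a : G) ≠ 1 := fun h => by
          rw [h, orderOf_one] at ha'; exact (Fact.out : p.Prime).ne_one ha'.symm
        obtain ⟨Q, hQ⟩ := hnorm a ha1 ⟨1, by rw [ha', pow_one]⟩
        have hyQ : y ∈ Subgroup.normalizer ((Q : Subgroup G) : Set G) :=
          hQ (Subgroup.mem_centralizer_singleton_iff.2
            (Subgroup.mem_centralizer_singleton_iff.1 a.2).symm)
        obtain ⟨t, ht⟩ := exists_prime_orderOf_dvd_card' (G := G) 2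
          (by rw [← hw]; exact orderOf_dvd_natCard w)
        obtain ⟨P, hP⟩ := (inverts_and_conj hC hdz).1 t ht
        obtain ⟨g, hg⟩ := MulAction.exists_smul_eq G P Q
        have hQc : ∀ a ∈ (Q : Subgroup G), ∀ b ∈ (Q : Subgroup G), a * b = b * a := by
          have h := hP.conj g
          rw [← Coprime.conj_smul_eq_map, ← Sylow.coe_subgroup_smul, hg] at h
          exact h.comm
        have hcard : Nat.card ↥((Q : Subgroup G) ⊓ C) = Nat.card F := by
          refine Nat.card_eq_of_bijective (fun q => ⟨(q : G) • ω, hcomm _ q.2.2 _ hyω⟩) ⟨?_, ?_⟩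
          · intro q q' h
            have h' : (q : G) • ω = (q' : G) • ω := congrArg Subtype.val h
            refine Subtype.ext (inv_mul_eq_one.1 (sylow_regular hΩ Q hQc
              (mul_mem (inv_mem q'.2.1) q.2.1) (ω := ω) ?_)).symm
            rw [mul_smul, h', inv_smul_smul]
          · rintro ⟨l, hl⟩
            obtain ⟨q, hq, rfl⟩ := exists_smul_eq hΩ Q ω l
            have hq' : y * q * y⁻¹ ∈ (Q : Subgroup G) :=
              (Subgroup.mem_normalizer_iff.1 hyQ q).1 hq
            have h : (q⁻¹ * (y * q * y⁻¹)) • ω = ω := by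
              rw [mul_smul, mul_smul, mul_smul, inv_smul_eq_iff.2 hyω.symm,
                show y • q • ω = q • ω from hl, inv_smul_smul]
            have h' := sylow_regular hΩ Q hQc (mul_mem (inv_mem hq) hq') h
            refine ⟨⟨q, hq, Subgroup.mem_centralizer_singleton_iff.2 ?_⟩, rfl⟩
            have h'' := inv_mul_eq_one.1 h'
            calc q * y = y * q * y⁻¹ * y := by rw [← h'']
              _ = y * q := by group
        rw [← hcard]
        obtain ⟨k, hk⟩ := IsPGroup.iff_card.1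
          (Q.2.to_le (inf_le_left : (Q : Subgroup G) ⊓ C ≤ Q))
        rw [hk]
        exact ((Fact.out : p.Prime).odd_of_ne_two hp2).pow
      · exfalso
        have hnC : ∀ c ∈ C, ∀ g : G, orderOf g = 2 → g * y * g⁻¹ = y⁻¹ →
            (c * g * c⁻¹) * y * (c * g * c⁻¹)⁻¹ = y⁻¹ := by
          intro c hc g _ hgy
          have hcy : c * y = y * c := Subgroup.mem_centralizer_singleton_iff.1 hc
          have hcy' : c⁻¹ * y * c = y := by rw [mul_assoc, ← hcy, inv_mul_cancel_left]
          calc (c * g * c⁻¹) * y * (c * g * c⁻¹)⁻¹ = c * (g * (c⁻¹ * y * c) * g⁻¹) * c⁻¹ := by group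
            _ = c * y⁻¹ * c⁻¹ := by rw [hcy', hgy]
            _ = y⁻¹ := by
              rw [show c * y⁻¹ * c⁻¹ = (c * y * c⁻¹)⁻¹ by group, hcy, mul_inv_cancel_right]
        have hinvset : ∀ g : G,
            (IsConj w g ∧ IsConj w (g⁻¹ * y)) ↔ (orderOf g = 2 ∧ g * y * g⁻¹ = y⁻¹) := by
          intro g
          constructor
          · rintro ⟨hg, hgy⟩
            obtain ⟨c, hc⟩ := isConj_iff.1 hg
            obtain ⟨c', hc'⟩ := isConj_iff.1 hgy
            have hg2 : orderOf g = 2 := by rw [← hc, Basic.orderOf_conj, hw]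
            have hv2 : orderOf (g⁻¹ * y) = 2 := by rw [← hc', Basic.orderOf_conj, hw]
            refine ⟨hg2, ?_⟩
            have e := Basic.conj_prod_left hg2 hv2
            rwa [mul_inv_cancel_left] at e
          · rintro ⟨hg2, hgy⟩
            refine ⟨(inverts_and_conj hC hdz).2 w g hw hg2,
              (inverts_and_conj hC hdz).2 w _ hw ?_⟩
            rw [Basic.orderOf_two_iff]
            refine ⟨?_, ?_⟩
            · rw [Basic.inv_eq hg2] at hgy ⊢
              calc g * y * (g * y) = (g * y * g) * y := by group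
                _ = 1 := by rw [hgy, inv_mul_cancel]
            · intro h
              rw [inv_mul_eq_one] at h
              have hgC : g ∈ C := Subgroup.mem_centralizer_singleton_iff.2 (by rw [h])
              refine Nat.not_even_iff_odd.2 hCodd (even_iff_two_dvd.2 ?_)
              rw [← hg2, ← Subgroup.orderOf_mk g hgC]
              exact orderOf_dvd_natCard _
        have hpw : ¬ p ∣ Nat.card (Subgroup.centralizer ({w} : Set G)) := by
          intro hdvd
          obtain ⟨u, hu⟩ := exists_prime_orderOf_dvd_card' p hdvd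
          have hu' : orderOf (u : G) = p := by rw [Subgroup.orderOf_coe]; exact hu
          exact not_commute hC (fun h => by
            rw [h, orderOf_one] at hu'; exact (Fact.out : p.Prime).ne_one hu'.symm)
            ⟨1, by rw [hu', pow_one]⟩ hw (Subgroup.mem_centralizer_singleton_iff.1 u.2).symm
        have hdvd := dvd_pairs hdz hpw hpC
        rw [Nat.card_congr (Equiv.subtypeEquivRight hinvset)] at hdvd
        -- these involutions form one orbit under `C`
        letI : MulAction C {g : G // orderOf g = 2 ∧ g * y * g⁻¹ = y⁻¹} :=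
          { smul := fun c g => ⟨(c : G) * g * (c : G)⁻¹, by rw [Basic.orderOf_conj]; exact g.2.1,
              hnC c c.2 g g.2.1 g.2.2⟩
            one_smul := fun g => Subtype.ext (by
              show ((1 : C) : G) * g * ((1 : C) : G)⁻¹ = g
              simp)
            mul_smul := fun c d g => Subtype.ext (by
              show ((c * d : C) : G) * g * ((c * d : C) : G)⁻¹ =
                (c : G) * ((d : G) * g * (d : G)⁻¹) * (c : G)⁻¹
              rw [Subgroup.coe_mul]; group) }
        haveI : MulAction.IsPretransitive C {g : G // orderOf g = 2 ∧ g * y * g⁻¹ = y⁻¹} := by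
          refine ⟨fun g g' => ?_⟩
          have hm : (g : G) * g' ∈ C := by
            rw [Subgroup.mem_centralizer_singleton_iff]
            have e1 := g.2.2
            have e2 := g'.2.2
            have : (g : G) * g' * y * ((g : G) * g')⁻¹ = y := by
              calc (g : G) * g' * y * ((g : G) * g')⁻¹
                  = (g : G) * ((g' : G) * y * (g' : G)⁻¹) * (g : G)⁻¹ := by group
                _ = ((g : G) * y * (g : G)⁻¹)⁻¹ := by rw [e2]; group
                _ = y := by rw [e1, inv_inv]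
            exact mul_inv_eq_iff_eq_mul.1 this
          have hodd : Odd (orderOf ((g : G) * g')) :=
            hCodd.of_dvd_nat (Subgroup.orderOf_mk _ hm ▸ orderOf_dvd_natCard _)
          obtain ⟨c, hc, hcg⟩ := Basic.exists_conj_of_odd g.2.1 g'.2.1 hodd
          exact ⟨⟨c, Subgroup.zpowers_le.2 hm hc⟩, Subtype.ext hcg⟩
        rw [← MulAction.index_stabilizer_of_transitive C
          (⟨w, hw, hinvy⟩ : {g : G // orderOf g = 2 ∧ g * y * g⁻¹ = y⁻¹})] at hdvd
        exact hpC (hdvd.trans (Subgroup.index_dvd_card _))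
  -- `w` fixes a point of `F`
  have hwF : ∀ l ∈ F, w • l ∈ F := by
    intro l hl
    show y • w • l = w • l
    have hwy : y * w = w * y⁻¹ := by
      rw [← hinvy, Basic.inv_eq hw, ← mul_assoc, ← mul_assoc, Basic.inv_sq_one hw, one_mul]
    rw [← mul_smul, hwy, mul_smul, inv_smul_eq_iff.2 (show y • l = l from hl).symm]
  let σ : F → F := fun l => ⟨w • (l : Ω), hwF _ l.2⟩
  haveI := Fintype.ofFinite F
  haveI : Fact (Nat.Prime 2) := ⟨Nat.prime_two⟩
  have hσ : Function.Involutive σ := fun l =>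
    Subtype.ext (by simp only [σ, ← mul_smul, Basic.inv_sq_one hw, one_smul])
  have hpow : (hσ.toPerm σ) ^ (2 : ℕ) ^ 1 = 1 := by
    ext l
    simp [pow_two, Equiv.Perm.mul_apply, hσ l]
  obtain ⟨l, hl⟩ := Equiv.Perm.exists_fixed_point_of_prime (p := 2) (n := 1) (by
    rw [← Nat.card_eq_fintype_card]
    exact fun h => Nat.not_even_iff_odd.2 hFodd (even_iff_two_dvd.2 h)) hpow
  have hwl : w • (l : Ω) = l := congrArg Subtype.val hl
  refine ⟨l, hwl, ?_⟩
  rw [show w' = w * y by rw [hy, ← mul_assoc, Basic.inv_sq_one hw, one_mul], mul_smul,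
    show y • (l : Ω) = l from l.2, hwl]

/-- Each point is fixed by one involution only. -/
theorem eq_of_fixed (hp2 : p ≠ 2) (hC : OddCentralizers p G)
    (hdz : ¬ DefectZero.HasDefectZero p G) {r : ℕ} (hΩ : Nat.card Ω = p ^ r)
    (hnorm : ∀ a : G, a ≠ 1 → (∃ k : ℕ, orderOf a = p ^ k) → ∃ Q : Sylow p G,
      Subgroup.centralizer ({a} : Set G) ≤ Subgroup.normalizer ((Q : Subgroup G) : Set G))
    {s s' : G} (hs : orderOf s = 2) (hs' : orderOf s' = 2) {ω : Ω} (h : s • ω = ω)
    (h' : s' • ω = ω) : s = s' := by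
  obtain ⟨Q, hQ⟩ := (inverts_and_conj hC hdz).1 s hs
  refine eq_of_smul_eq_smul fun x : Ω => ?_
  obtain ⟨a, ha, rfl⟩ := exists_smul_eq hΩ Q ω x
  by_cases ha1 : a = 1
  · rw [ha1, one_smul, h, h']
  obtain ⟨b, hb, hb'⟩ := exists_smul_eq hΩ Q ω (s' • a • ω)
  rw [← hb', inverts_smul hQ ha h]
  have hne : a • ω ≠ b • ω := by
    intro hab
    have h3 := (existsUnique_fixed (Ω := Ω) hp2 hC hdz hΩ hs').unique (hb'.symm.trans hab.symm) h'
    exact ha1 (sylow_regular hΩ Q hQ.comm ha h3)
  -- a translate of `s` exchanges the same two points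
  obtain ⟨k, hk⟩ : ∃ k : ℕ, orderOf (a * b) = p ^ k := exists_orderOf_eq_pow Q.2 (mul_mem ha hb)
  obtain ⟨m, hm⟩ : ∃ m, 2 * m = p ^ k + 1 := by
    obtain ⟨j, hj⟩ := ((Fact.out : p.Prime).odd_of_ne_two hp2).pow (n := k)
    exact ⟨j + 1, by omega⟩
  set c := (a * b) ^ m with hc
  have hcQ : c ∈ (Q : Subgroup G) := pow_mem (mul_mem ha hb) m
  have hcc : c * c = a * b := by
    rw [hc, ← pow_add, ← two_mul, hm, pow_succ, ← hk, pow_orderOf_eq_one, one_mul]
  have hsw : (c * s * c⁻¹) • a • ω = b • ω := by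
    rw [mul_smul, mul_smul, ← mul_smul c⁻¹ a, inverts_smul hQ (mul_mem (inv_mem hcQ) ha) h,
      ← mul_smul]
    congr 1
    rw [mul_inv_rev, inv_inv, hQ.comm c hcQ _ (mul_mem (inv_mem ha) hcQ), mul_assoc, hcc,
      inv_mul_cancel_left]
  have hs2 : orderOf (c * s * c⁻¹) = 2 := by rw [Basic.orderOf_conj, hs]
  obtain ⟨l, hl, hl'⟩ := common_fixed hp2 hC hdz hΩ hnorm hs' hs2 hne hb'.symm hsw
  obtain rfl : l = ω := (existsUnique_fixed (Ω := Ω) hp2 hC hdz hΩ hs').unique hl h'
  have hcω : (c * s * c⁻¹) • c • l = c • l := by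
    rw [mul_smul, inv_smul_smul, mul_smul, h]
  have hc1 : c = 1 := sylow_regular hΩ Q hQ.comm hcQ
    ((existsUnique_fixed (Ω := Ω) hp2 hC hdz hΩ hs2).unique hcω hl')
  rw [hc1, mul_one, eq_comm, ← eq_inv_iff_mul_eq_one] at hcc
  rw [hcc, inv_inv]

end Action

end Cfsg.Agent.BlocksChars.OnePointInvolution
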