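import Cfsg.Agent.Lib.Blocks.PGroupSum
import Cfsg.Agent.Lib.Blocks.GroupAlgebra

/-!
# The sum of the coefficients at `p`-elements

Modulo the local ideal the functional "sum of the coefficients at the `p`-elements" commutes with
`p`-th powers, hence it kills every element that is nilpotent modulo the local ideal.
-/

set_option linter.style.haveILetI false

namespace Cfsg.Agent.BlocksChars.PElementSum

open Cfsg.Agent.Blocks

universe u

variable {G : Type u} [Group G] {p : ℕ} {M : Ideal Cfsg.AlgInt}

/-- The order of the element is a power of `p`. -/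
def IsPEl (p : ℕ) (g : G) : Prop := ∃ k : ℕ, g ^ p ^ k = 1

theorem isPEl_one : IsPEl p (1 : G) := ⟨0, one_pow _⟩

theorem isPEl_conj (g h : G) : IsPEl p (h * g * h⁻¹) ↔ IsPEl p g :=
  exists_congr fun k => by rw [conj_pow, conj_eq_one_iff]

theorem isPEl_pow_p (g : G) : IsPEl p (g ^ p) ↔ IsPEl p g := by
  constructor
  · rintro ⟨k, hk⟩
    exact ⟨k + 1, by rw [pow_succ', pow_mul]; exact hk⟩
  · rintro ⟨k, hk⟩
    exact ⟨k, by rw [← pow_mul, mul_comm, pow_mul, hk, one_pow]⟩

theorem isPEl_iff_orderOf [Fact p.Prime] (g : G) : IsPEl p g ↔ ∃ k, orderOf g = p ^ k := by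
  constructor
  · rintro ⟨k, hk⟩
    obtain ⟨m, -, hm⟩ := (Nat.dvd_prime_pow Fact.out).1 (orderOf_dvd_of_pow_eq_one hk)
    exact ⟨m, hm⟩
  · rintro ⟨k, hk⟩
    exact ⟨k, by rw [← hk, pow_orderOf_eq_one]⟩

theorem isPEl_rotate (l : List G) (k : ℕ) : IsPEl p (l.rotate k).prod ↔ IsPEl p l.prod := by
  rw [List.rotate_eq_drop_append_take_mod, List.prod_append]
  conv_rhs => rw [← List.take_append_drop (k % l.length) l, List.prod_append]
  rw [show (l.take (k % l.length)).prod * (l.drop (k % l.length)).prod =
    (l.take (k % l.length)).prod *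
      ((l.drop (k % l.length)).prod * (l.take (k % l.length)).prod) *
      ((l.take (k % l.length)).prod)⁻¹ by group, isPEl_conj]

variable [Fintype G]

/-- Expansion of a power in the group algebra. -/
theorem pow_eq_sum (b : MonoidAlgebra ℂ G) : ∀ n : ℕ, b ^ n =
    ∑ f : Fin n → G, MonoidAlgebra.single (List.ofFn f).prod (∏ i, b.coeff (f i))
  | 0 => by simp [MonoidAlgebra.one_def]
  | n + 1 => by
    rw [pow_succ', pow_eq_sum b n]
    conv_lhs => arg 1; rw [eq_sum_single b]
    rw [Finset.sum_mul_sum, ← (Fin.consEquiv fun _ : Fin (n + 1) => G).sum_comp,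
      Fintype.sum_prod_type]
    refine Finset.sum_congr rfl fun g _ => Finset.sum_congr rfl fun f _ => ?_
    rw [MonoidAlgebra.single_mul_single]
    simp [Fin.consEquiv, List.ofFn_succ, Fin.prod_univ_succ]

open scoped Classical in
/-- The sum of the coefficients at the `p`-elements. -/
noncomputable def pSum (p : ℕ) (b : MonoidAlgebra ℂ G) : ℂ :=
  ∑ g : G, if IsPEl p g then b.coeff g else 0

open scoped Classical in
theorem pSum_eq_sum {ι : Type*} [Fintype ι] (g : ι → G) (r : ι → ℂ) :
    pSum p (∑ i, MonoidAlgebra.single (g i) (r i)) =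
      ∑ i, if IsPEl p (g i) then r i else 0 := by
  simp only [pSum, MonoidAlgebra.coeff_sum, Finsupp.finsetSum_apply, MonoidAlgebra.coeff_single]
  calc _ = ∑ x : G, ∑ i, (if IsPEl p x then Finsupp.single (g i) (r i) x else 0) :=
        Finset.sum_congr rfl fun x _ => by split <;> simp
    _ = _ := by
      rw [Finset.sum_comm]
      refine Finset.sum_congr rfl fun i _ => ?_
      rw [Finset.sum_eq_single (g i)]
      · simp
      · intro x _ hne; simp [Finsupp.single_eq_of_ne hne]
      · simp

theorem ring_pSum (hM : Cfsg.IsPModular p M) {b : MonoidAlgebra ℂ G} (hb : IntEl M b) :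
    Cfsg.MemLocalRing M (pSum p b) := by
  classical
  exact ring_sum hM fun g _ => by split_ifs <;> [exact hb g; exact ring_zero hM]

theorem ideal_pSum (hM : Cfsg.IsPModular p M) {b : MonoidAlgebra ℂ G} (hb : IdealEl M b) :
    Cfsg.MemLocalIdeal M (pSum p b) := by
  classical
  exact ideal_sum hM fun g _ => by split_ifs <;> [exact hb g; exact ideal_zero hM]

theorem cong_sum_pow (hM : Cfsg.IsPModular p M) {ι : Type*} (s : Finset ι) {f : ι → ℂ}
    (hf : ∀ i ∈ s, Cfsg.MemLocalRing M (f i)) :
    Cong M ((∑ i ∈ s, f i) ^ p) (∑ i ∈ s, f i ^ p) := by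
  classical
  haveI := fact_prime_of_pm hM
  induction s using Finset.induction_on with
  | empty => simp [zero_pow hM.1.ne_zero]; exact cong_refl hM 0
  | insert a s ha ih =>
    rw [Finset.sum_insert ha, Finset.sum_insert ha]
    have hs : ∀ i ∈ s, Cfsg.MemLocalRing M (f i) := fun i hi => hf i (Finset.mem_insert_of_mem hi)
    refine cong_trans hM ?_ (cong_add hM (cong_refl hM (f a ^ p)) (ih hs))
    obtain ⟨t, ht⟩ : ∃ t, Cfsg.MemLocalRing M t ∧
        (f a + ∑ i ∈ s, f i) ^ p = f a ^ p + (∑ i ∈ s, f i) ^ p + (p : ℂ) * t := by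
      let R : Subring ℂ :=
        { carrier := {z | Cfsg.MemLocalRing M z}
          zero_mem' := ring_zero hM
          one_mem' := ring_one hM
          add_mem' := ring_add hM
          mul_mem' := ring_mul hM
          neg_mem' := ring_neg hM }
      set x : R := ⟨f a, hf a (Finset.mem_insert_self a s)⟩
      set y : R := ⟨∑ i ∈ s, f i, ring_sum hM hs⟩
      obtain ⟨r, hr⟩ := exists_add_pow_prime_eq hM.1 x y
      refine ⟨((x * y * r : R) : ℂ), (x * y * r).2, ?_⟩
      have h := congrArg (fun z : R => (z : ℂ)) hr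
      simp only [Subring.coe_add, SubmonoidClass.coe_pow, Subring.coe_mul, Subring.coe_natCast,
        x, y] at h ⊢
      rw [h]
      ring
    unfold Cong
    rw [ht.2, add_sub_cancel_left]
    exact ideal_mul_right hM (ideal_p hM) ht.1

/-- The action of the cyclic group on tuples by rotation. -/
@[reducible] def rotAction (n : ℕ) [NeZero n] : MulAction (Multiplicative (Fin n)) (Fin n → G) where
  smul a f := fun i => f (i + a.toAdd)
  one_smul f := funext fun i => by show f (i + 0) = f i; rw [add_zero]
  mul_smul a b f := funext fun i => by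
    show f (i + (a.toAdd + b.toAdd)) = f (i + a.toAdd + b.toAdd)
    rw [add_assoc]

theorem ofFn_rot {n : ℕ} [NeZero n] (a : Fin n) (f : Fin n → G) :
    List.ofFn (fun i => f (i + a)) = (List.ofFn f).rotate (a : ℕ) := by
  refine List.ext_getElem (by simp) fun i h1 h2 => ?_
  rw [List.getElem_ofFn, List.getElem_rotate, List.getElem_ofFn]
  exact congrArg f (Fin.ext (by simp [Fin.val_add]))

theorem pSum_pow_cong (hM : Cfsg.IsPModular p M) {b : MonoidAlgebra ℂ G} (hb : IntEl M b) :
    Cong M (pSum p (b ^ p)) (pSum p b ^ p) := by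
  classical
  haveI := fact_prime_of_pm hM
  haveI : NeZero p := ⟨hM.1.ne_zero⟩
  letI := rotAction (G := G) p
  have hP : IsPGroup p (Multiplicative (Fin p)) :=
    IsPGroup.of_card (n := 1) (by simp [Nat.card_eq_fintype_card])
  rw [pow_eq_sum, pSum_eq_sum]
  refine cong_trans hM (cong_sum_fixed hM hP
    (fun f : Fin p → G => if IsPEl p (List.ofFn f).prod then ∏ i, b.coeff (f i) else 0)
    (fun f => ?_) (fun a f => ?_) (Finset.univ.image fun g : G => fun _ : Fin p => g)
    (fun f => ?_)) ?_
  · show Cfsg.MemLocalRing M (ite _ _ _)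
    split_ifs
    · refine Finset.prod_induction _ (Cfsg.MemLocalRing M) (fun x y => ring_mul hM) (ring_one hM) ?_
      exact fun i _ => hb _
    · exact ring_zero hM
  · show (if IsPEl p (List.ofFn fun i => f (i + a.toAdd)).prod then
      ∏ i, b.coeff (f (i + a.toAdd)) else 0) = _
    rw [show (∏ i, b.coeff (f (i + a.toAdd))) = ∏ i, b.coeff (f i) from
      Equiv.prod_comp (Equiv.addRight a.toAdd) (fun i => b.coeff (f i)), ofFn_rot]
    exact if_congr (isPEl_rotate _ _) rfl rfl
  · simp only [Finset.mem_image, Finset.mem_univ, true_and]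
    constructor
    · rintro ⟨g, rfl⟩ u; rfl
    · intro h
      refine ⟨f 0, funext fun i => ?_⟩
      have : f (0 + i) = f 0 := congrFun (h (Multiplicative.ofAdd i)) 0
      rw [← this, zero_add]
  · rw [Finset.sum_image fun x _ y _ e => congrFun e (0 : Fin p)]
    refine cong_symm hM (cong_trans hM (cong_sum_pow hM _ fun g _ => ?_) (cong_of_eq hM ?_))
    · split_ifs <;> [exact hb g; exact ring_zero hM]
    · refine Finset.sum_congr rfl fun g _ => ?_
      simp only [List.ofFn_const, List.prod_replicate, Finset.prod_const, Finset.card_univ,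
        Fintype.card_fin, isPEl_pow_p]
      split_ifs <;> simp [zero_pow hM.1.ne_zero]

/-- An element which is nilpotent modulo the local ideal has `p`-element sum in the ideal. -/
theorem ideal_pSum_of_pow (hM : Cfsg.IsPModular p M) :
    ∀ (k : ℕ) {b : MonoidAlgebra ℂ G}, IntEl M b → IdealEl M (b ^ p ^ k) →
      Cfsg.MemLocalIdeal M (pSum p b)
  | 0, b, _, h => by rw [pow_zero, pow_one] at h; exact ideal_pSum hM h
  | k + 1, b, hb, h => by
    have h1 := ideal_pSum_of_pow hM k (intEl_pow hM hb p) (by rwa [← pow_mul, ← pow_succ'])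
    exact ideal_of_pow hM (ring_pSum hM hb) ((ideal_iff_of_cong hM (pSum_pow_cong hM hb)).1 h1)

end Cfsg.Agent.BlocksChars.PElementSum
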