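import Cfsg.Agent.BlockCharsA.PairLocal
import Cfsg.Agent.BlockCharsA.PairStab
import Cfsg.Agent.Lib.Blocks.CentralDefect

/-!
# `p`-elements stabilising a pair that carries its own defect group

If the block of `C(Q)` and the blocks of the intermediate groups of the stabiliser all have
defect groups inside `Q`, then the `p`-elements of the stabiliser lie in `Q C(Q)`.
-/

set_option linter.style.haveILetI false

namespace Cfsg.Agent.BlocksChars.PairStabIndex

open Cfsg.Agent.Blocks Cfsg.Agent.Characters Cfsg.Agent.BlockCharsA.BrauerPairs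
open Cfsg.Agent.BlockCharsA.PairLocal
open Cfsg.Agent.BlockCharsA

universe u

variable {G : Type u} [Group G] [Finite G] {p : ℕ} {M : Ideal Cfsg.AlgInt} {Q : Subgroup G}
  {e : Set (Cfsg.IrrCharacter (Subgroup.centralizer (Q : Set G)))}

theorem normalizer_le_sup : Subgroup.normalizer (Q : Set G) ≤
    Subgroup.normalizer ((Q ⊔ Subgroup.centralizer (Q : Set G) : Subgroup G) : Set G) :=
  (le_inf le_rfl (normalizer_le_normalizer_centralizer Q)).trans
    (Subgroup.normalizer_inf_normalizer_le_normalizer_sup Q (Subgroup.centralizer (Q : Set G)))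

/-- In `⟨g⟩ Q C(Q)` an element of order prime to `p` lies in `Q C(Q)`, and every conjugate of a
member of `Q C(Q)` too. -/
theorem regular_mem_sup (hp : p.Prime) {g : G} (hgN : g ∈ Subgroup.normalizer (Q : Set G))
    (hg : ∃ k : ℕ, orderOf g = p ^ k) {y : G}
    (hy : y ∈ Subgroup.zpowers g ⊔ (Q ⊔ Subgroup.centralizer (Q : Set G)))
    (hreg : ¬ p ∣ orderOf y) : y ∈ Q ⊔ Subgroup.centralizer (Q : Set G) := by
  set L := Q ⊔ Subgroup.centralizer (Q : Set G)
  set T := Subgroup.zpowers g ⊔ L
  have hTN : T ≤ Subgroup.normalizer (L : Set G) :=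
    sup_le (Subgroup.zpowers_le.2 (normalizer_le_sup hgN)) Subgroup.le_normalizer
  haveI := normal_subgroupOf hTN
  obtain ⟨k, hk⟩ := hg
  have hgT : g ∈ T := Subgroup.mem_sup_left (Subgroup.mem_zpowers g)
  have hy' : y ∈ ((Subgroup.zpowers g ⊔ L : Subgroup G) : Set G) := hy
  rw [Subgroup.coe_mul_of_left_le_normalizer_right (Subgroup.zpowers g) L
    (Subgroup.zpowers_le.2 (normalizer_le_sup hgN))] at hy'
  obtain ⟨a, ha, b, hb, hab⟩ := hy'
  obtain ⟨i, rfl⟩ := Subgroup.mem_zpowers_iff.1 ha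
  set π := QuotientGroup.mk' (L.subgroupOf T)
  have hyπ : π ⟨y, hy⟩ = π ⟨g, hgT⟩ ^ i := by
    rw [← map_zpow, show (⟨y, hy⟩ : T) = (⟨g, hgT⟩ : T) ^ i *
      ⟨b, Subgroup.mem_sup_right hb⟩ from Subtype.ext (by simp [← hab]), map_mul,
      show π ⟨b, Subgroup.mem_sup_right hb⟩ = 1 from
        (QuotientGroup.eq_one_iff _).2 (Subgroup.mem_subgroupOf.2 hb), mul_one]
  have h1 : π ⟨y, hy⟩ ^ p ^ k = 1 := by
    rw [hyπ, ← zpow_natCast, ← zpow_mul, mul_comm, zpow_mul, zpow_natCast, ← map_pow,
      show (⟨g, hgT⟩ : T) ^ p ^ k = 1 from Subtype.ext (by simp [← hk, pow_orderOf_eq_one]),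
      map_one, one_zpow]
  have h2 : π ⟨y, hy⟩ ^ orderOf y = 1 := by
    rw [← map_pow, show (⟨y, hy⟩ : T) ^ orderOf y = 1 from
      Subtype.ext (by simp [pow_orderOf_eq_one]), map_one]
  have h3 : π ⟨y, hy⟩ = 1 := orderOf_eq_one_iff.1 (Nat.eq_one_of_dvd_coprimes
    (Nat.Coprime.pow_left k (hp.coprime_iff_not_dvd.2 hreg))
    (orderOf_dvd_of_pow_eq_one h1) (orderOf_dvd_of_pow_eq_one h2))
  exact Subgroup.mem_subgroupOf.1 ((QuotientGroup.eq_one_iff _).1 h3)

theorem pElement_stab_mem (hM : Cfsg.IsPModular p M) (hQe : Cfsg.IsBrauerPair p M Q e)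
    (hdef : ∀ (T : Subgroup G), Q ⊔ Subgroup.centralizer (Q : Set G) ≤ T → T ≤ stab Q e →
      ∀ F : Set (Cfsg.IrrCharacter T), Cfsg.IsPBlock M F →
        (∀ t : T, Cfsg.blockCoeff F t =
          (elF (Subgroup.centralizer (Q : Set G)) e).coeff (t : G)) →
        Cfsg.IsDefectGroup p M F (Q.subgroupOf T))
    {g : G} (hg : g ∈ stab Q e) (hgo : ∃ k : ℕ, orderOf g = p ^ k) :
    g ∈ Q ⊔ Subgroup.centralizer (Q : Set G) := by
  classical
  haveI := fact_prime_of_pm hM
  haveI := hM.2.1
  by_contra hgL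
  set L := Q ⊔ (Subgroup.centralizer (Q : Set G)) with hLdef
  set T := Subgroup.zpowers g ⊔ L with hTdef
  have hgN : g ∈ Subgroup.normalizer (Q : Set G) := stab_le_normalizer hg
  have hLS : L ≤ stab Q e := sup_le le_stab centralizer_le_stab
  have hTS : T ≤ stab Q e := sup_le (Subgroup.zpowers_le.2 hg) hLS
  have hLT : L ≤ T := le_sup_right
  have hCT : (Subgroup.centralizer (Q : Set G)) ≤ T := le_sup_right.trans hLT
  have hQT : Q ≤ T := le_sup_left.trans hLT
  have hTC : T ≤ Subgroup.normalizer ((Subgroup.centralizer (Q : Set G)) : Set G) :=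
    (hTS.trans stab_le_normalizer).trans (normalizer_le_normalizer_centralizer Q)
  have hTL : T ≤ Subgroup.normalizer (L : Set G) :=
    (hTS.trans stab_le_normalizer).trans normalizer_le_sup
  obtain ⟨F, hF, hFX⟩ := BlockCharsA.PairStab.exists_stab_block' hM hQe.1 hQe.2 T hCT hQT
    (hTS.trans stab_le_normalizer) fun x hx => (mem_stab.1 (hTS hx)).2
  obtain ⟨c, hc, hcs⟩ := isDefectGroup_iff.1 (hdef T hLT hTS F hF fun t => by
    rw [← coeff_blockIdem, hFX, coeff_restrEl])
  have hcC : (c : G) ∈ (Subgroup.centralizer (Q : Set G)) := by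
    by_contra h
    refine hc.2.1 ?_
    rw [← coeff_blockIdem, hFX, coeff_restrEl, elF, coeff_inclEl_notMem _ _ h]
    exact ideal_zero hM
  -- the centraliser of the defect class lies in `Q (Subgroup.centralizer (Q : Set G))(Q)`
  have hcent : ∀ u : T, u * c = c * u → (u : G) ∈ L := by
    intro u hu
    obtain ⟨x, y, hxy, hcomm, hxo, hyo⟩ := exists_ppart hM.1 u
    have hucent : u ∈ Subgroup.centralizer ({c} : Set T) :=
      Subgroup.mem_centralizer_singleton_iff.2 hu
    have hxc : x ∈ Subgroup.centralizer ({c} : Set T) := by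
      have h2 : Cfsg.IsPPart p u (c * x * c⁻¹) := by
        refine ⟨c * y * c⁻¹, ?_, hcomm.map (MulAut.conj c).toMonoidHom, ?_, ?_⟩
        · calc c * x * c⁻¹ * (c * y * c⁻¹) = c * (x * y) * c⁻¹ := by group
            _ = u := by rw [hxy, ← hu, mul_inv_cancel_right]
        · obtain ⟨k, hk⟩ := hxo
          exact ⟨k, by rw [← hk]; exact MulEquiv.orderOf_eq (MulAut.conj c) x⟩
        · rw [show orderOf (c * y * c⁻¹) = orderOf y from MulEquiv.orderOf_eq (MulAut.conj c) y]
          exact hyo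
      exact Subgroup.mem_centralizer_singleton_iff.2
        (mul_inv_eq_iff_eq_mul.1 (ppart_unique hM.1 h2 ⟨y, hxy, hcomm, hxo, hyo⟩)).symm
    have hzp : IsPGroup p (Subgroup.zpowers x) := zpowers_isPGroup hxo
    obtain ⟨w, hw⟩ := exists_conj_le_of_meets hzp hcs
      ⟨c, IsConj.refl c, mem_centralizer_zpowers.2 (Subgroup.mem_centralizer_singleton_iff.2
        (Subgroup.mem_centralizer_singleton_iff.1 hxc).symm)⟩
    have hxL : (x : G) ∈ L := by
      have h3 := hw (Subgroup.mem_zpowers x)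
      rw [mem_map_conj_iff, Subgroup.mem_subgroupOf] at h3
      have h4 : ((w : T) : G)⁻¹ * x * w ∈ L ∨ (w : G) * x * (w : G)⁻¹ ∈ L := by
        first
          | exact Or.inl (Subgroup.mem_sup_left (by simpa using h3))
          | exact Or.inr (Subgroup.mem_sup_left (by simpa using h3))
      rcases h4 with h4 | h4
      · exact (Subgroup.mem_normalizer_iff.1 (hTL (T.inv_mem w.2)) x).2 (by simpa using h4)
      · exact (Subgroup.mem_normalizer_iff.1 (hTL w.2) x).2 h4
    have hyL : (y : G) ∈ L := regular_mem_sup hM.1 hgN hgo y.2 (by rwa [Subgroup.orderOf_coe])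
    rw [← hxy, Subgroup.coe_mul]
    exact L.mul_mem hxL hyL
  -- the `p`-group acting on the classes of `(Subgroup.centralizer (Q : Set G))`
  set R := Q ⊔ Subgroup.zpowers g with hRdef
  have hRT : R ≤ T := sup_le hQT le_sup_left
  have hRp : IsPGroup p R := by
    rw [hRdef, sup_comm]
    exact IsPGroup.to_sup_of_normal_right' (zpowers_isPGroup hgo) hQe.1 (Subgroup.zpowers_le.2 hgN)
  let σ : R → ((Subgroup.centralizer (Q : Set G)) ≃* (Subgroup.centralizer (Q : Set G))) := fun r => conjK (hTC (hRT r.2))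
  have hσ : ∀ (r : R) (k : (Subgroup.centralizer (Q : Set G))), (σ r k : G) = (r : G) * k * (r : G)⁻¹ := fun r k => rfl
  letI : MulAction R (ConjClasses (Subgroup.centralizer (Q : Set G))) :=
    { smul := fun r K => ConjClasses.map (σ r).toMonoidHom K
      one_smul := fun K => by
        obtain ⟨k, rfl⟩ := ConjClasses.mk_surjective K
        exact congrArg ConjClasses.mk (Subtype.ext (by
          show ((1 : R) : G) * k * ((1 : R) : G)⁻¹ = k
          simp))
      mul_smul := fun r t K => by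
        obtain ⟨k, rfl⟩ := ConjClasses.mk_surjective K
        exact congrArg ConjClasses.mk (Subtype.ext (by
          show ((r * t : R) : G) * k * ((r * t : R) : G)⁻¹ =
            (r : G) * ((t : G) * k * (t : G)⁻¹) * (r : G)⁻¹
          simp [mul_assoc])) }
  let P : (Subgroup.centralizer (Q : Set G)) → Prop := fun k => ∃ x ∈ T, x * (c : G) * x⁻¹ = (k : G)
  have hPconj : ∀ k k' : (Subgroup.centralizer (Q : Set G)), IsConj k k' → P k → P k' := by
    rintro k k' hkk ⟨x, hx, hxk⟩
    obtain ⟨d, hd⟩ := isConj_iff.1 hkk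
    refine ⟨(d : G) * x, T.mul_mem (hCT d.2) hx, ?_⟩
    rw [← hd, Subgroup.coe_mul, Subgroup.coe_mul, Subgroup.coe_inv, ← hxk]
    group
  have hPout : ∀ k : (Subgroup.centralizer (Q : Set G)), P (ConjClasses.mk k).out ↔ P k := fun k =>
    have h : IsConj (ConjClasses.mk k).out k :=
      ConjClasses.mk_eq_mk_iff_isConj.1 (Quotient.out_eq _)
    ⟨hPconj _ _ h, hPconj _ _ h.symm⟩
  have hPσ : ∀ (r : R) (k : (Subgroup.centralizer (Q : Set G))), P k → P (σ r k) := by
    rintro r k ⟨x, hx, hxk⟩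
    exact ⟨(r : G) * x, T.mul_mem (hRT r.2) hx, by rw [hσ, ← hxk]; group⟩
  haveI : Fintype (ConjClasses (Subgroup.centralizer (Q : Set G))) := Fintype.ofFinite _
  let w : MonoidAlgebra ℂ (Subgroup.centralizer (Q : Set G)) := ofFun fun k => if P k then 1 else 0
  have hwc : IsCentralEl w := central_ofFun fun k d => by
    have h : IsConj k (d * k * d⁻¹) := isConj_iff.2 ⟨d, rfl⟩
    exact if_congr ⟨hPconj _ _ h.symm, hPconj _ _ h⟩ rfl rfl
  have hwi : IntEl M w := fun k => by
    simp only [w, coeff_ofFun]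
    split_ifs <;> [exact ring_one hM; exact ring_zero hM]
  have hwI : ∀ ξ ∈ e, Cfsg.MemLocalIdeal M (omega (ξ : (Subgroup.centralizer (Q : Set G)) → ℂ) w) := by
    intro ξ hξ
    let F' := Cfsg.AlgInt ⧸ M
    letI : Field F' := Ideal.Quotient.field M
    let lift : (Subgroup.centralizer (Q : Set G)) → Cfsg.AlgInt := fun k =>
      ⟨Cfsg.centralChar (ξ : (Subgroup.centralizer (Q : Set G)) → ℂ) k, centralChar_isIntegral ξ k⟩
    let f : ConjClasses (Subgroup.centralizer (Q : Set G)) → F' := fun K =>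
      if P K.out then Ideal.Quotient.mk M (lift K.out) else 0
    have hliftconj : ∀ k k' : (Subgroup.centralizer (Q : Set G)), IsConj k k' →
        Ideal.Quotient.mk M (lift k) = Ideal.Quotient.mk M (lift k') := by
      intro k k' h
      refine congrArg _ (Subtype.ext ?_)
      show Cfsg.centralChar _ k = Cfsg.centralChar _ k'
      rw [← omega_classSum (irr_isClassFunction ξ), ← omega_classSum (irr_isClassFunction ξ)]
      congr 1
      refine el_ext fun z => ?_
      rw [coeff_classSum, coeff_classSum]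
      exact if_congr ⟨fun hh => h.symm.trans hh, fun hh => h.trans hh⟩ rfl rfl
    have hinv : ∀ (r : R) (K : ConjClasses (Subgroup.centralizer (Q : Set G))), f (r • K) = f K := by
      intro r K
      obtain ⟨k, rfl⟩ := ConjClasses.mk_surjective K
      show f (ConjClasses.mk (σ r k)) = _
      have hiff : P (σ r k) ↔ P k := by
        refine ⟨?_, hPσ r k⟩
        rintro ⟨x, hx, hxk⟩
        refine ⟨(r : G)⁻¹ * x, T.mul_mem (T.inv_mem (hRT r.2)) hx, ?_⟩
        rw [hσ] at hxk
        calc (r : G)⁻¹ * x * c * ((r : G)⁻¹ * x)⁻¹ = (r : G)⁻¹ * (x * c * x⁻¹) * (r : G) := by group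
          _ = k := by rw [hxk]; group
      refine if_congr ((hPout _).trans (hiff.trans (hPout k).symm)) ?_ rfl
      rw [hliftconj _ (σ r k) (ConjClasses.mk_eq_mk_iff_isConj.1 (Quotient.out_eq _)),
        hliftconj _ k (ConjClasses.mk_eq_mk_iff_isConj.1 (Quotient.out_eq _))]
      refine Ideal.Quotient.eq.2 ((ideal_coe_iff hM _).1 ?_)
      show Cong M (Cfsg.centralChar (ξ : (Subgroup.centralizer (Q : Set G)) → ℂ) (σ r k)) (Cfsg.centralChar (ξ : (Subgroup.centralizer (Q : Set G)) → ℂ) k)
      rw [← centralChar_comp]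
      have hmem : irrAutEquiv (σ r) ξ ∈ e := by
        have h := (stabilizes_iff (hTC (hRT r.2)) e).1 (mem_stab.1 (hTS (hRT r.2))).2
        exact (Set.ext_iff.1 h ξ).2 hξ
      exact sameBlock_of_mem hM hQe.2 hmem hξ k
    obtain ⟨a, ha⟩ := exists_sum_eq_fixed_add hRp f hinv
      (Finset.univ.filter fun K => ∀ r : R, r • K = K) (fun K => by simp)
    rw [Finset.sum_eq_zero (s := Finset.univ.filter _), zero_add,
      show p • a = (0 : F') by
        rw [nsmul_eq_mul, ← map_natCast (Ideal.Quotient.mk M),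
          Ideal.Quotient.eq_zero_iff_mem.2 hM.2.2, zero_mul]] at ha
    · have hω : omega (ξ : (Subgroup.centralizer (Q : Set G)) → ℂ) w =
          ((∑ K : ConjClasses (Subgroup.centralizer (Q : Set G)), if P K.out then lift K.out else 0 : Cfsg.AlgInt) : ℂ) := by
        conv_lhs => rw [central_eq_sum hwc, omega_sum]
        rw [AddSubmonoidClass.coe_finsetSum]
        refine Finset.sum_congr rfl fun K _ => ?_
        rw [omega_smul, omega_classSum (irr_isClassFunction ξ)]
        simp only [w, coeff_ofFun]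
        split_ifs <;> simp [lift]
      rw [hω, ideal_coe_iff hM, ← Ideal.Quotient.eq_zero_iff_mem, map_sum, ← ha]
      exact Finset.sum_congr rfl fun K _ => by simp only [f]; split <;> simp
    · intro K hK
      simp only [f]
      rw [if_neg]
      rintro ⟨x, hx, hxk⟩
      have hfix := (Finset.mem_filter.1 hK).2 ⟨g, Subgroup.mem_sup_right (Subgroup.mem_zpowers g)⟩
      set r : R := ⟨g, Subgroup.mem_sup_right (Subgroup.mem_zpowers g)⟩
      have hmk : ConjClasses.mk (σ r K.out) = ConjClasses.mk K.out := by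
        conv_rhs => rw [show ConjClasses.mk K.out = K from Quotient.out_eq K, ← hfix]
        conv_rhs => rw [show K = ConjClasses.mk K.out from (Quotient.out_eq K).symm]
        rfl
      obtain ⟨d, hd⟩ := isConj_iff.1 (ConjClasses.mk_eq_mk_iff_isConj.1 hmk)
      have hd' := congrArg Subtype.val hd
      simp only [Subgroup.coe_mul, Subgroup.coe_inv, hσ] at hd'
      have hgT : g ∈ T := Subgroup.mem_sup_left (Subgroup.mem_zpowers g)
      set u : G := x⁻¹ * ((d : G) * g) * x with hu
      have huT : u ∈ T := T.mul_mem (T.mul_mem (T.inv_mem hx) (T.mul_mem (hCT d.2) hgT)) hx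
      have huc : (⟨u, huT⟩ : T) * c = c * ⟨u, huT⟩ := by
        refine Subtype.ext ?_
        show u * (c : G) = c * u
        have hk : x⁻¹ * (K.out : G) * x = (c : G) := by rw [← hxk]; group
        rw [← mul_inv_eq_iff_eq_mul, hu]
        calc x⁻¹ * ((d : G) * g) * x * c * (x⁻¹ * ((d : G) * g) * x)⁻¹
            = x⁻¹ * ((d : G) * (g * (x * c * x⁻¹) * g⁻¹) * (d : G)⁻¹) * x := by group
          _ = x⁻¹ * (K.out : G) * x := by rw [hxk]; simp only [r] at hd'; rw [hd']
          _ = c := hk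
      have huL := hcent ⟨u, huT⟩ huc
      have hdg : (d : G) * g ∈ L :=
        (Subgroup.mem_normalizer_iff.1 (hTL (T.inv_mem hx)) _).2 (by
          rw [inv_inv, ← hu]; exact huL)
      exact hgL (by simpa using L.mul_mem (L.inv_mem (Subgroup.mem_sup_right d.2)) hdg)
  -- nilpotency on the block
  obtain ⟨θ, hθ⟩ := block_nonempty hM hQe.2
  obtain ⟨n₀, hn₀⟩ := exists_pow_mul_blockIdem hM hQe.2 hθ hwc hwi (hwI θ hθ)
  set v := blockIdem e * w with hv
  have hsupp : ∀ (x : MonoidAlgebra ℂ (Subgroup.centralizer (Q : Set G))), ∀ z ∉ T, (inclEl (Subgroup.centralizer (Q : Set G)) x).coeff z = 0 := fun x z hz =>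
    coeff_inclEl_notMem _ _ fun h => hz (hCT h)
  have hz : restrEl T (inclEl (Subgroup.centralizer (Q : Set G)) w) = classSum c := by
    refine el_ext fun t => ?_
    rw [coeff_restrEl, coeff_classSum]
    by_cases htC : (t : G) ∈ (Subgroup.centralizer (Q : Set G))
    · have h1 := coeff_inclEl_mem (Subgroup.centralizer (Q : Set G)) w ⟨t, htC⟩
      rw [h1]
      simp only [w, coeff_ofFun]
      refine if_congr ⟨?_, ?_⟩ rfl rfl
      · rintro ⟨x, hx, hxt⟩
        exact isConj_iff.2 ⟨⟨x, hx⟩, Subtype.ext hxt⟩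
      · intro h
        obtain ⟨x, hx⟩ := isConj_iff.1 h
        exact ⟨x, x.2, by show (x : G) * (c : G) * (x : G)⁻¹ = (t : G); rw [← hx]; rfl⟩
    · rw [coeff_inclEl_notMem _ _ htC, if_neg]
      intro h
      obtain ⟨x, hx⟩ := isConj_iff.1 h
      refine htC ?_
      rw [← hx]
      exact (Subgroup.mem_normalizer_iff.1 (hTC x.2) _).1 hcC
  have hprod : blockIdem F * classSum c = restrEl T (inclEl (Subgroup.centralizer (Q : Set G)) v) := by
    rw [hFX, ← hz, elF, ← restrEl_mul T (hsupp _), hv, map_mul]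
  have hpow : ∀ n : ℕ, (blockIdem F * classSum c) ^ n = restrEl T (inclEl (Subgroup.centralizer (Q : Set G)) (v ^ n)) := by
    intro n
    induction n with
    | zero => rw [pow_zero, pow_zero, map_one, restrEl_one]
    | succ n ih => rw [pow_succ, ih, hprod, ← restrEl_mul T (hsupp _), ← map_mul, pow_succ]
  obtain ⟨ψ, hψ⟩ := block_nonempty hM hF
  have hFc := central_blockIdem F
  have hzc := central_classSum c
  apply hc.2.2 ψ hψ
  refine ideal_of_pow hM (centralChar_ring hM ψ c) (n := n₀) ?_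
  rw [← omega_classSum (irr_isClassFunction ψ),
    ← one_mul (omega (ψ : T → ℂ) (classSum c)), ← omega_blockIdem_mem hψ,
    ← omega_mul ψ hFc, ← omega_pow ψ (central_mul hFc hzc)]
  refine omega_ideal hM ψ (central_pow (central_mul hFc hzc) _) fun t => ?_
  rw [hpow, coeff_restrEl]
  by_cases htC : (t : G) ∈ (Subgroup.centralizer (Q : Set G))
  · rw [coeff_inclEl_mem (Subgroup.centralizer (Q : Set G)) _ ⟨t, htC⟩]; exact hn₀ n₀ le_rfl _
  · rw [coeff_inclEl_notMem _ _ htC]; exact ideal_zero hM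

end Cfsg.Agent.BlocksChars.PairStabIndex
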