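import Mathlib
import Cfsg.Prelude.Def_OddOrderLocal
import Cfsg.Agent.BlockCharsA.PairCorr
import Cfsg.Agent.Lib.Blocks.Covering
import Cfsg.Agent.Lib.Cores.Basic

/-!
# Brauer pairs and normal subgroups of order prime to `p` in the kernel of a block
-/

set_option linter.style.haveILetI false
set_option linter.unusedSectionVars false

namespace Cfsg.Agent.BlocksChars.PiKernel

open Cfsg.Agent.Blocks Cfsg.Agent.Characters Cfsg.Agent.BlockCharsA.BrauerPairs
open Cfsg.Agent.BlockCharsA.PairStab Cfsg.Agent.BlockCharsA.PairConj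
open Cfsg.Agent.BlockCharsA.Transport Cfsg.Agent.BlockCharsA.PairReceptive
open Cfsg.Agent.BlockCharsA.PairCorr Cfsg.Agent.BlockCharsA.PairLocal Cfsg.Agent.Cores

variable {G : Type*} [Group G] [Finite G] {p : ℕ} {M : Ideal Cfsg.AlgInt}

/-! ### The averaging idempotent -/

/-- The average of a subgroup in the group algebra. -/
noncomputable def avgEl (K : Subgroup G) : MonoidAlgebra ℂ G :=
  ofFun fun g => by classical exact if g ∈ K then (Nat.card K : ℂ)⁻¹ else 0

theorem coeff_avgEl (K : Subgroup G) (g : G) [Decidable (g ∈ K)] :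
    (avgEl K).coeff g = if g ∈ K then (Nat.card K : ℂ)⁻¹ else 0 := by
  rw [avgEl, coeff_ofFun]
  split <;> simp_all

theorem natCast_ne_ideal (hM : Cfsg.IsPModular p M) {n : ℕ} (h : ¬ p ∣ n) :
    ¬ Cfsg.MemLocalIdeal M (n : ℂ) := fun h' => h ((ideal_natCast_iff hM n).1 h')

theorem intEl_avgEl (hM : Cfsg.IsPModular p M) {K : Subgroup G} (hK : ¬ p ∣ Nat.card K) :
    IntEl M (avgEl K) := fun g => by
  classical
  rw [coeff_avgEl]
  split
  · exact ring_inv hM (ring_natCast hM _) (natCast_ne_ideal hM hK)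
  · exact ring_zero hM

theorem invBy_avgEl {K : Subgroup G} {S : Set G}
    (h : S ⊆ (Subgroup.normalizer (K : Set G) : Set G)) : InvBy S (avgEl K) := fun u hu g => by
  classical
  rw [coeff_avgEl, coeff_avgEl]
  exact if_congr ((Subgroup.mem_normalizer_iff.1 (h hu) g).symm) rfl rfl

theorem omega_avgEl (K : Subgroup G) [K.Normal] (χ : Cfsg.IrrCharacter G) :
    ((∀ k ∈ K, (χ : G → ℂ) k = (χ : G → ℂ) 1) → omega (χ : G → ℂ) (avgEl K) = 1) ∧
    (¬ (∀ k ∈ K, (χ : G → ℂ) k = (χ : G → ℂ) 1) → omega (χ : G → ℂ) (avgEl K) = 0) := by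
  classical
  haveI := Fintype.ofFinite G
  have hsum : omega (χ : G → ℂ) (avgEl K) =
      Cfsg.classInner (fun n : K => (χ : G → ℂ) n) (trivIrr K : K → ℂ) / (χ : G → ℂ) 1 := by
    rw [omega, evalChar_eq_sum, classInner_def, Finset.mul_sum]
    congr 1
    simp only [coeff_avgEl, ite_mul, zero_mul, trivIrr, map_one, mul_one]
    rw [← Finset.sum_filter]
    exact Finset.sum_subtype (p := fun g => g ∈ K) _ (fun g => by simp) _
  refine ⟨fun h => ?_, fun h => ?_⟩
  · rw [hsum, show (fun n : K => (χ : G → ℂ) n) = (χ : G → ℂ) 1 • (trivIrr K : K → ℂ) from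
      funext fun n => by simp [trivIrr, h n n.2], classInner_smul_left, classInner_irr,
      if_pos rfl, mul_one, div_self (irr_one_ne_zero χ.2)]
  · rw [hsum, div_eq_zero_iff]
    exact Or.inl (by_contra fun hne => h ((constituent_trivIrr_iff χ).1 hne))

theorem central_avgEl (K : Subgroup G) [K.Normal] : IsCentralEl (avgEl K) := fun g h =>
  invBy_avgEl (S := Set.univ) (fun u _ => by
    rw [Subgroup.normalizer_eq_top]; trivial) h trivial g

/-- Every member is trivial on the part of `K` inside the subgroup. -/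
def Ker (L K : Subgroup G) (f : Set (Cfsg.IrrCharacter L)) : Prop :=
  ∀ ξ ∈ f, ∀ c : L, (c : G) ∈ K → (ξ : L → ℂ) c = (ξ : L → ℂ) 1

theorem ker_of_member (hM : Cfsg.IsPModular p M) {L K : Subgroup G}
    (hL : L ≤ Subgroup.normalizer (K : Set G)) (hK : ¬ p ∣ Nat.card K)
    {f : Set (Cfsg.IrrCharacter L)} (hf : Cfsg.IsPBlock M f) {ξ : Cfsg.IrrCharacter L}
    (hξ : ξ ∈ f) (h : ∀ c : L, (c : G) ∈ K → (ξ : L → ℂ) c = (ξ : L → ℂ) 1) : Ker L K f := by
  haveI : (K.subgroupOf L).Normal := Subgroup.normal_subgroupOf_of_le_normalizer hL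
  intro η hη c hc
  refine trivial_on_transfer (N := K.subgroupOf L) hM (fun hd => hK ?_)
    (sameBlock_of_mem hM hf hξ hη) (fun n hn => h n hn) c hc
  refine hd.trans ?_
  rw [← Subgroup.card_map_of_injective L.subtype_injective]
  exact Subgroup.card_dvd_of_le (by
    rw [Subgroup.subgroupOf_map_subtype]; exact inf_le_left)

theorem omega_br_avgEl (P : Subgroup G) {K : Subgroup G}
    (hC : Subgroup.centralizer (P : Set G) ≤ Subgroup.normalizer (K : Set G))
    (ξ : Cfsg.IrrCharacter (Subgroup.centralizer (P : Set G))) :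
    omega (ξ : Subgroup.centralizer (P : Set G) → ℂ) (br P (avgEl K)) =
      ((Nat.card (K.subgroupOf (Subgroup.centralizer (P : Set G))) : ℂ) / Nat.card K) *
        omega (ξ : Subgroup.centralizer (P : Set G) → ℂ)
          (avgEl (K.subgroupOf (Subgroup.centralizer (P : Set G)))) := by
  classical
  rw [← omega_smul]
  refine congrArg (omega _) (el_ext fun c => ?_)
  rw [br, coeff_restrEl, coeff_avgEl, MonoidAlgebra.coeff_smul, Finsupp.smul_apply, coeff_avgEl,
    smul_eq_mul]
  by_cases hc : (c : G) ∈ K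
  · rw [if_pos hc, if_pos (Subgroup.mem_subgroupOf.2 hc), div_mul_eq_mul_div,
      mul_inv_cancel₀ (Nat.cast_ne_zero.2 Nat.card_pos.ne'), one_div]
  · rw [if_neg hc, if_neg (fun h => hc (Subgroup.mem_subgroupOf.1 h)), mul_zero]

theorem ker_iff_omega_br (hM : Cfsg.IsPModular p M) (P : Subgroup G) {K : Subgroup G}
    (hC : Subgroup.centralizer (P : Set G) ≤ Subgroup.normalizer (K : Set G))
    (hK : ¬ p ∣ Nat.card K) {e : Set (Cfsg.IrrCharacter (Subgroup.centralizer (P : Set G)))}
    (he : Cfsg.IsPBlock M e) {ξ : Cfsg.IrrCharacter (Subgroup.centralizer (P : Set G))}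
    (hξ : ξ ∈ e) :
    Ker (Subgroup.centralizer (P : Set G)) K e ↔
      ¬ Cfsg.MemLocalIdeal M
        (omega (ξ : Subgroup.centralizer (P : Set G) → ℂ) (br P (avgEl K))) := by
  rw [omega_br_avgEl P hC]
  haveI : (K.subgroupOf (Subgroup.centralizer (P : Set G))).Normal := Subgroup.normal_subgroupOf_of_le_normalizer hC
  have hd : Nat.card (K.subgroupOf (Subgroup.centralizer (P : Set G))) ∣ Nat.card K := by
    rw [← Subgroup.card_map_of_injective (Subgroup.subtype_injective (Subgroup.centralizer (P : Set G)))]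
    exact Subgroup.card_dvd_of_le (by rw [Subgroup.subgroupOf_map_subtype]; exact inf_le_left)
  refine ⟨fun h => ?_, fun h => ?_⟩
  · rw [(omega_avgEl _ ξ).1 fun c hc => h ξ hξ c (Subgroup.mem_subgroupOf.1 hc), mul_one]
    intro h'
    have h2 := ideal_mul_right hM h' (ring_natCast hM (Nat.card K))
    rw [div_mul_cancel₀ _ (Nat.cast_ne_zero.2 Nat.card_pos.ne')] at h2
    exact natCast_ne_ideal hM (fun hp => hK (hp.trans hd)) h2
  · refine ker_of_member hM hC hK he hξ fun c hc => ?_
    by_contra hne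
    refine h ?_
    rw [(omega_avgEl _ ξ).2 fun hall => hne (hall c (Subgroup.mem_subgroupOf.2 hc)), mul_zero]
    exact ideal_zero hM

/-! ### The central character of a block read at a pair -/

/-- At a pair of `B`, the Brauer map gives the central character of `B`. -/
theorem omega_br_of_pair (hM : Cfsg.IsPModular p M) {P : Subgroup G}
    {B : Set (Cfsg.IrrCharacter G)}
    {e : Set (Cfsg.IrrCharacter (Subgroup.centralizer (P : Set G)))}
    (hBe : Cfsg.IsBrauerPairOf p M B P e)
    {ξ : Cfsg.IrrCharacter (Subgroup.centralizer (P : Set G))} (hξ : ξ ∈ e)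
    {χ : Cfsg.IrrCharacter G} (hχ : χ ∈ B) {z : MonoidAlgebra ℂ G} (hz : IsCentralEl z)
    (hi : IntEl M z) :
    Cong M (omega (ξ : Subgroup.centralizer (P : Set G) → ℂ) (br P z)) (omega (χ : G → ℂ) z) := by
  classical
  have hinv : ∀ {w : MonoidAlgebra ℂ G} (_ : IsCentralEl w) (S : Set G), InvBy S w :=
    fun hw _ u _ g => hw g u
  let φ : MonoidAlgebra ℂ G →ₗ[ℂ] ℂ :=
    { toFun := fun w => omega (ξ : Subgroup.centralizer (P : Set G) → ℂ) (br P w)
      map_add' := fun a b => by simp only [br, restrEl_add, omega_add]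
      map_smul' := fun c a => by simp only [br, restrEl_smul, omega_smul, RingHom.id_apply,
        smul_eq_mul] }
  obtain ⟨B', hB', hφ⟩ := exists_block_of_functional hM φ
    (fun w hw hwi => omega_br_ring hM ξ hwi (hinv hw _))
    (fun w hw hwi => omega_ideal hM ξ (central_br (hinv hw _))
      fun k => by rw [br, coeff_restrEl]; exact hwi _)
    (by
      show Cong M (omega (ξ : Subgroup.centralizer (P : Set G) → ℂ) (br P 1)) 1
      rw [br, restrEl_one, omega_one (irr_one_ne_zero ξ.2)]; exact cong_refl hM _)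
    (fun x y hx hxi hy hyi => omega_br_mul hM hBe.1.1 ξ hxi hyi (hinv hx _) (hinv hy _)
      (hinv hx _) (hinv hy _) (hinv (central_mul hx hy) _))
  obtain ⟨χ', hχ'⟩ := block_nonempty hM hB'
  have h1 := hBe.2.2 ξ hξ
  rw [brauerOmega_block] at h1
  have h2 : Cong M (omega (ξ : Subgroup.centralizer (P : Set G) → ℂ) (br P (blockIdem B)))
      (omega (χ' : G → ℂ) (blockIdem B)) :=
    hφ χ' hχ' _ (central_blockIdem B) (intEl_blockIdem hM hBe.2.1)
  have hmem : χ' ∈ B := by
    by_contra hn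
    rw [omega_blockIdem_notMem hn] at h2
    exact not_cong_zero_one hM (cong_trans hM (cong_symm hM h2) h1)
  rw [← block_eq_of_mem hM hB' hBe.2.1 hχ' hmem] at hχ
  exact hφ χ hχ z hz hi

/-- A normal subgroup of order prime to `p` lies in the kernel of a block exactly when it does so
at a pair of the block. -/
theorem ker_block_iff (hM : Cfsg.IsPModular p M) {P : Subgroup G}
    {B : Set (Cfsg.IrrCharacter G)}
    {e : Set (Cfsg.IrrCharacter (Subgroup.centralizer (P : Set G)))}
    (hBe : Cfsg.IsBrauerPairOf p M B P e) (K : Subgroup G) [K.Normal] (hK : ¬ p ∣ Nat.card K) :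
    (K : Set G) ⊆ Cfsg.blockKer B ↔ Ker (Subgroup.centralizer (P : Set G)) K e := by
  obtain ⟨χ, hχ⟩ := block_nonempty hM hBe.2.1
  obtain ⟨ξ, hξ⟩ := block_nonempty hM hBe.1.2
  have hC : Subgroup.centralizer (P : Set G) ≤ Subgroup.normalizer (K : Set G) := by
    rw [Subgroup.normalizer_eq_top]; exact le_top
  rw [ker_iff_omega_br hM P hC hK hBe.1.2 hξ,
    ideal_iff_of_cong hM (omega_br_of_pair hM hBe hξ hχ (central_avgEl K) (intEl_avgEl hM hK))]
  by_cases h : ∀ k ∈ K, (χ : G → ℂ) k = (χ : G → ℂ) 1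
  · rw [(omega_avgEl K χ).1 h]
    exact iff_of_true (fun k hk ψ hψ =>
      trivial_on_transfer hM hK (sameBlock_of_mem hM hBe.2.1 hχ hψ) h k hk) (not_ideal_one hM)
  · rw [(omega_avgEl K χ).2 h]
    exact iff_of_false (fun hs => h fun k hk => hs hk χ hχ) (fun hn => hn (ideal_zero hM))

/-- One normal step of pairs: kernels correspond. -/
theorem ker_step_iff (hM : Cfsg.IsPModular p M) {Q P : Subgroup G}
    {f : Set (Cfsg.IrrCharacter (Subgroup.centralizer (Q : Set G)))}
    {e : Set (Cfsg.IrrCharacter (Subgroup.centralizer (P : Set G)))}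
    (h : Cfsg.IsNormalSubpair p M Q f P e) (K : Subgroup G)
    (hKL : K ≤ Subgroup.centralizer (Q : Set G))
    (hLK : Subgroup.centralizer (Q : Set G) ≤ Subgroup.normalizer (K : Set G))
    (hPK : P ≤ Subgroup.normalizer (K : Set G)) (hK : ¬ p ∣ Nat.card K) :
    Ker (Subgroup.centralizer (Q : Set G)) K f ↔ Ker (Subgroup.centralizer (P : Set G)) K e := by
  classical
  obtain ⟨hQf, hPe, hQP, hPN, hst, hω⟩ := h
  obtain ⟨ξ, hξ⟩ := block_nonempty hM hPe.2
  have hCL : Subgroup.centralizer (P : Set G) ≤ (Subgroup.centralizer (Q : Set G)) := centralizer_le_centralizer hQP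
  have hC := hCL.trans hLK
  set KL := K.subgroupOf (Subgroup.centralizer (Q : Set G))
  haveI : KL.Normal := Subgroup.normal_subgroupOf_of_le_normalizer hLK
  have hcard : Nat.card KL = Nat.card K := Nat.card_congr (Subgroup.subgroupOfEquivOfLe hKL).toEquiv
  have hav : inclEl (Subgroup.centralizer (Q : Set G)) (avgEl KL) = avgEl K := el_ext fun g => by
    by_cases hg : g ∈ (Subgroup.centralizer (Q : Set G))
    · rw [coeff_inclEl_of_mem _ _ hg, coeff_avgEl, coeff_avgEl, hcard]
      exact if_congr Subgroup.mem_subgroupOf rfl rfl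
    · rw [coeff_inclEl_notMem _ _ hg, coeff_avgEl, if_neg fun h => hg (hKL h)]
  have h1 := hω ξ hξ
  rw [brauerOmega_elF] at h1
  have hmul : Cong M (omega (ξ : Subgroup.centralizer (P : Set G) → ℂ) (br P (elF (Subgroup.centralizer (Q : Set G)) f * avgEl K)))
      (omega (ξ : Subgroup.centralizer (P : Set G) → ℂ) (br P (elF (Subgroup.centralizer (Q : Set G)) f)) *
        omega (ξ : Subgroup.centralizer (P : Set G) → ℂ) (br P (avgEl K))) := by
    refine omega_br_mul hM hPe.1 ξ (intEl_elF hM hQf.2) (intEl_avgEl hM hK) (invBy_elF hst)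
      (invBy_avgEl hPK) (invBy_mono hCL (invBy_elF_self f)) (invBy_avgEl hC) ?_
    rw [← hav, elF, ← map_mul]
    intro u hu g
    by_cases hg : g ∈ (Subgroup.centralizer (Q : Set G))
    · rw [coeff_inclEl_of_mem _ _ ((Subgroup.centralizer (Q : Set G)).mul_mem ((Subgroup.centralizer (Q : Set G)).mul_mem (hCL hu) hg) ((Subgroup.centralizer (Q : Set G)).inv_mem (hCL hu))),
        coeff_inclEl_of_mem _ _ hg]
      exact central_mul (central_blockIdem f) (central_avgEl KL) (⟨g, hg⟩ : (Subgroup.centralizer (Q : Set G))) ⟨u, hCL hu⟩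
    · rw [coeff_inclEl_notMem _ _ hg, coeff_inclEl_notMem]
      intro hc
      refine hg ?_
      simpa [mul_assoc] using (Subgroup.centralizer (Q : Set G)).mul_mem ((Subgroup.centralizer (Q : Set G)).mul_mem ((Subgroup.centralizer (Q : Set G)).inv_mem (hCL hu)) hc) (hCL hu)
  rw [ker_iff_omega_br hM P hC hK hPe.2 hξ]
  have hr := omega_br_ring hM ξ (intEl_avgEl hM hK) (invBy_avgEl hC)
  obtain ⟨η, hη⟩ := block_nonempty hM hQf.2
  by_cases hall : Ker (Subgroup.centralizer (Q : Set G)) K f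
  · refine iff_of_true hall fun hI => ?_
    have he : blockIdem f * avgEl KL = blockIdem f :=
      central_omega_ext (central_mul (central_blockIdem f) (central_avgEl KL)) (central_blockIdem f)
        fun θ => by
          rw [omega_mul θ (central_blockIdem f)]
          by_cases hθ : θ ∈ f
          · rw [(omega_avgEl KL θ).1 fun k hk => hall θ hθ k (Subgroup.mem_subgroupOf.1 hk),
              mul_one]
          · rw [omega_blockIdem_notMem hθ, zero_mul]
    rw [← hav, elF, ← map_mul, he, ← elF, hav] at hmul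
    exact not_ideal_one hM ((ideal_iff_of_cong hM h1).1 ((ideal_iff_of_cong hM hmul).2
      (ideal_mul_left hM (omega_br_ring hM ξ (intEl_elF hM hQf.2)
        (invBy_mono hCL (invBy_elF_self f))) hI)))
  · refine iff_of_false hall fun hn => hn ?_
    have he : blockIdem f * avgEl KL = 0 :=
      central_omega_ext (central_mul (central_blockIdem f) (central_avgEl KL))
        (fun g h => by simp) fun θ => by
          rw [omega_mul θ (central_blockIdem f), omega_zero]
          by_cases hθ : θ ∈ f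
          · rw [(omega_avgEl KL θ).2 fun ha => hall (ker_of_member hM hLK hK hQf.2 hθ
              fun c hc => ha c (Subgroup.mem_subgroupOf.2 hc)), mul_zero]
          · rw [omega_blockIdem_notMem hθ, zero_mul]
    rw [← hav, elF, ← map_mul, he, map_zero, omega_br_zero, ← elF, hav] at hmul
    have h0 := cong_zero_iff.1 (cong_symm hM hmul)
    exact ((ideal_mul_iff hM (omega_br_ring hM ξ (intEl_elF hM hQf.2)
      (invBy_mono hCL (invBy_elF_self f))) hr).1 h0).resolve_left
      fun h' => not_ideal_one hM ((ideal_iff_of_cong hM h1).1 h')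

/-! ### The `π'`-core of the centraliser in the kernel of the pair -/

/-- The largest normal `π'`-subgroup of the centraliser of `P`, in `G`. -/
def pk (π : Set ℕ) (P : Subgroup G) : Subgroup G :=
  (Cfsg.piCore {q | q ∉ π} (Subgroup.centralizer (P : Set G))).map
    (Subgroup.centralizer (P : Set G)).subtype

theorem pk_le (π : Set ℕ) (P : Subgroup G) : pk π P ≤ Subgroup.centralizer (P : Set G) :=
  Subgroup.map_subtype_le _

theorem pk_isPi (π : Set ℕ) (P : Subgroup G) : IsPi {q | q ∉ π} (pk π P) := by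
  intro q hq hd
  rw [pk, Subgroup.card_map_of_injective (Subgroup.subtype_injective _)] at hd
  exact piCore_isPi {q | q ∉ π} q hq hd

theorem not_dvd_of_isPi {π : Set ℕ} (hM : Cfsg.IsPModular p M) (hpπ : p ∈ π) {K : Subgroup G}
    (hK : IsPi {q | q ∉ π} K) : ¬ p ∣ Nat.card K := fun hd => hK p hM.1 hd hpπ

theorem le_pk {π : Set ℕ} {P N : Subgroup G} (hN : N ≤ Subgroup.centralizer (P : Set G))
    (hCN : Subgroup.centralizer (P : Set G) ≤ Subgroup.normalizer (N : Set G))
    (hπ : IsPi {q | q ∉ π} N) : N ≤ pk π P := by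
  haveI : (N.subgroupOf (Subgroup.centralizer (P : Set G))).Normal :=
    Subgroup.normal_subgroupOf_of_le_normalizer hCN
  have h : N.subgroupOf (Subgroup.centralizer (P : Set G)) ≤
      Cfsg.piCore {q | q ∉ π} (Subgroup.centralizer (P : Set G)) :=
    le_piCore fun q hq hd => hπ q hq (by
      rwa [Nat.card_congr (Subgroup.subgroupOfEquivOfLe hN).toEquiv] at hd)
  intro x hx
  exact ⟨⟨x, hN hx⟩, h (Subgroup.mem_subgroupOf.2 hx), rfl⟩

theorem normalizer_le_pk (π : Set ℕ) (P : Subgroup G) :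
    Subgroup.normalizer (P : Set G) ≤ Subgroup.normalizer (pk π P : Set G) := by
  refine Subgroup.le_normalizer_iff.2 fun u hu x hx => ?_
  obtain ⟨c, hc, rfl⟩ := hx
  have hu' := normalizer_le_normalizer_centralizer P hu
  have h : conjK hu' c ∈ Cfsg.piCore {q | q ∉ π} (Subgroup.centralizer (P : Set G)) := by
    rw [← map_piCore_eq (conjK hu')]; exact ⟨c, hc, rfl⟩
  exact ⟨_, h, coe_conjK hu' c⟩

theorem centralizer_le_pk (π : Set ℕ) (P : Subgroup G) :
    Subgroup.centralizer (P : Set G) ≤ Subgroup.normalizer (pk π P : Set G) :=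
  (Subgroup.centralizer_le_normalizer _).trans (normalizer_le_pk π P)

theorem ker_mono {L K K' : Subgroup G} {f : Set (Cfsg.IrrCharacter L)}
    (h : K ⊓ L ≤ K') (hK' : Ker L K' f) : Ker L K f :=
  fun ξ hξ c hc => hK' ξ hξ c (h ⟨hc, c.2⟩)

/-- The condition on a pair. -/
def Good (π : Set ℕ) (a : Cfsg.BrauerPairIdx G) : Prop :=
  Ker (Subgroup.centralizer (a.1 : Set G)) (pk π a.1) a.2

/-- The centraliser has a normal Hall `π'`-subgroup. -/
def Hall (π : Set ℕ) (Q : Subgroup G) : Prop :=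
  ∀ c ∈ Subgroup.centralizer (Q : Set G),
    (∀ q : ℕ, q.Prime → q ∣ orderOf c → q ∉ π) → c ∈ pk π Q

theorem inf_le_normalizer {A K L : Subgroup G} (hK : A ≤ Subgroup.normalizer (K : Set G))
    (hL : A ≤ Subgroup.normalizer (L : Set G)) :
    A ≤ Subgroup.normalizer ((K ⊓ L : Subgroup G) : Set G) :=
  Subgroup.le_normalizer_iff.2 fun a ha x hx =>
    ⟨(Subgroup.mem_normalizer_iff.1 (hK ha) x).1 hx.1, (Subgroup.mem_normalizer_iff.1 (hL ha) x).1 hx.2⟩

theorem inf_pk_le {π : Set ℕ} {P : Subgroup G} {K : Subgroup G}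
    (hK : Subgroup.centralizer (P : Set G) ≤ Subgroup.normalizer (K : Set G))
    (hπ : IsPi {q | q ∉ π} K) : K ⊓ Subgroup.centralizer (P : Set G) ≤ pk π P :=
  le_pk inf_le_right (inf_le_normalizer hK Subgroup.le_normalizer)
    fun q hq hd => hπ q hq (hd.trans (Subgroup.card_dvd_of_le inf_le_left))

theorem good_down {π : Set ℕ} (hM : Cfsg.IsPModular p M) (hpπ : p ∈ π)
    {a b : Cfsg.BrauerPairIdx G} (h : Relation.ReflTransGen (Cfsg.NormalSubpairRel p M) a b)
    (hb : Good π b) : Good π a := by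
  induction h with
  | refl => exact hb
  | @tail x y _ hxy ih =>
    refine ih ?_
    have hP := hxy.2.2.2.1.trans (normalizer_le_pk π x.1)
    have hC := centralizer_le_pk π x.1
    refine (ker_step_iff hM hxy _ (pk_le π x.1) hC hP (not_dvd_of_isPi hM hpπ (pk_isPi π x.1))).2 ?_
    exact ker_mono (inf_pk_le ((centralizer_le_centralizer hxy.2.2.1).trans hC) (pk_isPi π x.1)) hb

theorem good_up {π : Set ℕ} (hM : Cfsg.IsPModular p M) (hpπ : p ∈ π)
    {a b : Cfsg.BrauerPairIdx G} (h : Relation.ReflTransGen (Cfsg.NormalSubpairRel p M) a b)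
    (hH : Hall π a.1) (ha : Good π a) : Good π b ∧ Hall π b.1 := by
  induction h with
  | refl => exact ⟨ha, hH⟩
  | @tail x y _ hxy ih =>
    obtain ⟨hx, hHx⟩ := ih
    have hP := hxy.2.2.2.1.trans (normalizer_le_pk π x.1)
    have hC := centralizer_le_pk π x.1
    have hCC := centralizer_le_centralizer hxy.2.2.1
    have hle : pk π y.1 ≤ pk π x.1 := fun c hc => hHx c (hCC (pk_le π y.1 hc)) fun q hq hd =>
      pk_isPi π y.1 q hq (hd.trans (Subgroup.orderOf_dvd_natCard _ hc))
    refine ⟨ker_mono (inf_le_left.trans hle)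
      ((ker_step_iff hM hxy _ (pk_le π x.1) hC hP (not_dvd_of_isPi hM hpπ (pk_isPi π x.1))).1 hx),
      fun c hc hq => inf_pk_le (hCC.trans hC) (pk_isPi π x.1) ⟨hHx c (hCC hc) hq, hc⟩⟩

theorem good_conj {π : Set ℕ} (x : G) {a : Cfsg.BrauerPairIdx G} (h : Good π a) :
    Good π (cjPair x a) := by
  rintro ξ' ⟨ξ, hξ, hval⟩ c' hc'
  have hmem : x⁻¹ * (c' : G) * x ∈ pk π a.1 := by
    have hle : (pk π (cj a.1 x)).map (MulAut.conj x⁻¹).toMonoidHom ≤ pk π a.1 := by
      refine le_pk ?_ ?_ ?_
      · rintro _ ⟨d, hd, rfl⟩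
        have := pk_le π _ hd
        rw [← cj_centralizer] at this
        obtain ⟨e, he, rfl⟩ := this
        simpa [mul_assoc] using he
      · refine Subgroup.le_normalizer_iff.2 fun u hu y hy => ?_
        obtain ⟨d, hd, rfl⟩ := hy
        have hu' : x * u * x⁻¹ ∈ Subgroup.centralizer (cj a.1 x : Set G) := by
          rw [← cj_centralizer]; exact ⟨u, hu, rfl⟩
        exact ⟨_, (Subgroup.mem_normalizer_iff.1 (centralizer_le_pk π _ hu') d).1 hd, by
          simp [mul_assoc]⟩
      · intro q hq hd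
        rw [Subgroup.card_map_of_injective (MulAut.conj x⁻¹).injective] at hd
        exact pk_isPi π _ q hq hd
    exact hle ⟨c', hc', by simp⟩
  let c : Subgroup.centralizer (a.1 : Set G) := ⟨_, pk_le π _ hmem⟩
  exact (hval c c' (by show (c' : G) = x * (x⁻¹ * c' * x) * x⁻¹; group)).trans
    ((h ξ hξ c hmem).trans (hval 1 1 (by simp)).symm)

/-! ### Pairs of subgroups and of induced blocks -/

theorem ker_match_iff (hM : Cfsg.IsPModular p M) {H : Subgroup G} {A : Subgroup H}
    {P : Subgroup G} {a : Set (Cfsg.IrrCharacter (Subgroup.centralizer (A : Set H)))}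
    {g : Set (Cfsg.IrrCharacter (Subgroup.centralizer (P : Set G)))}
    (hm : Match ⟨A, a⟩ ⟨P, g⟩) (K : Subgroup H) :
    Ker (Subgroup.centralizer (A : Set H)) K a ↔
      Ker (Subgroup.centralizer (P : Set G)) (K.map H.subtype) g := by
  have hA : A.map H.subtype = P := hm.1
  have hC : Subgroup.centralizer (P : Set G) ≤ H := hm.2.1
  have hag := mem_of_match hM hm hA hC
  constructor
  · intro h ξ hξ c hc
    obtain ⟨k, hk, hkc⟩ := hc
    have h1 := h ((irrIso (downEquiv hA hC)).symm ξ) (hag ▸ symm_mem_pullSet hξ) (downEquiv hA hC c)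
      (by rwa [show ((downEquiv hA hC c : Subgroup.centralizer (A : Set H)) : H) = k from
        Subtype.ext hkc.symm])
    rwa [irrIso_symm_apply, irrIso_symm_apply, MulEquiv.symm_apply_apply, map_one] at h1
  · intro h θ hθ d hd
    rw [hag] at hθ
    obtain ⟨c, rfl⟩ := (downEquiv hA hC).surjective d
    have h1 := h _ hθ c ⟨_, hd, rfl⟩
    rwa [irrIso_apply, irrIso_apply, map_one] at h1

/-- Matching pairs at a block and the block it induces. -/
theorem pairOf_induced (hM : Cfsg.IsPModular p M) {H : Subgroup G}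
    {b : Set (Cfsg.IrrCharacter H)} {B : Set (Cfsg.IrrCharacter G)}
    (hind : Cfsg.IsInducedBlock M H b B) {A : Subgroup H} {P : Subgroup G}
    {a : Set (Cfsg.IrrCharacter (Subgroup.centralizer (A : Set H)))}
    {g : Set (Cfsg.IrrCharacter (Subgroup.centralizer (P : Set G)))}
    (hm : Match ⟨A, a⟩ ⟨P, g⟩) (hg : Cfsg.IsBrauerPair p M P g)
    (hba : Cfsg.IsBrauerPairOf p M b A a) : Cfsg.IsBrauerPairOf p M B P g := by
  have hA : A.map H.subtype = P := hm.1
  have hC : Subgroup.centralizer (P : Set G) ≤ H := hm.2.1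
  have hag := mem_of_match hM hm hA hC
  refine ⟨hg, hind.2.1, fun η hη => ?_⟩
  rw [brauerOmega_block]
  have hη' : (irrIso (downEquiv hA hC)).symm η ∈ a := hag ▸ symm_mem_pullSet hη
  obtain ⟨θ, hθ⟩ := block_nonempty hM hind.1
  obtain ⟨χ, hχ⟩ := block_nonempty hM hind.2.1
  have h1 := omega_br_of_pair hM hba hη' hθ (central_restrEl H (central_blockIdem B))
    (intEl_restrEl H (intEl_blockIdem hM hind.2.1))
  have h2 := omega_cong_of_isInduced hM hind hθ hχ (central_blockIdem B)
    (intEl_blockIdem hM hind.2.1)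
  rw [omega_match hA hC (z := blockIdem B) fun t => by rw [coeff_restrEl]] at h1
  rw [omega_blockIdem_mem hχ] at h2
  rw [show (((irrIso (downEquiv hA hC)).symm η : Cfsg.IrrCharacter _) :
    Subgroup.centralizer (A : Set H) → ℂ) ∘ downEquiv hA hC =
      (η : Subgroup.centralizer (P : Set G) → ℂ) from
        funext fun k => by simp [irrIso_symm_apply]] at h1
  exact cong_trans hM h1 h2

/-- A block has a pair on every normal `p`-subgroup. -/
theorem exists_pair_normal (hM : Cfsg.IsPModular p M) {A : Subgroup G} [A.Normal]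
    (hA : IsPGroup p A) {b : Set (Cfsg.IrrCharacter G)} (hb : Cfsg.IsPBlock M b) :
    ∃ a, Cfsg.IsBrauerPairOf p M b A a := by
  by_contra hcon
  push Not at hcon
  have h := idealEl_of_omega hM (central_br (invBy_blockIdem _ _))
    (intEl_restrEl _ (intEl_blockIdem hM hb)) (br_blockIdem_idem hM hA hb)
    fun ξ => cong_zero_iff.1 ((pairOf_iff hM hA hb ξ).2 (hcon _))
  obtain ⟨χ, hχ⟩ := block_nonempty hM hb
  refine not_ideal_one hM ?_
  rw [← omega_blockIdem_mem hχ]
  refine omega_ideal hM χ (central_blockIdem b) fun g => ?_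
  by_cases hg : g ∈ Subgroup.centralizer (A : Set G)
  · have := h ⟨g, hg⟩; rwa [br, coeff_restrEl] at this
  · rw [blockIdem_supp hM hA hb g hg]; exact ideal_zero hM

/-- A maximal pair on a defect group of an induced block of the normaliser, seen in `G`. -/
theorem exists_correspondent_pair (hM : Cfsg.IsPModular p M) {B : Set (Cfsg.IrrCharacter G)}
    {D : Subgroup G} (hBD : Cfsg.IsDefectGroup p M B D)
    {B₁ : Set (Cfsg.IrrCharacter (Subgroup.normalizer (D : Set G)))}
    (hB₁ : Cfsg.IsInducedBlock M (Subgroup.normalizer (D : Set G)) B₁ B)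
    (hB₁D : Cfsg.IsDefectGroup p M B₁ (D.subgroupOf (Subgroup.normalizer (D : Set G)))) :
    ∃ a e, Cfsg.IsBrauerPairOf p M B₁ (D.subgroupOf (Subgroup.normalizer (D : Set G))) a ∧
      Match (⟨_, a⟩ : Cfsg.BrauerPairIdx (Subgroup.normalizer (D : Set G))) ⟨D, e⟩ ∧
      Cfsg.IsMaximalBrauerPair p M B D e := by
  obtain ⟨a, ha⟩ := exists_maximal_on hM hB₁.1 hB₁D
  obtain ⟨e, he, hm⟩ := exists_up hM ⟨_, a⟩ ha.1.1
    (by rw [map_subgroupOf_eq Subgroup.le_normalizer]; exact centralizer_le_normalizer' D)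
  have hmap := map_subgroupOf_eq (D := D) (H := Subgroup.normalizer (D : Set G)) Subgroup.le_normalizer
  simp only at he hm
  revert e
  rw [hmap]
  intro e he hm
  refine ⟨a, e, ha.1, hm, pairOf_induced hM hB₁ hm he ha.1, fun R r hR hle => ?_⟩
  obtain ⟨R', r', hR', hle'⟩ := exists_maximal_above hM hR
  refine (eq_of_le_of_card_le (subpairLE_facts hM hle).1 ?_).symm
  refine (Subgroup.card_le_of_le (subpairLE_facts hM hle').1).trans (le_of_eq ?_)
  rw [card_defectGroup hM hB₁.2.1 hBD, card_defectGroup hM hB₁.2.1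
    (Cfsg.Agent.BlockCharsA.PairMax.isDefectGroup_of_maximal hM hR')]

/-- The kernel condition at the normaliser of a defect group, read at the maximal pair. -/
theorem ker_correspondent_iff {π : Set ℕ} (hM : Cfsg.IsPModular p M) (hpπ : p ∈ π)
    {D : Subgroup G} {B₁ : Set (Cfsg.IrrCharacter (Subgroup.normalizer (D : Set G)))}
    {a} {e : Set (Cfsg.IrrCharacter (Subgroup.centralizer (D : Set G)))}
    (ha : Cfsg.IsBrauerPairOf p M B₁ (D.subgroupOf (Subgroup.normalizer (D : Set G))) a)
    (hm : Match (⟨_, a⟩ : Cfsg.BrauerPairIdx (Subgroup.normalizer (D : Set G))) ⟨D, e⟩) :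
    (∀ n, n ∈ Cfsg.piCore {q | q ∉ π} (Subgroup.normalizer (D : Set G)) → n ∈ Cfsg.blockKer B₁) ↔
      Good π (⟨D, e⟩ : Cfsg.BrauerPairIdx G) := by
  set N := Subgroup.normalizer (D : Set G) with hN
  set K := Cfsg.piCore {q | q ∉ π} N with hK
  have hKp : ¬ p ∣ Nat.card K := fun hd => piCore_isPi _ p hM.1 hd hpπ
  refine (ker_block_iff hM ha K hKp).trans ((ker_match_iff hM hm K).trans ⟨?_, ?_⟩)
  · refine ker_mono (inf_le_left.trans ?_)
    intro c hc
    have hcN : c ∈ N := centralizer_le_normalizer' D (pk_le π D hc)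
    haveI : ((pk π D).subgroupOf N).Normal :=
      Subgroup.normal_subgroupOf_of_le_normalizer (normalizer_le_pk π D)
    have hle : (pk π D).subgroupOf N ≤ K := le_piCore fun q hq hd => pk_isPi π D q hq (by
      rwa [Nat.card_congr (Subgroup.subgroupOfEquivOfLe
        ((pk_le π D).trans (centralizer_le_normalizer' D))).toEquiv] at hd)
    exact ⟨⟨c, hcN⟩, hle (Subgroup.mem_subgroupOf.2 hc), rfl⟩
  · refine ker_mono (inf_pk_le ?_ fun q hq hd => piCore_isPi (G := N) _ q hq ?_)
    · refine Subgroup.le_normalizer_iff.2 fun u hu y hy => ?_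
      obtain ⟨k, hk, rfl⟩ := hy
      exact ⟨(⟨u, centralizer_le_normalizer' D hu⟩ : N) * k * ⟨u, centralizer_le_normalizer' D hu⟩⁻¹,
        (inferInstance : K.Normal).conj_mem k hk _, rfl⟩
    · rwa [Subgroup.card_map_of_injective N.subtype_injective] at hd

/-- Below a good maximal pair, the `π'`-core of every local group is in the kernel. -/
theorem piCore_le_ker {π : Set ℕ} (hM : Cfsg.IsPModular p M) (hpπ : p ∈ π)
    {B : Set (Cfsg.IrrCharacter G)} {D : Subgroup G}
    {e : Set (Cfsg.IrrCharacter (Subgroup.centralizer (D : Set G)))}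
    (hmax : Cfsg.IsMaximalBrauerPair p M B D e) (hgood : Good π (⟨D, e⟩ : Cfsg.BrauerPairIdx G))
    {H : Subgroup G} {b : Set (Cfsg.IrrCharacter H)} (hind : Cfsg.IsInducedBlock M H b B)
    {A : Subgroup H} {a : Set (Cfsg.IrrCharacter (Subgroup.centralizer (A : Set H)))}
    (ha : Cfsg.IsBrauerPairOf p M b A a)
    (hC : Subgroup.centralizer ((A.map H.subtype : Subgroup G) : Set G) ≤ H) :
    ∀ x : H, x ∈ Cfsg.piCore {q | q ∉ π} H → x ∈ Cfsg.blockKer b := by
  obtain ⟨g, hg, hm⟩ := exists_up hM ⟨A, a⟩ ha.1 hC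
  simp only at hg hm
  obtain ⟨x, hx⟩ := exists_conj_le hM hmax (pairOf_induced hM hind hm hg ha)
  have h1 := good_conj x⁻¹ (good_down hM hpπ
    (a := cjPair x (⟨A.map H.subtype, g⟩ : Cfsg.BrauerPairIdx G)) hx hgood)
  rw [cjPair_mul, inv_mul_cancel, cjPair_one] at h1
  set K := Cfsg.piCore {q | q ∉ π} H with hK
  have hKp : ¬ p ∣ Nat.card K := fun hd => piCore_isPi _ p hM.1 hd hpπ
  refine (ker_block_iff hM ha K hKp).2 ((ker_match_iff hM hm K).2 (ker_mono (inf_pk_le ?_ ?_) h1))
  · refine Subgroup.le_normalizer_iff.2 fun u hu y hy => ?_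
    obtain ⟨k, hk, rfl⟩ := hy
    exact ⟨(⟨u, hC hu⟩ : H) * k * ⟨u, hC hu⟩⁻¹, (inferInstance : K.Normal).conj_mem k hk _, rfl⟩
  · intro q hq hd
    rw [Subgroup.card_map_of_injective H.subtype_injective] at hd
    exact piCore_isPi _ q hq hd

end Cfsg.Agent.BlocksChars.PiKernel
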