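import Mathlib
import Cfsg.Prelude.Def_Blocks
import Cfsg.Agent.BlocksChars.Codegree

/-!
Groups of order `p n` with `n < p`, and the quotient by the kernel of a character.
-/

set_option autoImplicit false
set_option linter.style.haveILetI false

namespace Cfsg.Agent.BlocksChars.PrimeOrderNormal

open Cfsg.Agent.Characters Cfsg.Agent.BlocksChars.Degrees Cfsg.Agent.BlocksChars.Codegree
open scoped commutatorElement

variable {G : Type*} [Group G] [Finite G]

theorem exists_normal_card_prime {p n : ℕ} (hp : p.Prime) (hG : Nat.card G = p * n) (hn : n < p) :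
    ∃ P : Subgroup G, P.Normal ∧ Nat.card P = p ∧ P.index = n ∧ Nat.Coprime (Nat.card P) P.index := by
  haveI := Fact.mk hp
  have hn0 : n ≠ 0 := fun h => Nat.card_pos.ne' (by rw [hG, h, mul_zero] : Nat.card G = 0)
  have hpn : ¬ p ∣ n := fun h => absurd (Nat.le_of_dvd (Nat.pos_of_ne_zero hn0) h) (not_le.2 hn)
  obtain ⟨P⟩ : Nonempty (Sylow p G) := inferInstance
  have hP : Nat.card (P : Subgroup G) = p := by
    rw [Sylow.card_eq_multiplicity, hG, Nat.factorization_mul hp.ne_zero hn0]
    simp [hp.factorization_self, Nat.factorization_eq_zero_of_not_dvd hpn]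
  have hidx : (P : Subgroup G).index = n := by
    have h := (P : Subgroup G).card_mul_index
    rw [hP, hG] at h
    exact mul_left_cancel₀ hp.ne_zero h
  have h1 : Nat.card (Sylow p G) = 1 := by
    have hd := P.card_dvd_index
    rw [hidx] at hd
    have hlt : Nat.card (Sylow p G) < p := lt_of_le_of_lt (Nat.le_of_dvd (Nat.pos_of_ne_zero hn0) hd) hn
    have hmod := card_sylow_modEq_one p G
    rw [Nat.ModEq, Nat.mod_eq_of_lt hlt, Nat.mod_eq_of_lt hp.one_lt] at hmod
    exact hmod
  haveI : Subsingleton (Sylow p G) := (Nat.card_eq_one_iff_unique.1 h1).1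
  refine ⟨P, P.normal_of_subsingleton, hP, hidx, ?_⟩
  rw [hP, hidx]
  exact hp.coprime_iff_not_dvd.2 hpn

omit [Finite G] in
theorem commutator_le_centralizer_of_cyclic (P : Subgroup G) [P.Normal] [IsCyclic P] :
    commutator G ≤ Subgroup.centralizer (P : Set G) := by
  intro g hg
  have hker : commutator G ≤ (((IsCyclic.mulAutMulEquiv P).toMonoidHom).comp
      (MulAut.conjNormal (H := P))).ker := Abelianization.commutator_subset_ker _
  have h := hker hg
  rw [MonoidHom.mem_ker, MonoidHom.comp_apply] at h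
  have h' : MulAut.conjNormal (H := P) g = 1 :=
    (IsCyclic.mulAutMulEquiv P).injective (by simpa using h)
  refine Subgroup.mem_centralizer_iff.2 fun z hz => ?_
  have := congrArg Subtype.val (DFunLike.congr_fun h' ⟨z, hz⟩)
  simp only [MulAut.conjNormal_apply, MulAut.one_apply] at this
  exact (mul_inv_eq_iff_eq_mul.1 this).symm

/-- A group of order `p n`, `n < p`, is not perfect. -/
theorem not_perfect {p n : ℕ} (hp : p.Prime) (hG : Nat.card G = p * n) (hn : n < p) :
    commutator G ≠ ⊤ := by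
  intro hperf
  obtain ⟨P, hPn, hP, -, hcop⟩ := exists_normal_card_prime hp hG hn
  haveI := Fact.mk hp
  haveI : IsCyclic P := isCyclic_of_prime_card hP
  obtain ⟨H, hH⟩ := Subgroup.exists_right_complement'_of_coprime hcop
  have hcent : ∀ z ∈ P, ∀ g : G, z * g = g * z := fun z hz g =>
    Subgroup.mem_centralizer_iff.1
      (commutator_le_centralizer_of_cyclic P (hperf ▸ Subgroup.mem_top g)) z hz
  have hle : commutator G ≤ H := by
    rw [commutator_def, Subgroup.commutator_le]
    rintro a - b -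
    obtain ⟨⟨za, ha⟩, rfl, -⟩ := Subgroup.isComplement_iff_existsUnique.1 hH a
    obtain ⟨⟨zb, hb⟩, rfl, -⟩ := Subgroup.isComplement_iff_existsUnique.1 hH b
    have hz : ∀ z : G, z ∈ P → ∀ x y : G, ⁅z * x, y⁆ = ⁅x, y⁆ ∧ ⁅x, z * y⁆ = ⁅x, y⁆ := by
      intro z hz x y
      simp only [commutatorElement_def, mul_inv_rev]
      have hc : ∀ g, z * g = g * z := hcent z hz
      constructor
      · calc z * x * y * (x⁻¹ * z⁻¹) * y⁻¹ = z * (x * y * x⁻¹) * z⁻¹ * y⁻¹ := by group
          _ = (x * y * x⁻¹) * y⁻¹ := by rw [hc (x * y * x⁻¹)]; group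
          _ = x * y * x⁻¹ * y⁻¹ := by group
      · calc x * (z * y) * x⁻¹ * (y⁻¹ * z⁻¹) = (x * z) * (y * x⁻¹ * y⁻¹) * z⁻¹ := by group
          _ = (z * x) * (y * x⁻¹ * y⁻¹) * z⁻¹ := by rw [← hc x]
          _ = z * (x * y * x⁻¹ * y⁻¹) * z⁻¹ := by group
          _ = x * y * x⁻¹ * y⁻¹ := by rw [hc (x * y * x⁻¹ * y⁻¹)]; group
    dsimp only
    rw [(hz za za.2 _ _).1, (hz zb zb.2 _ _).2, commutatorElement_def]
    exact H.mul_mem (H.mul_mem (H.mul_mem ha.2 hb.2) (H.inv_mem ha.2)) (H.inv_mem hb.2)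
  rw [hperf, top_le_iff] at hle
  have := hH.card_mul
  rw [hle, Subgroup.card_top] at this
  have h2 : Nat.card P = 1 :=
    mul_right_cancel₀ (Nat.card_pos (α := G)).ne' (this.trans (one_mul _).symm)
  rw [hP] at h2
  exact hp.ne_one h2

end Cfsg.Agent.BlocksChars.PrimeOrderNormal
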