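import Cfsg.Agent.Lib.Characters.Inner
import Cfsg.Agent.Lib.Characters.Kernel
import Cfsg.Agent.Lib.Characters.Counting
import Cfsg.Agent.Lib.Characters.Integrality
import Cfsg.Agent.Lib.Coprime.Commutator
import Cfsg.Agent.Lib.Coprime.Generation
import Mathlib.GroupTheory.SchurZassenhaus
import Mathlib.GroupTheory.Sylow

/-!
Groups in which all irreducible characters are multiplicative on pairs of elements of prime power
orders for two different primes.
-/

set_option autoImplicit false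

open scoped BigOperators ComplexConjugate commutatorElement

namespace Cfsg.Agent.BlocksChars.PrimePowerMultiplicative

open Cfsg.Agent.Characters

universe u

variable {G : Type u} [Group G] [Finite G]

/-- The hypothesis of the theorem. -/
def IsPPMult (G : Type u) [Group G] : Prop :=
  ∀ (x y : G) (χ : Cfsg.IrrCharacter G), x ≠ 1 → y ≠ 1 →
    (∃ p q a b : ℕ, p.Prime ∧ q.Prime ∧ p ≠ q ∧ orderOf x = p ^ a ∧ orderOf y = q ^ b) →
    (χ : G → ℂ) (x * y) = (χ : G → ℂ) x * (χ : G → ℂ) y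

theorem sum_split [Fintype (Cfsg.IrrCharacter G)] (g : G) :
    (Nat.card (Subgroup.centralizer ({g} : Set G)) : ℝ) =
      (commutator G).index +
        ∑ χ ∈ Finset.univ.filter (fun χ : Cfsg.IrrCharacter G => (χ : G → ℂ) 1 ≠ 1),
          ‖(χ : G → ℂ) g‖ ^ 2 := by
  classical
  have h := second_orthogonality g g
  rw [if_pos (IsConj.refl _)] at h
  simp only [Complex.mul_conj'] at h
  have h' : ∑ χ : Cfsg.IrrCharacter G, ‖(χ : G → ℂ) g‖ ^ 2 =
      (Nat.card (Subgroup.centralizer ({g} : Set G)) : ℝ) := by exact_mod_cast h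
  rw [← h', ← Finset.sum_filter_add_sum_filter_not Finset.univ
    (fun χ : Cfsg.IrrCharacter G => (χ : G → ℂ) 1 = 1)]
  congr 1
  rw [← card_degree_one, Nat.card_eq_fintype_card, Fintype.card_subtype]
  have hone : ∀ χ ∈ Finset.univ.filter (fun χ : Cfsg.IrrCharacter G => (χ : G → ℂ) 1 = 1),
      ‖(χ : G → ℂ) g‖ ^ 2 = 1 := by
    intro χ hχ
    have h1 := (Finset.mem_filter.1 hχ).2
    have hle := char_norm_le (irr_isCharacter χ) g
    have hm := char_mul_of_degree_one (irr_isCharacter χ) h1 g g⁻¹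
    rw [mul_inv_cancel, h1] at hm
    rw [h1, norm_one] at hle
    have hle' := char_norm_le (irr_isCharacter χ) g⁻¹
    rw [h1, norm_one] at hle'
    have hn : 1 = ‖(χ : G → ℂ) g‖ * ‖(χ : G → ℂ) g⁻¹‖ := by rw [← norm_mul, ← hm, norm_one]
    have : ‖(χ : G → ℂ) g‖ = 1 := by
      nlinarith [norm_nonneg ((χ : G → ℂ) g), norm_nonneg ((χ : G → ℂ) g⁻¹)]
    rw [this, one_pow]
  rw [Finset.sum_congr rfl hone, Finset.sum_const, nsmul_one]

theorem vanish_of_centralizer_le {g : G}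
    (h : Nat.card (Subgroup.centralizer ({g} : Set G)) ≤ (commutator G).index)
    {χ : Cfsg.IrrCharacter G} (hχ : (χ : G → ℂ) 1 ≠ 1) : (χ : G → ℂ) g = 0 := by
  classical
  haveI := Fintype.ofFinite (Cfsg.IrrCharacter G)
  have hs := sum_split g
  have hle : (Nat.card (Subgroup.centralizer ({g} : Set G)) : ℝ) ≤ (commutator G).index := by
    exact_mod_cast h
  have hz : ∑ χ ∈ Finset.univ.filter (fun χ : Cfsg.IrrCharacter G => (χ : G → ℂ) 1 ≠ 1),
      ‖(χ : G → ℂ) g‖ ^ 2 = 0 :=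
    le_antisymm (by linarith) (Finset.sum_nonneg fun _ _ => by positivity)
  have := (Finset.sum_eq_zero_iff_of_nonneg (fun _ _ => by positivity)).1 hz χ
    (Finset.mem_filter.2 ⟨Finset.mem_univ _, hχ⟩)
  exact norm_eq_zero.1 (pow_eq_zero_iff two_ne_zero |>.1 this)

theorem centralizer_card_of_vanish {g : G}
    (h : ∀ χ : Cfsg.IrrCharacter G, (χ : G → ℂ) 1 ≠ 1 → (χ : G → ℂ) g = 0) :
    Nat.card (Subgroup.centralizer ({g} : Set G)) = (commutator G).index := by
  classical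
  haveI := Fintype.ofFinite (Cfsg.IrrCharacter G)
  have hs := sum_split g
  rw [Finset.sum_eq_zero fun χ hχ => by rw [h χ (Finset.mem_filter.1 hχ).2]; simp, add_zero] at hs
  exact_mod_cast hs

theorem prime_unique {n p r : ℕ} (hn : n ≠ 0) (hp : p.Prime) (hr : r.Prime)
    (h1 : n / p ^ n.factorization p < p ^ n.factorization p)
    (h2 : n / r ^ n.factorization r < r ^ n.factorization r) : p = r := by
  by_contra hne
  have a1 : r ^ n.factorization r ≤ n / p ^ n.factorization p := by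
    refine Nat.le_of_dvd (Nat.ordCompl_pos p hn) ?_
    refine Nat.Coprime.dvd_of_dvd_mul_left (m := p ^ n.factorization p)
      (((Nat.coprime_primes hr hp).2 (Ne.symm hne)).pow _ _) ?_
    rw [Nat.ordProj_mul_ordCompl_eq_self]
    exact Nat.ordProj_dvd n r
  have a2 : p ^ n.factorization p ≤ n / r ^ n.factorization r := by
    refine Nat.le_of_dvd (Nat.ordCompl_pos r hn) ?_
    refine Nat.Coprime.dvd_of_dvd_mul_left (m := r ^ n.factorization r)
      (((Nat.coprime_primes hp hr).2 hne).pow _ _) ?_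
    rw [Nat.ordProj_mul_ordCompl_eq_self]
    exact Nat.ordProj_dvd n p
  omega

theorem prime_pow_part_dvd {χ : Cfsg.IrrCharacter G} {q n : ℕ} (hn : (χ : G → ℂ) 1 = (n : ℂ))
    (hq : q.Prime)
    (h : ∀ y : G, y ≠ 1 → (∃ b, orderOf y = q ^ b) → (χ : G → ℂ) y = 0) :
    q ^ (Nat.card G).factorization q ∣ n := by
  classical
  haveI : Fact q.Prime := ⟨hq⟩
  let Q : Sylow q G := default
  haveI := Fintype.ofFinite (Q : Subgroup G)
  obtain ⟨m, hm⟩ := classInner_char_nat
    (isCharacter_restrict (Q : Subgroup G) (irr_isCharacter χ)) isCharacter_one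
  rw [← Sylow.card_eq_multiplicity Q]
  refine ⟨m, ?_⟩
  rw [classInner_def] at hm
  rw [Finset.sum_eq_single (1 : (Q : Subgroup G))] at hm
  · simp only [OneMemClass.coe_one, map_one, mul_one, hn] at hm
    rw [inv_mul_eq_iff_eq_mul₀ (Nat.cast_ne_zero.2 Nat.card_pos.ne')] at hm
    exact_mod_cast hm
  · intro y _ hy
    obtain ⟨b, hb⟩ := (IsPGroup.iff_orderOf.1 Q.2) y
    show (χ : G → ℂ) (y : G) * _ = 0
    rw [h y (fun e => hy (Subtype.ext e)) ⟨b, by rw [Subgroup.orderOf_coe, hb]⟩, zero_mul]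
  · intro e; exact absurd (Finset.mem_univ _) e

theorem degree_sq_lt {χ : Cfsg.IrrCharacter G} {n : ℕ} (hn : (χ : G → ℂ) 1 = (n : ℂ))
    (h1 : n ≠ 1) : n * n < Nat.card G := by
  classical
  haveI := Fintype.ofFinite (Cfsg.IrrCharacter G)
  have hs := sum_degree_sq (G := G)
  choose d hd using fun η : Cfsg.IrrCharacter G => char_one_nat (irr_isCharacter η)
  simp only [hd, sq] at hs
  have hs' : ∑ η : Cfsg.IrrCharacter G, d η * d η = Nat.card G := by exact_mod_cast hs
  let one : Cfsg.IrrCharacter G := ⟨_, isIrrCharacter_one⟩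
  have hdn : d χ = n := by exact_mod_cast (hd χ).symm.trans hn
  have hd1 : d one = 1 := by
    have : ((d one : ℕ) : ℂ) = 1 := (hd one).symm
    exact_mod_cast this
  have hne : χ ≠ one := fun e => h1 (by rw [← hdn, e, hd1])
  have := Finset.add_le_sum (f := fun η => d η * d η) (fun _ _ => Nat.zero_le _)
    (Finset.mem_univ χ) (Finset.mem_univ one) hne
  rw [hs', hdn, hd1] at this
  omega

theorem mul_eq_zero_of_nonlinear (H : IsPPMult G) {χ : Cfsg.IrrCharacter G}
    (hχ : (χ : G → ℂ) 1 ≠ 1) {x y : G} (hx : x ≠ 1) (hy : y ≠ 1) {p q a b : ℕ} (hp : p.Prime)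
    (hq : q.Prime) (hpq : p ≠ q) (ha : orderOf x = p ^ a) (hb : orderOf y = q ^ b) :
    (χ : G → ℂ) x * (χ : G → ℂ) y = 0 := by
  haveI := Fintype.ofFinite G
  have h := sum_mul_conjugates χ.2 x y
  have hterm : ∀ z : G, (χ : G → ℂ) (x * (z * y * z⁻¹)) = (χ : G → ℂ) x * (χ : G → ℂ) y := by
    intro z
    rw [H x (z * y * z⁻¹) χ hx (by simpa using hy) ⟨p, q, a, b, hp, hq, hpq, ha, ?_⟩,
      irr_isClassFunction χ y z]
    rw [← hb]
    exact orderOf_injective (MulAut.conj z).toMonoidHom (MulAut.conj z).injective y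
  simp only [hterm, Finset.sum_const, Finset.card_univ, ← Nat.card_eq_fintype_card,
    nsmul_eq_mul] at h
  have h1 := irr_one_ne_zero χ.2
  rw [eq_div_iff h1] at h
  have h' : (Nat.card G : ℂ) * ((χ : G → ℂ) x * (χ : G → ℂ) y) * ((χ : G → ℂ) 1 - 1) = 0 := by
    rw [mul_sub, h]; ring
  rcases mul_eq_zero.1 h' with h'' | h''
  · exact (mul_eq_zero.1 h'').resolve_left natCard_ne_zero
  · exact absurd (sub_eq_zero.1 h'') hχ

theorem nonzero_prime (H : IsPPMult G) {χ : Cfsg.IrrCharacter G} (hχ : (χ : G → ℂ) 1 ≠ 1)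
    {n p : ℕ} (hn : (χ : G → ℂ) 1 = (n : ℂ)) (hp : p.Prime)
    (hne : ∀ q : ℕ, q.Prime → q ≠ p → ∀ y : G, y ≠ 1 → (∃ b, orderOf y = q ^ b) →
      (χ : G → ℂ) y = 0) :
    Nat.card G / p ^ (Nat.card G).factorization p ∣ n ∧
      Nat.card G / p ^ (Nat.card G).factorization p < p ^ (Nat.card G).factorization p := by
  have hN : Nat.card G ≠ 0 := Nat.card_pos.ne'
  set o := Nat.card G / p ^ (Nat.card G).factorization p with ho
  have hdvd : o ∣ n := by
    rw [Nat.dvd_iff_prime_pow_dvd_dvd]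
    intro q k hq hk
    rcases Nat.eq_zero_or_pos k with rfl | hk0
    · simp
    have hqp : q ≠ p := fun e => Nat.not_dvd_ordCompl hp hN
      ((e ▸ dvd_pow_self q hk0.ne' : p ∣ q ^ k).trans hk)
    refine (pow_dvd_pow q ?_).trans (prime_pow_part_dvd hn hq (hne q hq hqp))
    exact (hq.pow_dvd_iff_le_factorization hN).1 (hk.trans (Nat.ordCompl_dvd _ _))
  refine ⟨hdvd, ?_⟩
  have hn1 : n ≠ 1 := fun e => hχ (by rw [hn, e, Nat.cast_one])
  have hn0 : 0 < n := Nat.pos_of_ne_zero fun e => irr_one_ne_zero χ.2 (by rw [hn, e, Nat.cast_zero])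
  have h1 := degree_sq_lt hn hn1
  have h2 : o * o ≤ n * n := Nat.mul_le_mul (Nat.le_of_dvd hn0 hdvd) (Nat.le_of_dvd hn0 hdvd)
  have h3 := Nat.ordProj_mul_ordCompl_eq_self (Nat.card G) p
  rw [← ho] at h3
  have h4 : o * o < p ^ (Nat.card G).factorization p * o := by omega
  exact Nat.lt_of_mul_lt_mul_right h4

theorem exists_prime (H : IsPPMult G) (hab : ¬ IsMulCommutative G) :
    ∃ p : ℕ, p.Prime ∧ ∀ χ : Cfsg.IrrCharacter G, (χ : G → ℂ) 1 ≠ 1 →
      ((∀ n : ℕ, (χ : G → ℂ) 1 = (n : ℂ) →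
          Nat.card G / p ^ (Nat.card G).factorization p ∣ n) ∧
        ∀ y : G, y ≠ 1 → (∀ q b : ℕ, q.Prime → orderOf y = q ^ b → q ≠ p →
          (χ : G → ℂ) y = 0)) := by
  classical
  have hN : Nat.card G ≠ 0 := Nat.card_pos.ne'
  have key : ∀ χ : Cfsg.IrrCharacter G, (χ : G → ℂ) 1 ≠ 1 → ∃ p : ℕ, p.Prime ∧
      Nat.card G / p ^ (Nat.card G).factorization p < p ^ (Nat.card G).factorization p ∧
      (∀ n : ℕ, (χ : G → ℂ) 1 = (n : ℂ) →
        Nat.card G / p ^ (Nat.card G).factorization p ∣ n) ∧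
      ∀ y : G, y ≠ 1 → ∀ q b : ℕ, q.Prime → orderOf y = q ^ b → q ≠ p → (χ : G → ℂ) y = 0 := by
    intro χ hχ
    obtain ⟨n, hn⟩ := char_one_nat (irr_isCharacter χ)
    by_cases hv : ∃ x : G, x ≠ 1 ∧ ∃ p a : ℕ, p.Prime ∧ orderOf x = p ^ a ∧ (χ : G → ℂ) x ≠ 0
    · obtain ⟨x, hx, p, a, hp, ha, hne⟩ := hv
      have hz : ∀ q : ℕ, q.Prime → q ≠ p → ∀ y : G, y ≠ 1 → (∃ b, orderOf y = q ^ b) →
          (χ : G → ℂ) y = 0 := fun q hq hqp y hy ⟨b, hb⟩ =>
        (mul_eq_zero.1 (mul_eq_zero_of_nonlinear H hχ hx hy hp hq (Ne.symm hqp) ha hb)).resolve_left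
          hne
      obtain ⟨h1, h2⟩ := nonzero_prime H hχ hn hp hz
      refine ⟨p, hp, h2, fun m hm => ?_, fun y hy q b hq hb hqp => hz q hq hqp y hy ⟨b, hb⟩⟩
      have : m = n := by exact_mod_cast hm.symm.trans hn
      rw [this]; exact h1
    · push Not at hv
      have hN1 : Nat.card G ≠ 1 := fun e => hab <| by
        haveI := (Nat.card_eq_one_iff_unique.1 e).1
        exact ⟨⟨fun a b => Subsingleton.elim _ _⟩⟩
      obtain ⟨p, hp, -⟩ := Nat.exists_prime_and_dvd hN1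
      have hz : ∀ q : ℕ, q.Prime → q ≠ p → ∀ y : G, y ≠ 1 → (∃ b, orderOf y = q ^ b) →
          (χ : G → ℂ) y = 0 := fun q hq _ y hy ⟨b, hb⟩ => hv y hy q b hq hb
      obtain ⟨h1, h2⟩ := nonzero_prime H hχ hn hp hz
      refine ⟨p, hp, h2, fun m hm => ?_, fun y hy q b hq hb hqp => hz q hq hqp y hy ⟨b, hb⟩⟩
      have : m = n := by exact_mod_cast hm.symm.trans hn
      rw [this]; exact h1
  obtain ⟨χ₀, hχ₀⟩ : ∃ χ : Cfsg.IrrCharacter G, (χ : G → ℂ) 1 ≠ 1 := by
    by_contra hall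
    push Not at hall
    exact hab ⟨⟨comm_of_forall_degree_one hall⟩⟩
  obtain ⟨p, hp, hlt, -, -⟩ := key χ₀ hχ₀
  refine ⟨p, hp, fun χ hχ => ?_⟩
  obtain ⟨r, hr, hlt', h1, h2⟩ := key χ hχ
  obtain rfl := prime_unique hN hp hr hlt hlt'
  exact ⟨h1, fun y hy q b hq hb hqp => h2 y hy q b hq hb hqp⟩

theorem ordCompl_dvd_index {p : ℕ}
    (h : ∀ χ : Cfsg.IrrCharacter G, (χ : G → ℂ) 1 ≠ 1 → ∀ n : ℕ, (χ : G → ℂ) 1 = (n : ℂ) →
      Nat.card G / p ^ (Nat.card G).factorization p ∣ n) :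
    Nat.card G / p ^ (Nat.card G).factorization p ∣ (commutator G).index := by
  classical
  haveI := Fintype.ofFinite (Cfsg.IrrCharacter G)
  choose d hd using fun η : Cfsg.IrrCharacter G => char_one_nat (irr_isCharacter η)
  have hs := sum_degree_sq (G := G)
  simp only [hd, sq] at hs
  have hs' : ∑ η : Cfsg.IrrCharacter G, d η * d η = Nat.card G := by exact_mod_cast hs
  rw [← Finset.sum_filter_add_sum_filter_not Finset.univ (fun η => d η = 1)] at hs'
  have hlin : ∑ η ∈ Finset.univ.filter (fun η => d η = 1), d η * d η = (commutator G).index := by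
    rw [Finset.sum_congr rfl (g := fun _ => 1) fun η hη => by rw [(Finset.mem_filter.1 hη).2],
      ← Finset.card_eq_sum_ones, ← card_degree_one, Nat.card_eq_fintype_card,
      Fintype.card_subtype]
    congr 1
    exact Finset.filter_congr fun η _ => by rw [hd]; exact (Nat.cast_eq_one).symm
  rw [hlin] at hs'
  refine (Nat.dvd_add_left ?_).1 (by rw [hs']; exact Nat.ordCompl_dvd _ _)
  refine Finset.dvd_sum fun η hη => Dvd.dvd.mul_right ?_ _
  exact h η (fun e => (Finset.mem_filter.1 hη).2 (by exact_mod_cast (hd η).symm.trans e)) _ (hd η)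

theorem forward (H : IsPPMult G) (hnp : ¬ ∃ p : ℕ, p.Prime ∧ IsPGroup p G)
    (hab : ¬ IsMulCommutative G) :
    ∃ (p : ℕ) (_ : Fact p.Prime) (P : Sylow p G) (A : Subgroup G),
      (P : Subgroup G).Normal ∧ IsCyclic ↥A ∧ A ≠ ⊥ ∧ (Nat.card ↥A).Coprime p ∧
      A ⊔ (P : Subgroup G) = ⊤ ∧
      IsMulCommutative ↥((P : Subgroup G) ⊓ Subgroup.centralizer (A : Set G)) ∧
      (⁅A, (P : Subgroup G)⁆).Normal ∧
      ((P : Subgroup G) ⊓ Subgroup.centralizer (A : Set G)) ⊔ ⁅A, (P : Subgroup G)⁆ =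
        (P : Subgroup G) ∧
      ((P : Subgroup G) ⊓ Subgroup.centralizer (A : Set G)) ⊓ ⁅A, (P : Subgroup G)⁆ = ⊥ ∧
      ∀ a ∈ A, a ≠ 1 → ∀ d ∈ ⁅A, (P : Subgroup G)⁆, a * d = d * a → d = 1 := by
  classical
  have hN : Nat.card G ≠ 0 := Nat.card_pos.ne'
  obtain ⟨p, hp, hprop⟩ := exists_prime H hab
  haveI : Fact p.Prime := ⟨hp⟩
  have hidx := ordCompl_dvd_index (p := p) fun χ hχ => (hprop χ hχ).1
  have hG'p : IsPGroup p (commutator G) := by
    have hmul := (commutator G).card_mul_index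
    have hd : Nat.card (commutator G) ∣ p ^ (Nat.card G).factorization p := by
      obtain ⟨m, hm⟩ := hidx
      have h3 := Nat.ordProj_mul_ordCompl_eq_self (Nat.card G) p
      refine ⟨m, Nat.eq_of_mul_eq_mul_right (Nat.ordCompl_pos p hN) ?_⟩
      rw [h3, mul_assoc, mul_comm m, ← hm, hmul]
    obtain ⟨i, -, hi⟩ := (Nat.dvd_prime_pow hp).1 hd
    exact IsPGroup.of_card hi
  obtain ⟨P, hP⟩ := hG'p.exists_le_sylow
  haveI hPn : (P : Subgroup G).Normal := Subgroup.Normal.of_commutator_le (h := hP)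
  obtain ⟨A, hA⟩ := Subgroup.exists_right_complement'_of_coprime P.card_coprime_index
  have hcopP : (Nat.card A).Coprime p := by
    rw [← hA.symm.index_eq_card]
    exact Nat.Coprime.symm ((hp.coprime_iff_not_dvd).2 P.not_dvd_index)
  have hcop : (Nat.card A).Coprime (Nat.card (P : Subgroup G)) := by
    rw [← hA.symm.index_eq_card]
    exact P.card_coprime_index.symm
  have hAbot : A ≠ ⊥ := by
    intro e
    refine hnp ⟨p, hp, ?_⟩
    have h : Nat.card (P : Subgroup G) = Nat.card G := by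
      rw [← hA.card_mul, e, Subgroup.card_bot, mul_one]
    exact IsPGroup.of_surjective P.2 (P : Subgroup G).subtype fun g =>
      ⟨⟨g, by rw [(Subgroup.card_eq_iff_eq_top _).1 h]; trivial⟩, rfl⟩
  haveI hAab : IsMulCommutative A := ⟨⟨fun a b => by
    apply Subtype.ext
    show (a : G) * b = b * a
    rw [← commutatorElement_eq_one_iff_mul_comm]
    have h1 : ⁅(a : G), (b : G)⁆ ∈ (P : Subgroup G) :=
      hP (Subgroup.commutator_mem_commutator (Subgroup.mem_top _) (Subgroup.mem_top _))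
    exact Subgroup.disjoint_def.1 hA.disjoint h1 (by
      rw [commutatorElement_def]
      exact mul_mem (mul_mem (mul_mem a.2 b.2) (inv_mem a.2)) (inv_mem b.2))⟩⟩
  have hAP : A ≤ Subgroup.normalizer ((P : Subgroup G) : Set G) := fun a _ => by
    rw [Subgroup.normalizer_eq_top]; trivial
  set C := (P : Subgroup G) ⊓ Subgroup.centralizer (A : Set G) with hC
  set D := ⁅A, (P : Subgroup G)⁆ with hD
  have hD' : D = ⁅(P : Subgroup G), A⁆ := Subgroup.commutator_comm _ _
  have hDG : D ≤ commutator G := by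
    rw [hD, commutator_def]; exact Subgroup.commutator_mono le_top le_top
  have hsolv : Group.IsSolvable A ∨ Group.IsSolvable (P : Subgroup G) :=
    Or.inl (Group.isSolvable_of_comm fun a b => hAab.1.1 a b)
  have hsup : D ⊔ C = P := by
    rw [hD']; exact Coprime.commutator_sup_inf_centralizer hAP hcop hsolv
  -- centralizers of prime power elements of `A`
  have hcent : ∀ a ∈ A, ∀ q b : ℕ, q.Prime → orderOf a = q ^ b → a ≠ 1 →
      Nat.card ((P : Subgroup G) ⊓ Subgroup.centralizer {a} : Subgroup G) *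
        Nat.card (commutator G) = Nat.card (P : Subgroup G) := by
    intro a ha q b hq hb ha1
    have hqp : q ≠ p := fun e => by
      have hb0 : b ≠ 0 := fun e' => ha1 (orderOf_eq_one_iff.1 (by rw [hb, e', pow_zero]))
      have hd : p ∣ Nat.card A := by
        refine (dvd_pow_self p hb0).trans ?_
        rw [← e, ← hb]; exact Subgroup.orderOf_dvd_natCard A ha
      exact (hp.coprime_iff_not_dvd).1 hcopP.symm hd
    have hcard := centralizer_card_of_vanish (g := a) fun χ hχ =>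
      (hprop χ hχ).2 a ha1 q b hq hb hqp
    have hmul : Nat.card A * Nat.card ((P : Subgroup G) ⊓ Subgroup.centralizer {a} : Subgroup G)
        = Nat.card (Subgroup.centralizer ({a} : Set G)) := by
      rw [← Nat.card_prod]
      have hAc : ∀ a' ∈ A, a' ∈ Subgroup.centralizer ({a} : Set G) := fun a' ha' => by
        rw [Subgroup.mem_centralizer_singleton_iff]
        exact congrArg Subtype.val (hAab.1.1 ⟨a', ha'⟩ ⟨a, ha⟩)
      refine Nat.card_congr (Equiv.ofBijective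
        (fun z => (⟨(z.1 : G) * z.2, mul_mem (hAc _ z.1.2) z.2.2.2⟩ :
          Subgroup.centralizer ({a} : Set G))) ⟨?_, ?_⟩)
      · intro z w hzw
        have := Subgroup.mul_injective_of_disjoint hA.symm.disjoint
          (a₁ := (z.1, ⟨(z.2 : G), z.2.2.1⟩)) (a₂ := (w.1, ⟨(w.2 : G), w.2.2.1⟩))
          (congrArg Subtype.val hzw)
        simp only [Prod.mk.injEq, Subtype.mk.injEq] at this
        exact Prod.ext this.1 (Subtype.ext this.2)
      · rintro ⟨g, hg⟩
        obtain ⟨⟨⟨a', ha'⟩, ⟨c, hc⟩⟩, hac⟩ := (hA.symm).2 g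
        have hceq : c = a'⁻¹ * g := by rw [← hac]; group
        have hc' : c ∈ Subgroup.centralizer ({a} : Set G) :=
          hceq ▸ mul_mem (inv_mem (hAc a' ha')) hg
        exact ⟨(⟨a', ha'⟩, ⟨c, hc, hc'⟩), Subtype.ext hac⟩
    have h1 := (commutator G).card_mul_index
    rw [← hcard, ← hmul, ← hA.card_mul] at h1
    refine Nat.eq_of_mul_eq_mul_left (Nat.card_pos (α := A)) ?_
    rw [← mul_assoc, mul_comm _ (Nat.card (commutator G)), h1, mul_comm]
  -- a product map
  have hdec : ∀ k ∈ (P : Subgroup G), ∃ c ∈ C, ∃ x ∈ D, k = c * x := fun k hk => by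
    rw [hD']; exact Coprime.exists_eq_centralizer_mul_commutator hAP hcop hsolv hk
  have hprod : ∀ x ∈ C, ∀ y ∈ D, x * y ∈ (P : Subgroup G) := fun x hx y hy =>
    mul_mem hx.1 (hP (hDG hy))
  let F : C × D → (P : Subgroup G) := fun z => ⟨z.1 * z.2, hprod _ z.1.2 _ z.2.2⟩
  have hFs : Function.Surjective F := fun ⟨k, hk⟩ => by
    obtain ⟨c, hc, x, hx, rfl⟩ := hdec k hk
    exact ⟨(⟨c, hc⟩, ⟨x, hx⟩), rfl⟩
  obtain ⟨a₀, ha₀, ha₀q⟩ : ∃ a ∈ A, a ≠ 1 ∧ ∃ q b : ℕ, q.Prime ∧ orderOf a = q ^ b := by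
    have hA1 : Nat.card A ≠ 1 := fun e => hAbot (Subgroup.eq_bot_of_card_eq _ e)
    obtain ⟨q, hq, hqd⟩ := Nat.exists_prime_and_dvd hA1
    haveI : Fact q.Prime := ⟨hq⟩
    obtain ⟨a, ha⟩ := exists_prime_orderOf_dvd_card' q hqd
    refine ⟨a, a.2, fun e => hq.one_lt.ne ?_, q, 1, hq, by rw [Subgroup.orderOf_coe, ha, pow_one]⟩
    rw [← ha, ← Subgroup.orderOf_coe, e, orderOf_one]
  obtain ⟨ha₀1, q₀, b₀, hq₀, hb₀⟩ := ha₀q
  have hCle : ∀ a ∈ A, C ≤ (P : Subgroup G) ⊓ Subgroup.centralizer {a} := fun a ha =>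
    inf_le_inf_left _ (Subgroup.centralizer_le (Set.singleton_subset_iff.2 ha))
  have hcards : ∀ a ∈ A, ∀ q b : ℕ, q.Prime → orderOf a = q ^ b → a ≠ 1 →
      (P : Subgroup G) ⊓ Subgroup.centralizer {a} = C ∧ D = commutator G ∧
        Function.Injective F := by
    intro a ha q b hq hb ha1
    have h := hcent a ha q b hq hb ha1
    have h1 : Nat.card (P : Subgroup G) ≤ Nat.card C * Nat.card D := by
      rw [← Nat.card_prod]; exact Nat.card_le_card_of_surjective F hFs
    have h2 := Nat.le_of_dvd Nat.card_pos (Subgroup.card_dvd_of_le (hCle a ha))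
    have h3 := Nat.le_of_dvd Nat.card_pos (Subgroup.card_dvd_of_le hDG)
    have hc0 : 0 < Nat.card C := Nat.card_pos
    have hd0 : 0 < Nat.card (commutator G) := Nat.card_pos
    have e1 : Nat.card ((P : Subgroup G) ⊓ Subgroup.centralizer {a} : Subgroup G) ≤ Nat.card C :=
      le_of_mul_le_mul_right (h.le.trans (h1.trans (Nat.mul_le_mul_left _ h3))) hd0
    have e2 : Nat.card (commutator G) ≤ Nat.card D :=
      le_of_mul_le_mul_left ((Nat.mul_le_mul_right _ h2).trans (h.le.trans h1)) hc0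
    refine ⟨(Subgroup.eq_of_le_of_card_ge (hCle a ha) e1).symm,
      Subgroup.eq_of_le_of_card_ge hDG e2, ?_⟩
    have hge : Nat.card (C × D) ≤ Nat.card (P : Subgroup G) := by
      rw [Nat.card_prod, ← h]; exact Nat.mul_le_mul h2 h3
    exact (Function.Surjective.bijective_of_nat_card_le hFs hge).1
  obtain ⟨-, hDeq, hFinj⟩ := hcards a₀ ha₀ q₀ b₀ hq₀ hb₀ ha₀1
  have hDn : D.Normal := by rw [hDeq]; infer_instance
  have hCD : C ⊓ D = ⊥ := by
    rw [eq_bot_iff]
    rintro x ⟨hxC, hxD⟩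
    have : F (⟨x, hxC⟩, 1) = F (1, ⟨x, hxD⟩) := Subtype.ext (by simp [F])
    exact congrArg Subtype.val (Prod.ext_iff.1 (hFinj this)).1
  have hfpf : ∀ a ∈ A, a ≠ 1 → ∀ d ∈ D, a * d = d * a → d = 1 := by
    intro a ha ha1 d hd hda
    have ho : orderOf a ≠ 1 := mt orderOf_eq_one_iff.1 ha1
    obtain ⟨q, hq, m, hm⟩ := Nat.exists_prime_and_dvd ho
    have hm0 : m ≠ 0 := fun e => (orderOf_pos a).ne' (by rw [hm, e, mul_zero])
    have hmq : orderOf (a ^ m) = q := by
      rw [orderOf_pow_of_dvd hm0 ⟨q, by rw [hm, mul_comm]⟩, hm,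
        Nat.mul_div_cancel _ (Nat.pos_of_ne_zero hm0)]
    have hne : a ^ m ≠ 1 := fun e => hq.one_lt.ne (by rw [← hmq, e, orderOf_one])
    obtain ⟨heq, -, -⟩ := hcards _ (pow_mem ha m) q 1 hq (by rw [hmq, pow_one]) hne
    have hdC : d ∈ C := by
      rw [← heq]
      exact ⟨hP (hDG hd), Subgroup.mem_centralizer_singleton_iff.2
        ((show Commute a d from hda).pow_left m).eq.symm⟩
    exact (Subgroup.mem_bot).1 (hCD ▸ (⟨hdC, hd⟩ : d ∈ C ⊓ D))
  have hAD : A ≤ Subgroup.normalizer (D : Set G) := fun a _ => by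
    haveI := hDn
    rw [Subgroup.normalizer_eq_top]; trivial
  have hcyc : IsCyclic A := by
    by_contra hnc
    have hcopD : (Nat.card A).Coprime (Nat.card D) :=
      hcop.coprime_dvd_right (Subgroup.card_dvd_of_le (hDG.trans hP))
    have h := Coprime.fixedGen_eq hnc hAD hcopD
    have hbot : Coprime.fixedGen A D = ⊥ := by
      refine le_bot_iff.1 (iSup₂_le fun a ha => ?_)
      rintro d ⟨hd, hd'⟩
      exact Subgroup.mem_bot.2 (hfpf a ha.1 ha.2 d hd
        (Subgroup.mem_centralizer_singleton_iff.1 hd').symm)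
    refine hab ⟨⟨fun x y => ?_⟩⟩
    rw [← commutatorElement_eq_one_iff_mul_comm, ← Subgroup.mem_bot, ← hbot, h, hDeq,
      commutator_def]
    exact Subgroup.commutator_mem_commutator (Subgroup.mem_top _) (Subgroup.mem_top _)
  refine ⟨p, ⟨hp⟩, P, A, hPn, hcyc, hAbot, hcopP, hA.symm.sup_eq_top, ?_, hDn, ?_, hCD, hfpf⟩
  · refine ⟨⟨fun x y => Subtype.ext ?_⟩⟩
    show (x : G) * y = y * x
    rw [← commutatorElement_eq_one_iff_mul_comm, ← Subgroup.mem_bot, ← hCD]
    refine Subgroup.mem_inf.2 ⟨?_, ?_⟩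
    · rw [commutatorElement_def]
      exact mul_mem (mul_mem (mul_mem x.2 y.2) (inv_mem x.2)) (inv_mem y.2)
    · show ⁅(x : G), (y : G)⁆ ∈ D
      rw [hDeq, commutator_def]
      exact Subgroup.commutator_mem_commutator (Subgroup.mem_top _) (Subgroup.mem_top _)
  · rw [sup_comm]; exact hsup

theorem backward {p : ℕ} [Fact p.Prime] {P : Sylow p G} {A : Subgroup G}
    (hPn : (P : Subgroup G).Normal) (hcyc : IsCyclic ↥A) (hcop : (Nat.card ↥A).Coprime p)
    (htop : A ⊔ (P : Subgroup G) = ⊤)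
    (hCab : IsMulCommutative ↥((P : Subgroup G) ⊓ Subgroup.centralizer (A : Set G)))
    (hDn : (⁅A, (P : Subgroup G)⁆).Normal)
    (hsup : ((P : Subgroup G) ⊓ Subgroup.centralizer (A : Set G)) ⊔ ⁅A, (P : Subgroup G)⁆ =
      (P : Subgroup G))
    (hfpf : ∀ a ∈ A, a ≠ 1 → ∀ d ∈ ⁅A, (P : Subgroup G)⁆, a * d = d * a → d = 1) :
    IsPPMult G := by
  classical
  have hp : p.Prime := Fact.out
  set C := (P : Subgroup G) ⊓ Subgroup.centralizer (A : Set G) with hC
  set D := ⁅A, (P : Subgroup G)⁆ with hD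
  haveI := hDn
  have hAN : C ⊔ D ≤ (P : Subgroup G) := hsup.le
  -- `A C` is abelian
  have hAC : ∀ a ∈ A, ∀ c ∈ C, a * c = c * a := fun a ha c hc =>
    Subgroup.mem_centralizer_iff.1 hc.2 a ha
  have hBcomm : ∀ x ∈ A ⊔ C, ∀ y ∈ A ⊔ C, x * y = y * x := by
    have hgen : ∀ y, y ∈ A ∨ y ∈ C → A ⊔ C ≤ Subgroup.centralizer ({y} : Set G) := by
      intro y hy
      refine sup_le (fun a ha => ?_) (fun c hc => ?_) <;>
        rw [Subgroup.mem_centralizer_singleton_iff] <;> rcases hy with hy | hy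
      · letI := hcyc.commGroup
        exact congrArg Subtype.val (mul_comm (⟨a, ha⟩ : A) ⟨y, hy⟩)
      · exact hAC a ha y hy
      · exact (hAC y hy c hc).symm
      · exact congrArg Subtype.val (hCab.1.1 ⟨c, hc⟩ ⟨y, hy⟩)
    intro x hx y hy
    have h : A ⊔ C ≤ Subgroup.centralizer ({x} : Set G) := by
      refine sup_le (fun a ha => ?_) (fun c hc => ?_) <;>
        rw [Subgroup.mem_centralizer_singleton_iff]
      · exact (Subgroup.mem_centralizer_singleton_iff.1 (hgen a (Or.inl ha) hx)).symm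
      · exact (Subgroup.mem_centralizer_singleton_iff.1 (hgen c (Or.inr hc) hx)).symm
    exact (Subgroup.mem_centralizer_singleton_iff.1 (h hy)).symm
  have hCn : C ≤ Subgroup.normalizer (A : Set G) := fun c hc => by
    rw [Subgroup.mem_normalizer_iff]
    intro a
    constructor
    · intro ha
      rw [← hAC a ha c hc, mul_inv_cancel_right]
      exact ha
    · intro ha
      have h := hAC _ ha c hc
      have : a = c * a * c⁻¹ := by
        calc a = c⁻¹ * (c * a * c⁻¹ * c) := by group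
          _ = c⁻¹ * (c * (c * a * c⁻¹)) := by rw [h]
          _ = c * a * c⁻¹ := by group
      rw [this]; exact ha
  have hdecomp : ∀ g : G, ∃ b ∈ A ⊔ C, ∃ d ∈ D, b * d = g := by
    intro g
    have hg : g ∈ (A ⊔ C) ⊔ D := by rw [sup_assoc, hsup, htop]; trivial
    exact Subgroup.mem_sup_of_normal_right.1 hg
  have hDG : commutator G ≤ D := by
    rw [commutator_def, Subgroup.commutator_le]
    intro g _ g' _
    obtain ⟨b, hb, d, hd, rfl⟩ := hdecomp g
    obtain ⟨b', hb', d', hd', rfl⟩ := hdecomp g'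
    rw [← QuotientGroup.eq_one_iff, ← QuotientGroup.mk'_apply, map_commutatorElement,
      commutatorElement_eq_one_iff_mul_comm]
    simp only [map_mul, QuotientGroup.mk'_apply, (QuotientGroup.eq_one_iff d).2 hd,
      (QuotientGroup.eq_one_iff d').2 hd', mul_one, ← QuotientGroup.mk_mul, hBcomm b hb b' hb']
  have hDP : D ≤ (P : Subgroup G) := le_sup_right.trans hsup.le
  have hvan : ∀ g : G, g ∉ (P : Subgroup G) → ∀ χ : Cfsg.IrrCharacter G,
      (χ : G → ℂ) 1 ≠ 1 → (χ : G → ℂ) g = 0 := by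
    intro g hg χ hχ
    obtain ⟨b, hb, d, hd, rfl⟩ := hdecomp g
    obtain ⟨a, ha, c, hc, hac⟩ := (Coprime.mem_sup_of_le_normalizer hCn).1 hb
    have ha1 : a ≠ 1 := fun e => hg (mul_mem (by rw [← hac, e, one_mul]; exact hc.1) (hDP hd))
    have hfix : ∀ v ∈ D, b * v = v * b → v = 1 := by
      intro v hv hbv
      obtain ⟨j, hj⟩ := (IsPGroup.iff_orderOf.1 P.2) ⟨c, hc.1⟩
      rw [← Subgroup.orderOf_coe] at hj
      have hcom : Commute a c := hAC a ha c hc
      have hpw : b ^ p ^ j = a ^ p ^ j := by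
        rw [← hac, hcom.mul_pow, orderOf_dvd_iff_pow_eq_one.1 hj.dvd, mul_one]
      have h1 : Commute (a ^ p ^ j) v := hpw ▸ (show Commute b v from hbv).pow_left _
      obtain ⟨k, hk⟩ := exists_pow_eq_self_of_coprime (x := a) (n := p ^ j)
        ((hcop.coprime_dvd_left (Subgroup.orderOf_dvd_natCard A ha)).symm.pow_left j)
      exact hfpf a ha ha1 v hv (hk ▸ h1.pow_left k).eq
    let f : D → D := fun v => ⟨b⁻¹ * v * b * (v : G)⁻¹, mul_mem (by
      simpa using Subgroup.Normal.conj_mem hDn (v : G) v.2 b⁻¹) (inv_mem v.2)⟩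
    have hf : Function.Injective f := by
      intro v w hvw
      have e : b⁻¹ * v * b * (v : G)⁻¹ = b⁻¹ * w * b * (w : G)⁻¹ := congrArg Subtype.val hvw
      have e2 : b * ((w : G)⁻¹ * v) = ((w : G)⁻¹ * v) * b := by
        calc b * ((w : G)⁻¹ * v)
            = (w : G)⁻¹ * b * (b⁻¹ * w * b * (w : G)⁻¹) * v := by group
          _ = (w : G)⁻¹ * b * (b⁻¹ * v * b * (v : G)⁻¹) * v := by rw [e]
          _ = ((w : G)⁻¹ * v) * b := by group
      exact Subtype.ext (inv_mul_eq_one.1 (hfix _ (mul_mem (inv_mem w.2) v.2) e2)).symm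
    obtain ⟨v, hv⟩ := Finite.surjective_of_injective hf ⟨d, hd⟩
    have hv' : b⁻¹ * v * b * (v : G)⁻¹ = d := congrArg Subtype.val hv
    have hconj : b * d = v * b * (v : G)⁻¹ := by rw [← hv']; group
    rw [hconj, irr_isClassFunction χ b v]
    refine vanish_of_centralizer_le ?_ hχ
    have hinj : Function.Injective (fun z : Subgroup.centralizer ({b} : Set G) =>
        ((z : G) : G ⧸ D)) := by
      intro z w hzw
      have hm : (z : G)⁻¹ * w ∈ D := QuotientGroup.eq.1 hzw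
      have hm' : (z : G)⁻¹ * w ∈ Subgroup.centralizer ({b} : Set G) :=
        mul_mem (inv_mem z.2) w.2
      exact Subtype.ext (inv_mul_eq_one.1
        (hfix _ hm (Subgroup.mem_centralizer_singleton_iff.1 hm').symm))
    calc Nat.card (Subgroup.centralizer ({b} : Set G))
        ≤ Nat.card (G ⧸ D) := Nat.card_le_card_of_injective _ hinj
      _ = D.index := rfl
      _ ≤ (commutator G).index := Nat.le_of_dvd
          (Nat.pos_of_ne_zero Subgroup.index_ne_zero_of_finite) (Subgroup.index_dvd_of_le hDG)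
  intro x y χ hx hy ⟨q, r, i, j, hq, hr, hqr, hi, hj⟩
  by_cases hχ : (χ : G → ℂ) 1 = 1
  · exact char_mul_of_degree_one (irr_isCharacter χ) hχ x y
  have hcase : ∀ z : G, z ≠ 1 → ∀ s k : ℕ, s.Prime → orderOf z = s ^ k →
      z ∈ (P : Subgroup G) → s = p := by
    intro z hz s k hs hk hzP
    obtain ⟨l, hl⟩ := (IsPGroup.iff_orderOf.1 P.2) ⟨z, hzP⟩
    rw [← Subgroup.orderOf_coe] at hl
    have hk0 : k ≠ 0 := fun e => hz (orderOf_eq_one_iff.1 (by rw [hk, e, pow_zero]))
    exact (Nat.prime_dvd_prime_iff_eq hs hp).1 (hs.dvd_of_dvd_pow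
      ((dvd_pow_self s hk0).trans (hk.symm.trans hl).dvd))
  have hnot : x ∉ (P : Subgroup G) ∨ y ∉ (P : Subgroup G) := by
    by_contra hcon
    push Not at hcon
    exact hqr ((hcase x hx q i hq hi hcon.1).trans (hcase y hy r j hr hj hcon.2).symm)
  have hxy : x * y ∉ (P : Subgroup G) := by
    intro hmem
    haveI := hPn
    have e : ((x : G) : G ⧸ (P : Subgroup G)) = ((y : G) : G ⧸ (P : Subgroup G))⁻¹ := by
      rw [eq_inv_iff_mul_eq_one, ← QuotientGroup.mk_mul]
      exact (QuotientGroup.eq_one_iff _).2 hmem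
    have d1 : orderOf ((x : G) : G ⧸ (P : Subgroup G)) ∣ q ^ i :=
      hi ▸ orderOf_map_dvd (QuotientGroup.mk' (P : Subgroup G)) x
    have d2 : orderOf ((x : G) : G ⧸ (P : Subgroup G)) ∣ r ^ j := by
      rw [e, orderOf_inv]; exact hj ▸ orderOf_map_dvd (QuotientGroup.mk' (P : Subgroup G)) y
    have hco : (q ^ i).Coprime (r ^ j) := ((Nat.coprime_primes hq hr).2 hqr).pow _ _
    have h1 : orderOf ((x : G) : G ⧸ (P : Subgroup G)) = 1 :=
      Nat.dvd_one.1 (hco ▸ Nat.dvd_gcd d1 d2)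
    rw [orderOf_eq_one_iff] at h1
    have hxP : x ∈ (P : Subgroup G) := (QuotientGroup.eq_one_iff _).1 h1
    rw [e, inv_eq_one] at h1
    rcases hnot with h | h
    · exact h hxP
    · exact h ((QuotientGroup.eq_one_iff _).1 h1)
  rw [hvan _ hxy χ hχ]
  rcases hnot with h | h
  · rw [hvan _ h χ hχ, zero_mul]
  · rw [hvan _ h χ hχ, mul_zero]

theorem main : IsPPMult G ↔ ((∃ p : ℕ, p.Prime ∧ IsPGroup p G) ∨ IsMulCommutative G ∨
    ∃ (p : ℕ) (_ : Fact p.Prime) (P : Sylow p G) (A : Subgroup G), (P : Subgroup G).Normal ∧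
      IsCyclic ↥A ∧ A ≠ ⊥ ∧ (Nat.card ↥A).Coprime p ∧ A ⊔ (P : Subgroup G) = ⊤ ∧
      IsMulCommutative ↥((P : Subgroup G) ⊓ Subgroup.centralizer (A : Set G)) ∧
      (⁅A, (P : Subgroup G)⁆).Normal ∧
      ((P : Subgroup G) ⊓ Subgroup.centralizer (A : Set G)) ⊔ ⁅A, (P : Subgroup G)⁆ =
        (P : Subgroup G) ∧
      ((P : Subgroup G) ⊓ Subgroup.centralizer (A : Set G)) ⊓ ⁅A, (P : Subgroup G)⁆ = ⊥ ∧
      ∀ a ∈ A, a ≠ 1 → ∀ d ∈ ⁅A, (P : Subgroup G)⁆, a * d = d * a → d = 1) := by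
  refine ⟨fun H => ?_, ?_⟩
  · by_cases h1 : ∃ p : ℕ, p.Prime ∧ IsPGroup p G
    · exact Or.inl h1
    by_cases h2 : IsMulCommutative G
    · exact Or.inr (Or.inl h2)
    exact Or.inr (Or.inr (forward H h1 h2))
  · rintro (⟨p, hp, hG⟩ | hab | ⟨p, _, P, A, hPn, hcyc, -, hcop, htop, hCab, hDn, hsup, -, hf⟩)
    · intro x y χ hx hy ⟨q, r, i, j, hq, hr, hqr, hi, hj⟩
      haveI : Fact p.Prime := ⟨hp⟩
      have hcase : ∀ z : G, z ≠ 1 → ∀ s k : ℕ, s.Prime → orderOf z = s ^ k → s = p := by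
        intro z hz s k hs hk
        obtain ⟨l, hl⟩ := (IsPGroup.iff_orderOf.1 hG) z
        have hk0 : k ≠ 0 := fun e => hz (orderOf_eq_one_iff.1 (by rw [hk, e, pow_zero]))
        exact (Nat.prime_dvd_prime_iff_eq hs hp).1 (hs.dvd_of_dvd_pow
          ((dvd_pow_self s hk0).trans (hk.symm.trans hl).dvd))
      exact absurd ((hcase x hx q i hq hi).trans (hcase y hy r j hr hj).symm) hqr
    · intro x y χ _ _ _
      exact char_mul_of_degree_one (irr_isCharacter χ)
        (irr_degree_one_of_comm (fun a b => hab.1.1 a b) χ.2) x y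
    · exact backward hPn hcyc hcop htop hCab hDn hsup hf

end Cfsg.Agent.BlocksChars.PrimePowerMultiplicative
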