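import Mathlib
import Cfsg.Agent.BlocksChars.ItoPSolvable
import Cfsg.Agent.Lib.Blocks.Inflation
import Cfsg.Agent.Lib.Blocks.Block
import Cfsg.Agent.BlockCharsA.NormalSupport

/-!
# The principal block of a `p`-solvable group
-/

set_option linter.style.haveILetI false

namespace Cfsg.Agent.BlocksChars.PrincipalPSolvable

open Cfsg.Agent.Characters Cfsg.Agent.Blocks Cfsg.Agent.Cores Cfsg.Agent.CharTheory

universe u

variable {G : Type u} [Group G] [Finite G] {p : ℕ} {M : Ideal Cfsg.AlgInt}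

theorem coe_trivIrr (G : Type u) [Group G] : (trivIrr G : G → ℂ) = fun _ => (1 : ℂ) := rfl

/-- The members of the principal block are trivial on the largest normal `p'`-subgroup. -/
theorem trivial_of_mem (hM : Cfsg.IsPModular p M) [Fact p.Prime] {χ : Cfsg.IrrCharacter G}
    (h : χ ∈ Cfsg.principalBlock M G) :
    ∀ n ∈ Cfsg.pPrimeCore p G, (χ : G → ℂ) n = (χ : G → ℂ) 1 := by
  haveI := pPrimeCore_normal p G
  exact trivial_on_transfer hM (pPrimeCore_not_dvd p) (χ := trivIrr G) h fun n _ => by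
    rw [coe_trivIrr]

/-- In a `p`-solvable group the principal block is the set of characters trivial on the largest
normal `p'`-subgroup. -/
theorem principal_iff_trivial (hM : Cfsg.IsPModular p M) [Fact p.Prime]
    (hsolv : Cfsg.IsPSolvable p G) (χ : Cfsg.IrrCharacter G) :
    χ ∈ Cfsg.principalBlock M G ↔ ∀ n ∈ Cfsg.pPrimeCore p G, (χ : G → ℂ) n = (χ : G → ℂ) 1 := by
  refine ⟨trivial_of_mem hM, fun h => ?_⟩
  haveI := pPrimeCore_normal p G
  obtain ⟨φ, -, hφ, hirr⟩ := exists_deflate_quotient (Cfsg.pPrimeCore p G) (irr_isCharacter χ) h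
  have hcore := pPrimeCore_quotient_self (G := G) p
  have hq := Cfsg.Agent.PLocal.PSolvable.quotient hsolv (Cfsg.pPrimeCore p G)
  haveI : (Cfsg.pCore p (G ⧸ Cfsg.pPrimeCore p G)).Normal := pCore_normal p _
  have hc := Cfsg.Agent.PLocal.PSolvable.centralizer_pCore_le hcore
    (Cfsg.Agent.PLocal.PSolvable.subgroup hq _)
  have hb := Cfsg.Agent.BlockCharsA.NormalSupport.sameBlock_of_selfCentralizing hM
    (pCore_isPGroup p) hc (trivIrr (G ⧸ Cfsg.pPrimeCore p G)) ⟨φ, hirr χ.2⟩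
  have hi := sameBlock_inflate hM (QuotientGroup.mk' (Cfsg.pPrimeCore p G))
    (QuotientGroup.mk'_surjective _) hb
  show Cfsg.SameBlock M (fun _ : G => (1 : ℂ)) (χ : G → ℂ)
  rw [show (χ : G → ℂ) = φ ∘ QuotientGroup.mk' (Cfsg.pPrimeCore p G) from
    funext fun g => (hφ g).symm]
  exact hi

theorem height_zero_iff [Fact p.Prime] {χ : Cfsg.IrrCharacter G} (hM : Cfsg.IsPModular p M) :
    Cfsg.blockHeight p (Cfsg.principalBlock M G) (χ : G → ℂ) = 0 ↔
      ¬ p ∣ Cfsg.charDegree (χ : G → ℂ) := by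
  have h0 : sInf ((fun ψ : Cfsg.IrrCharacter G => (Cfsg.charDegree (ψ : G → ℂ)).factorization p) ''
      Cfsg.principalBlock M G) = 0 := by
    refine Nat.le_zero.1 (Nat.sInf_le ⟨trivIrr G, trivIrr_mem_principal hM, ?_⟩)
    have : Cfsg.charDegree (trivIrr G : G → ℂ) = 1 := by
      simp [coe_trivIrr, Cfsg.charDegree]
    simp only [this, Nat.factorization_one]
    rfl
  unfold Cfsg.blockHeight
  rw [h0, Nat.sub_zero, Nat.factorization_eq_zero_iff]
  have hp : p.Prime := Fact.out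
  have := (charDegree_pos χ).ne'
  tauto

theorem comm_map_iff (N : Subgroup G) [N.Normal] [Fact p.Prime] (P : Sylow p G)
    (hN : (P : Subgroup G) ⊓ N = ⊥) :
    IsMulCommutative (P.mapSurjective (QuotientGroup.mk'_surjective N)) ↔ IsMulCommutative P := by
  constructor
  · intro hab
    refine ⟨⟨fun a b => Subtype.ext ?_⟩⟩
    have h := hab.is_comm.comm (⟨((a : G) : G ⧸ N), ⟨a, a.2, rfl⟩⟩ :
      (P.mapSurjective (QuotientGroup.mk'_surjective N) : Subgroup (G ⧸ N)))
      ⟨((b : G) : G ⧸ N), ⟨b, b.2, rfl⟩⟩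
    have h' : (((a : G) * b : G) : G ⧸ N) = (((b : G) * a : G) : G ⧸ N) := congrArg Subtype.val h
    have h2 : ((b : G) * a)⁻¹ * ((a : G) * b) ∈ (P : Subgroup G) ⊓ N :=
      ⟨((b * a : P)⁻¹ * (a * b)).2, QuotientGroup.eq.1 h'.symm⟩
    rw [hN, Subgroup.mem_bot, inv_mul_eq_one] at h2
    exact h2.symm
  · intro hab
    refine ⟨⟨fun a b => Subtype.ext ?_⟩⟩
    obtain ⟨x, hx, hxa⟩ := a.2
    obtain ⟨y, hy, hyb⟩ := b.2
    show (a : G ⧸ N) * b = b * a
    rw [← hxa, ← hyb, ← map_mul, ← map_mul]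
    exact congrArg _ (congrArg Subtype.val (hab.is_comm.comm (⟨x, hx⟩ : P) ⟨y, hy⟩))

theorem abelian_iff_heights_zero (hM : Cfsg.IsPModular p M) [Fact p.Prime]
    (hsolv : Cfsg.IsPSolvable p G) (P : Sylow p G) :
    IsMulCommutative P ↔ ∀ χ ∈ Cfsg.principalBlock M G,
      Cfsg.blockHeight p (Cfsg.principalBlock M G) (χ : G → ℂ) = 0 := by
  haveI := pPrimeCore_normal p G
  set N := Cfsg.pPrimeCore p G with hN
  have hq := Cfsg.Agent.PLocal.PSolvable.quotient hsolv N
  set P' := P.mapSurjective (QuotientGroup.mk'_surjective N)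
  have hPN : (P : Subgroup G) ⊓ N = ⊥ := by
    obtain ⟨m, hm⟩ := IsPGroup.iff_card.1 P.2
    refine disjoint_iff.1 (Subgroup.disjoint_of_coprime_natCard ?_)
    rw [hm]
    exact Nat.Coprime.pow_left m ((Nat.Prime.coprime_iff_not_dvd Fact.out).2 (pPrimeCore_not_dvd p))
  rw [← comm_map_iff N P hPN]
  constructor
  · intro hab χ hχ
    rw [height_zero_iff hM]
    have hc := Cfsg.Agent.PLocal.PSolvable.centralizer_pCore_le (pPrimeCore_quotient_self (G := G) p)
      (Cfsg.Agent.PLocal.PSolvable.subgroup hq _)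
    have hn : (P' : Subgroup (G ⧸ N)).Normal := by
      have h : (P' : Subgroup (G ⧸ N)) = Cfsg.pCore p (G ⧸ N) := by
        refine le_antisymm (fun x hx => hc ?_) (pCore_le_sylow P')
        exact Subgroup.mem_centralizer_iff.2 fun y hy => congrArg Subtype.val
          (hab.is_comm.comm (⟨y, pCore_le_sylow P' hy⟩ : P') ⟨x, hx⟩)
      rw [h]
      exact pCore_normal p _
    obtain ⟨φ, -, hφ, hirr⟩ := exists_deflate_quotient N (irr_isCharacter χ) (trivial_of_mem hM hχ)
    have h := (ItoPSolvable.normal_abelian_iff hq P').1 ⟨hn, hab⟩ ⟨φ, hirr χ.2⟩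
    rwa [show Cfsg.charDegree (χ : G → ℂ) = Cfsg.charDegree φ by
      unfold Cfsg.charDegree; rw [← hφ 1, QuotientGroup.mk_one]]
  · intro h
    refine ((ItoPSolvable.normal_abelian_iff hq P').2 fun θ => ?_).2
    set χ : Cfsg.IrrCharacter G := ⟨(θ : G ⧸ N → ℂ) ∘ QuotientGroup.mk' N,
      isIrrCharacter_comp_surjective _ (QuotientGroup.mk'_surjective N) θ.2⟩
    have hχ : χ ∈ Cfsg.principalBlock M G := (principal_iff_trivial hM hsolv χ).2 fun n hn => by
      show (θ : G ⧸ N → ℂ) (QuotientGroup.mk' N n) = (θ : G ⧸ N → ℂ) (QuotientGroup.mk' N 1)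
      rw [map_one, show QuotientGroup.mk' N n = 1 from (QuotientGroup.eq_one_iff n).2 hn]
    have h' := (height_zero_iff hM).1 (h χ hχ)
    simpa [χ, Cfsg.charDegree] using h'

end Cfsg.Agent.BlocksChars.PrincipalPSolvable
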