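import Mathlib
import Cfsg.Agent.BlocksChars.Gagola
import Cfsg.Agent.Lib.CharTheory.DegreeIndex

/-!
Multiplicities of constituents in restrictions to normal subgroups divide the index.
-/

set_option autoImplicit false
set_option linter.style.haveILetI false
set_option linter.unusedSectionVars false

namespace Cfsg.Agent.BlocksChars.Ramification

open Cfsg.Agent.Characters Cfsg.Agent.CharTheory Cfsg.Agent.BlocksChars.Degrees

universe u

variable {G : Type u} [Group G] [Fintype G] (N : Subgroup G) [hN : N.Normal] [Fintype N]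

/-- The multiplicity of a constituent of `χ|N` divides `[G : N]`. -/
theorem mult_dvd_index {χ : G → ℂ} (hχ : Cfsg.IsIrrCharacter G χ) {θ : N → ℂ}
    (hθ : Cfsg.IsIrrCharacter N θ) {a : ℕ}
    (ha : Cfsg.classInner (fun n : N => χ n) θ = (a : ℂ)) (ha0 : a ≠ 0) : a ∣ N.index := by
  classical
  set T : Subgroup G := Gagola.inertia N θ with hT
  have hNT : N ≤ T := by
    intro x hx
    show Clifford.conjBy N x θ = θ
    funext n
    rw [Clifford.conjBy_apply]
    have h := char_isClassFunction (isCharacter_of_isIrr hθ) n ⟨x, hx⟩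
    convert h using 2
    exact Subtype.ext rfl
  haveI : Fintype T := Fintype.ofFinite T
  set K : Subgroup T := N.subgroupOf T with hK
  haveI : Fintype K := Fintype.ofFinite K
  let e : K ≃* N := Subgroup.subgroupOfEquivOfLe hNT
  set θK : K → ℂ := θ ∘ e with hθK
  have hθKirr : Cfsg.IsIrrCharacter K θK := (isIrrCharacter_comp_mulEquiv e).2 hθ
  have hinv : ∀ t : T, Clifford.conjBy K t θK = θK := by
    intro t
    funext k
    have h : Clifford.conjBy N (t : G) θ = θ := t.2
    have h2 := congrFun h (e k)
    rw [Clifford.conjBy_apply] at h2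
    rw [Clifford.conjBy_apply, hθK, Function.comp_apply, Function.comp_apply, ← h2]
    rfl
  have hχT : Cfsg.IsCharacter T (fun t : T => χ t) :=
    isCharacter_restrict T (isCharacter_of_isIrr hχ)
  have haK : Cfsg.classInner (fun k : K => χ ((k : T) : G)) θK = (a : ℂ) := by
    rw [← ha, ← Basics.classInner_comp_equiv e (fun n : N => χ n) θ]
    rfl
  haveI := Fintype.ofFinite (Cfsg.IrrCharacter T)
  choose m hm using fun η : Cfsg.IrrCharacter T => classInner_char_nat hχT (irr_isCharacter η)
  choose b hb using fun η : Cfsg.IrrCharacter T =>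
    classInner_char_nat (isCharacter_restrict K (irr_isCharacter η)) (isCharacter_of_isIrr hθKirr)
  have hexp : (fun k : K => χ ((k : T) : G)) =
      ∑ η : Cfsg.IrrCharacter T, (m η : ℂ) • (fun k : K => (η : T → ℂ) k) := by
    funext k
    have := congrFun (classFun_eq_sum (char_isClassFunction hχT)) (k : T)
    simpa [hm, Finset.sum_apply] using this
  rw [hexp, classInner_sum_left] at haK
  simp only [classInner_smul_left, hb, ← Nat.cast_mul, ← Nat.cast_sum, Nat.cast_inj] at haK
  obtain ⟨η, -, hη⟩ : ∃ η ∈ (Finset.univ : Finset (Cfsg.IrrCharacter T)), m η * b η ≠ 0 :=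
    Finset.exists_ne_zero_of_sum_ne_zero (haK ▸ ha0)
  obtain ⟨hm0, hb0⟩ := Nat.mul_ne_zero_iff.1 hη
  have hle : m η * b η ≤ a :=
    haK ▸ Finset.single_le_sum (f := fun η => m η * b η) (fun _ _ => Nat.zero_le _)
      (Finset.mem_univ η)
  have hdvd : b η ∣ K.index :=
    DegreeIndex.ramification_dvd_index K hθKirr hinv η.2 (hb η) hb0
  suffices hab : a = b η by
    rw [hab]
    refine hdvd.trans ?_
    show N.relIndex T ∣ N.index
    exact Subgroup.relIndex_dvd_index_of_normal N T
  -- degrees
  obtain ⟨d, -, hd⟩ := irr_one_pos hθ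
  have hd0 : 0 < d := by
    obtain ⟨d', hd', hd''⟩ := irr_one_pos hθ
    rw [hd] at hd''
    have : d = d' := by exact_mod_cast hd''
    omega
  obtain ⟨x, hx⟩ := char_one_nat (isCharacter_of_isIrr hχ)
  have hχdeg := Clifford.card_mul_degree N hχ hθ (by rw [ha]; exact_mod_cast ha0) T
    (fun g => Iff.rfl)
  rw [ha, hx, hd] at hχdeg
  have hχdeg' : x = a * T.index * d := by
    have h1 : Nat.card T * x = a * (Nat.card G * d) := by exact_mod_cast hχdeg
    apply Nat.eq_of_mul_eq_mul_left (Nat.card_pos (α := T))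
    rw [h1, ← T.card_mul_index]
    ring
  have hres := congrFun (Clifford.restrict_eq_smul_of_invariant K η.2 hθKirr
    (by rw [hb]; exact_mod_cast hb0) hinv) 1
  rw [hb] at hres
  simp only [Pi.smul_apply, smul_eq_mul, hθK, Function.comp_apply, map_one, OneMemClass.coe_one,
    hd] at hres
  have hind1 : Cfsg.indFun T (η : T → ℂ) 1 = ((T.index * (b η * d) : ℕ) : ℂ) := by
    rw [indFun_one, hres]
    push_cast
    ring
  have hmult : Cfsg.classInner (Cfsg.indFun T (η : T → ℂ)) χ = (m η : ℂ) := by
    rw [frobenius_reciprocity T _ (char_isClassFunction (isCharacter_of_isIrr hχ)),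
      classInner_conj_symm, hm, Complex.conj_natCast]
  have hdeg := Basics.degree_le (isCharacter_indFun T (irr_isCharacter η)) hχ hmult hind1 hx
  rw [hχdeg'] at hdeg
  have hpos : 0 < T.index * d :=
    Nat.mul_pos (Nat.pos_of_ne_zero T.index_ne_zero_of_finite) hd0
  have h2 : m η * a ≤ b η := by
    refine Nat.le_of_mul_le_mul_right ?_ hpos
    calc m η * a * (T.index * d) = m η * (a * T.index * d) := by ring
      _ ≤ T.index * (b η * d) := hdeg
      _ = b η * (T.index * d) := by ring
  have h3 : a ≤ m η * a := Nat.le_mul_of_pos_left a (Nat.pos_of_ne_zero hm0)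
  have h4 : b η ≤ m η * b η := Nat.le_mul_of_pos_left _ (Nat.pos_of_ne_zero hm0)
  omega

end Cfsg.Agent.BlocksChars.Ramification
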