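import Cfsg.Agent.BlocksChars.DefectZero
import Cfsg.Agent.BlocksChars.ClassAlg
import Cfsg.Prelude.Def_Local

/-!
# Odd centralizers and even degrees, defect zero for two primes
-/

set_option autoImplicit false

namespace Cfsg.Agent.BlocksChars.RealOddCentralizer

open Cfsg.Agent.Characters Cfsg.Agent.BlocksChars
open scoped ComplexConjugate

variable {G : Type*} [Group G] [Finite G]

theorem sq_sum_parity {ι : Type*} (s : Finset ι) (a : ι → ℂ) (ha : ∀ i, IsIntegral ℤ (a i)) :
    ∃ w : ℂ, IsIntegral ℤ w ∧ (∑ i ∈ s, a i) ^ 2 = ∑ i ∈ s, a i ^ 2 + 2 * w := by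
  classical
  induction s using Finset.induction with
  | empty => exact ⟨0, isIntegral_zero, by simp⟩
  | insert i s hi ih =>
    obtain ⟨w, hw, he⟩ := ih
    refine ⟨w + a i * ∑ j ∈ s, a j, hw.add ((ha i).mul (IsIntegral.sum _ fun j _ => ha j)), ?_⟩
    rw [Finset.sum_insert hi, Finset.sum_insert hi]
    linear_combination he

/-- A real non-identity element with centralizer of odd order gives a character of even degree. -/
theorem exists_even_degree {g : G} (hg : g ≠ 1) (hreal : IsConj g g⁻¹)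
    (hodd : Odd (Nat.card (Subgroup.centralizer ({g} : Set G)))) :
    ∃ χ : Cfsg.IrrCharacter G, Even (Cfsg.charDegree (χ : G → ℂ)) := by
  classical
  haveI := Fintype.ofFinite G
  haveI := Fintype.ofFinite (Cfsg.IrrCharacter G)
  by_contra hcon
  push Not at hcon
  have hval : ∀ χ : Cfsg.IrrCharacter G, conj ((χ : G → ℂ) g) = (χ : G → ℂ) g := fun χ => by
    rw [← char_inv (irr_isCharacter χ)]
    exact (ClassAlg.classFun_eq_of_isConj (irr_isClassFunction χ) hreal).symm
  have h1 := second_orthogonality (G := G) g g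
  rw [if_pos (IsConj.refl g)] at h1
  simp only [hval] at h1
  have h2 := second_orthogonality (G := G) g 1
  rw [if_neg (fun e => hg (isConj_one_left.1 e))] at h2
  obtain ⟨w, hw, he⟩ := sq_sum_parity Finset.univ (fun χ : Cfsg.IrrCharacter G => (χ : G → ℂ) g)
    fun χ => char_value_isIntegral (irr_isCharacter χ) g
  choose m hm using fun χ : Cfsg.IrrCharacter G => Nat.not_even_iff_odd.1 (hcon χ)
  set U : ℂ := ∑ χ : Cfsg.IrrCharacter G, (m χ : ℂ) * (χ : G → ℂ) g with hU
  have hS : ∑ χ : Cfsg.IrrCharacter G, (χ : G → ℂ) g = -(2 * U) := by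
    rw [eq_neg_iff_add_eq_zero, ← h2, hU, Finset.mul_sum, ← Finset.sum_add_distrib]
    refine Finset.sum_congr rfl fun χ _ => ?_
    rw [← Degrees.charDegree_cast, Complex.conj_natCast, hm χ]
    push_cast
    ring
  have hUint : IsIntegral ℤ U := IsIntegral.sum _ fun χ _ =>
    (Degrees.natCast_isIntegral _).mul (char_value_isIntegral (irr_isCharacter χ) g)
  simp only [← sq] at h1
  rw [hS, h1] at he
  have hdvd : 2 ∣ Nat.card (Subgroup.centralizer ({g} : Set G)) := by
    refine Degrees.dvd_of_natCast_eq_mul (z := 2 * U ^ 2 - w)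
      (((Degrees.natCast_isIntegral 2).mul (hUint.pow 2)).sub hw) ?_
    push_cast
    linear_combination -he
  exact (Nat.not_even_iff_odd.2 hodd) (even_iff_two_dvd.2 hdvd)

/-- `S4746`. -/
theorem defect_zero_or_even {p : ℕ} [Fact p.Prime] (hp2 : p ≠ 2) (h2G : 2 ∣ Nat.card G)
    (hC : ∀ g : G, g ≠ 1 → (∃ k : ℕ, orderOf g = p ^ k) →
      Odd (Nat.card ↥(Subgroup.centralizer ({g} : Set G)))) :
    DefectZero.HasDefectZero p G ∨
      ∃ χ : Cfsg.IrrCharacter G, Even (Cfsg.charDegree (χ : G → ℂ)) := by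
  obtain ⟨t, ht⟩ := exists_prime_orderOf_dvd_card' 2 h2G
  have hp : p.Prime := Fact.out
  have hCt : ¬ p ∣ Nat.card (Subgroup.centralizer ({t} : Set G)) := fun hd => by
    obtain ⟨⟨z, hz⟩, hzo⟩ := exists_prime_orderOf_dvd_card' p hd
    rw [Subgroup.orderOf_mk] at hzo
    have hz1 : z ≠ 1 := fun e => by rw [e, orderOf_one] at hzo; exact hp.one_lt.ne hzo
    have hodd := hC z hz1 ⟨1, by rw [pow_one, hzo]⟩
    have hmem : t ∈ Subgroup.centralizer ({z} : Set G) := by
      rw [Subgroup.mem_centralizer_singleton_iff] at hz ⊢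
      exact hz.symm
    have := Subgroup.orderOf_dvd_natCard _ hmem
    rw [ht] at this
    exact (Nat.not_even_iff_odd.2 hodd) (even_iff_two_dvd.2 this)
  rcases DefectZero.exists_quotient_or_defectZero (p := p) hCt with h | ⟨a, b, ha, hb, hne, k, hk⟩
  · exact Or.inl h
  right
  have hta : t * t = 1 := by rw [← sq, ← ht, pow_orderOf_eq_one]
  have hinv : ∀ c, IsConj t c → c⁻¹ = c := fun c hc => by
    obtain ⟨x, rfl⟩ := isConj_iff.1 hc
    have : t⁻¹ = t := inv_eq_of_mul_eq_one_right hta
    rw [mul_inv_rev, mul_inv_rev, inv_inv, this, mul_assoc]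
  refine exists_even_degree hne ?_ (hC _ hne ⟨k, hk⟩)
  refine isConj_iff.2 ⟨a, ?_⟩
  rw [mul_inv_rev, inv_inv, hinv b hb, hinv a ha, show a * (a * b) * a = (a * a) * (b * a) by group,
    show a * a = 1 by nth_rw 1 [← hinv a ha]; exact inv_mul_cancel a, one_mul]

theorem defect_zero_of_normal {p q : ℕ} [Fact p.Prime] [Fact q.Prime] (N : Subgroup G) [N.Normal]
    (hpN : ¬ p ∣ Nat.card N) (hqN : q ∣ Nat.card N)
    (hC : ∀ g : G, orderOf g = q → ¬ p ∣ Nat.card ↥(Subgroup.centralizer ({g} : Set G))) :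
    DefectZero.HasDefectZero p G := by
  obtain ⟨⟨x, hx⟩, hxo⟩ := exists_prime_orderOf_dvd_card' q hqN
  rw [Subgroup.orderOf_mk] at hxo
  rcases DefectZero.exists_quotient_or_defectZero (p := p) (hC x hxo) with
    h | ⟨a, b, ha, hb, hne, k, hk⟩
  · exact h
  exfalso
  have hmem : ∀ c, IsConj x c → c ∈ N := fun c hc => by
    obtain ⟨y, rfl⟩ := isConj_iff.1 hc
    exact Subgroup.Normal.conj_mem ‹_› x hx y
  have hd := Subgroup.orderOf_dvd_natCard N (N.mul_mem (hmem a ha) (N.inv_mem (hmem b hb)))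
  rw [hk] at hd
  rcases Nat.eq_zero_or_pos k with rfl | hk0
  · exact hne (orderOf_eq_one_iff.1 (by simpa using hk))
  · exact hpN ((dvd_pow_self p hk0.ne').trans hd)

/-- `S4743`, the `p`-solvable case. -/
theorem pq_defect_zero {p q : ℕ} [Fact p.Prime] [Fact q.Prime] (hpq : p ≠ q)
    (hpG : p ∣ Nat.card G) (hs : Cfsg.IsPSolvable p G)
    (hCp : ∀ g : G, orderOf g = p → ¬ q ∣ Nat.card ↥(Subgroup.centralizer ({g} : Set G))) :
    DefectZero.HasDefectZero p G ∨ DefectZero.HasDefectZero q G := by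
  have hp : p.Prime := Fact.out
  have hq : q.Prime := Fact.out
  have hCq : ∀ g : G, orderOf g = q →
      ¬ p ∣ Nat.card ↥(Subgroup.centralizer ({g} : Set G)) := fun g hg hd => by
    obtain ⟨⟨z, hz⟩, hzo⟩ := exists_prime_orderOf_dvd_card' p hd
    rw [Subgroup.orderOf_mk] at hzo
    refine hCp z hzo ?_
    have hmem : g ∈ Subgroup.centralizer ({z} : Set G) := by
      rw [Subgroup.mem_centralizer_singleton_iff] at hz ⊢
      exact hz.symm
    exact hg ▸ Subgroup.orderOf_dvd_natCard _ hmem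
  obtain ⟨n, H, h0, hl, hmono, hn, hstep⟩ := hs
  have hex : ∀ i : Fin (n + 1), p ∣ Nat.card (H i) →
      DefectZero.HasDefectZero p G ∨ DefectZero.HasDefectZero q G := by
    refine Fin.induction ?_ fun i ih => ?_
    · intro h
      rw [h0, Subgroup.card_bot] at h
      exact absurd h hp.not_dvd_one
    intro h
    by_cases hc : p ∣ Nat.card (H i.castSucc)
    · exact ih hc
    haveI := hn i.castSucc
    haveI := hn i.succ
    by_cases hqc : q ∣ Nat.card (H i.castSucc)
    · exact Or.inl (defect_zero_of_normal (H i.castSucc) hc hqc hCq)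
    have hcard : Nat.card (H i.castSucc) * (H i.castSucc).relIndex (H i.succ) =
        Nat.card (H i.succ) := by
      rw [← Subgroup.card_mul_index ((H i.castSucc).subgroupOf (H i.succ))]
      congr 1
      exact (Nat.card_congr (Subgroup.subgroupOfEquivOfLe
        (hmono (Fin.castSucc_le_succ i))).toEquiv).symm
    rcases hstep i with ⟨m, hm⟩ | hco
    · refine Or.inr (defect_zero_of_normal (H i.succ) (fun hd => ?_) h hCp)
      rw [← hcard, hm] at hd
      rcases hq.dvd_mul.1 hd with e | e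
      · exact hqc e
      · exact hpq ((Nat.prime_dvd_prime_iff_eq hq hp).1 (hq.dvd_of_dvd_pow e)).symm
    · exfalso
      rw [← hcard] at h
      rcases hp.dvd_mul.1 h with e | e
      · exact hc e
      · exact hp.coprime_iff_not_dvd.1 hco.symm e
  exact hex (Fin.last n) (by rw [hl, Subgroup.card_top]; exact hpG)

end Cfsg.Agent.BlocksChars.RealOddCentralizer
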