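import Mathlib
import Cfsg.Agent.Lib.Characters.Counting
import Cfsg.Agent.Lib.CharTheory.Clifford
import Cfsg.Agent.S0860

/-!
The action of `G × {±1}` on the characters and classes of a normal subgroup `K`, and the orbits of
`G` on the real ones when `[G : K]` is odd.
-/

set_option autoImplicit false
set_option linter.style.haveILetI false
set_option linter.unusedSectionVars false

namespace Cfsg.Agent.BlocksChars.RealOrbits

open Cfsg.Agent.Characters
open scoped ComplexConjugate

universe u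

/-- Equal fixed point numbers give equal orbit numbers. -/
theorem card_orbits_eq {A : Type*} [Group A] [Finite A] {X : Type*} {Y : Type*} [MulAction A X]
    [MulAction A Y] [Finite X] [Finite Y]
    (h : ∀ a : A, Nat.card (MulAction.fixedBy X a) = Nat.card (MulAction.fixedBy Y a)) :
    Nat.card (MulAction.orbitRel.Quotient A X) = Nat.card (MulAction.orbitRel.Quotient A Y) := by
  classical
  haveI := Fintype.ofFinite A
  haveI := Fintype.ofFinite X
  haveI := Fintype.ofFinite Y
  haveI := Fintype.ofFinite (MulAction.orbitRel.Quotient A X)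
  haveI := Fintype.ofFinite (MulAction.orbitRel.Quotient A Y)
  have h1 := MulAction.sum_card_fixedBy_eq_card_orbits_mul_card_group A X
  have h2 := MulAction.sum_card_fixedBy_eq_card_orbits_mul_card_group A Y
  simp only [← Nat.card_eq_fintype_card] at h1 h2
  rw [Finset.sum_congr rfl fun a _ => h a, h2] at h1
  exact (Nat.eq_of_mul_eq_mul_right Nat.card_pos h1).symm

variable {G : Type u} [Group G] [Finite G] (K : Subgroup G) [K.Normal]

/-- `y ↦ (g y g⁻¹) ^ ε`. -/
def tw (a : G × ℤˣ) (y : K) : K := (MulAut.conjNormal a.1 y) ^ (a.2 : ℤ)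

theorem tw_tw (a b : G × ℤˣ) (y : K) : tw K a (tw K b y) = tw K (a * b) y := by
  simp only [tw, Prod.fst_mul, Prod.snd_mul, Units.val_mul, map_zpow, map_mul, MulAut.mul_apply,
    mul_comm (a.2 : ℤ), zpow_mul]

theorem tw_one (y : K) : tw K (1 : G × ℤˣ) y = y := by simp [tw]

theorem isConj_tw (a : G × ℤˣ) {y z : K} (h : IsConj y z) : IsConj (tw K a y) (tw K a z) := by
  obtain ⟨c, rfl⟩ := isConj_iff.1 h
  refine isConj_iff.2 ⟨MulAut.conjNormal a.1 c, ?_⟩
  simp only [tw, map_mul, map_inv, conj_zpow]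

theorem isIrr_tw (a : G × ℤˣ) {χ : K → ℂ} (h : Cfsg.IsIrrCharacter K χ) :
    Cfsg.IsIrrCharacter K (fun y => χ (tw K a y)) := by
  have h1 := (isIrrCharacter_comp_mulEquiv (MulAut.conjNormal a.1 : K ≃* K)).2 h
  rcases Int.units_eq_one_or a.2 with he | he
  · convert h1 using 1
    funext y
    simp [tw, he]
  · have h2 := isIrrCharacter_conj h1
    convert h2 using 1
    funext y
    simp only [tw, he, Units.val_neg, Units.val_one, zpow_neg, zpow_one, Function.comp_apply]
    exact char_inv (isCharacter_of_isIrr h) _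

noncomputable instance irrAction : MulAction (G × ℤˣ) (Cfsg.IrrCharacter K) where
  smul a χ := ⟨fun y => (χ : K → ℂ) (tw K a⁻¹ y), isIrr_tw K a⁻¹ χ.2⟩
  one_smul χ := Subtype.ext (funext fun y => by
    show (χ : K → ℂ) (tw K (1 : G × ℤˣ)⁻¹ y) = _
    rw [inv_one, tw_one])
  mul_smul a b χ := Subtype.ext (funext fun y => by
    show (χ : K → ℂ) (tw K (a * b)⁻¹ y) = (χ : K → ℂ) (tw K b⁻¹ (tw K a⁻¹ y))
    rw [tw_tw, mul_inv_rev])

theorem irr_smul_apply (a : G × ℤˣ) (χ : Cfsg.IrrCharacter K) (y : K) :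
    ((a • χ : Cfsg.IrrCharacter K) : K → ℂ) y = (χ : K → ℂ) (tw K a⁻¹ y) := rfl

noncomputable instance classAction : MulAction (G × ℤˣ) (ConjClasses K) where
  smul a C := Quotient.map (tw K a) (fun _ _ h => isConj_tw K a h) C
  one_smul C := by
    induction C using Quotient.inductionOn with
    | h y => exact congrArg ConjClasses.mk (tw_one K y)
  mul_smul a b C := by
    induction C using Quotient.inductionOn with
    | h y => exact congrArg ConjClasses.mk (tw_tw K a b y).symm

theorem smul_mk (a : G × ℤˣ) (y : K) :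
    a • ConjClasses.mk y = ConjClasses.mk (tw K a y) := rfl

theorem card_fixedBy_eq (a : G × ℤˣ) :
    Nat.card (MulAction.fixedBy (Cfsg.IrrCharacter K) a) =
      Nat.card (MulAction.fixedBy (ConjClasses K) a) := by
  refine S0860.result (fun b χ g g' h => ?_) a
  rw [irr_smul_apply]
  rw [smul_mk, ConjClasses.mk_eq_mk_iff_isConj] at h
  obtain ⟨c, hc⟩ := isConj_iff.1 ((isConj_tw K b⁻¹ h.symm))
  rw [tw_tw, inv_mul_cancel, tw_one] at hc
  rw [← hc]
  exact irr_isClassFunction χ g c

/-- The points fixed by inversion. -/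
abbrev Real' (X : Type*) [MulAction (G × ℤˣ) X] : Type _ :=
  {x : X // ((1 : G), (-1 : ℤˣ)) • x = x}

instance restrictedAction (X : Type*) [MulAction (G × ℤˣ) X] :
    MulAction G (Real' (G := G) X) where
  smul g x := ⟨(g, (1 : ℤˣ)) • x.1, by
    rw [← mul_smul, show ((1 : G), (-1 : ℤˣ)) * (g, 1) = (g, 1) * ((1 : G), (-1 : ℤˣ)) by simp,
      mul_smul, x.2]⟩
  one_smul x := Subtype.ext (one_smul (G × ℤˣ) x.1)
  mul_smul g h x := Subtype.ext (by
    show (g * h, (1 : ℤˣ)) • x.1 = (g, (1 : ℤˣ)) • (h, (1 : ℤˣ)) • x.1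
    rw [← mul_smul]
    simp)

theorem restricted_smul_coe (X : Type*) [MulAction (G × ℤˣ) X] (g : G) (x : Real' (G := G) X) :
    (g • x : Real' (G := G) X).1 = (g, (1 : ℤˣ)) • x.1 := rfl

theorem pow_smul_eq_self {A X : Type*} [Group A] [MulAction A X] {a : A} {x : X} (h : a • x = x)
    (n : ℕ) : a ^ n • x = x := by
  induction n with
  | zero => rw [pow_zero, one_smul]
  | succ n ih => rw [pow_succ, mul_smul, h, ih]

theorem card_fixedBy_real (X : Type*) [MulAction (G × ℤˣ) X] (hodd : Odd K.index)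
    (htriv : ∀ k ∈ K, ∀ x : X, ((k : G), (1 : ℤˣ)) • x = x) (g : G) :
    Nat.card (MulAction.fixedBy (Real' (G := G) X) g) =
      Nat.card (MulAction.fixedBy X ((g, -1) : G × ℤˣ)) := by
  have hsplit : ((g, -1) : G × ℤˣ) = (g, 1) * ((1 : G), (-1 : ℤˣ)) := by simp
  refine Nat.card_congr
    { toFun := fun x => ⟨x.1.1, by
        have h1 : (g, (1 : ℤˣ)) • x.1.1 = x.1.1 := congrArg Subtype.val x.2
        rw [MulAction.mem_fixedBy, hsplit, mul_smul, x.1.2, h1]⟩
      invFun := fun x => ⟨⟨x.1, ?_⟩, ?_⟩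
      left_inv := fun x => rfl
      right_inv := fun x => rfl }
  · have hgm : g ^ K.index ∈ K := by
      rw [← QuotientGroup.eq_one_iff, QuotientGroup.mk_pow]
      exact pow_card_eq_one'
    have hp : ((g, -1) : G × ℤˣ) ^ K.index = (g ^ K.index, 1) * ((1 : G), (-1 : ℤˣ)) := by
      simp [hodd.neg_one_pow]
    have hfix : (((g, -1) : G × ℤˣ) ^ K.index) • x.1 = x.1 :=
      pow_smul_eq_self x.2 _
    rw [hp, mul_smul] at hfix
    have := htriv _ hgm (((1 : G), (-1 : ℤˣ)) • x.1)
    rw [this] at hfix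
    exact hfix
  · refine MulAction.mem_fixedBy.2 (Subtype.ext ?_)
    rw [restricted_smul_coe]
    have hinv : ((1 : G), (-1 : ℤˣ)) • x.1 = x.1 := by
      have hgm : g ^ K.index ∈ K := by
        rw [← QuotientGroup.eq_one_iff, QuotientGroup.mk_pow]
        exact pow_card_eq_one'
      have hfix : (((g, -1) : G × ℤˣ) ^ K.index) • x.1 = x.1 := pow_smul_eq_self x.2 _
      rw [show ((g, -1) : G × ℤˣ) ^ K.index = (g ^ K.index, 1) * ((1 : G), (-1 : ℤˣ)) by
        simp [hodd.neg_one_pow], mul_smul, htriv _ hgm] at hfix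
      exact hfix
    obtain ⟨x, hxa⟩ := x
    rw [MulAction.mem_fixedBy, hsplit, mul_smul, hinv] at hxa
    exact hxa

/-- Inner elements act trivially. -/
theorem smul_irr_of_mem (k : G) (hk : k ∈ K) (χ : Cfsg.IrrCharacter K) :
    (k, (1 : ℤˣ)) • χ = χ := by
  refine Subtype.ext (funext fun y => ?_)
  rw [irr_smul_apply]
  have : tw K ((k, (1 : ℤˣ)) : G × ℤˣ)⁻¹ y = (⟨k, hk⟩ : K)⁻¹ * y * ((⟨k, hk⟩ : K)⁻¹)⁻¹ := by
    refine Subtype.ext ?_
    simp [tw]
  rw [this]
  exact irr_isClassFunction χ y _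

theorem smul_class_of_mem (k : G) (hk : k ∈ K) (C : ConjClasses K) :
    (k, (1 : ℤˣ)) • C = C := by
  induction C using Quotient.inductionOn with
  | h y =>
    refine ConjClasses.mk_eq_mk_iff_isConj.2 (isConj_iff.2 ⟨(⟨k, hk⟩ : K), ?_⟩).symm
    refine Subtype.ext ?_
    simp [tw]

end Cfsg.Agent.BlocksChars.RealOrbits
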