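import Cfsg.Agent.BlocksChars.RootUnitySylow
import Mathlib.GroupTheory.Sylow

/-!
The theorem on faithful characters taking root-of-unity values on singular elements.
-/

set_option autoImplicit false
set_option linter.unusedSectionVars false
set_option linter.style.haveILetI false

open scoped BigOperators ComplexConjugate commutatorElement

namespace Cfsg.Agent.BlocksChars.RootUnitySingular

open Cfsg.Agent.Characters Cfsg.Agent.CharTheory

universe u

variable {G : Type u} [Group G] [Finite G] {p : ℕ} [hp : Fact p.Prime] {χ : Cfsg.IrrCharacter G}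

theorem sylow_or (H : Hyp p χ) :
    (Nat.card (Cfsg.pCore p G)).factorization p = (Nat.card G).factorization p ∨
      (p = 2 ∧ (Nat.card G).factorization p = 3 ∧ Nat.card (Cfsg.pCore p G) = 4) := by
  classical
  obtain ⟨-, hdeg, hcard, -, -⟩ := H.restrict
  obtain ⟨d, hd⟩ := char_one_nat (irr_isCharacter χ)
  let S : Sylow p G := default
  haveI := Fintype.ofFinite (S : Subgroup G)
  obtain ⟨m, hm⟩ := classInner_char_nat
    (isCharacter_restrict (S : Subgroup G) (irr_isCharacter χ))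
    (isCharacter_restrict (S : Subgroup G) (irr_isCharacter χ))
  have heq := H.sum_pgroup S.2 hd hm
  set P := Cfsg.pCore p G with hP
  have hdN : d + 1 = Nat.card P := by
    rw [hd] at hdeg
    have : ((d + 1 : ℕ) : ℂ) = (Nat.card P : ℂ) := by push_cast; rw [hdeg]; ring
    exact_mod_cast this
  obtain ⟨a, ha⟩ := IsPGroup.iff_card.1 (Cores.pCore_isPGroup (G := G) p)
  obtain ⟨n, hn⟩ : ∃ n, Nat.card (S : Subgroup G) = p ^ n := IsPGroup.iff_card.1 S.2
  have hfac : (Nat.card G).factorization p = n :=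
    (Nat.pow_right_injective hp.out.two_le (hn.symm.trans S.card_eq_multiplicity)).symm
  have hle : a ≤ n := by
    have h := Nat.le_of_dvd Nat.card_pos
      (Subgroup.card_dvd_of_le (Cores.pCore_le_sylow (G := G) S))
    rw [ha, hn] at h
    exact (Nat.pow_le_pow_iff_right hp.out.one_lt).1 h
  rcases Nat.eq_or_lt_of_le hle with h | h
  · left
    rw [hfac, ha, Nat.factorization_pow, Finsupp.smul_apply, hp.out.factorization_self,
      smul_eq_mul, mul_one, h]
  right
  have ha0 : a ≠ 0 := fun e => by rw [ha, e, pow_zero] at hcard; omega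
  obtain ⟨k, rfl⟩ : ∃ k, n = a + (k + 1) := ⟨n - a - 1, by omega⟩
  have h2 : 2 ≤ p ^ a := (Nat.le_self_pow ha0 p).trans' hp.out.two_le
  rw [ha] at hdN
  have hdvd : p ^ a * p ^ (k + 1) ∣ p ^ a * (p ^ a - 2) := by
    refine ⟨m - 1, ?_⟩
    obtain ⟨N', hN'⟩ : ∃ N', p ^ a = N' + 2 := ⟨p ^ a - 2, by omega⟩
    obtain rfl : d = N' + 1 := by omega
    rw [hn, pow_add, hN'] at heq
    rw [hN', Nat.add_sub_cancel]
    have hm1 : 1 ≤ m := by
      by_contra hcon
      obtain rfl : m = 0 := by omega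
      rw [mul_zero] at heq
      have : 0 < (N' + 2) * p ^ (k + 1) := Nat.mul_pos (by omega) (pow_pos hp.out.pos _)
      nlinarith
    obtain ⟨m', rfl⟩ : ∃ m', m = m' + 1 := ⟨m - 1, by omega⟩
    rw [Nat.add_sub_cancel]
    nlinarith
  have hdvd' := Nat.dvd_of_mul_dvd_mul_left (pow_pos hp.out.pos a) hdvd
  have hp2 : p = 2 := by
    have h1 : p ∣ p ^ a - 2 := (dvd_pow_self p (Nat.succ_ne_zero k)).trans hdvd'
    have h3 := Nat.dvd_sub (dvd_pow_self p ha0) h1
    rw [show p ^ a - (p ^ a - 2) = 2 by omega] at h3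
    exact (Nat.prime_dvd_prime_iff_eq hp.out Nat.prime_two).1 h3
  have ha2 : 2 ≤ a := by
    by_contra hcon
    obtain rfl : a = 1 := by omega
    rw [ha, hp2] at hcard
    norm_num at hcard
  have hk : k = 0 := by
    by_contra hk0
    rw [hp2] at hdvd' h2
    have h4 : 4 ∣ 2 ^ a - 2 := ((pow_dvd_pow 2 (show 2 ≤ k + 1 by omega)).trans hdvd')
    have h5 : 4 ∣ 2 ^ a := pow_dvd_pow 2 ha2
    have h3 := Nat.dvd_sub h5 h4
    rw [show 2 ^ a - (2 ^ a - 2) = 2 by omega] at h3
    omega
  subst hk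
  obtain ⟨t, ht, htP⟩ : ∃ t ∈ (S : Subgroup G), t ∉ P := by
    by_contra hcon
    push Not at hcon
    have h' := Nat.le_of_dvd Nat.card_pos (Subgroup.card_dvd_of_le hcon)
    rw [ha, hn] at h'
    exact absurd ((Nat.pow_le_pow_iff_right hp.out.one_lt).1 h') (by omega)
  have h4 := klein_of_unit H S ht htP hp2 (by rw [hn, ha, hp2, pow_succ]; ring)
  rw [← hP, ha, hp2] at h4
  have : a = 2 := by
    have := (Nat.pow_le_pow_iff_right (le_refl 2)).1 (show 2 ^ a ≤ 2 ^ 2 from h4)
    omega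
  refine ⟨hp2, by rw [hfac, this], by rw [ha, hp2, this]; rfl⟩

theorem iso_perm {χ : Cfsg.IrrCharacter G} [Fact (Nat.Prime 2)] [Fact (Nat.Prime 3)] (H : Hyp 2 χ)
    (K : Subgroup G) [K.Normal] (hK24 : Nat.card K = 24)
    (h4 : Nat.card (Cfsg.pCore 2 G) = 4) (hPK : Cfsg.pCore 2 G ≤ K)
    (hKC : ∀ x ∈ K, x ∈ Subgroup.centralizer ((Cfsg.pCore 2 G : Subgroup G) : Set G) →
      x ∈ Cfsg.pCore 2 G)
    (hKZtop : K ⊔ Subgroup.center G = ⊤) : Nonempty (↥K ≃* Equiv.Perm (Fin 4)) := by
  classical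
  set P := Cfsg.pCore 2 G with hP
  have hPK' : (P.subgroupOf K).Normal := Subgroup.Normal.subgroupOf inferInstance K
  let R : Sylow 3 K := default
  have hR3 : Nat.card (R : Subgroup K) = 3 := by
    rw [Sylow.card_eq_multiplicity, hK24]
    have : (24 : ℕ).factorization 3 = 1 := by
      rw [show (24 : ℕ) = 2 ^ 3 * 3 by norm_num, Nat.factorization_mul (by norm_num) (by norm_num),
        Nat.factorization_pow]
      simp [Nat.prime_two.factorization, Nat.prime_three.factorization]
    rw [this, pow_one]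
  have hcPR : ∀ N : Subgroup K, N.Normal → Disjoint N (P.subgroupOf K) →
      ∀ x ∈ N, (x : G) ∈ P := by
    intro N hN hdis x hx
    refine hKC x x.2 (Subgroup.mem_centralizer_iff.2 fun y hy => ?_)
    exact (congrArg Subtype.val (Subgroup.commute_of_normal_of_disjoint N (P.subgroupOf K) hN hPK'
      hdis x ⟨y, hPK hy⟩ hx (Subgroup.mem_subgroupOf.2 hy)).eq).symm
  have hn4 : Nat.card (Sylow 3 K) = 4 := by
    have h1 := card_sylow_modEq_one 3 K
    have h2 := R.card_dvd_index
    have hidx : (R : Subgroup K).index = 8 := by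
      have h := (R : Subgroup K).index_mul_card
      rw [hR3, hK24] at h
      omega
    rw [hidx] at h2
    have h8 := Nat.le_of_dvd (by norm_num) h2
    have hne1 : Nat.card (Sylow 3 K) ≠ 1 := by
      intro e
      haveI : Subsingleton (Sylow 3 K) := (Nat.card_eq_one_iff_unique.1 e).1
      have hn : (R : Subgroup K).Normal := R.normal_of_subsingleton
      have hP' : Nat.card (P.subgroupOf K) = 4 := by
        rw [Nat.card_congr (Subgroup.subgroupOfEquivOfLe hPK).toEquiv, h4]
      have hle : (R : Subgroup K) ≤ P.subgroupOf K := fun x hx => Subgroup.mem_subgroupOf.2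
        (hcPR _ hn (Subgroup.disjoint_of_coprime_natCard (by rw [hR3, hP']; norm_num)) x hx)
      have := Subgroup.card_dvd_of_le hle
      rw [hR3, hP'] at this
      norm_num at this
    have h0 : 0 < Nat.card (Sylow 3 K) := Nat.card_pos
    unfold Nat.ModEq at h1
    interval_cases hc : Nat.card (Sylow 3 K) <;> simp_all
  let f : K →* Equiv.Perm (Sylow 3 K) := MulAction.toPermHom K (Sylow 3 K)
  have hinj : Function.Injective f := by
    rw [← MonoidHom.ker_eq_bot_iff]
    set M := f.ker with hM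
    have hMle : M ≤ Subgroup.normalizer ((R : Subgroup K) : Set K) := by
      intro x hx
      show x ∈ Subgroup.normalizer (R : Set K)
      rw [← R.stabilizer_eq_normalizer, MulAction.mem_stabilizer_iff]
      exact congrArg (fun σ : Equiv.Perm (Sylow 3 K) => σ R) (MonoidHom.mem_ker.1 hx)
    have hN6 : Nat.card (Subgroup.normalizer ((R : Subgroup K) : Set K)) = 6 := by
      have h := (Subgroup.normalizer (R : Set K)).index_mul_card
      rw [← Sylow.card_eq_index_normalizer, hn4, hK24] at h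
      have e : Nat.card (Subgroup.normalizer (R : Set K)) = 6 := by omega
      exact e
    -- `M` meets `P` trivially
    set W := (M ⊓ P.subgroupOf K).map K.subtype with hW
    have hMn : (M ⊓ P.subgroupOf K).Normal := by
      haveI := hPK'
      exact inferInstance
    haveI hWn : W.Normal := by
      refine ⟨fun w hw x => ?_⟩
      obtain ⟨k, hk, z, hz, rfl⟩ := (Coprime.mem_sup_of_le_normalizer
        (fun z hz => Subgroup.center_le_normalizer _ hz)).1 (by rw [hKZtop]; trivial : x ∈ K ⊔ Subgroup.center G)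
      obtain ⟨v, hv, rfl⟩ := hw
      have hzc := Subgroup.mem_center_iff.1 hz
      refine ⟨(⟨k, hk⟩ : K) * v * (⟨k, hk⟩ : K)⁻¹, hMn.conj_mem v hv (⟨k, hk⟩ : K), ?_⟩
      show k * (v : G) * k⁻¹ = k * z * (v : G) * (k * z)⁻¹
      calc k * (v : G) * k⁻¹ = k * (v : G) * z * z⁻¹ * k⁻¹ := by group
        _ = k * (z * (v : G)) * z⁻¹ * k⁻¹ := by rw [mul_assoc k (v : G) z, ← hzc (v : G)]
        _ = _ := by group
    have hWP : W ≤ P := by
      rintro _ ⟨v, hv, rfl⟩
      exact Subgroup.mem_subgroupOf.1 hv.2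
    have hWb : W = ⊥ := by
      by_contra hne
      have hWeq := H.eq_core_of_le hWP hne
      have h1 : Nat.card W ∣ 6 := by
        rw [hW, ← Nat.card_congr (Subgroup.equivMapOfInjective _ K.subtype K.subtype_injective).toEquiv,
          ← hN6]
        exact Subgroup.card_dvd_of_le (inf_le_left.trans hMle)
      rw [hWeq, ← hP, h4] at h1
      norm_num at h1
    have hdis : Disjoint M (P.subgroupOf K) := by
      rw [disjoint_iff, ← Subgroup.map_eq_bot_iff_of_injective _ K.subtype_injective]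
      exact hWb
    rw [eq_bot_iff]
    intro x hx
    have hxP := hcPR M inferInstance hdis x hx
    exact Subgroup.mem_bot.2 (Subgroup.disjoint_def.1 hdis hx (Subgroup.mem_subgroupOf.2 hxP))
  haveI := Fintype.ofFinite (Sylow 3 K)
  have hb : Function.Bijective f := by
    refine hinj.bijective_of_nat_card_le ?_
    rw [Nat.card_perm, hn4, hK24]
    decide
  have e4 : Sylow 3 K ≃ Fin 4 := Fintype.equivFinOfCardEq (by rw [← Nat.card_eq_fintype_card, hn4])
  exact ⟨(MulEquiv.ofBijective f hb).trans e4.permCongrHom⟩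

theorem klein_case (H : Hyp p χ) (hp2 : p = 2) (hfac : (Nat.card G).factorization p = 3)
    (h4 : Nat.card (Cfsg.pCore p G) = 4) :
    Odd (Nat.card ↥(Subgroup.center G)) ∧ ∃ K : Subgroup G,
      Nonempty (↥K ≃* Equiv.Perm (Fin 4)) ∧ K ⊓ Subgroup.center G = ⊥ ∧
      K ⊔ Subgroup.center G = ⊤ := by
  classical
  have hPZ := H.core_inf_center
  have hC := H.centralizer_eq
  obtain ⟨hab, hdeg, -, -, -⟩ := H.restrict
  subst hp2
  set P := Cfsg.pCore 2 G with hP
  set Z := Subgroup.center G with hZ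
  have hodd : Odd (Nat.card Z) := by
    rw [Nat.odd_iff]
    by_contra hev
    obtain ⟨z, hz⟩ := exists_prime_orderOf_dvd_card' (G := Z) 2 (by omega)
    rw [← Subgroup.orderOf_coe] at hz
    haveI : (Subgroup.zpowers (z : G)).Normal := ⟨fun x hx g => by
      have hxZ : x ∈ Z := Subgroup.zpowers_le.2 z.2 hx
      rw [Subgroup.mem_center_iff.1 hxZ g, mul_inv_cancel_right]; exact hx⟩
    have hle : Subgroup.zpowers (z : G) ≤ P :=
      Cores.le_pCore (IsPGroup.of_card (n := 1) (by rw [Nat.card_zpowers, hz, pow_one]))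
    have : (z : G) ∈ P ⊓ Z := ⟨hle (Subgroup.mem_zpowers _), z.2⟩
    rw [hPZ, Subgroup.mem_bot] at this
    rw [this, orderOf_one] at hz
    omega
  refine ⟨hodd, ?_⟩
  set C := Subgroup.centralizer ((P : Subgroup G) : Set G) with hCdef
  have hZN : Z ≤ Subgroup.normalizer (P : Set G) := fun x _ => by
    rw [Subgroup.normalizer_eq_top]; trivial
  have hCcard : Nat.card C = 4 * Nat.card Z := by
    rw [hC, Coprime.card_sup_of_disjoint hZN (disjoint_iff.2 hPZ), h4]
  -- the action on the involutions of `P`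
  let act : G →* Equiv.Perm {x : P // x ≠ 1} :=
    { toFun := fun g => Equiv.Perm.subtypePerm (MulAut.conjNormal g : P ≃* P).toEquiv (fun x => by simp)
      map_one' := by ext x; simp
      map_mul' := fun g g' => by ext x; simp }
  have hker : act.ker = C := by
    ext g
    rw [MonoidHom.mem_ker, hCdef, Subgroup.mem_centralizer_iff]
    constructor
    · intro hg x hx
      by_cases hx1 : x = 1
      · rw [hx1, one_mul, mul_one]
      have := congrArg (fun σ : Equiv.Perm {x : P // x ≠ 1} => ((σ ⟨⟨x, hx⟩,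
        fun e => hx1 (congrArg Subtype.val e)⟩).1 : G)) hg
      simp [act] at this
      calc x * g = g * x * g⁻¹ * g := by rw [this]
        _ = g * x := by group
    · intro hg
      ext x
      simp [act]
      rw [← hg x x.1.2, mul_inv_cancel_right]
  have hperm : C.index ∣ 6 := by
    rw [← hker, Subgroup.index_ker]
    refine (Subgroup.card_subgroup_dvd_card _).trans (dvd_of_eq ?_)
    rw [Nat.card_perm]
    haveI := Fintype.ofFinite P
    have h4' : Fintype.card P = 4 := by rw [← Nat.card_eq_fintype_card]; exact h4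
    rw [Nat.card_eq_fintype_card, Fintype.card_subtype_compl, Fintype.card_subtype_eq, h4']
    rfl
  have hG : Nat.card G = C.index * (4 * Nat.card Z) := by
    rw [← hCcard, C.index_mul_card]
  have h3 : 3 ∣ C.index := by
    obtain ⟨d, hd, hdd⟩ := irr_degree_dvd_center_index χ.2
    have hd3 : d = 3 := by
      rw [hd, h4] at hdeg
      norm_num at hdeg
      exact_mod_cast hdeg
    rw [hd3] at hdd
    have h := Z.index_mul_card
    rw [hG, ← mul_assoc] at h
    have := Nat.eq_of_mul_eq_mul_right Nat.card_pos h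
    rw [this] at hdd
    exact (Nat.Coprime.dvd_of_dvd_mul_right (by norm_num) hdd)
  have h2 : 2 ∣ C.index := by
    have h8 : 2 ^ 3 ∣ Nat.card G := hfac ▸ Nat.ordProj_dvd _ _
    rw [hG, show C.index * (4 * Nat.card Z) = 4 * (C.index * Nat.card Z) by ring,
      show (2 : ℕ) ^ 3 = 4 * 2 by norm_num, Nat.mul_dvd_mul_iff_left (by norm_num)] at h8
    exact (Nat.Coprime.dvd_of_dvd_mul_right (Nat.coprime_two_left.2 hodd) h8)
  have h6 : C.index = 6 := Nat.dvd_antisymm hperm
    (Nat.Coprime.mul_dvd_of_dvd_of_dvd (by norm_num : Nat.Coprime 2 3) h2 h3)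
  have hG' : Nat.card G = 24 * Nat.card Z := by rw [hG, h6]; ring
  have hQ : Nat.card (G ⧸ Z) = 24 := by
    have h := Z.index_mul_card
    rw [hG', Subgroup.index_eq_card] at h
    exact Nat.eq_of_mul_eq_mul_right Nat.card_pos h
  haveI : Fact (Nat.Prime 3) := ⟨Nat.prime_three⟩
  obtain ⟨gbar, hgbar⟩ := exists_prime_orderOf_dvd_card' (G := G ⧸ Z) 3 (by rw [hQ]; norm_num)
  obtain ⟨g, rfl⟩ := QuotientGroup.mk'_surjective Z gbar
  set A := (Subgroup.zpowers (QuotientGroup.mk' Z g)).comap (QuotientGroup.mk' Z) with hA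
  have hAmem : ∀ x ∈ A, ∃ i : ℤ, ∃ z ∈ Z, x = g ^ i * z := by
    intro x hx
    obtain ⟨i, hi⟩ := Subgroup.mem_zpowers_iff.1 (Subgroup.mem_comap.1 hx)
    refine ⟨i, (g ^ i)⁻¹ * x, ?_, by group⟩
    rw [← map_zpow] at hi
    exact QuotientGroup.eq.1 hi
  have hAcomm : ∀ x ∈ A, ∀ y ∈ A, x * y = y * x := by
    intro x hx y hy
    obtain ⟨i, z, hz, rfl⟩ := hAmem x hx
    obtain ⟨j, w, hw, rfl⟩ := hAmem y hy
    have hzc := Subgroup.mem_center_iff.1 hz
    have hwc := Subgroup.mem_center_iff.1 hw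
    calc g ^ i * z * (g ^ j * w) = g ^ i * (z * g ^ j) * w := by group
      _ = g ^ i * (g ^ j * z) * w := by rw [hzc (g ^ j)]
      _ = g ^ j * g ^ i * (z * w) := by group
      _ = g ^ j * g ^ i * (w * z) := by rw [hwc z]
      _ = g ^ j * (g ^ i * w) * z := by group
      _ = g ^ j * (w * g ^ i) * z := by rw [hwc (g ^ i)]
      _ = _ := by group
  have hAidx : A.index = 8 := by
    rw [hA, Subgroup.index_comap_of_surjective _ (QuotientGroup.mk'_surjective Z)]
    have h := (Subgroup.zpowers (QuotientGroup.mk' Z g)).card_mul_index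
    rw [Nat.card_zpowers, hgbar, hQ] at h
    omega
  have hAcard : Nat.card A = 3 * Nat.card Z := by
    have h := A.index_mul_card
    rw [hAidx, hG'] at h
    omega
  have hAodd : Odd (Nat.card A) := by rw [hAcard]; exact Odd.mul (by decide) hodd
  letI : CommGroup A :=
    { (inferInstance : Group A) with mul_comm := fun x y => Subtype.ext (hAcomm x x.2 y y.2) }
  let tr : G →* A := MonoidHom.transfer (H := A) (MonoidHom.id A)
  have htrZ : ∀ z ∈ Z, ((tr z : A) : G) = z ^ 8 := by
    intro z hz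
    rw [show tr z = _ from MonoidHom.transfer_eq_pow (H := A) (MonoidHom.id A) z (fun k g₀ _ => by
      rw [mul_assoc, ← Subgroup.mem_center_iff.1 (pow_mem hz k) g₀, inv_mul_cancel_left])]
    show z ^ A.index = z ^ 8
    rw [hAidx]
  set K := tr.ker with hK
  have hSK : ∀ S : Sylow 2 G, (S : Subgroup G) ≤ K := by
    intro S s hs
    rw [hK, MonoidHom.mem_ker]
    obtain ⟨k, hk⟩ := (IsPGroup.iff_orderOf.1 S.2) ⟨s, hs⟩
    rw [← Subgroup.orderOf_coe] at hk
    have h1 : orderOf (tr s) ∣ 2 ^ k := hk ▸ orderOf_map_dvd tr s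
    have h2 : orderOf (tr s) ∣ Nat.card A := orderOf_dvd_natCard _
    have hco : (2 ^ k).Coprime (Nat.card A) :=
      Nat.Coprime.pow_left _ (Nat.coprime_two_left.2 hAodd)
    exact orderOf_eq_one_iff.1 (Nat.dvd_one.1 (hco ▸ Nat.dvd_gcd h1 h2))
  have hPK : P ≤ K := (Cores.pCore_le_sylow (default : Sylow 2 G)).trans (hSK _)
  have hcop8 : Nat.Coprime 8 (Nat.card Z) :=
    Nat.Coprime.pow_left 3 (Nat.coprime_two_left.2 hodd)
  have hinj8 : ∀ z ∈ Z, z ^ 8 = 1 → z = 1 := fun z hz h =>
    orderOf_eq_one_iff.1 (Nat.dvd_one.1 (hcop8 ▸ Nat.dvd_gcd (orderOf_dvd_of_pow_eq_one h)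
      (Subgroup.orderOf_dvd_natCard Z hz)))
  have hKZ : K ⊓ Z = ⊥ := by
    rw [eq_bot_iff]
    intro z hz
    obtain ⟨hzK, hzZ⟩ := Subgroup.mem_inf.1 hz
    rw [Subgroup.mem_bot]
    refine hinj8 z hzZ ?_
    rw [← htrZ z hzZ, MonoidHom.mem_ker.1 hzK]; rfl
  have hr1 : Nat.card Z ≤ Nat.card tr.range := by
    refine Nat.card_le_card_of_injective (fun z : Z => (⟨tr z, ⟨z, rfl⟩⟩ : tr.range)) ?_
    intro z w hzw
    have e : tr (z : G) = tr (w : G) := congrArg Subtype.val hzw
    have e2 : tr (((z * w⁻¹ : Z) : G)) = 1 := by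
      simp [map_mul, map_inv, e]
    have := (Subgroup.eq_bot_iff_forall _).1 hKZ _ ⟨MonoidHom.mem_ker.2 e2, (z * w⁻¹).2⟩
    exact mul_inv_eq_one.1 (Subtype.ext this)
  have hr2 : Nat.card tr.range ∣ 3 * Nat.card Z := hAcard ▸ Subgroup.card_subgroup_dvd_card _
  have hKr : Nat.card K * Nat.card tr.range = 24 * Nat.card Z := by
    rw [← hG', ← Subgroup.index_ker]; exact K.card_mul_index
  have hK24 : Nat.card K = 24 := by
    have hz0 : 0 < Nat.card Z := Nat.card_pos
    have hKle : Nat.card K ≤ 24 := by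
      by_contra hcon
      push Not at hcon
      nlinarith [Nat.mul_le_mul (Nat.le_of_lt hcon) hr1]
    have h8 : 8 ∣ Nat.card K := by
      have := Subgroup.card_dvd_of_le (hSK default)
      rw [Sylow.card_eq_multiplicity, hfac] at this
      exact this
    obtain ⟨c, hc⟩ := h8
    have hc3 : c ≤ 3 := by omega
    have hc0 : 0 < Nat.card K := Nat.card_pos
    interval_cases c
    · omega
    · exfalso
      haveI : K.Normal := tr.normal_ker
      have hle : K ≤ P := Cores.le_pCore (IsPGroup.of_card (n := 3) (by rw [hc]; norm_num))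
      have := Nat.le_of_dvd Nat.card_pos (Subgroup.card_dvd_of_le hle)
      omega
    · exfalso
      -- `|range| = 3|Z|/2`
      rw [hc] at hKr
      have := Nat.odd_iff.1 hodd
      omega
    · exact hc
  have hKZtop : K ⊔ Z = ⊤ := by
    refine Subgroup.eq_top_of_card_eq _ ?_
    rw [Coprime.card_sup_of_disjoint (fun x hx => Subgroup.center_le_normalizer _ hx)
      (disjoint_iff.2 hKZ), hK24, hG']
  refine ⟨K, ?_, hKZ, hKZtop⟩
  -- the action on the Sylow `3`-subgroups
  haveI hKn : K.Normal := tr.normal_ker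
  have hKC : ∀ x ∈ K, x ∈ C → x ∈ P := by
    intro x hx hxC
    rw [hC] at hxC
    obtain ⟨u, hu, z, hz, rfl⟩ := (Coprime.mem_sup_of_le_normalizer hZN).1 hxC
    have hzK : z ∈ K := (Subgroup.mul_mem_cancel_left _ (hPK hu)).1 hx
    rw [(Subgroup.eq_bot_iff_forall _).1 hKZ z ⟨hzK, hz⟩, mul_one]
    exact hu
  exact iso_perm H K hK24 h4 hPK hKC hKZtop

theorem main (H : Hyp p χ) :
    ((Nat.card ↥(Cfsg.pCore p G)).factorization p = (Nat.card G).factorization p ∧
      Cfsg.IsElementaryAbelian p (Cfsg.pCore p G) ∧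
      Subgroup.centralizer ((Cfsg.pCore p G : Subgroup G) : Set G) =
        Cfsg.pCore p G ⊔ Subgroup.center G ∧
      Cfsg.pCore p G ⊓ Subgroup.center G = ⊥ ∧
      (∀ lam mu : ↥(Cfsg.pCore p G) → ℂ, Cfsg.IsCharacter ↥(Cfsg.pCore p G) lam → lam 1 = 1 →
        lam ≠ (fun _ => (1 : ℂ)) → Cfsg.IsCharacter ↥(Cfsg.pCore p G) mu → mu 1 = 1 →
        mu ≠ (fun _ => (1 : ℂ)) → ∃ g : G, ∀ (x : G) (hx : x ∈ Cfsg.pCore p G)
          (hgx : g * x * g⁻¹ ∈ Cfsg.pCore p G), mu ⟨x, hx⟩ = lam ⟨g * x * g⁻¹, hgx⟩) ∧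
      (χ : G → ℂ) 1 = (Nat.card ↥(Cfsg.pCore p G) : ℂ) - 1) ∨
    (p = 2 ∧ Odd (Nat.card ↥(Subgroup.center G)) ∧ ∃ K : Subgroup G,
      Nonempty (↥K ≃* Equiv.Perm (Fin 4)) ∧ K ⊓ Subgroup.center G = ⊥ ∧
      K ⊔ Subgroup.center G = ⊤) := by
  obtain ⟨hab, hdeg, -, htrans, -⟩ := H.restrict
  haveI := Fintype.ofFinite (Cfsg.pCore p G)
  rcases sylow_or H with h | ⟨hp2, hfac, h4⟩
  · refine Or.inl ⟨h, ⟨⟨⟨fun a b => Subtype.ext (hab a a.2 b b.2)⟩⟩, H.elementary⟩,
      H.centralizer_eq, H.core_inf_center, ?_, hdeg⟩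
    intro lam mu hl hl1 hlne hm hm1 hmne
    obtain ⟨g, hg⟩ := htrans lam mu (Basics.isIrr_of_degree_one hl hl1)
      (Basics.isIrr_of_degree_one hm hm1) hlne hmne
    exact ⟨g, fun x hx hgx => (congrFun hg ⟨x, hx⟩).symm⟩
  · exact Or.inr ⟨hp2, klein_case H hp2 hfac h4⟩

end Cfsg.Agent.BlocksChars.RootUnitySingular
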