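import Cfsg.Prelude.Def_Transfer
import Cfsg.Agent.Lib.Cores.Basic
import Cfsg.Agent.Lib.Characters.Inner
import Cfsg.Agent.Lib.Characters.Kernel
import Cfsg.Agent.Lib.Characters.CentralIndex
import Cfsg.Agent.Lib.CharTheory.Clifford
import Cfsg.Agent.Lib.CharTheory.Basics
import Cfsg.Agent.Lib.Coprime.Basic
import Mathlib.GroupTheory.Transfer
import Mathlib.GroupTheory.Nilpotent

/-!
Faithful irreducible characters taking root-of-unity values on the `p`-singular elements of a group
with a nontrivial `p`-core.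
-/

set_option autoImplicit false
set_option linter.unusedSectionVars false
set_option linter.style.haveILetI false

open scoped BigOperators ComplexConjugate commutatorElement

namespace Cfsg.Agent.BlocksChars.RootUnitySingular

open Cfsg.Agent.Characters Cfsg.Agent.CharTheory

universe u

variable {G : Type u} [Group G] [Finite G]

/-- The degree is the order of the core minus one. -/
theorem degree_eq {p a d e : ℕ} (hp : p.Prime) (hd2 : 2 ≤ d) (ha2 : 2 ≤ p ^ a)
    (h : d * d + p ^ a = p ^ a * (e * d) + 1) :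
    d + 1 = p ^ a ∧ e = 1 := by
  obtain ⟨N, hN⟩ : ∃ N, p ^ a = N := ⟨_, rfl⟩
  rw [hN] at h ⊢
  have hN2 : 1 ≤ N := hN ▸ Nat.one_le_pow _ _ hp.pos
  have hed : 1 ≤ e * d := by
    by_contra hcon
    push Not at hcon
    rw [Nat.lt_one_iff.1 hcon, mul_zero] at h
    nlinarith
  have hdN : d ∣ N - 1 := by
    refine (Nat.dvd_add_right (dvd_mul_left d d)).1 ?_
    have : d * d + (N - 1) = d * (N * e) := by
      have : N * (e * d) = d * (N * e) := by ring
      omega
    rw [this]; exact dvd_mul_right _ _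
  have hsq : N ∣ (d - 1) * (d + 1) := by
    refine ⟨e * d - 1, ?_⟩
    have h1 : (d - 1) * (d + 1) = d * d - 1 := by
      obtain ⟨d', rfl⟩ : ∃ d', d = d' + 1 := ⟨d - 1, by omega⟩
      simp only [Nat.add_sub_cancel]
      ring_nf
      omega
    rw [h1, Nat.mul_sub, mul_one]
    omega
  have hor : N ∣ 2 * (d - 1) ∨ N ∣ 2 * (d + 1) := by
    subst hN
    by_cases h1 : p ∣ d - 1
    · by_cases h2 : p ∣ d + 1
      · have hp2 : p = 2 := by
          have hd' : d + 1 = (d - 1) + 2 := by omega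
          rw [hd', Nat.dvd_add_right h1] at h2
          exact (Nat.prime_dvd_prime_iff_eq hp Nat.prime_two).1 h2
        subst hp2
        obtain ⟨c, hc⟩ := h1
        have e1 : d + 1 = 2 * (c + 1) := by omega
        rw [hc, e1] at hsq
        rcases Nat.even_or_odd c with hev | hod
        · left
          rw [hc]
          have hco : Nat.Coprime (2 ^ a) (c + 1) := by
            refine Nat.Coprime.pow_left _ (Nat.coprime_two_left.2 ?_)
            exact hev.add_one
          refine hco.dvd_of_dvd_mul_right ?_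
          convert hsq using 1
          ring
        · right
          rw [e1]
          have hco : Nat.Coprime (2 ^ a) c := Nat.Coprime.pow_left _ (Nat.coprime_two_left.2 hod)
          refine hco.dvd_of_dvd_mul_right ?_
          convert hsq using 1
          ring
      · left
        exact Dvd.dvd.mul_left
          (((hp.coprime_iff_not_dvd.2 h2).pow_left a).dvd_of_dvd_mul_right hsq) 2
    · right
      exact Dvd.dvd.mul_left
        (((hp.coprime_iff_not_dvd.2 h1).pow_left a).dvd_of_dvd_mul_left hsq) 2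
  have hN3 : 2 ≤ N := by omega
  obtain ⟨k, hk⟩ := hdN
  have hdeq : d + 1 = N := by
    rcases Nat.lt_or_ge k 2 with hk2 | hk2
    · interval_cases k <;> omega
    exfalso
    have hmul : 2 * d ≤ N - 1 := by rw [hk, mul_comm 2 d]; exact Nat.mul_le_mul_left d hk2
    rcases hor with h1 | h1
    · have := Nat.le_of_dvd (by omega) h1
      omega
    · obtain ⟨j, hj⟩ := h1
      have hjeq : j = 1 := by
        rcases Nat.lt_or_ge j 2 with hj2 | hj2
        · interval_cases j <;> omega
        · have := Nat.mul_le_mul_left N hj2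
          omega
      rw [hjeq, mul_one] at hj
      have h3 : d * k = 2 * d + 1 := by omega
      have h4 : d ∣ 1 := (Nat.dvd_add_right (dvd_mul_left d 2)).1 (h3 ▸ dvd_mul_right d k)
      have := Nat.dvd_one.1 h4
      omega
  refine ⟨hdeq, ?_⟩
  subst hdeq
  have h5 : (d + 1) * d = (d + 1) * (e * d) + 0 ∨ True := Or.inr trivial
  have h6 : d * (d + 1) = d * ((d + 1) * e) := by nlinarith
  have h7 := Nat.eq_of_mul_eq_mul_left (by omega : 0 < d) h6
  exact (Nat.eq_of_mul_eq_mul_left (by omega : 0 < d + 1) ((mul_one _).trans h7)).symm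

theorem norm_sum {φ : G → ℂ} [Fintype G] {m : ℕ} (h : Cfsg.classInner φ φ = (m : ℂ)) :
    ∑ x : G, ‖φ x‖ ^ 2 = (Nat.card G : ℝ) * m := by
  rw [classInner_def, inv_mul_eq_iff_eq_mul₀ natCard_ne_zero] at h
  simp only [Complex.mul_conj'] at h
  exact_mod_cast h

/-- The hypothesis. -/
structure Hyp (p : ℕ) (χ : Cfsg.IrrCharacter G) : Prop where
  faith : ∀ g : G, (χ : G → ℂ) g = (χ : G → ℂ) 1 → g = 1
  nl : (χ : G → ℂ) 1 ≠ 1
  root : ∀ g : G, p ∣ orderOf g → ∃ n : ℕ, 0 < n ∧ ((χ : G → ℂ) g) ^ n = 1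
  core : Cfsg.pCore p G ≠ ⊥

variable {p : ℕ} [hp : Fact p.Prime] {χ : Cfsg.IrrCharacter G}

theorem Hyp.norm_one (H : Hyp p χ) {g : G} (hg : p ∣ orderOf g) : ‖(χ : G → ℂ) g‖ = 1 := by
  obtain ⟨n, hn, h⟩ := H.root g hg
  exact Complex.norm_eq_one_of_pow_eq_one h hn.ne'

theorem dvd_orderOf_of_mem {Q : Subgroup G} (hQ : IsPGroup p Q) {g : G} (hg : g ∈ Q) (h1 : g ≠ 1) :
    p ∣ orderOf g := by
  obtain ⟨k, hk⟩ := (IsPGroup.iff_orderOf.1 hQ) ⟨g, hg⟩
  rw [← Subgroup.orderOf_coe] at hk
  have hk' : orderOf g = p ^ k := hk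
  have : k ≠ 0 := fun e => h1 (orderOf_eq_one_iff.1 (by rw [hk', e, pow_zero]))
  rw [hk']; exact dvd_pow_self p this

theorem Hyp.sum_pgroup (H : Hyp p χ) {Q : Subgroup G} [Fintype Q] (hQ : IsPGroup p Q) {d m : ℕ}
    (hd : (χ : G → ℂ) 1 = (d : ℂ))
    (hm : Cfsg.classInner (fun x : Q => (χ : G → ℂ) x) (fun x : Q => (χ : G → ℂ) x) = (m : ℂ)) :
    d * d + Nat.card Q = Nat.card Q * m + 1 := by
  classical
  have h := norm_sum hm
  rw [← Finset.add_sum_erase _ _ (Finset.mem_univ (1 : Q)),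
    Finset.sum_congr rfl (g := fun _ => (1 : ℝ)) fun x hx => by
      rw [H.norm_one (dvd_orderOf_of_mem hQ x.2 fun e => Finset.ne_of_mem_erase hx (Subtype.ext e)),
        one_pow],
    Finset.sum_const, Finset.card_erase_of_mem (Finset.mem_univ _), Finset.card_univ,
    ← Nat.card_eq_fintype_card, OneMemClass.coe_one, hd, Complex.norm_natCast, nsmul_one,
    Nat.cast_sub Nat.card_pos] at h
  have : ((d * d + Nat.card Q : ℕ) : ℝ) = ((Nat.card Q * m + 1 : ℕ) : ℝ) := by
    push_cast
    push_cast at h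
    linarith
  exact_mod_cast this

theorem classInner_expansion [Fintype G] [Fintype (Cfsg.IrrCharacter G)]
    (n : Cfsg.IrrCharacter G → ℂ) (η : Cfsg.IrrCharacter G) :
    Cfsg.classInner (∑ ψ : Cfsg.IrrCharacter G, n ψ • (ψ : G → ℂ)) (η : G → ℂ) = n η :=
  classInner_sum_smul_irr' n η
where
  classInner_sum_smul_irr' (n : Cfsg.IrrCharacter G → ℂ) (η : Cfsg.IrrCharacter G) :
      Cfsg.classInner (∑ ψ : Cfsg.IrrCharacter G, n ψ • (ψ : G → ℂ)) (η : G → ℂ) = n η := by
    classical
    rw [classInner_sum_left, Finset.sum_eq_single η]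
    · rw [classInner_smul_left, classInner_isIrr_self η.2, mul_one]
    · intro ψ _ hψ
      rw [classInner_smul_left, classInner_isIrr_ne ψ.2 η.2 (fun e => hψ (Subtype.ext e)),
        mul_zero]
    · intro h; exact absurd (Finset.mem_univ η) h

/-- The structure of the restriction to the core. -/
theorem Hyp.restrict (H : Hyp p χ) :
    (∀ a ∈ Cfsg.pCore p G, ∀ b ∈ Cfsg.pCore p G, a * b = b * a) ∧
      (χ : G → ℂ) 1 = (Nat.card (Cfsg.pCore p G) : ℂ) - 1 ∧
      3 ≤ Nat.card (Cfsg.pCore p G) ∧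
      (∀ lam mu : Cfsg.pCore p G → ℂ, Cfsg.IsIrrCharacter (Cfsg.pCore p G) lam →
        Cfsg.IsIrrCharacter (Cfsg.pCore p G) mu → lam ≠ (fun _ => (1 : ℂ)) →
        mu ≠ (fun _ => (1 : ℂ)) → ∃ g : G, Clifford.conjBy (Cfsg.pCore p G) g lam = mu) ∧
      ∀ (lam : Cfsg.pCore p G → ℂ), Cfsg.IsIrrCharacter (Cfsg.pCore p G) lam →
        lam ≠ (fun _ => (1 : ℂ)) → ∀ [Fintype (Cfsg.pCore p G)],
        Cfsg.classInner (fun x : Cfsg.pCore p G => (χ : G → ℂ) x) lam = 1 := by
  classical
  set P := Cfsg.pCore p G with hP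
  haveI := Fintype.ofFinite G
  haveI := Fintype.ofFinite P
  haveI := Fintype.ofFinite (Cfsg.IrrCharacter P)
  have hPp : IsPGroup p P := Cores.pCore_isPGroup p
  obtain ⟨d, hd⟩ := char_one_nat (irr_isCharacter χ)
  have hres := isCharacter_restrict P (irr_isCharacter χ)
  obtain ⟨n, hn⟩ := char_eq_sum_nat hres
  have hnη : ∀ η : Cfsg.IrrCharacter P,
      Cfsg.classInner (fun x : P => (χ : G → ℂ) x) (η : P → ℂ) = (n η : ℂ) := fun η => by
    rw [hn]; exact classInner_expansion _ η
  set S := Finset.univ.filter (fun η : Cfsg.IrrCharacter P => n η ≠ 0) with hS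
  have hsum1 : ∑ η ∈ S, (n η : ℂ) * (η : P → ℂ) 1 = (d : ℂ) := by
    have h := congrFun hn 1
    simp only [Finset.sum_apply, Pi.smul_apply, smul_eq_mul, OneMemClass.coe_one, hd] at h
    rw [h, hS, Finset.sum_filter]
    refine Finset.sum_congr rfl fun η _ => ?_
    by_cases hη : n η = 0 <;> simp [hη]
  obtain ⟨θ, hθS⟩ : S.Nonempty := by
    rw [Finset.nonempty_iff_ne_empty]
    intro e
    rw [e, Finset.sum_empty] at hsum1
    exact irr_one_ne_zero χ.2 (hd.trans hsum1.symm)
  have hθn : n θ ≠ 0 := (Finset.mem_filter.1 hθS).2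
  have hθne : Cfsg.classInner (fun x : P => (χ : G → ℂ) x) (θ : P → ℂ) ≠ 0 := by
    rw [hnη]; exact Nat.cast_ne_zero.2 hθn
  have hconj : ∀ η ∈ S, ∃ g : G, Clifford.conjBy P g (θ : P → ℂ) = (η : P → ℂ) := fun η hη => by
    obtain ⟨g, hg⟩ := Clifford.exists_conjBy_eq P χ.2 θ.2 η.2 hθne
      (by rw [hnη]; exact Nat.cast_ne_zero.2 (Finset.mem_filter.1 hη).2)
    exact ⟨g, hg⟩
  have hnS : ∀ η ∈ S, n η = n θ ∧ (η : P → ℂ) 1 = (θ : P → ℂ) 1 := fun η hη => by
    obtain ⟨g, hg⟩ := hconj η hη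
    refine ⟨?_, by rw [← hg, Clifford.conjBy_at_one]⟩
    have h := Clifford.classInner_restrict_conjBy P (θ := (θ : P → ℂ))
      (char_isClassFunction (irr_isCharacter χ)) g
    rw [hg, hnη, hnη] at h
    exact_mod_cast h
  obtain ⟨f, hf, -, hfd⟩ := irr_degree_dvd_card θ.2
  have hdeq : n θ * S.card * f = d := by
    have h : ∑ η ∈ S, (n η : ℂ) * (η : P → ℂ) 1 = ∑ η ∈ S, (n θ : ℂ) * (f : ℂ) :=
      Finset.sum_congr rfl fun η hη => by rw [(hnS η hη).1, (hnS η hη).2, hf]
    rw [hsum1, Finset.sum_const, nsmul_eq_mul] at h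
    have h' : d = S.card * (n θ * f) := by exact_mod_cast h
    rw [h']; ring
  have hm : Cfsg.classInner (fun x : P => (χ : G → ℂ) x) (fun x : P => (χ : G → ℂ) x) =
      ((n θ * n θ * S.card : ℕ) : ℂ) := by
    have h1 : Cfsg.classInner (fun x : P => (χ : G → ℂ) x) (fun x : P => (χ : G → ℂ) x) =
        ∑ η : Cfsg.IrrCharacter P, (n η : ℂ) * conj (n η : ℂ) := by
      conv_lhs => rw [hn, classInner_sum_left]
      refine Finset.sum_congr rfl fun η _ => ?_
      rw [classInner_smul_left, classInner_conj_symm, classInner_expansion]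
    rw [h1]
    have h2 : ∑ η : Cfsg.IrrCharacter P, (n η : ℂ) * conj (n η : ℂ) =
        ∑ η ∈ S, ((n θ * n θ : ℕ) : ℂ) := by
      rw [hS, Finset.sum_filter]
      refine Finset.sum_congr rfl fun η _ => ?_
      by_cases hη : n η = 0
      · simp [hη]
      · have := (hnS η (Finset.mem_filter.2 ⟨Finset.mem_univ _, hη⟩)).1
        simp [hη, this]
    rw [h2, Finset.sum_const, nsmul_eq_mul]
    push_cast; ring
  have heq := H.sum_pgroup hPp hd hm
  have hP1 : 1 < Nat.card P := (Subgroup.one_lt_card_iff_ne_bot _).2 H.core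
  obtain ⟨a, ha⟩ := IsPGroup.iff_card.1 hPp
  have hf1 : f = 1 := by
    obtain ⟨i, -, hi⟩ := (Nat.dvd_prime_pow hp.out).1 (ha ▸ hfd)
    rcases Nat.eq_zero_or_pos i with h0 | h0
    · rw [hi, h0, pow_zero]
    exfalso
    have hpd : p ∣ d := by
      rw [← hdeq, hi]; exact Dvd.dvd.mul_left (dvd_pow_self p h0.ne') _
    have ha0 : a ≠ 0 := fun e => hP1.ne' (by rw [ha, e, pow_zero])
    have hpN : p ∣ Nat.card P := ha ▸ dvd_pow_self p ha0
    have hl : p ∣ Nat.card P * (n θ * n θ * S.card) + 1 :=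
      heq ▸ dvd_add (hpd.mul_left d) hpN
    exact hp.out.not_dvd_one ((Nat.dvd_add_right (hpN.mul_right _)).1 hl)
  subst hf1
  rw [mul_one] at hdeq
  have hlin : ∀ η : Cfsg.IrrCharacter P, n η ≠ 0 → (η : P → ℂ) 1 = 1 := fun η hη => by
    rw [(hnS η (Finset.mem_filter.2 ⟨Finset.mem_univ _, hη⟩)).2, hf, Nat.cast_one]
  have hab : ∀ x ∈ P, ∀ y ∈ P, x * y = y * x := by
    intro x hx y hy
    rw [← commutatorElement_eq_one_iff_mul_comm]
    apply H.faith
    have h := congrFun hn (⁅(⟨x, hx⟩ : P), ⟨y, hy⟩⁆)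
    have h1 := congrFun hn 1
    simp only [Finset.sum_apply, Pi.smul_apply, smul_eq_mul] at h h1
    change (χ : G → ℂ) ⁅x, y⁆ = _ at h
    simp only [OneMemClass.coe_one] at h1
    rw [h, h1]
    refine Finset.sum_congr rfl fun η _ => ?_
    by_cases hη : n η = 0
    · rw [hη]; simp
    congr 1
    have h1' := hlin η hη
    have hc := irr_isCharacter η
    have hinv : ∀ z : P, (η : P → ℂ) z * (η : P → ℂ) z⁻¹ = 1 := fun z => by
      rw [← char_mul_of_degree_one hc h1', mul_inv_cancel, h1']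
    rw [commutatorElement_def, char_mul_of_degree_one hc h1', char_mul_of_degree_one hc h1',
      char_mul_of_degree_one hc h1', h1']
    linear_combination ((η : P → ℂ) ⟨y, hy⟩ *
      (η : P → ℂ) (⟨y, hy⟩ : P)⁻¹) * hinv ⟨x, hx⟩ + hinv ⟨y, hy⟩
  have hd2 : 2 ≤ d := by
    rcases Nat.lt_or_ge d 2 with h | h
    · exfalso
      interval_cases d
      · exact irr_one_ne_zero χ.2 (by rw [hd, Nat.cast_zero])
      · exact H.nl (by rw [hd, Nat.cast_one])
    · exact h
  have heq' : d * d + p ^ a = p ^ a * (n θ * d) + 1 := by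
    rw [← ha, heq, ← hdeq]; ring
  obtain ⟨hdN, he⟩ := degree_eq hp.out hd2 (ha ▸ hP1) heq'
  rw [← ha] at hdN
  rw [he, one_mul] at hdeq
  -- the trivial character is not a constituent
  let one : Cfsg.IrrCharacter P := ⟨_, isIrrCharacter_one⟩
  have hone : one ∉ S := by
    intro h1
    obtain ⟨g, hg⟩ := hconj one h1
    have hθ1 : (θ : P → ℂ) = fun _ => 1 := by
      apply Clifford.conjBy_injective P g
      rw [hg]
      rfl
    have hsub : S ⊆ {one} := fun η hη => by
      obtain ⟨g', hg'⟩ := hconj η hη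
      rw [hθ1] at hg'
      exact Finset.mem_singleton.2 (Subtype.ext hg'.symm)
    have := Finset.card_le_card hsub
    rw [Finset.card_singleton] at this
    omega
  have hcard : Fintype.card (Cfsg.IrrCharacter P) ≤ Nat.card P := by
    rw [← Nat.card_eq_fintype_card, card_irrCharacter]
    exact Nat.card_le_card_of_surjective ConjClasses.mk ConjClasses.mk_surjective
  have hSall : S = Finset.univ.erase one := by
    refine Finset.eq_of_subset_of_card_le
      (fun η hη => Finset.mem_erase.2 ⟨fun e => hone (e ▸ hη), Finset.mem_univ _⟩) ?_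
    rw [Finset.card_erase_of_mem (Finset.mem_univ _), Finset.card_univ]
    omega
  have hmemS : ∀ lam : P → ℂ, ∀ hl : Cfsg.IsIrrCharacter P lam, lam ≠ (fun _ => (1 : ℂ)) →
      (⟨lam, hl⟩ : Cfsg.IrrCharacter P) ∈ S := fun lam hl hne => by
    rw [hSall]
    exact Finset.mem_erase.2 ⟨fun e => hne (congrArg Subtype.val e), Finset.mem_univ _⟩
  refine ⟨hab, ?_, (show 3 ≤ Nat.card P by omega), fun lam mu hlam hmu hl hm' => ?_, fun lam hlam hl inst => ?_⟩
  · rw [hd, ← hdN]; push_cast; ring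
  · obtain ⟨g, hg⟩ := hconj _ (hmemS lam hlam hl)
    obtain ⟨g', hg'⟩ := hconj _ (hmemS mu hmu hm')
    simp only at hg hg'
    refine ⟨g⁻¹ * g', ?_⟩
    rw [← hg, Clifford.conjBy_conjBy, ← hg']
    congr 1
    group
  · have h := hnη ⟨lam, hlam⟩
    rw [(hnS _ (hmemS lam hlam hl)).1, he, Nat.cast_one] at h
    convert h using 2

/-- The core is minimal normal. -/
theorem Hyp.eq_core_of_le (H : Hyp p χ) {B : Subgroup G} [B.Normal] (hB : B ≤ Cfsg.pCore p G)
    (hne : B ≠ ⊥) : B = Cfsg.pCore p G := by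
  classical
  obtain ⟨-, -, -, htrans, -⟩ := H.restrict
  set P := Cfsg.pCore p G with hP
  refine le_antisymm hB fun x hx => ?_
  by_contra hxB
  have hxq : (QuotientGroup.mk' (B.subgroupOf P)) ⟨x, hx⟩ ≠ 1 := fun e => hxB (by
    rw [QuotientGroup.mk'_apply, QuotientGroup.eq_one_iff, Subgroup.mem_subgroupOf] at e
    exact e)
  obtain ⟨η0, hη0, hne0⟩ := exists_irr_ne hxq
  let η : P → ℂ := η0 ∘ QuotientGroup.mk' (B.subgroupOf P)
  have hη : Cfsg.IsIrrCharacter P η :=
    isIrrCharacter_comp_surjective _ (QuotientGroup.mk'_surjective _) hη0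
  have hηne : η ≠ fun _ => (1 : ℂ) := fun e => by
    refine hne0 ?_
    have e1 := congrFun e ⟨x, hx⟩
    have e2 := congrFun e 1
    simp only [η, Function.comp_apply, map_one] at e1 e2
    rw [e1, e2]
  obtain ⟨⟨b, hb⟩, hb1⟩ := (Subgroup.ne_bot_iff_exists_ne_one.1 hne)
  have : (⟨b, hB hb⟩ : P) = 1 := by
    refine eq_one_of_forall_irr fun ψ => ?_
    by_cases hψ : (ψ : P → ℂ) = fun _ => (1 : ℂ)
    · rw [hψ]
    obtain ⟨g, hg⟩ := htrans η ψ hη ψ.2 hηne hψ
    rw [← hg, Clifford.conjBy_at_one, Clifford.conjBy_apply]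
    simp only [η, Function.comp_apply, map_one]
    congr 1
    rw [QuotientGroup.mk'_apply, QuotientGroup.eq_one_iff, Subgroup.mem_subgroupOf]
    exact Subgroup.Normal.conj_mem inferInstance b hb g
  exact hb1 (Subtype.ext (show b = 1 from congrArg Subtype.val this))

theorem Hyp.elementary (H : Hyp p χ) : ∀ x ∈ Cfsg.pCore p G, x ^ p = 1 := by
  classical
  obtain ⟨hab, -, hcard, -, -⟩ := H.restrict
  let B : Subgroup G :=
    { carrier := {x | x ∈ Cfsg.pCore p G ∧ x ^ p = 1}
      one_mem' := ⟨one_mem _, one_pow _⟩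
      mul_mem' := fun {a b} ha hb => ⟨mul_mem ha.1 hb.1, by
        rw [(show Commute a b from hab a ha.1 b hb.1).mul_pow, ha.2, hb.2, one_mul]⟩
      inv_mem' := fun {a} ha => ⟨inv_mem ha.1, by rw [inv_pow, ha.2, inv_one]⟩ }
  haveI hBn : B.Normal := ⟨fun x hx g => ⟨Subgroup.Normal.conj_mem inferInstance x hx.1 g, by
    rw [conj_pow, hx.2, mul_one, mul_inv_cancel]⟩⟩
  have hne : B ≠ ⊥ := by
    obtain ⟨a, ha⟩ := IsPGroup.iff_card.1 (Cores.pCore_isPGroup (G := G) p)
    have ha0 : a ≠ 0 := fun e => by rw [ha, e, pow_zero] at hcard; omega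
    obtain ⟨y, hy⟩ := exists_prime_orderOf_dvd_card' (G := Cfsg.pCore p G) p
      (ha ▸ dvd_pow_self p ha0)
    intro e
    have hmem : (y : G) ∈ B := ⟨y.2, by
      have h1 := pow_orderOf_eq_one y
      rw [hy] at h1
      rw [← SubmonoidClass.coe_pow, h1, OneMemClass.coe_one]⟩
    rw [e, Subgroup.mem_bot] at hmem
    rw [← Subgroup.orderOf_coe, hmem, orderOf_one] at hy
    exact hp.out.one_lt.ne hy
  intro x hx
  have hBP := H.eq_core_of_le (B := B) (fun x hx => hx.1) hne
  rw [← hBP] at hx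
  exact hx.2

theorem Hyp.core_inf_center (H : Hyp p χ) :
    Cfsg.pCore p G ⊓ Subgroup.center G = ⊥ := by
  classical
  obtain ⟨-, -, hcard, htrans, -⟩ := H.restrict
  set P := Cfsg.pCore p G with hP
  by_contra hne
  haveI : (P ⊓ Subgroup.center G).Normal := inferInstance
  have hle : P ≤ Subgroup.center G :=
    (H.eq_core_of_le (B := P ⊓ Subgroup.center G) inf_le_left hne).ge.trans inf_le_right
  -- all nontrivial characters coincide
  haveI := Fintype.ofFinite (Cfsg.IrrCharacter P)
  let one : Cfsg.IrrCharacter P := ⟨_, isIrrCharacter_one⟩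
  have hsub : ∀ a b : Cfsg.IrrCharacter P, a ≠ one → b ≠ one → a = b := by
    intro a b ha hb
    obtain ⟨g, hg⟩ := htrans a b a.2 b.2 (fun e => ha (Subtype.ext e)) (fun e => hb (Subtype.ext e))
    refine Subtype.ext (Eq.trans ?_ hg)
    funext x
    rw [Clifford.conjBy_apply]
    refine congrArg _ (Subtype.ext ?_)
    show (x : G) = g * x * g⁻¹
    rw [Subgroup.mem_center_iff.1 (hle x.2) g, mul_inv_cancel_right]
  have hall : Fintype.card (Cfsg.IrrCharacter P) ≤ 2 := by
    rw [← Finset.card_univ, ← Finset.card_erase_add_one (Finset.mem_univ one)]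
    refine Nat.add_le_add_right (Finset.card_le_one.2 fun a ha b hb => ?_) 1
    exact hsub a b (Finset.mem_erase.1 ha).1 (Finset.mem_erase.1 hb).1
  have hcl : Nat.card P ≤ Nat.card (ConjClasses P) := by
    refine Nat.card_le_card_of_injective ConjClasses.mk fun x y hxy => ?_
    obtain ⟨c, hc⟩ := isConj_iff.1 (ConjClasses.mk_eq_mk_iff_isConj.1 hxy)
    rw [← hc]
    apply Subtype.ext
    show (x : G) = c * x * (c : G)⁻¹
    rw [Subgroup.mem_center_iff.1 (hle x.2) c, mul_inv_cancel_right]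
  rw [← card_irrCharacter, Nat.card_eq_fintype_card (α := Cfsg.IrrCharacter P)] at hcl
  omega

theorem Hyp.mem_center_of_norm (H : Hyp p χ) {g : G}
    (hg : ‖(χ : G → ℂ) g‖ = ‖(χ : G → ℂ) 1‖) : g ∈ Subgroup.center G := by
  obtain ⟨n, ρ, hρ, hχ⟩ := χ.2
  have hfaith := H.faith
  rw [← hχ] at hg hfaith
  obtain ⟨w, hw⟩ := rep_apply_eq_smul_of_norm_eq ρ g (by
    rw [hg, ρ.char_one, Complex.norm_natCast])
  refine Subgroup.mem_center_iff.2 fun x => ?_
  refine eq_of_mul_inv_eq_one (hfaith _ (rep_char_eq_of_apply_eq_id ?_))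
  have h1 : ρ (x * g) = ρ (g * x) := by
    rw [map_mul, map_mul, hw]
    simp [Module.End.mul_eq_comp]
  rw [map_mul, h1, ← map_mul, mul_inv_cancel, map_one]
  rfl

/-- `p'`-elements centralizing the core are central. -/
theorem Hyp.regular_central (H : Hyp p χ) {c : G}
    (hc : c ∈ Subgroup.centralizer ((Cfsg.pCore p G : Subgroup G) : Set G))
    (hco : ¬ p ∣ orderOf c) : c ∈ Subgroup.center G := by
  classical
  obtain ⟨hab, hdeg, hcard, -, hmult⟩ := H.restrict
  set P := Cfsg.pCore p G with hP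
  haveI := Fintype.ofFinite P
  haveI := Fintype.ofFinite (Cfsg.IrrCharacter P)
  set K := P ⊔ Subgroup.zpowers c with hK
  haveI := Fintype.ofFinite K
  haveI := Fintype.ofFinite (Cfsg.IrrCharacter K)
  have hKab : ∀ x ∈ K, ∀ y ∈ K, x * y = y * x := by
    have hPc : ∀ x ∈ P, x * c = c * x := fun x hx => Subgroup.mem_centralizer_iff.1 hc x hx
    intro x hx y hy
    have h1 : K ≤ Subgroup.centralizer ({x} : Set G) := by
      have h2 : K ≤ Subgroup.centralizer ({c} : Set G) := sup_le
        (fun z hz => Subgroup.mem_centralizer_singleton_iff.2 (hPc z hz))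
        (Subgroup.zpowers_le.2 (Subgroup.mem_centralizer_singleton_iff.2 rfl))
      refine sup_le (fun z hz => ?_) (Subgroup.zpowers_le.2 ?_)
      · have h3 : K ≤ Subgroup.centralizer ({z} : Set G) := sup_le
          (fun w hw => Subgroup.mem_centralizer_singleton_iff.2 (hab w hw z hz))
          (Subgroup.zpowers_le.2 (Subgroup.mem_centralizer_singleton_iff.2 (hPc z hz).symm))
        exact Subgroup.mem_centralizer_singleton_iff.2
          (Subgroup.mem_centralizer_singleton_iff.1 (h3 hx)).symm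
      · exact Subgroup.mem_centralizer_singleton_iff.2
          (Subgroup.mem_centralizer_singleton_iff.1 (h2 hx)).symm
    exact (Subgroup.mem_centralizer_singleton_iff.1 (h1 hy)).symm
  obtain ⟨n, hn⟩ := char_eq_sum_nat (isCharacter_restrict K (irr_isCharacter χ))
  have hl : ∀ η : Cfsg.IrrCharacter K, (η : K → ℂ) 1 = 1 := fun η =>
    irr_degree_one_of_comm (fun a b => Subtype.ext (hKab a a.2 b b.2)) η.2
  let r : Cfsg.IrrCharacter K → Cfsg.IrrCharacter P := fun η =>
    ⟨(η : K → ℂ) ∘ Subgroup.inclusion (le_sup_left : P ≤ K), by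
      refine Basics.isIrr_of_degree_one (isCharacter_comp _ (irr_isCharacter η)) ?_
      simpa using hl η⟩
  let one : Cfsg.IrrCharacter P := ⟨_, isIrrCharacter_one⟩
  have hcl : ∀ lam : Cfsg.IrrCharacter P,
      Cfsg.classInner (fun x : P => (χ : G → ℂ) x) (lam : P → ℂ) =
        ((∑ η ∈ Finset.univ.filter (fun η => r η = lam), n η : ℕ) : ℂ) := by
    intro lam
    have e : (fun x : P => (χ : G → ℂ) x) =
        ∑ η : Cfsg.IrrCharacter K, (n η : ℂ) • ((r η : Cfsg.IrrCharacter P) : P → ℂ) := by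
      funext x
      have h := congrFun hn (Subgroup.inclusion (le_sup_left : P ≤ K) x)
      simp only [Finset.sum_apply, Pi.smul_apply, smul_eq_mul] at h ⊢
      exact h
    rw [e, classInner_sum_left, Nat.cast_sum, Finset.sum_filter]
    refine Finset.sum_congr rfl fun η _ => ?_
    rw [classInner_smul_left]
    by_cases he : r η = lam
    · rw [if_pos he, ← he, classInner_isIrr_self (r η).2, mul_one]
    · rw [if_neg he, classInner_isIrr_ne (r η).2 lam.2 (fun h => he (Subtype.ext h)), mul_zero]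
  have hn1 : ∀ η, r η ≠ one → n η ≤ 1 := fun η hη => by
    have h := (hcl (r η)).symm.trans (hmult (r η) (r η).2 (fun e => hη (Subtype.ext e)))
    have h' : (∑ η' ∈ Finset.univ.filter (fun η' => r η' = r η), n η') = 1 := by exact_mod_cast h
    rw [← h']
    exact Finset.single_le_sum (fun _ _ => Nat.zero_le _)
      (Finset.mem_filter.2 ⟨Finset.mem_univ η, rfl⟩)
  have huniq : ∀ η η', n η ≠ 0 → n η' ≠ 0 → r η = r η' → r η ≠ one → η = η' := by
    intro η η' hη hη' he hne
    by_contra hd'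
    have h := (hcl (r η)).symm.trans (hmult (r η) (r η).2 (fun e => hne (Subtype.ext e)))
    have h' : (∑ η'' ∈ Finset.univ.filter (fun η'' => r η'' = r η), n η'') = 1 := by
      exact_mod_cast h
    have hm1 : η ∈ Finset.univ.filter (fun η'' => r η'' = r η) :=
      Finset.mem_filter.2 ⟨Finset.mem_univ η, rfl⟩
    have hm2 : η' ∈ Finset.univ.filter (fun η'' => r η'' = r η) :=
      Finset.mem_filter.2 ⟨Finset.mem_univ η', he.symm⟩
    have := Finset.add_le_sum (f := n) (fun _ _ => Nat.zero_le _) hm1 hm2 hd'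
    omega
  obtain ⟨d, hd⟩ := char_one_nat (irr_isCharacter χ)
  have hdN : d + 1 = Nat.card P := by
    rw [hd] at hdeg
    have : ((d + 1 : ℕ) : ℂ) = (Nat.card P : ℂ) := by push_cast; rw [hdeg]; ring
    exact_mod_cast this
  have hsumd : ∑ η, n η = d := by
    have h := congrFun hn 1
    simp only [Finset.sum_apply, Pi.smul_apply, smul_eq_mul, OneMemClass.coe_one, hd, hl,
      mul_one] at h
    exact_mod_cast h.symm
  -- no trivial constituent
  have hzero : ∀ η, r η = one → n η = 0 := by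
    intro η hη
    by_contra hne
    have hall : ∀ lam : Cfsg.IrrCharacter P, lam ≠ one →
        (∑ η' ∈ Finset.univ.filter (fun η' => r η' = lam), n η') = 1 := fun lam hlam => by
      have h := (hcl lam).symm.trans (hmult lam lam.2 (fun e => hlam (Subtype.ext e)))
      exact_mod_cast h
    rw [← Finset.sum_fiberwise (s := Finset.univ) (g := r) (f := n),
      ← Finset.add_sum_erase _ _ (Finset.mem_univ one),
      Finset.sum_congr rfl (fun lam hlam => hall lam (Finset.mem_erase.1 hlam).1),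
      Finset.sum_const, Finset.card_erase_of_mem (Finset.mem_univ _), Finset.card_univ,
      smul_eq_mul, mul_one] at hsumd
    have h1 := Finset.single_le_sum (f := n) (fun _ _ => Nat.zero_le _)
      (Finset.mem_filter.2 ⟨Finset.mem_univ η, hη⟩ :
        η ∈ Finset.univ.filter (fun η' => r η' = one))
    have h2 : Nat.card P ≤ Fintype.card (Cfsg.IrrCharacter P) := by
      rw [← Nat.card_eq_fintype_card, card_irrCharacter]
      refine Nat.card_le_card_of_injective ConjClasses.mk fun x y hxy => ?_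
      obtain ⟨k, hk⟩ := isConj_iff.1 (ConjClasses.mk_eq_mk_iff_isConj.1 hxy)
      rw [← hk]
      apply Subtype.ext
      show (x : G) = k * x * (k : G)⁻¹
      rw [hab k k.2 x x.2, mul_inv_cancel_right]
    have h3 : 1 ≤ n η := Nat.pos_of_ne_zero hne
    omega
  let cK : K := ⟨c, Subgroup.mem_sup_right (Subgroup.mem_zpowers c)⟩
  let h : P → ℂ := fun x => (χ : G → ℂ) ((x : G) * c)
  have hexp : h = ∑ η : Cfsg.IrrCharacter K,
      ((n η : ℂ) * (η : K → ℂ) cK) • ((r η : Cfsg.IrrCharacter P) : P → ℂ) := by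
    funext x
    have e := congrFun hn ((Subgroup.inclusion (le_sup_left : P ≤ K) x) * cK)
    simp only [Finset.sum_apply, Pi.smul_apply, smul_eq_mul] at e ⊢
    refine e.trans (Finset.sum_congr rfl fun η _ => ?_)
    rw [char_mul_of_degree_one (irr_isCharacter η) (hl η)]
    show _ = (n η : ℂ) * (η : K → ℂ) cK * (η : K → ℂ) (Subgroup.inclusion _ x)
    ring
  have hinner : Cfsg.classInner h h = (d : ℂ) := by
    conv_lhs => rw [hexp]
    rw [classInner_sum_left, ← hsumd, Nat.cast_sum]
    refine Finset.sum_congr rfl fun η _ => ?_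
    by_cases hη : n η = 0
    · rw [classInner_smul_left, hη]; simp
    have hne : r η ≠ one := fun e => hη (hzero η e)
    have hone : n η = 1 := le_antisymm (hn1 η hne) (Nat.pos_of_ne_zero hη)
    rw [classInner_smul_left, classInner_sum_right, Finset.sum_eq_single η]
    · rw [classInner_smul_right, classInner_isIrr_self (r η).2, hone]
      simp only [Nat.cast_one, one_mul, mul_one]
      simp [Complex.mul_conj', Basics.char_norm_eq_one (irr_isCharacter η) (hl η)]
    · intro η' _ hne'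
      rw [classInner_smul_right]
      by_cases hη' : n η' = 0
      · rw [hη']; simp
      rw [classInner_isIrr_ne (r η).2 (r η').2 (fun e => hne' (huniq η η' hη hη'
        (Subtype.ext e) hne).symm), mul_zero]
    · intro hmem; exact absurd (Finset.mem_univ η) hmem
  have hnorm := norm_sum hinner
  rw [← Finset.add_sum_erase _ _ (Finset.mem_univ (1 : P)),
    Finset.sum_congr rfl (g := fun _ => (1 : ℝ)) fun x hx => ?_] at hnorm
  · rw [Finset.sum_const, Finset.card_erase_of_mem (Finset.mem_univ _), Finset.card_univ,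
      ← Nat.card_eq_fintype_card, ← hdN, Nat.add_sub_cancel, nsmul_one] at hnorm
    refine H.mem_center_of_norm ?_
    simp only [h, OneMemClass.coe_one, one_mul] at hnorm
    push_cast at hnorm
    rw [hd, Complex.norm_natCast]
    have hsq : ‖(χ : G → ℂ) c‖ ^ 2 = (d : ℝ) ^ 2 := by nlinarith
    exact (pow_left_inj₀ (norm_nonneg _) (Nat.cast_nonneg d) two_ne_zero).1 hsq
  · have hx1 : (x : G) ≠ 1 := fun e => Finset.ne_of_mem_erase hx (Subtype.ext e)
    have hpx : p ∣ orderOf (x : G) := dvd_orderOf_of_mem (Cores.pCore_isPGroup p) x.2 hx1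
    have hcom : Commute (x : G) c := Subgroup.mem_centralizer_iff.1 hc x x.2
    have hcop : (orderOf (x : G)).Coprime (orderOf c) := by
      obtain ⟨k, hk⟩ := (IsPGroup.iff_orderOf.1 (Cores.pCore_isPGroup (G := G) p)) x
      rw [← Subgroup.orderOf_coe] at hk
      rw [hk]
      exact ((hp.out.coprime_iff_not_dvd).2 hco).pow_left k
    rw [show ‖h x‖ = 1 from H.norm_one (by
      rw [hcom.orderOf_mul_eq_mul_orderOf_of_coprime hcop]; exact hpx.mul_right _), one_pow]

theorem pow_mem_center_of_centralizer (H : Hyp p χ) {x : G}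
    (hx : x ∈ Subgroup.centralizer ((Cfsg.pCore p G : Subgroup G) : Set G)) :
    x ^ p ^ (orderOf x).factorization p ∈ Subgroup.center G := by
  have hx0 : orderOf x ≠ 0 := (orderOf_pos x).ne'
  refine H.regular_central (pow_mem hx _) ?_
  rw [orderOf_pow_of_dvd (pow_ne_zero _ hp.out.ne_zero) (Nat.ordProj_dvd _ p)]
  exact Nat.not_dvd_ordCompl hp.out hx0

theorem Hyp.centralizer_eq (H : Hyp p χ) :
    Subgroup.centralizer ((Cfsg.pCore p G : Subgroup G) : Set G) =
      Cfsg.pCore p G ⊔ Subgroup.center G := by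
  classical
  obtain ⟨hab, -, -, -, -⟩ := H.restrict
  set C := Subgroup.centralizer ((Cfsg.pCore p G : Subgroup G) : Set G) with hC
  refine le_antisymm ?_ (sup_le (fun x hx => Subgroup.mem_centralizer_iff.2
    fun y hy => hab y hy x hx) (Subgroup.center_le_centralizer _))
  haveI hCn : C.Normal := inferInstance
  haveI : Group.IsNilpotent C := by
    refine Group.of_quotient_center_nilpotent ?_
    refine IsPGroup.isNilpotent (p := p) fun y => ?_
    obtain ⟨x, rfl⟩ := QuotientGroup.mk_surjective y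
    refine ⟨(orderOf (x : G)).factorization p, ?_⟩
    rw [← QuotientGroup.mk_pow, QuotientGroup.eq_one_iff, Subgroup.mem_center_iff]
    intro z
    apply Subtype.ext
    simp only [Subgroup.coe_mul, SubmonoidClass.coe_pow]
    exact Subgroup.mem_center_iff.1 (pow_mem_center_of_centralizer H x.2) z
  let R : Sylow p C := default
  haveI : (R : Subgroup C).Normal :=
    R.normal_of_normalizerCondition Group.normalizerCondition_of_isNilpotent
  haveI : (R : Subgroup C).Characteristic := R.characteristic_of_normal inferInstance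
  have hRP : (R : Subgroup C).map C.subtype ≤ Cfsg.pCore p G :=
    Cores.le_pCore (R.2.map C.subtype)
  intro x hx
  set j := (orderOf x).factorization p
  have hcop : (p ^ j).Coprime (orderOf x / p ^ j) :=
    (hp.out.coprime_iff_not_dvd.2 (Nat.not_dvd_ordCompl hp.out (orderOf_pos x).ne')).pow_left j
  obtain ⟨u, v, huv⟩ : ∃ u v : ℤ, (u * (p ^ j : ℕ) + v * (orderOf x / p ^ j : ℕ) : ℤ) = 1 :=
    ⟨Nat.gcdA (p ^ j) (orderOf x / p ^ j), Nat.gcdB (p ^ j) (orderOf x / p ^ j), by
      have := Nat.gcd_eq_gcd_ab (p ^ j) (orderOf x / p ^ j)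
      rw [hcop.gcd_eq_one] at this
      push_cast at this ⊢
      linarith⟩
  have hxe : x = (x ^ (p ^ j)) ^ u * (x ^ (orderOf x / p ^ j)) ^ v := by
    rw [← zpow_natCast x (p ^ j), ← zpow_natCast x (orderOf x / p ^ j), ← zpow_mul, ← zpow_mul,
      ← zpow_add, mul_comm ((p ^ j : ℕ) : ℤ), mul_comm ((orderOf x / p ^ j : ℕ) : ℤ), huv,
      zpow_one]
  rw [hxe]
  refine mul_mem (Subgroup.mem_sup_right (zpow_mem (pow_mem_center_of_centralizer H hx) u))
    (Subgroup.mem_sup_left (zpow_mem ?_ v))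
  refine hRP ⟨⟨x, hx⟩ ^ (orderOf x / p ^ j), ?_, by simp⟩
  have hpg : IsPGroup p (Subgroup.zpowers ((⟨x, hx⟩ : C) ^ (orderOf x / p ^ j))) := by
    refine IsPGroup.of_card (n := j) ?_
    rw [Nat.card_zpowers, ← Subgroup.orderOf_coe, SubmonoidClass.coe_pow,
      orderOf_pow_of_dvd (Nat.ordCompl_pos p (orderOf_pos x).ne').ne' (Nat.ordCompl_dvd _ p),
      Nat.div_div_self (Nat.ordProj_dvd _ p) (orderOf_pos x).ne']
  obtain ⟨R', hR'⟩ := hpg.exists_le_sylow
  haveI := Sylow.unique_of_normal R inferInstance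
  rw [Subsingleton.elim R' R] at hR'
  exact hR' (Subgroup.mem_zpowers _)

end Cfsg.Agent.BlocksChars.RootUnitySingular
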