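import Cfsg.Agent.BlocksChars.RootUnitySingular
import Mathlib.GroupTheory.Perm.Basic
import Mathlib.GroupTheory.GroupAction.ConjAct

/-!
The Sylow part of the theorem on root-of-unity values, and the symmetric group of degree four.
-/

set_option autoImplicit false
set_option linter.unusedSectionVars false
set_option linter.style.haveILetI false

open scoped BigOperators ComplexConjugate commutatorElement

namespace Cfsg.Agent.BlocksChars.RootUnitySingular

open Cfsg.Agent.Characters Cfsg.Agent.CharTheory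

universe u

variable {G : Type u} [Group G] [Finite G] {p : ℕ} [hp : Fact p.Prime] {χ : Cfsg.IrrCharacter G}

/-- An elementary abelian normal subgroup of index two with a unit-valued character. -/
theorem klein_of_unit (H : Hyp p χ) (S : Sylow p G) {t : G} (ht : t ∈ (S : Subgroup G))
    (htP : t ∉ Cfsg.pCore p G) (hp2 : p = 2)
    (hS : Nat.card (S : Subgroup G) = 2 * Nat.card (Cfsg.pCore p G)) :
    Nat.card (Cfsg.pCore p G) ≤ 4 := by
  classical
  obtain ⟨hab, -, -, -, hmult⟩ := H.restrict
  subst hp2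
  set P := Cfsg.pCore 2 G with hP
  have hel : ∀ x ∈ P, x * x = 1 := fun x hx => by rw [← sq]; exact H.elementary x hx
  have hPS : P ≤ (S : Subgroup G) := Cores.pCore_le_sylow S
  haveI := Fintype.ofFinite P
  haveI := Fintype.ofFinite (S : Subgroup G)
  -- `S = P ∪ P t`
  have hidx : (P.subgroupOf (S : Subgroup G)).index = 2 := by
    have h := (P.subgroupOf (S : Subgroup G)).card_mul_index
    rw [Nat.card_congr (Subgroup.subgroupOfEquivOfLe hPS).toEquiv, hS, mul_comm 2] at h
    exact Nat.eq_of_mul_eq_mul_left Nat.card_pos h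
  have hcos : ∀ s ∈ (S : Subgroup G), s ∈ P ∨ ∃ x ∈ P, s = x * t := by
    intro s hs
    by_cases hsP : s ∈ P
    · exact Or.inl hsP
    refine Or.inr ⟨s * t⁻¹, ?_, by group⟩
    have h := Subgroup.mul_mem_iff_of_index_two hidx (a := (⟨s, hs⟩ : (S : Subgroup G)))
      (b := (⟨t, ht⟩ : (S : Subgroup G))⁻¹)
    simp only [Subgroup.mem_subgroupOf, Subgroup.coe_mul, InvMemClass.coe_inv] at h
    exact h.2 (iff_of_false hsP (fun h' => htP (inv_mem_iff.1 h')))
  have ht2 : t * t ∈ P := by
    have h := Subgroup.mul_self_mem_of_index_two hidx (⟨t, ht⟩ : (S : Subgroup G))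
    simpa [Subgroup.mem_subgroupOf] using h
  have htconj : ∀ x ∈ P, t * x * t⁻¹ ∈ P := fun x hx =>
    Subgroup.Normal.conj_mem inferInstance x hx t
  have htt : ∀ x ∈ P, t * (t * x * t⁻¹) * t⁻¹ = x := fun x hx => by
    calc t * (t * x * t⁻¹) * t⁻¹ = (t * t) * x * (t * t)⁻¹ := by group
      _ = x := by rw [hab _ ht2 x hx, mul_inv_cancel_right]
  let φ : P →* P :=
    { toFun := fun x => ⟨x * (t * x * t⁻¹), mul_mem x.2 (htconj x x.2)⟩
      map_one' := Subtype.ext (by simp)
      map_mul' := fun x y => Subtype.ext (by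
        show (x : G) * y * (t * ((x : G) * y) * t⁻¹) =
          (x : G) * (t * x * t⁻¹) * (y * (t * y * t⁻¹))
        have e1 : t * ((x : G) * y) * t⁻¹ = (t * x * t⁻¹) * (t * y * t⁻¹) := by group
        rw [e1]
        calc (x : G) * y * (t * x * t⁻¹ * (t * y * t⁻¹))
            = x * (y * (t * x * t⁻¹)) * (t * y * t⁻¹) := by group
          _ = x * ((t * x * t⁻¹) * y) * (t * y * t⁻¹) := by
              rw [hab y y.2 _ (htconj x x.2)]
          _ = _ := by group) }
  have hφapply : ∀ x : P, ((φ x : P) : G) = (x : G) * (t * x * t⁻¹) := fun _ => rfl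
  have hrk : φ.range ≤ φ.ker := by
    rintro _ ⟨x, rfl⟩
    rw [MonoidHom.mem_ker]
    apply Subtype.ext
    rw [hφapply, hφapply]
    show _ = (1 : G)
    have hy := htconj x x.2
    calc (x : G) * (t * x * t⁻¹) * (t * ((x : G) * (t * x * t⁻¹)) * t⁻¹)
        = (x : G) * (t * x * t⁻¹) * ((t * x * t⁻¹) * (t * (t * x * t⁻¹) * t⁻¹)) := by group
      _ = (x : G) * ((t * x * t⁻¹) * (t * x * t⁻¹)) * x := by rw [htt x x.2]; group
      _ = 1 := by rw [hel _ hy, mul_one, hel _ x.2]
  have hfix : ∀ x : P, x ∈ φ.ker → t * (x : G) * t⁻¹ = x := fun x hx => by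
    have h : (x : G) * (t * x * t⁻¹) = 1 := by
      rw [← hφapply, MonoidHom.mem_ker.1 hx]; rfl
    calc t * (x : G) * t⁻¹ = (x : G)⁻¹ := eq_inv_of_mul_eq_one_right h
      _ = x := inv_eq_of_mul_eq_one_right (hel _ x.2)
  set B := φ.range.map P.subtype with hB
  have hBcent : ∀ b ∈ B, b ∈ P ∧ ∀ s ∈ (S : Subgroup G), s * b = b * s := by
    rintro b ⟨x, hx, rfl⟩
    refine ⟨x.2, fun s hs => ?_⟩
    have hxt : t * (x : G) = (x : G) * t := by
      have := hfix x (hrk hx)
      calc t * (x : G) = (t * x * t⁻¹) * t := by group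
        _ = x * t := by rw [this]
    rcases hcos s hs with hsP | ⟨y, hy, rfl⟩
    · exact hab s hsP x x.2
    · show y * t * (x : G) = (x : G) * (y * t)
      rw [mul_assoc, hxt, ← mul_assoc, hab y hy x x.2, mul_assoc]
  set B' := B.subgroupOf (S : Subgroup G) with hB'
  haveI hB'n : B'.Normal := ⟨fun b hb s => by
    rw [hB', Subgroup.mem_subgroupOf] at hb ⊢
    show (s : G) * b * (s : G)⁻¹ ∈ B
    rw [(hBcent _ hb).2 s s.2, mul_inv_cancel_right]
    exact hb⟩
  have hφB : ∀ x (hx : x ∈ P), x * (t * x * t⁻¹) ∈ B := fun x hx =>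
    ⟨φ ⟨x, hx⟩, ⟨_, rfl⟩, rfl⟩
  have hcomm : commutator (S : Subgroup G) ≤ B' := by
    rw [commutator_def, Subgroup.commutator_le]
    rintro ⟨s, hs⟩ - ⟨s', hs'⟩ -
    rw [hB', Subgroup.mem_subgroupOf]
    show ⁅s, s'⁆ ∈ B
    rcases hcos s hs with hsP | ⟨x, hx, rfl⟩ <;> rcases hcos s' hs' with hsP' | ⟨y, hy, rfl⟩
    · rw [commutatorElement_eq_one_iff_mul_comm.2 (hab s hsP s' hsP')]; exact one_mem _
    · have e : ⁅s, y * t⁆ = s * (t * s * t⁻¹) := by
        rw [commutatorElement_def]
        have hsi : s⁻¹ = s := inv_eq_of_mul_eq_one_right (hel _ hsP)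
        rw [hsi]
        calc s * (y * t) * s * (y * t)⁻¹ = s * (y * (t * s * t⁻¹)) * y⁻¹ := by group
          _ = s * ((t * s * t⁻¹) * y) * y⁻¹ := by rw [hab y hy _ (htconj s hsP)]
          _ = _ := by group
      rw [e]; exact hφB s hsP
    · have e : ⁅x * t, s'⁆ = (s' * (t * s' * t⁻¹))⁻¹ := by
        rw [commutatorElement_def]
        have h1 : (t * s' * t⁻¹)⁻¹ = t * s' * t⁻¹ :=
          inv_eq_of_mul_eq_one_right (hel _ (htconj _ hsP'))
        rw [mul_inv_rev (a := s'), h1]
        calc x * t * s' * (x * t)⁻¹ * s'⁻¹ = x * (t * s' * t⁻¹) * x⁻¹ * s'⁻¹ := by group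
          _ = (t * s' * t⁻¹) * x * x⁻¹ * s'⁻¹ := by rw [hab x hx _ (htconj _ hsP')]
          _ = _ := by group
      rw [e]; exact inv_mem (hφB s' hsP')
    · have hxy := mul_mem hx hy
      have e : ⁅x * t, y * t⁆ = (x * y) * (t * (x * y) * t⁻¹) := by
        rw [commutatorElement_def]
        have hxi : x⁻¹ = x := inv_eq_of_mul_eq_one_right (hel _ hx)
        have hyi : y⁻¹ = y := inv_eq_of_mul_eq_one_right (hel _ hy)
        have hxy' : x * y = y * x := hab x hx y hy
        calc x * t * (y * t) * (x * t)⁻¹ * (y * t)⁻¹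
            = x * (t * y * t⁻¹) * (t * x⁻¹ * t⁻¹) * y⁻¹ := by group
          _ = x * ((t * y * t⁻¹) * (t * x * t⁻¹) * y) := by rw [hxi, hyi]; group
          _ = x * (y * ((t * y * t⁻¹) * (t * x * t⁻¹))) := by
              rw [hab _ (mul_mem (htconj y hy) (htconj x hx)) y hy]
          _ = (x * y) * (t * (y * x) * t⁻¹) := by group
          _ = _ := by rw [← hxy']
      rw [e]; exact hφB _ hxy
  -- counting
  have hk : Nat.card φ.ker * Nat.card φ.range = Nat.card P := by
    rw [← Subgroup.index_ker]; exact φ.ker.card_mul_index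
  have hBcard : Nat.card B' = Nat.card φ.range := by
    rw [hB', Nat.card_congr (Subgroup.subgroupOfEquivOfLe
      (fun b hb => hPS (hBcent b hb).1)).toEquiv]
    exact (Nat.card_congr (φ.range.equivMapOfInjective _ P.subtype_injective).toEquiv).symm
  have hBidx : B'.index = 2 * Nat.card φ.ker := by
    have h := B'.card_mul_index
    rw [hBcard, hS, ← hk] at h
    refine Nat.eq_of_mul_eq_mul_left (Nat.card_pos (α := φ.range)) (h.trans ?_)
    ring
  -- linear characters
  let L := ((S : Subgroup G) →* ℂˣ)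
  have hL4 : Nat.card L ≤ 4 := by
    set res : L → P → ℂ := fun μ x => (μ ⟨x, hPS x.2⟩ : ℂ) with hres
    have hrirr : ∀ μ : L, Cfsg.IsIrrCharacter P (res μ) := fun μ =>
      isIrrCharacter_linear (μ.comp (Subgroup.inclusion hPS))
    have hcase : ∀ μ : L, (∀ x : P, res μ x = 1) ∨ ∃ ε : ℂ,
        ∀ (x : G) (hx : x ∈ P), (χ : G → ℂ) (x * t) =
          ε * (μ ⟨x * t, mul_mem (hPS hx) ht⟩ : ℂ) := by
      intro μ
      by_cases htriv : ∀ x : P, res μ x = 1
      · exact Or.inl htriv
      refine Or.inr ?_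
      have h1 := hmult (res μ) (hrirr μ) (fun e => htriv fun x => congrFun e x)
      rw [classInner_def, inv_mul_eq_one₀ natCard_ne_zero] at h1
      obtain ⟨a, ha⟩ := classInner_char_nat
        (isCharacter_restrict (S : Subgroup G) (irr_isCharacter χ)) (isCharacter_linear μ)
      rw [classInner_def, inv_mul_eq_iff_eq_mul₀ natCard_ne_zero] at ha
      set F : ↥(S : Subgroup G) → ℂ := fun s => (χ : G → ℂ) s * conj ((μ s : ℂ)) with hF
      change ∑ s, F s = _ at ha
      set T := Finset.univ.filter (fun s : (S : Subgroup G) => (s : G) ∉ P) with hT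
      have hin : ∑ s ∈ Finset.univ.filter (fun s : (S : Subgroup G) => ¬ (s : G) ∉ P), F s =
          (Nat.card P : ℂ) := by
        rw [h1]
        symm
        refine Finset.sum_bij (fun (x : P) _ => (⟨x, hPS x.2⟩ : (S : Subgroup G)))
          (fun x _ => Finset.mem_filter.2 ⟨Finset.mem_univ _, fun h => h x.2⟩)
          (fun x _ y _ e => Subtype.ext (congrArg (fun z : (S : Subgroup G) => (z : G)) e))
          (fun s hs => ⟨⟨s, not_not.1 (Finset.mem_filter.1 hs).2⟩, Finset.mem_univ _,
            Subtype.ext rfl⟩) (fun x _ => rfl)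
      have hTcard : T.card = Nat.card P := by
        have h := Finset.card_filter_add_card_filter_not
          (s := (Finset.univ : Finset (S : Subgroup G))) (fun s => (s : G) ∉ P)
        rw [Finset.card_univ, ← Nat.card_eq_fintype_card, hS] at h
        have h2 : (Finset.univ.filter (fun s : (S : Subgroup G) => ¬ (s : G) ∉ P)).card =
            Nat.card P := by
          rw [← Fintype.card_subtype, ← Nat.card_eq_fintype_card]
          exact Nat.card_congr
            ⟨fun s => ⟨s.1, not_not.1 s.2⟩, fun x => ⟨⟨x, hPS x.2⟩, fun h => h x.2⟩,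
              fun s => rfl, fun x => rfl⟩
        rw [← hT] at h
        omega
      have hunit : ∀ s ∈ T, ‖F s‖ = 1 := by
        intro s hs
        have hs' := (Finset.mem_filter.1 hs).2
        rw [hF, norm_mul, Complex.norm_conj, linear_norm_eq_one, mul_one]
        exact H.norm_one (dvd_orderOf_of_mem S.2 s.2 fun e => hs' (e ▸ one_mem _))
      have hsum : ∑ s ∈ T, F s = ((2 * (a : ℝ) - 1) * (Nat.card P : ℝ) : ℝ) := by
        rw [← Finset.sum_filter_add_sum_filter_not Finset.univ
          (fun s : (S : Subgroup G) => (s : G) ∉ P), hin, hS] at ha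
        push_cast at ha ⊢
        linear_combination ha
      set N : ℝ := (Nat.card P : ℝ)
      have hN : 0 < N := Nat.cast_pos.2 Nat.card_pos
      have hle : ‖∑ s ∈ T, F s‖ ≤ N := (norm_sum_le _ _).trans (by
        rw [Finset.sum_congr rfl hunit, Finset.sum_const, nsmul_one, hTcard])
      rw [hsum, Complex.norm_real, Real.norm_eq_abs, abs_mul, abs_of_pos hN] at hle
      have habs : |2 * (a : ℝ) - 1| ≤ 1 := le_of_mul_le_mul_right (by rwa [one_mul]) hN
      have ha1 : a = 0 ∨ a = 1 := by
        have h2 : (a : ℝ) ≤ 1 := by linarith [(abs_le.1 habs).2]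
        have : a ≤ 1 := by exact_mod_cast h2
        omega
      set σ : ℝ := 2 * (a : ℝ) - 1 with hσ
      have hσ2 : σ * σ = 1 := by rcases ha1 with h | h <;> simp [hσ, h] <;> norm_num
      have hre : ∑ s ∈ T, σ * (F s).re = ∑ s ∈ T, (1 : ℝ) := by
        rw [← Finset.mul_sum, ← Complex.re_sum, hsum, Complex.ofReal_re, Finset.sum_const,
          nsmul_one, hTcard, ← mul_assoc, hσ2, one_mul]
      have hpt : ∀ s ∈ T, F s = (σ : ℂ) := by
        have hle' : ∀ s ∈ T, σ * (F s).re ≤ 1 := fun s hs => by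
          have h1 := Complex.abs_re_le_norm (F s)
          rw [hunit s hs] at h1
          have h2 := abs_le.1 h1
          rcases ha1 with h | h <;> simp [hσ, h] <;> linarith
        intro s hs
        have e := (Finset.sum_eq_sum_iff_of_le hle').1 hre s hs
        have hres' : (F s).re = σ := by
          calc (F s).re = σ * σ * (F s).re := by rw [hσ2, one_mul]
            _ = σ := by rw [mul_assoc, e, mul_one]
        have him : (F s).im = 0 := by
          have h1 : Complex.normSq (F s) = 1 := by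
            rw [Complex.normSq_eq_norm_sq, hunit s hs, one_pow]
          rw [Complex.normSq_apply, hres', hσ2] at h1
          exact mul_self_eq_zero.1 (by linarith)
        exact Complex.ext (by simp [hres']) (by simp [him])
      refine ⟨(σ : ℂ), fun x hx => ?_⟩
      have hmem : (⟨x * t, mul_mem (hPS hx) ht⟩ : (S : Subgroup G)) ∈ T :=
        Finset.mem_filter.2 ⟨Finset.mem_univ _, fun h => htP ((Subgroup.mul_mem_cancel_left _ hx).1 h)⟩
      have e := hpt _ hmem
      rw [hF] at e
      simp only at e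
      have hn := linear_norm_eq_one μ ⟨x * t, mul_mem (hPS hx) ht⟩
      calc (χ : G → ℂ) (x * t) = (χ : G → ℂ) (x * t) *
            (conj ((μ ⟨x * t, mul_mem (hPS hx) ht⟩ : ℂ)) * (μ ⟨x * t, mul_mem (hPS hx) ht⟩ : ℂ)) := by
            rw [Complex.conj_mul', hn]; simp
        _ = _ := by rw [← mul_assoc, e]
    -- restrictions of the nontrivial ones agree
    have hagree : ∀ μ ν : L, (¬ ∀ x : P, res μ x = 1) → (¬ ∀ x : P, res ν x = 1) →
        res μ = res ν := by
      intro μ ν hμ hν
      obtain ⟨ε, he⟩ := (hcase μ).resolve_left hμ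
      obtain ⟨δ, hd⟩ := (hcase ν).resolve_left hν
      funext x
      have e1 := (he 1 (one_mem _)).symm.trans (hd 1 (one_mem _))
      have e2 := (he x x.2).symm.trans (hd x x.2)
      have hmul : ∀ (m : L) (y : G) (hy : y ∈ P), (m ⟨y * t, mul_mem (hPS hy) ht⟩ : ℂ) =
          (m ⟨y, hPS hy⟩ : ℂ) * (m ⟨t, ht⟩ : ℂ) := fun m y hy => by
        rw [← Units.val_mul, ← map_mul]; rfl
      rw [hmul μ 1 (one_mem _), hmul ν 1 (one_mem _)] at e1
      rw [hmul μ x x.2, hmul ν x x.2] at e2
      have h1 : ∀ m : L, (m ⟨(1 : G), hPS (one_mem P)⟩ : ℂ) = 1 := fun m => by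
        rw [show (⟨(1 : G), hPS (one_mem P)⟩ : (S : Subgroup G)) = 1 from rfl, map_one,
          Units.val_one]
      rw [h1, h1, one_mul, one_mul] at e1
      have hne : ε * (μ ⟨t, ht⟩ : ℂ) ≠ 0 := by
        intro h0
        have hz := he 1 (one_mem _)
        simp only [hmul, h1, one_mul, h0] at hz
        have hn := H.norm_one (g := t)
          (dvd_orderOf_of_mem S.2 ht fun e => htP (e ▸ one_mem _))
        rw [hz, norm_zero] at hn
        exact zero_ne_one hn
      apply mul_right_cancel₀ hne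
      show res μ x * (ε * (μ ⟨t, ht⟩ : ℂ)) = res ν x * (ε * (μ ⟨t, ht⟩ : ℂ))
      conv_rhs => rw [e1]
      simp only [hres]
      linear_combination e2
    -- determined by the restriction and the value at `t`
    have hext : ∀ μ ν : L, res μ = res ν → μ ⟨t, ht⟩ = ν ⟨t, ht⟩ → μ = ν := by
      intro μ ν hr htt'
      refine MonoidHom.ext fun ⟨s, hs⟩ => ?_
      rcases hcos s hs with hsP | ⟨x, hx, rfl⟩
      · exact Units.ext (congrFun hr ⟨s, hsP⟩)
      · rw [show (⟨x * t, hs⟩ : (S : Subgroup G)) = ⟨x, hPS hx⟩ * ⟨t, ht⟩ from rfl, map_mul,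
          map_mul, htt']
        congr 1
        exact Units.ext (congrFun hr ⟨x, hx⟩)
    have hsq : ∀ μ ν : L, res μ = res ν → (μ ⟨t, ht⟩ : ℂ) = (ν ⟨t, ht⟩ : ℂ) ∨
        (μ ⟨t, ht⟩ : ℂ) = -(ν ⟨t, ht⟩ : ℂ) := by
      intro μ ν hr
      have h := congrFun hr ⟨t * t, ht2⟩
      simp only [hres] at h
      have hm : ∀ m : L, (m ⟨t * t, hPS ht2⟩ : ℂ) = (m ⟨t, ht⟩ : ℂ) * (m ⟨t, ht⟩ : ℂ) :=
        fun m => by rw [← Units.val_mul, ← map_mul]; rfl
      rw [hm, hm] at h
      exact mul_self_eq_mul_self_iff.1 h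
    by_contra hcon
    push Not at hcon
    haveI : Finite L := by
      apply Nat.finite_of_card_ne_zero
      omega
    haveI := Fintype.ofFinite L
    rw [Nat.card_eq_fintype_card] at hcon
    obtain ⟨b, hb⟩ := Fintype.exists_lt_card_fiber_of_mul_lt_card
      (fun μ : L => decide (∀ x : P, res μ x = 1)) (n := 2) (by simpa using hcon)
    obtain ⟨μ1, h1, μ2, h2, μ3, h3, h12, h13, h23⟩ := Finset.two_lt_card.1 hb
    simp only [Finset.mem_filter, Finset.mem_univ, true_and] at h1 h2 h3
    have hr : ∀ μ ν : L, decide (∀ x : P, res μ x = 1) = b →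
        decide (∀ x : P, res ν x = 1) = b → res μ = res ν := by
      intro μ ν hμ hν
      by_cases hh : ∀ x : P, res μ x = 1
      · have hh' : ∀ x : P, res ν x = 1 := by
          have e := hν.trans hμ.symm
          rw [decide_eq_true hh] at e
          exact of_decide_eq_true e
        funext x; rw [hh, hh']
      · have hh' : ¬ ∀ x : P, res ν x = 1 := by
          have e := hν.trans hμ.symm
          rw [decide_eq_false hh] at e
          exact of_decide_eq_false e
        exact hagree μ ν hh hh'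
    have r12 := hr μ1 μ2 h1 h2
    have r13 := hr μ1 μ3 h1 h3
    rcases hsq μ1 μ2 r12 with e | e
    · exact h12 (hext _ _ r12 (Units.ext e))
    rcases hsq μ1 μ3 r13 with e' | e'
    · exact h13 (hext _ _ r13 (Units.ext e'))
    exact h23 (hext _ _ (r12.symm.trans r13) (Units.ext (neg_inj.1 (e.symm.trans e'))))
  rw [show Nat.card L = (commutator (S : Subgroup G)).index from card_linear_hom] at hL4
  have h4 : B'.index ≤ 4 := (Nat.le_of_dvd (Nat.pos_of_ne_zero Subgroup.index_ne_zero_of_finite)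
    (Subgroup.index_dvd_of_le hcomm)).trans hL4
  have hle : Nat.card φ.range ≤ Nat.card φ.ker :=
    Nat.le_of_dvd Nat.card_pos (Subgroup.card_dvd_of_le hrk)
  rw [hBidx] at h4
  have h2 : Nat.card φ.ker ≤ 2 := by omega
  rw [← hk]
  exact (Nat.mul_le_mul h2 (hle.trans h2))

end Cfsg.Agent.BlocksChars.RootUnitySingular
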