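import Cfsg.Agent.BlocksChars.SL2Degrees

/-!
# Degree sets and degree graphs of `SL₂(q)` and `PSL₂(q)`
-/

set_option autoImplicit false
set_option linter.unusedSectionVars false
set_option linter.style.haveILetI false

open Matrix
open scoped MatrixGroups ComplexConjugate

namespace Cfsg.Agent.BlocksChars.SL2DegreeGraph

open Cfsg.Agent.GL2 Cfsg.Agent.GL2.Borel Cfsg.Agent.GL2.PrincipalSL Cfsg.Agent.GL2.ClassifySL
open Cfsg.Agent.GL2.CountsSL
open Cfsg.Agent.Characters Cfsg.Agent.BlocksChars.Degrees Cfsg.Agent.BlocksChars.SL2Degrees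

universe u v

/-- The shape of the degree set: every degree divides `q`, `q + 1` or `q - 1`, and these occur. -/
def DegSet (D : Set ℕ) (q : ℕ) : Prop :=
  (∀ d ∈ D, d ∣ q ∨ d ∣ q + 1 ∨ d ∣ q - 1) ∧ q ∈ D ∧ q + 1 ∈ D ∧ q - 1 ∈ D

theorem sq_sub_one_eq (q : ℕ) : q ^ 2 - 1 = (q + 1) * (q - 1) := by
  rw [← Nat.sq_sub_sq, one_pow]

theorem degreePrimes_eq {S : Type v} [Group S] {q : ℕ} (h : DegSet (Cfsg.charDegrees S) q) :
    Cfsg.degreePrimes S = {r : ℕ | r.Prime ∧ r ∣ q * (q ^ 2 - 1)} := by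
  obtain ⟨h0, h1, h2, h3⟩ := h
  ext r
  constructor
  · rintro ⟨hr, d, hd, hrd⟩
    refine ⟨hr, ?_⟩
    rw [sq_sub_one_eq]
    rcases h0 d hd with e | e | e
    · exact Dvd.dvd.mul_right (hrd.trans e) _
    · exact Dvd.dvd.mul_left (Dvd.dvd.mul_right (hrd.trans e) _) _
    · exact Dvd.dvd.mul_left (Dvd.dvd.mul_left (hrd.trans e) _) _
  · rintro ⟨hr, hdvd⟩
    refine ⟨hr, ?_⟩
    rw [sq_sub_one_eq] at hdvd
    rcases hr.dvd_mul.1 hdvd with e | e
    · exact ⟨q, h1, e⟩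
    rcases hr.dvd_mul.1 e with e | e
    · exact ⟨_, h2, e⟩
    · exact ⟨_, h3, e⟩

theorem adj_iff {S : Type v} [Group S] {q t n : ℕ} (ht : t.Prime) (hq : q = t ^ n)
    (h : DegSet (Cfsg.charDegrees S) q) (r s : ℕ) :
    (Cfsg.degreeGraph S).Adj r s ↔ (r ≠ s ∧ r.Prime ∧ s.Prime ∧
      ((r ∣ q + 1 ∧ s ∣ q + 1) ∨ (r ∣ q - 1 ∧ s ∣ q - 1))) := by
  obtain ⟨h0, -, h2, h3⟩ := h
  constructor
  · rintro ⟨hne, hr, hs, d, hd, hrs⟩
    refine ⟨hne, hr, hs, ?_⟩
    rcases h0 d hd with e | e | e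
    · have hr' : r ∣ t ^ n := hq ▸ (dvd_mul_right r s).trans (hrs.trans e)
      have hs' : s ∣ t ^ n := hq ▸ (dvd_mul_left s r).trans (hrs.trans e)
      exact absurd (((Nat.prime_dvd_prime_iff_eq hr ht).1 (hr.dvd_of_dvd_pow hr')).trans
        ((Nat.prime_dvd_prime_iff_eq hs ht).1 (hs.dvd_of_dvd_pow hs')).symm) hne
    · exact Or.inl ⟨(dvd_mul_right r s).trans (hrs.trans e), (dvd_mul_left s r).trans (hrs.trans e)⟩
    · exact Or.inr ⟨(dvd_mul_right r s).trans (hrs.trans e), (dvd_mul_left s r).trans (hrs.trans e)⟩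
  · rintro ⟨hne, hr, hs, h⟩
    have hc : r.Coprime s := (Nat.coprime_primes hr hs).2 hne
    refine ⟨hne, hr, hs, ?_⟩
    rcases h with ⟨a, b⟩ | ⟨a, b⟩
    · exact ⟨_, h2, hc.mul_dvd_of_dvd_of_dvd a b⟩
    · exact ⟨_, h3, hc.mul_dvd_of_dvd_of_dvd a b⟩

theorem dvd_odd_iff {q r s : ℕ} (hq : Odd q) (hr : r.Prime) (hs : s.Prime) :
    ((r ∣ q + 1 ∧ s ∣ q + 1) ∨ (r ∣ q - 1 ∧ s ∣ q - 1)) ↔
      (r ∣ q ^ 2 - 1 ∧ s ∣ q ^ 2 - 1 ∧
        (r = 2 ∨ s = 2 ∨ (r ∣ q + 1 ∧ s ∣ q + 1) ∨ (r ∣ q - 1 ∧ s ∣ q - 1))) := by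
  rw [sq_sub_one_eq]
  obtain ⟨m, rfl⟩ := hq
  constructor
  · rintro (⟨a, b⟩ | ⟨a, b⟩)
    · exact ⟨Dvd.dvd.mul_right a _, Dvd.dvd.mul_right b _, Or.inr (Or.inr (Or.inl ⟨a, b⟩))⟩
    · exact ⟨Dvd.dvd.mul_left a _, Dvd.dvd.mul_left b _, Or.inr (Or.inr (Or.inr ⟨a, b⟩))⟩
  · rintro ⟨a, b, rfl | rfl | h⟩
    · rcases hs.dvd_mul.1 b with e | e
      · exact Or.inl ⟨by omega, e⟩
      · exact Or.inr ⟨by omega, e⟩
    · rcases hr.dvd_mul.1 a with e | e
      · exact Or.inl ⟨e, by omega⟩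
      · exact Or.inr ⟨e, by omega⟩
    · exact h

variable {F : Type u} [Field F] [Fintype F] [DecidableEq F]

theorem psl_subset : Cfsg.charDegrees (ProjectiveSpecialLinearGroup (Fin 2) F) ⊆
    Cfsg.charDegrees SL(2, F) :=
  charDegrees_subset_of_surjective (QuotientGroup.mk' (Subgroup.center SL(2, F)))
    (QuotientGroup.mk'_surjective _)

theorem degree_StS : Cfsg.charDegree (StS : SL(2, F) → ℂ) = Fintype.card F := by
  have h := charDegree_cast (⟨_, isIrr_StS⟩ : Cfsg.IrrCharacter SL(2, F))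
  rw [show ((⟨_, isIrr_StS⟩ : Cfsg.IrrCharacter SL(2, F)) : SL(2, F) → ℂ) 1 =
    (Fintype.card F : ℂ) from StS_one] at h
  exact_mod_cast h

/-- Characters with `-1` in the kernel in the families of degrees `q + 1` and `q - 1`. -/
theorem exists_kind_two_four
    (h4 : 4 ≤ Fintype.card F) (hodd : Odd (Fintype.card F) → 5 < Fintype.card F) :
    (∃ χ : Cfsg.IrrCharacter SL(2, F), Kind 2 (χ : SL(2, F) → ℂ) ∧
        (χ : SL(2, F) → ℂ) negOne = (χ : SL(2, F) → ℂ) 1) ∧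
      ∃ χ : Cfsg.IrrCharacter SL(2, F), Kind 4 (χ : SL(2, F) → ℂ) ∧
        (χ : SL(2, F) → ℂ) negOne = (χ : SL(2, F) → ℂ) 1 := by
  rcases Nat.even_or_odd (Fintype.card F) with he | ho
  · have h2 : (2 : F) = 0 := by
      have hc : ((Fintype.card F : ℕ) : F) = 0 := Nat.cast_card_eq_zero F
      obtain ⟨p, hp⟩ := CharP.exists F
      haveI := hp
      obtain ⟨n, hpr, hn⟩ := FiniteField.card F p
      have : p = 2 := by
        have h2d : 2 ∣ p ^ (n : ℕ) := hn ▸ he.two_dvd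
        exact ((Nat.prime_dvd_prime_iff_eq Nat.prime_two hpr).1 (Nat.prime_two.dvd_of_dvd_pow h2d)).symm
      subst this
      exact_mod_cast CharP.cast_eq_zero F 2
    have hneg : (-1 : F) = 1 := by linear_combination -h2
    have hone : (negOne : SL(2, F)) = 1 := by
      apply Subtype.ext
      rw [coe_negOne]
      ext i j
      fin_cases i <;> fin_cases j <;> simp [hneg]
    have hk : Nat.card {r : F // r ^ 2 = 1} = 1 := by
      have : {r : F // r ^ 2 = 1} ≃ Unit :=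
        { toFun := fun _ => ()
          invFun := fun _ => ⟨1, one_pow 2⟩
          left_inv := fun r => Subtype.ext (by
            rcases sq_eq_one_iff.1 r.2 with e | e
            · exact e.symm
            · exact (e.trans hneg).symm)
          right_inv := fun _ => rfl }
      rw [Nat.card_congr this, Nat.card_unique]
    obtain ⟨k, hk', f0, f1, f2, f3, f4, f5⟩ := GL2.CountsSL.families (F := F)
    obtain rfl : k = 1 := hk'.symm.trans hk
    rw [Fintype.card_units] at f2 f4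
    refine ⟨?_, ?_⟩
    · have hpos : 0 < Nat.card {χ : Cfsg.IrrCharacter SL(2, F) // Kind 2 (χ : SL(2, F) → ℂ)} := by
        omega
      obtain ⟨⟨⟨χ, hχ⟩⟩, -⟩ := Nat.card_pos_iff.1 hpos
      exact ⟨χ, hχ, by rw [hone]⟩
    · have hpos : 0 < Nat.card {χ : Cfsg.IrrCharacter SL(2, F) // Kind 4 (χ : SL(2, F) → ℂ)} := by
        omega
      obtain ⟨⟨⟨χ, hχ⟩⟩, -⟩ := Nat.card_pos_iff.1 hpos
      exact ⟨χ, hχ, by rw [hone]⟩
  · exact exists_trivial_on_negOne ho (hodd ho)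

theorem degSet_psl (h4 : 4 ≤ Fintype.card F) (hodd : Odd (Fintype.card F) → 5 < Fintype.card F) :
    DegSet (Cfsg.charDegrees (ProjectiveSpecialLinearGroup (Fin 2) F)) (Fintype.card F) := by
  obtain ⟨⟨χ, hχ, hz⟩, ⟨θ, hθ, hzθ⟩⟩ := exists_kind_two_four h4 hodd
  refine ⟨fun d hd => ?_, ?_, ?_, ?_⟩
  · obtain ⟨χ, rfl⟩ := psl_subset hd
    exact degree_dvd χ
  · have := degree_mem_psl (⟨_, isIrr_StS⟩ : Cfsg.IrrCharacter SL(2, F)) StS_negOne
    rwa [show Cfsg.charDegree ((⟨_, isIrr_StS⟩ : Cfsg.IrrCharacter SL(2, F)) : SL(2, F) → ℂ) =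
      Fintype.card F from degree_StS] at this
  · have h := degree_of_kind hχ
    have hd : Cfsg.charDegree (χ : SL(2, F) → ℂ) = Fintype.card F + 1 := by
      simp [deg2] at h
      omega
    exact hd ▸ degree_mem_psl χ hz
  · have h := degree_of_kind hθ
    have hd : Cfsg.charDegree (θ : SL(2, F) → ℂ) = Fintype.card F - 1 := by
      simp [deg2] at h
      omega
    exact hd ▸ degree_mem_psl θ hzθ

theorem degSet_of_iso {S : Type v} [Group S] (h4 : 4 ≤ Fintype.card F)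
    (hodd : Odd (Fintype.card F) → 5 < Fintype.card F)
    (hS : Nonempty (S ≃* ProjectiveSpecialLinearGroup (Fin 2) F) ∨ Nonempty (S ≃* SL(2, F))) :
    DegSet (Cfsg.charDegrees S) (Fintype.card F) := by
  obtain ⟨h0, h1, h2, h3⟩ := degSet_psl h4 hodd
  rcases hS with ⟨⟨e⟩⟩ | ⟨⟨e⟩⟩
  · rw [charDegrees_congr e]
    exact ⟨h0, h1, h2, h3⟩
  · rw [charDegrees_congr e]
    exact ⟨fun d ⟨χ, hχ⟩ => hχ ▸ degree_dvd χ, psl_subset h1, psl_subset h2, psl_subset h3⟩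

/-- The Steinberg character is the only character of `PSL₂` of degree divisible by `p`. -/
theorem psl_p_singular {p : ℕ} [Fact p.Prime] [CharP F p] :
    Nat.card {χ : Cfsg.IrrCharacter (ProjectiveSpecialLinearGroup (Fin 2) F) //
      p ∣ Cfsg.charDegree (χ : ProjectiveSpecialLinearGroup (Fin 2) F → ℂ)} = 1 ∧
    ∀ χ : Cfsg.IrrCharacter (ProjectiveSpecialLinearGroup (Fin 2) F),
      p ∣ Cfsg.charDegree (χ : ProjectiveSpecialLinearGroup (Fin 2) F → ℂ) →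
        Cfsg.charDegree (χ : ProjectiveSpecialLinearGroup (Fin 2) F → ℂ) = Fintype.card F := by
  classical
  set π := QuotientGroup.mk' (Subgroup.center SL(2, F)) with hπ
  have hπs : Function.Surjective π := QuotientGroup.mk'_surjective _
  have key : ∀ χ : Cfsg.IrrCharacter (ProjectiveSpecialLinearGroup (Fin 2) F),
      p ∣ Cfsg.charDegree (χ : ProjectiveSpecialLinearGroup (Fin 2) F → ℂ) →
      (fun g => (χ : ProjectiveSpecialLinearGroup (Fin 2) F → ℂ) (π g)) = (StS : SL(2, F) → ℂ) := by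
    intro χ hp
    refine degree_of_dvd_char (p := p)
      (χ := (⟨_, isIrrCharacter_comp_surjective π hπs χ.2⟩ : Cfsg.IrrCharacter SL(2, F))) ?_
    have : Cfsg.charDegree (fun g => (χ : ProjectiveSpecialLinearGroup (Fin 2) F → ℂ) (π g)) =
        Cfsg.charDegree (χ : ProjectiveSpecialLinearGroup (Fin 2) F → ℂ) := by
      simp [Cfsg.charDegree]
    exact this ▸ hp
  have hdeg : ∀ χ : Cfsg.IrrCharacter (ProjectiveSpecialLinearGroup (Fin 2) F),
      p ∣ Cfsg.charDegree (χ : ProjectiveSpecialLinearGroup (Fin 2) F → ℂ) →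
      Cfsg.charDegree (χ : ProjectiveSpecialLinearGroup (Fin 2) F → ℂ) = Fintype.card F := by
    intro χ hp
    rw [← degree_StS, ← key χ hp]
    simp [Cfsg.charDegree]
  refine ⟨?_, hdeg⟩
  rw [Nat.card_eq_one_iff_unique]
  refine ⟨⟨fun a b => Subtype.ext (Subtype.ext (funext fun x => ?_))⟩, ?_⟩
  · obtain ⟨g, rfl⟩ := hπs x
    exact congrFun ((key a.1 a.2).trans (key b.1 b.2).symm) g
  · obtain ⟨χ, hχ⟩ : Fintype.card F ∈ Cfsg.charDegrees (ProjectiveSpecialLinearGroup (Fin 2) F) := by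
      have := degree_mem_psl (⟨_, isIrr_StS⟩ : Cfsg.IrrCharacter SL(2, F)) StS_negOne
      rwa [show Cfsg.charDegree ((⟨_, isIrr_StS⟩ : Cfsg.IrrCharacter SL(2, F)) : SL(2, F) → ℂ) =
        Fintype.card F from degree_StS] at this
    obtain ⟨n, -, hn⟩ := FiniteField.card F p
    exact ⟨⟨χ, by rw [hχ, hn]; exact dvd_pow_self p n.ne_zero⟩⟩

end Cfsg.Agent.BlocksChars.SL2DegreeGraph
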