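import Cfsg.Agent.Lib.Characters.Inner
import Cfsg.Agent.Lib.Characters.Schur
import Cfsg.Agent.Lib.Characters.Kernel
import Cfsg.Agent.Lib.Characters.Counting
import Cfsg.Agent.Lib.Coprime.Commutator
import Cfsg.Agent.Lib.PLocal.PSolvable
import Cfsg.Agent.Lib.Cores.Basic
import Cfsg.Prelude.Def_Blocks

/-!
# Small faithful characters and coprime action

A bound on the stabiliser of a character of a group of class at most two under a fixed-point-free
coprime action, and the `p`-solvable dual of the lemma of Hall and Higman.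
-/

set_option linter.style.haveILetI false

namespace Cfsg.Agent.BlocksChars.TICharDegree

open Cfsg.Agent.Characters
open scoped ComplexConjugate commutatorElement

universe u v

section Stabiliser

variable {R : Type u} [Group R] [Finite R] {S : Type v} [Group S] [Finite S]

/-- A fixed coset of an invariant subgroup contains a fixed point. -/
theorem exists_fixed_mem_coset {p : ℕ} [Fact p.Prime] (σ : S →* MulAut R) (hS : IsPGroup p S)
    (hR : ¬ p ∣ Nat.card R) (V : Subgroup R) {g : S} (hV : ∀ v ∈ V, σ g v ∈ V) {x : R}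
    (hx : x⁻¹ * σ g x ∈ V) : ∃ c : R, x⁻¹ * c ∈ V ∧ σ g c = c := by
  classical
  let s : Set R := {r | x⁻¹ * r ∈ V}
  letI : MulAction S R :=
    { smul := fun a r => σ a r
      one_smul := fun r => by show σ 1 r = r; rw [map_one]; rfl
      mul_smul := fun a b r => by show σ (a * b) r = σ a (σ b r); rw [map_mul]; rfl }
  let H : Subgroup S :=
    { carrier := {a | ∀ r, r ∈ s ↔ σ a r ∈ s}
      one_mem' := fun r => by rw [map_one]; rfl
      mul_mem' := fun {a b} ha hb r => by rw [map_mul]; exact (hb r).trans (ha _)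
      inv_mem' := fun {a} ha r => by
        rw [ha (σ a⁻¹ r), ← MulAut.mul_apply, ← map_mul, mul_inv_cancel, map_one]
        rfl }
  have hfwd : ∀ r, r ∈ s → σ g r ∈ s := by
    intro r hr
    show x⁻¹ * σ g r ∈ V
    have := V.mul_mem hx (hV _ hr)
    rwa [map_mul, map_inv, mul_assoc, mul_inv_cancel_left] at this
  have hgH : g ∈ H := fun r => by
    refine ⟨hfwd r, fun h => ?_⟩
    have hb : (σ g) '' s = s := Set.eq_of_subset_of_ncard_le (by rintro _ ⟨y, hy, rfl⟩; exact hfwd y hy)
      (Set.ncard_image_of_injective s (σ g).injective).ge (Set.toFinite _)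
    obtain ⟨y, hy, hyr⟩ := hb.ge h
    rwa [← (σ g).injective hyr]
  letI : MulAction H s :=
    { smul := fun a r => ⟨σ a r.1, (a.2 r.1).1 r.2⟩
      one_smul := fun r => Subtype.ext (by show σ (1 : S) r.1 = r.1; rw [map_one]; rfl)
      mul_smul := fun a b r => Subtype.ext (by
        show σ ((a : S) * b) r.1 = σ a (σ b r.1); rw [map_mul]; rfl) }
  have hcard : Nat.card s = Nat.card V := Nat.card_congr
    { toFun := fun r => ⟨x⁻¹ * r.1, r.2⟩
      invFun := fun v => ⟨x * v.1, by show x⁻¹ * (x * v.1) ∈ V; rw [inv_mul_cancel_left]; exact v.2⟩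
      left_inv := fun r => Subtype.ext (by simp)
      right_inv := fun v => Subtype.ext (by simp) }
  obtain ⟨c, hc⟩ := (hS.to_subgroup H).nonempty_fixed_point_of_prime_not_dvd_card s
    (fun h => hR ((hcard ▸ h).trans V.card_subgroup_dvd_card))
  exact ⟨c.1, c.2, congrArg Subtype.val (hc ⟨g, hgH⟩)⟩

/-- Fixed-point-free action on a quotient bounds the acting group. -/
theorem card_lt_index (σ : S →* MulAut R) (V : Subgroup R) (hV : V ≠ ⊤)
    (hinv : ∀ g : S, ∀ v ∈ V, σ g v ∈ V)
    (hfree : ∀ g : S, g ≠ 1 → ∀ x : R, x⁻¹ * σ g x ∈ V → x ∈ V) : Nat.card S < V.index := by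
  obtain ⟨x, -, hx⟩ := SetLike.exists_of_lt (lt_top_iff_ne_top.2 hV)
  rw [Subgroup.index_eq_card]
  haveI := Fintype.ofFinite S
  haveI := Fintype.ofFinite (R ⧸ V)
  rw [Nat.card_eq_fintype_card, Nat.card_eq_fintype_card]
  refine Fintype.card_lt_of_injective_not_surjective (fun a : S => ((σ a x : R) : R ⧸ V)) ?_ fun hs => ?_
  · intro a b hab
    have h := QuotientGroup.eq.1 hab
    by_contra hne
    refine hx (hfree (a⁻¹ * b) (fun e => hne (inv_mul_eq_one.1 e)) x ?_)
    have h' := hinv a⁻¹ _ h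
    rwa [map_mul (σ a⁻¹), map_inv (σ a⁻¹), ← MulAut.mul_apply, ← MulAut.mul_apply, ← map_mul,
      ← map_mul, inv_mul_cancel, map_one, MulAut.one_apply] at h'
  · obtain ⟨a, ha⟩ := hs ((1 : R) : R ⧸ V)
    have h := hinv a⁻¹ _ (inv_mem (QuotientGroup.eq.1 ha))
    refine hx ?_
    simpa [← MulAut.mul_apply, ← map_mul] using h

/-- Over a group of class at most two an irreducible character is zero or of full norm at each
element, and the latter elements form a subgroup of index `θ(1)²`. -/
theorem exists_center_subgroup (h2 : commutator R ≤ Subgroup.center R) (θ : Cfsg.IrrCharacter R) :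
    ∃ (V : Subgroup R) (d : ℕ), (θ : R → ℂ) 1 = (d : ℂ) ∧ commutator R ≤ V ∧
      (∀ r, r ∈ V ↔ (θ : R → ℂ) r ≠ 0) ∧ V.index = d ^ 2 := by
  classical
  haveI := Fintype.ofFinite R
  obtain ⟨d, ρ, hρ, hχ⟩ := θ.2
  have hd1 : (θ : R → ℂ) 1 = (d : ℂ) := by
    rw [← hχ, Representation.char_one, Module.finrank_fin_fun]
  have hd0 : (d : ℂ) ≠ 0 := hd1 ▸ irr_one_ne_zero θ.2
  haveI : NeZero d := ⟨Nat.cast_ne_zero.1 hd0⟩
  let V : Subgroup R :=
    { carrier := {r | ∃ c : ℂ, ρ r = c • LinearMap.id}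
      one_mem' := ⟨1, by rw [map_one, one_smul]; rfl⟩
      mul_mem' := by
        rintro a b ⟨c, hc⟩ ⟨e, he⟩
        exact ⟨c * e, LinearMap.ext fun v => by simp [hc, he, smul_smul, mul_comm]⟩
      inv_mem' := by
        rintro a ⟨c, hc⟩
        have hc0 : c ≠ 0 := by
          intro h0
          have h := congrArg (fun L => ρ a⁻¹ * L) hc
          simp only [← map_mul, inv_mul_cancel, map_one, h0, zero_smul, mul_zero] at h
          exact one_ne_zero (congrFun (LinearMap.congr_fun h (fun _ : Fin d => (1 : ℂ))) 0)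
        refine ⟨c⁻¹, ?_⟩
        calc ρ a⁻¹ = ρ a⁻¹ * (c⁻¹ • ρ a) := by
              rw [hc, smul_smul, inv_mul_cancel₀ hc0, one_smul]; rfl
          _ = c⁻¹ • LinearMap.id := by
              rw [mul_smul_comm, ← map_mul, inv_mul_cancel, map_one]; rfl }
  have hcen : Subgroup.center R ≤ V := fun r hr =>
    haveI := hρ
    schur_scalar ρ (ρ r) fun g v => by
      rw [← Module.End.mul_apply, ← Module.End.mul_apply, ← map_mul, ← map_mul,
        Subgroup.mem_center_iff.1 hr g]
  have hout : ∀ r, r ∉ V → (θ : R → ℂ) r = 0 := by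
    intro r hr
    obtain ⟨y, hy⟩ : ∃ y, ρ y * ρ r ≠ ρ r * ρ y := by
      by_contra hcon
      push Not at hcon
      haveI := hρ
      exact hr (schur_scalar ρ (ρ r) fun g v => by
        rw [← Module.End.mul_apply, ← Module.End.mul_apply, hcon g])
    obtain ⟨c, hc⟩ : ∃ c : ℂ, ρ ⁅y, r⁆ = c • LinearMap.id :=
      hcen (h2 (Subgroup.commutator_mem_commutator (Subgroup.mem_top y) (Subgroup.mem_top r)))
    have hc1 : c ≠ 1 := by
      intro h1
      apply hy
      have h3 : ρ ⁅y, r⁆ = 1 := by rw [hc, h1, one_smul]; rfl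
      calc ρ y * ρ r = ρ (⁅y, r⁆ * (r * y)) := by rw [← map_mul]; congr 1; group
        _ = ρ r * ρ y := by rw [map_mul, h3, one_mul, map_mul]
    have hval : (θ : R → ℂ) r = c * (θ : R → ℂ) r := by
      conv_lhs => rw [← irr_isClassFunction θ r y, show y * r * y⁻¹ = ⁅y, r⁆ * r by group, ← hχ]
      rw [← hχ, Representation.character, map_mul, hc, smul_mul_assoc,
        show (LinearMap.id : (Fin d → ℂ) →ₗ[ℂ] (Fin d → ℂ)) = 1 from rfl, one_mul, map_smul]
      rfl
    exact (mul_eq_zero.1 (show (c - 1) * (θ : R → ℂ) r = 0 by rw [sub_mul, one_mul, ← hval, sub_self])).resolve_left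
      (sub_ne_zero.2 hc1)
  have hin : ∀ r ∈ V, (θ : R → ℂ) r * conj ((θ : R → ℂ) r) = (d : ℂ) ^ 2 := by
    intro r hr
    obtain ⟨c, hc⟩ := id hr
    obtain ⟨e, he⟩ : ∃ e : ℂ, ρ r⁻¹ = e • LinearMap.id := V.inv_mem hr
    have hce : c * e = 1 := by
      have h : ρ r * ρ r⁻¹ = 1 := by rw [← map_mul, mul_inv_cancel, map_one]
      rw [hc, he] at h
      simpa [mul_comm] using congrFun (LinearMap.congr_fun h (fun _ : Fin d => (1 : ℂ))) 0
    rw [← char_inv (irr_isCharacter θ), ← hχ, Representation.character, Representation.character,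
      hc, he, map_smul, map_smul, LinearMap.trace_id, Module.finrank_fin_fun, smul_eq_mul,
      smul_eq_mul]
    calc c * (d : ℂ) * (e * d) = c * e * (d : ℂ) ^ 2 := by ring
      _ = _ := by rw [hce, one_mul]
  have hnorm : (Nat.card V : ℂ) * (d : ℂ) ^ 2 = (Nat.card R : ℂ) := by
    have h1 := classInner_irr θ θ
    rw [if_pos rfl, classInner_def, inv_mul_eq_iff_eq_mul₀ natCard_ne_zero, mul_one] at h1
    rw [← h1, ← Finset.sum_subset (Finset.subset_univ (Finset.univ.filter fun r => r ∈ V))
      (fun r _ hr => by simp [hout r (by simpa using hr)]),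
      Finset.sum_congr rfl fun r hr => hin r (Finset.mem_filter.1 hr).2, Finset.sum_const,
      nsmul_eq_mul, Nat.card_eq_fintype_card, Fintype.card_subtype]
  refine ⟨V, d, hd1, h2.trans hcen, fun r => ⟨fun hr h0 => ?_, fun h => ?_⟩, ?_⟩
  · have := hin r hr
    rw [h0, zero_mul, eq_comm, pow_eq_zero_iff two_ne_zero] at this
    exact hd0 this
  · by_contra hr; exact h (hout r hr)
  · have h : Nat.card V * d ^ 2 = Nat.card R := by exact_mod_cast hnorm
    rw [← V.card_mul_index] at h
    exact (Nat.eq_of_mul_eq_mul_left Nat.card_pos h).symm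

/-- The stabiliser of a nontrivial character is trivial or smaller than the squared degree. -/
theorem stabiliser_bound {p : ℕ} [Fact p.Prime] (σ : S →* MulAut R) (hS : IsPGroup p S)
    (hR : ¬ p ∣ Nat.card R) (h2 : commutator R ≤ Subgroup.center R)
    (hfix : ∀ g : S, g ≠ 1 → ∀ r : R, σ g r = r → r ∈ commutator R)
    (θ : Cfsg.IrrCharacter R) (hθ : θ ≠ trivIrr R)
    (hinv : ∀ g : S, ∀ r : R, (θ : R → ℂ) (σ g r) = (θ : R → ℂ) r) :
    Nat.card S = 1 ∨ Nat.card S < Cfsg.charDegree (θ : R → ℂ) ^ 2 := by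
  have hfree : ∀ V : Subgroup R, commutator R ≤ V → (∀ g : S, ∀ v ∈ V, σ g v ∈ V) →
      ∀ g : S, g ≠ 1 → ∀ x : R, x⁻¹ * σ g x ∈ V → x ∈ V := by
    intro V hV hVinv g hg x hx
    obtain ⟨c, hc, hcfix⟩ := exists_fixed_mem_coset σ hS hR V (hVinv g) hx
    have hcV := hV (hfix g hg c hcfix)
    simpa using V.mul_mem hcV (V.inv_mem hc)
  obtain ⟨V, d, hd, hcomm, hmem, hidx⟩ := exists_center_subgroup h2 θ
  have hdeg : Cfsg.charDegree (θ : R → ℂ) = d := by simp [Cfsg.charDegree, hd]
  by_cases hV : V = ⊤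
  · left
    have hd1 : d = 1 := by
      rw [hV, Subgroup.index_top] at hidx
      exact (Nat.pow_eq_one.1 hidx.symm).resolve_right two_ne_zero
    set lam := linearOfDegreeOne (irr_isCharacter θ) (by rw [hd, hd1, Nat.cast_one]) with hlam
    have hlamv : ∀ r, ((lam r : ℂˣ) : ℂ) = (θ : R → ℂ) r := fun r => by rw [hlam]; simp
    by_contra hne
    haveI : Nontrivial S := Finite.one_lt_card_iff_nontrivial.1
      (lt_of_le_of_ne Nat.card_pos (Ne.symm hne))
    obtain ⟨g, hg⟩ := exists_ne (1 : S)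
    have hker : lam.ker = ⊤ := by
      refine top_le_iff.1 fun x _ => hfree lam.ker (Abelianization.commutator_subset_ker lam)
        (fun a v hv => ?_) g hg x ?_
      · refine MonoidHom.mem_ker.2 (Units.ext ?_)
        rw [hlamv, hinv, ← hlamv, MonoidHom.mem_ker.1 hv]
      · refine MonoidHom.mem_ker.2 ?_
        rw [map_mul, map_inv, show lam (σ g x) = lam x from
          Units.ext (by rw [hlamv, hlamv, hinv]), inv_mul_cancel]
    refine hθ (Subtype.ext (funext fun r => ?_))
    rw [← hlamv, MonoidHom.mem_ker.1 (hker ▸ Subgroup.mem_top r : r ∈ lam.ker)]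
    simp
  · right
    rw [hdeg, ← hidx]
    refine card_lt_index σ V hV (fun g v hv => ?_) (hfree V hcomm fun g v hv => ?_)
    all_goals rw [hmem, hinv]; exact (hmem v).1 hv

end Stabiliser

open Cfsg.Agent.PLocal in
/-- In a `p`-solvable group with `O_p = 1` the centraliser of `O_{p'}` lies in `O_{p'}`. -/
theorem centralizer_pPrimeCore_le {G : Type u} [Group G] [Finite G] {p : ℕ} [Fact p.Prime]
    (hG : Cfsg.IsPSolvable p G) (hO : Cfsg.pCore p G = ⊥) :
    Subgroup.centralizer (Cfsg.pPrimeCore p G : Set G) ≤ Cfsg.pPrimeCore p G := by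
  classical
  set K := Cfsg.pPrimeCore p G with hK
  set C := Subgroup.centralizer (K : Set G) with hC
  haveI : K.Normal := Cfsg.Agent.Cores.pPrimeCore_normal p
  haveI : C.Normal := inferInstance
  by_contra hcon
  set Z := K.subgroupOf C with hZ
  set q := QuotientGroup.mk' Z
  haveI hne : Nontrivial (C ⧸ Z) :=
    QuotientGroup.nontrivial_iff.mpr fun h => hcon (Subgroup.subgroupOf_eq_top.mp h)
  have hq := QuotientGroup.mk'_surjective Z
  have hZcop : (Nat.card Z).Coprime p :=
    (Cfsg.Agent.Cores.pPrimeCore_card_coprime p).coprime_dvd_left (Subgroup.card_comap_dvd_of_injective K C.subtype C.subtype_injective)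
  have hker : q.ker = Z := QuotientGroup.ker_mk' Z
  rcases PSolvable.exists_core_ne_bot (PSolvable.quotient (PSolvable.subgroup hG C) Z) with h | h
  · set T := (Cfsg.pCore p (C ⧸ Z)).comap q with hT
    have hTn : Group.IsNilpotent T := by
      let f : T →* Cfsg.pCore p (C ⧸ Z) := (q.comp T.subtype).codRestrict _ fun t => t.2
      haveI : Group.IsNilpotent (Cfsg.pCore p (C ⧸ Z)) :=
        (Cfsg.Agent.Cores.pCore_isPGroup (G := C ⧸ Z) p).isNilpotent
      refine Subgroup.isNilpotent_of_ker_le_center f fun t ht => ?_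
      have htZ : (t : C) ∈ Z := hker ▸ MonoidHom.mem_ker.2 (congrArg Subtype.val (MonoidHom.mem_ker.1 ht))
      exact Subgroup.mem_center_iff.2 fun s => Subtype.ext (Subtype.ext
        (Subgroup.mem_centralizer_iff.1 (s : C).2 _ (Subgroup.mem_subgroupOf.1 htZ)).symm)
    obtain ⟨P⟩ : Nonempty (Sylow p T) := inferInstance
    haveI : (P : Subgroup T).Normal := P.normal_of_normalizerCondition
      (Group.normalizerCondition_of_isNilpotent (G := T))
    haveI : T.Normal := Subgroup.Normal.comap inferInstance q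
    have hPbot : (P : Subgroup T) = ⊥ := by
      rw [← (P : Subgroup T).map_eq_bot_iff_of_injective T.subtype_injective, ← le_bot_iff]
      refine (Subgroup.map_mono (Cfsg.Agent.Cores.le_pCore P.isPGroup')).trans ?_
      refine (PLocal.Cores.map_subtype_pCore_le T).trans ?_
      rw [le_bot_iff, ← (Cfsg.pCore p C).map_eq_bot_iff_of_injective C.subtype_injective,
        ← le_bot_iff, ← hO]
      exact PLocal.Cores.map_subtype_pCore_le C
    have hTp : ¬ p ∣ Nat.card T := fun hd => P.ne_bot_of_dvd_card hd hPbot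
    refine h (le_bot_iff.1 ?_)
    obtain ⟨k, hk⟩ := (Cfsg.Agent.Cores.pCore_isPGroup (G := C ⧸ Z) p).exists_card_eq
    rcases Nat.eq_zero_or_pos k with rfl | hpos
    · rw [pow_zero, Subgroup.card_eq_one] at hk; rw [hk]
    · exfalso
      refine hTp ((dvd_pow_self p hpos.ne').trans (hk ▸ ?_))
      rw [hT, PLocal.Cores.card_comap_eq _ hq]
      exact Dvd.intro_left _ rfl
  · set T := (Cfsg.pPrimeCore p (C ⧸ Z)).comap q with hT
    refine h (le_bot_iff.1 ?_)
    haveI : (Cfsg.pPrimeCore p (C ⧸ Z)).Normal := Cfsg.Agent.Cores.pPrimeCore_normal p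
    haveI : T.Normal := Subgroup.Normal.comap inferInstance q
    have hTc : (Nat.card T).Coprime p := by
      rw [hT, PLocal.Cores.card_comap_eq _ hq, hker]
      exact hZcop.mul_left (Cfsg.Agent.Cores.pPrimeCore_card_coprime p)
    have hTZ : T ≤ Z := fun x hx => Subgroup.mem_subgroupOf.2
      (PLocal.Cores.map_subtype_pPrimeCore_le C ⟨x, Cfsg.Agent.Cores.le_pPrimeCore hTc hx, rfl⟩)
    rw [← Subgroup.map_comap_eq_self_of_surjective hq (Cfsg.pPrimeCore p (C ⧸ Z)),
      Subgroup.map_le_iff_le_comap, MonoidHom.comap_bot, hker]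
    exact hTZ

end Cfsg.Agent.BlocksChars.TICharDegree
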