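import Cfsg.Agent.BlocksChars.UniqueSingularComplement
import Cfsg.Agent.BlocksChars.TICharDegree

/-!
# One class of size divisible by `p`

The class count behind `S4763`.
-/

set_option autoImplicit false
set_option linter.style.haveILetI false
set_option linter.unusedSectionVars false

namespace Cfsg.Agent.BlocksChars.UniqueSingularClasses

open Cfsg.Agent.Characters Cfsg.Agent.BlocksChars.Degrees
open Cfsg.Agent.BlocksChars.UniqueSingularComplement
open Cfsg.Agent.CharTheory
open scoped ComplexConjugate Pointwise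

universe u

variable {G : Type u} [Group G] [Finite G] {p : ℕ} [Fact p.Prime] {N : Subgroup G} [hNn : N.Normal]

theorem classSize_eq (g : G) :
    Nat.card (ConjClasses.mk g).carrier = (Subgroup.centralizer ({g} : Set G)).index := by
  haveI := Fintype.ofFinite G
  have h := card_carrier_mul_card_centralizer g
  rw [← (Subgroup.centralizer ({g} : Set G)).index_mul_card] at h
  exact Nat.eq_of_mul_eq_mul_right Nat.card_pos h

theorem not_dvd_index_of_cover (hcop : ¬ p ∣ Nat.card N) {P : Subgroup G} (hsup : N ⊔ P = ⊤)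
    {g : G} (h : ∀ y ∈ P, ∃ c, c * g = g * c ∧ y⁻¹ * c ∈ N) :
    ¬ p ∣ (Subgroup.centralizer ({g} : Set G)).index := by
  set C := Subgroup.centralizer ({g} : Set G)
  have hsurj : Function.Surjective ((QuotientGroup.mk' N).comp C.subtype) := by
    intro z
    obtain ⟨w, rfl⟩ := QuotientGroup.mk'_surjective N z
    obtain ⟨m, hm, y, hy, rfl⟩ := Subgroup.mem_sup_of_normal_left.1
      (show w ∈ N ⊔ P by rw [hsup]; exact Subgroup.mem_top w)
    obtain ⟨c, hc, hcy⟩ := h y hy
    refine ⟨⟨c, Subgroup.mem_centralizer_singleton_iff.2 hc⟩, ?_⟩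
    show QuotientGroup.mk' N c = _
    rw [map_mul, show QuotientGroup.mk' N m = 1 from (QuotientGroup.eq_one_iff m).2 hm, one_mul]
    exact ((QuotientGroup.eq).2 hcy).symm
  have hdvd : N.index ∣ Nat.card C := by
    rw [Subgroup.index_eq_card]
    exact Subgroup.card_dvd_of_surjective _ hsurj
  intro hp
  obtain ⟨m, hm⟩ := hdvd
  have h1 := C.index_mul_card
  rw [← N.card_mul_index, hm, ← mul_assoc, mul_right_comm] at h1
  exact hcop ((dvd_mul_of_dvd_left hp m).trans
    (Nat.eq_of_mul_eq_mul_right (Nat.pos_of_ne_zero Subgroup.index_ne_zero_of_finite) h1).dvd)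

variable [Fintype G] [Fintype N] [Fintype (Cfsg.IrrCharacter G)]

variable {χ : Cfsg.IrrCharacter G} (H : Hyp (p := p) N χ)
include H

theorem card_irr_eq : Nat.card (Cfsg.IrrCharacter G) =
    1 + Nat.card {θ : Cfsg.IrrCharacter N // Inv N θ} * N.index := by
  classical
  haveI := Fintype.ofFinite (Cfsg.IrrCharacter N)
  have hres : ∀ ψ : {ψ : Cfsg.IrrCharacter G // ψ ≠ χ}, ∃ θ : {θ : Cfsg.IrrCharacter N // Inv N θ},
      ∀ n : N, (ψ.1 : G → ℂ) n = (θ.1 : N → ℂ) n := by
    rintro ⟨ψ, hψ⟩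
    obtain ⟨θ, hθ⟩ : ∃ θ : Cfsg.IrrCharacter N, Over N ψ θ := by
      by_contra hcon
      push Not at hcon
      have h := congrFun (classFun_eq_sum (classFun_restrict N (irr_isClassFunction ψ))) 1
      simp only [Finset.sum_apply, Pi.smul_apply, smul_eq_mul] at h
      rw [Finset.sum_eq_zero fun θ _ => by
        rw [show Cfsg.classInner (fun n : N => (ψ : G → ℂ) n) (θ : N → ℂ) = 0 from
          not_not.1 (hcon θ), zero_mul]] at h
      exact irr_one_ne_zero ψ.2 h
    obtain ⟨hinv, h⟩ := inv_of_ne H hψ hθ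
    exact ⟨⟨θ, hinv⟩, h⟩
  choose r hr using hres
  have hfib : ∀ θ : {θ : Cfsg.IrrCharacter N // Inv N θ},
      Nat.card {ψ : {ψ : Cfsg.IrrCharacter G // ψ ≠ χ} // r ψ = θ} = N.index := by
    intro θ
    have hnot : ¬ Over N χ θ.1 := fun h => not_inv_of_over H h θ.2
    rw [← card_over H hnot]
    refine Nat.card_congr
      { toFun := fun ψ => ⟨ψ.1.1, over_restrict H (fun n => (hr ψ.1 n).trans (by rw [ψ.2]))⟩
        invFun := fun ψ => ⟨⟨ψ.1, fun e => hnot (e ▸ ψ.2)⟩, ?_⟩
        left_inv := fun _ => rfl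
        right_inv := fun _ => rfl }
    refine Subtype.ext (Subtype.ext (funext fun n => ?_))
    exact (hr _ n).symm.trans ((inv_of_ne H (fun e => hnot (e ▸ ψ.2)) ψ.2).2 n)
  have h1 : Nat.card {ψ : Cfsg.IrrCharacter G // ψ ≠ χ} =
      Nat.card {θ : Cfsg.IrrCharacter N // Inv N θ} * N.index := by
    rw [← Nat.card_congr (Equiv.sigmaFiberEquiv r), Nat.card_sigma,
      Finset.sum_congr rfl fun θ _ => hfib θ, Finset.sum_const, Finset.card_univ, smul_eq_mul,
      Nat.card_eq_fintype_card]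
  rw [← h1, ← Nat.card_congr (Equiv.sumCompl fun ψ : Cfsg.IrrCharacter G => ψ = χ), Nat.card_sum,
    Nat.card_eq_one_iff_unique.2 (⟨⟨fun a b => Subtype.ext (a.2.trans b.2.symm)⟩, ⟨⟨χ, rfl⟩⟩⟩ :
      Subsingleton {ψ : Cfsg.IrrCharacter G // ψ = χ} ∧ Nonempty {ψ : Cfsg.IrrCharacter G // ψ = χ})]

theorem conjI_mul_mem {n y : G} (hn : n ∈ N) (θ : Cfsg.IrrCharacter N) :
    Clifford.conjBy N (n * y) (θ : N → ℂ) = Clifford.conjBy N y (θ : N → ℂ) := by
  rw [← Clifford.conjBy_conjBy, mem_inertia.1 (le_inertia θ hn)]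

/-- `S4763`. -/
theorem one_singular_class (P0 : Sylow p G) :
    Nat.card {C : ConjClasses G // p ∣ Nat.card C.carrier} = 1 := by
  classical
  have hp : p.Prime := Fact.out
  obtain ⟨P, hP⟩ : ∃ P : Subgroup G, (P0 : Subgroup G) = P := ⟨_, rfl⟩
  have hPp : IsPGroup p P := hP ▸ P0.isPGroup'
  have hPidx : ¬ p ∣ P.index := hP ▸ P0.not_dvd_index
  obtain ⟨k, hk⟩ := H.idx
  -- the Sylow subgroup is a complement
  have hPN : ∀ x ∈ P, x ∈ N → x = 1 := fun x hx hxN => by
    obtain ⟨a, ha⟩ := IsPGroup.iff_orderOf.1 hPp ⟨x, hx⟩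
    rw [Subgroup.orderOf_mk] at ha
    have hd := Subgroup.orderOf_dvd_natCard N hxN
    rw [ha] at hd
    rcases Nat.eq_zero_or_pos a with rfl | ha0
    · exact orderOf_eq_one_iff.1 (by simpa using ha)
    · exact absurd ((dvd_pow_self p ha0.ne').trans hd) H.cop
  have hsup : N ⊔ P = ⊤ := by
    rw [← Subgroup.index_eq_one]
    obtain ⟨j, -, hj⟩ := (Nat.dvd_prime_pow hp).1
      (hk ▸ Subgroup.index_dvd_of_le (le_sup_left : N ≤ N ⊔ P))
    rcases Nat.eq_zero_or_pos j with rfl | hj0
    · rwa [pow_zero] at hj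
    · exact absurd ((hj ▸ dvd_pow_self p hj0.ne').trans (Subgroup.index_dvd_of_le le_sup_right))
        hPidx
  have hdec : ∀ g : G, ∃ n ∈ N, ∃ y ∈ P, n * y = g := fun g =>
    Subgroup.mem_sup_of_normal_left.1
      (show g ∈ N ⊔ P by rw [hsup]; exact Subgroup.mem_top g)
  have hcardP : Nat.card P = N.index := by
    refine Nat.card_congr (Equiv.ofBijective
      (fun y : P => (QuotientGroup.mk (y : G) : G ⧸ N)) ⟨fun a b hab => ?_, fun z => ?_⟩) |>.trans
      (Subgroup.index_eq_card N).symm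
    · have h := hPN _ (P.mul_mem (P.inv_mem a.2) b.2)
        ((QuotientGroup.eq).1 hab)
      exact Subtype.ext (inv_mul_eq_one.1 h)
    · induction z using QuotientGroup.induction_on with
      | H g =>
        obtain ⟨n, hn, y, hy, rfl⟩ := hdec g
        refine ⟨⟨y, hy⟩, (QuotientGroup.eq).2 ?_⟩
        simpa [mul_assoc] using hNn.conj_mem n hn y⁻¹
  have hab : ∀ x ∈ P, ∀ y ∈ P, x * y = y * x := fun x hx y hy =>
    eq_of_mul_inv_eq_one (hPN _
      (P.mul_mem (P.mul_mem hx hy)
        (P.inv_mem (P.mul_mem hy hx)))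
      (quotient_comm H x y))
  -- the moved characters
  haveI := Fintype.ofFinite (Cfsg.IrrCharacter N)
  obtain ⟨θ0, hθ0⟩ : ∃ θ : Cfsg.IrrCharacter N, Over N χ θ := by
    by_contra hcon
    push Not at hcon
    have h := congrFun (classFun_eq_sum (classFun_restrict N (irr_isClassFunction χ))) 1
    simp only [Finset.sum_apply, Pi.smul_apply, smul_eq_mul] at h
    rw [Finset.sum_eq_zero fun θ _ => by
      rw [show Cfsg.classInner (fun n : N => (χ : G → ℂ) n) (θ : N → ℂ) = 0 from
        not_not.1 (hcon θ), zero_mul]] at h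
    exact irr_one_ne_zero χ.2 h
  set f := Nat.card {θ : Cfsg.IrrCharacter N // Inv N θ} with hf
  have hbij : Nat.card {θ : Cfsg.IrrCharacter N // ¬ Inv N θ} = Nat.card P := by
    refine (Nat.card_congr (Equiv.ofBijective
      (fun y : P => (⟨conjI N (y : G) θ0, fun h => not_inv_of_over H hθ0 fun g => by
        have h1 := h ((y : G)⁻¹ * g * y)
        rw [conjI, Clifford.conjBy_conjBy,
          show (y : G) * ((y : G)⁻¹ * g * y) = g * y by group, ← Clifford.conjBy_conjBy] at h1
        exact Clifford.conjBy_injective N (y : G) h1⟩ :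
          {θ : Cfsg.IrrCharacter N // ¬ Inv N θ})) ⟨fun a b hab' => ?_, fun θ => ?_⟩)).symm
    · have h : Clifford.conjBy N (a : G) (θ0 : N → ℂ) = Clifford.conjBy N (b : G) (θ0 : N → ℂ) :=
        congrArg (fun z : {θ : Cfsg.IrrCharacter N // ¬ Inv N θ} => (z.1 : N → ℂ)) hab'
      have h' := congrArg (Clifford.conjBy N (b : G)⁻¹) h
      rw [Clifford.conjBy_conjBy, Clifford.conjBy_conjBy, mul_inv_cancel, Clifford.conjBy_one] at h'
      have hmem : (a : G) * (b : G)⁻¹ ∈ N := inertia_eq H hθ0 ▸ mem_inertia.2 h'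
      exact Subtype.ext (eq_of_mul_inv_eq_one (hPN _
        (P.mul_mem a.2 (P.inv_mem b.2)) hmem))
    · obtain ⟨g, hg⟩ := Clifford.exists_conjBy_eq N χ.2 θ0.2 θ.1.2 hθ0 ((not_inv_iff H).1 θ.2)
      obtain ⟨n, hn, y, hy, rfl⟩ := hdec g
      rw [conjI_mul_mem H hn] at hg
      exact ⟨⟨y, hy⟩, Subtype.ext (Subtype.ext hg)⟩
  have hkN : Nat.card (ConjClasses N) = f + Nat.card P := by
    rw [← card_irrCharacter, ← hbij, hf,
      ← Nat.card_congr (Equiv.sumCompl fun θ : Cfsg.IrrCharacter N => Inv N θ), Nat.card_sum]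
  -- the action on the classes
  letI : MulAction P (ConjClasses N) :=
    { smul := fun y C => ConjClasses.map (MulAut.conjNormal (y : G) : N ≃* N).toMonoidHom C
      one_smul := fun C => by
        obtain ⟨n, rfl⟩ := ConjClasses.mk_surjective C
        exact congrArg ConjClasses.mk (Subtype.ext (by simp))
      mul_smul := fun y z C => by
        obtain ⟨n, rfl⟩ := ConjClasses.mk_surjective C
        exact congrArg ConjClasses.mk (Subtype.ext (by simp [mul_assoc])) }
  have hsmul : ∀ (y : P) (n : N), y • ConjClasses.mk n =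
      ConjClasses.mk ((MulAut.conjNormal (y : G) : N ≃* N) n) := fun _ _ => rfl
  have hfix : ∀ y : P, y ≠ 1 → Nat.card {C : ConjClasses N // y • C = C} = f := by
    intro y hy
    rw [hf]
    refine (Cfsg.Agent.S0173.result (MulAut.conjNormal (y : G) : N ≃* N)).trans
      (Nat.card_congr (Equiv.subtypeEquivRight fun θ => ?_))
    constructor
    · intro h
      by_contra hni
      have hin : (y : G) ∈ inertia θ := by
        rw [mem_inertia, Clifford.conjBy_eq_comp]; exact h
      rw [inertia_eq H ((not_inv_iff H).1 hni)] at hin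
      exact hy (Subtype.ext (hPN _ y.2 hin))
    · intro h
      have := h (y : G)
      rwa [Clifford.conjBy_eq_comp] at this
  haveI := Fintype.ofFinite P
  haveI := Fintype.ofFinite (ConjClasses N)
  haveI : ∀ y : P, Fintype (MulAction.fixedBy (ConjClasses N) y) := fun y => Fintype.ofFinite _
  haveI := Fintype.ofFinite (MulAction.orbitRel.Quotient P (ConjClasses N))
  have horb : Nat.card (MulAction.orbitRel.Quotient P (ConjClasses N)) = f + 1 := by
    have h := MulAction.sum_card_fixedBy_eq_card_orbits_mul_card_group P (ConjClasses N)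
    rw [← Finset.add_sum_erase _ _ (Finset.mem_univ (1 : P)),
      Finset.sum_congr rfl (g := fun _ => f) (fun y hy => by
        rw [← hfix y (Finset.ne_of_mem_erase hy), ← Nat.card_eq_fintype_card]
        rfl), Finset.sum_const, Finset.card_erase_of_mem (Finset.mem_univ _), Finset.card_univ,
      ← Nat.card_eq_fintype_card, ← Nat.card_eq_fintype_card, smul_eq_mul] at h
    have h1 : Nat.card (MulAction.fixedBy (ConjClasses N) (1 : P)) = f + Nat.card P := by
      rw [← hkN]
      exact Nat.card_congr (Equiv.subtypeUnivEquiv fun C => one_smul P C)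
    rw [h1] at h
    have hpos : 0 < Nat.card P := Nat.card_pos
    obtain ⟨m, hm⟩ : ∃ m, Nat.card P = m + 1 := ⟨_, (Nat.succ_pred_eq_of_pos hpos).symm⟩
    refine Nat.eq_of_mul_eq_mul_right hpos ?_
    rw [← Nat.card_eq_fintype_card] at h
    rw [← h, hm, Nat.add_sub_cancel]
    ring
  -- centralizers in `N`
  let Cx : P → Subgroup G := fun x => N ⊓ Subgroup.centralizer ({(x : G)} : Set G)
  let incl : ∀ x : P, ↥(Cx x) →* N := fun x => Subgroup.inclusion inf_le_left
  have hcomm : ∀ (x : P) (n : ↥(Cx x)), (n : G) * x = x * n := fun x n =>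
    Subgroup.mem_centralizer_singleton_iff.1 n.2.2
  let ι : ∀ x : P, ConjClasses ↥(Cx x) → {C : ConjClasses N // x • C = C} := fun x D =>
    ⟨ConjClasses.map (incl x) D, by
      obtain ⟨n, rfl⟩ := ConjClasses.mk_surjective D
      refine (hsmul x (incl x n)).trans (congrArg ConjClasses.mk (Subtype.ext ?_))
      show (x : G) * n * (x : G)⁻¹ = n
      rw [← hcomm, mul_inv_cancel_right]⟩
  have hιinj : ∀ x, Function.Injective (ι x) := by
    intro x D D' he
    obtain ⟨a, rfl⟩ := ConjClasses.mk_surjective D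
    obtain ⟨b, rfl⟩ := ConjClasses.mk_surjective D'
    obtain ⟨h, hh⟩ := isConj_iff.1 (ConjClasses.mk_eq_mk_iff_isConj.1 (congrArg Subtype.val he))
    let S : Subgroup G := Subgroup.zpowers (x : G)
    have hS : IsPGroup p S := hPp.to_le (Subgroup.zpowers_le.2 x.2)
    let σ : S →* MulAut N := (MulAut.conjNormal (H := N)).comp S.subtype
    let V : Subgroup N := Subgroup.centralizer ({incl x a} : Set N)
    let g : S := ⟨(x : G), Subgroup.mem_zpowers _⟩
    have hσ : ∀ v : N, ((σ g v : N) : G) = x * v * (x : G)⁻¹ := fun v => by simp [σ, g]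
    have hσa : σ g (incl x a) = incl x a := Subtype.ext (by
      rw [hσ]
      show (x : G) * a * (x : G)⁻¹ = a
      rw [← hcomm, mul_inv_cancel_right])
    have hσb : σ g (incl x b) = incl x b := Subtype.ext (by
      rw [hσ]
      show (x : G) * b * (x : G)⁻¹ = b
      rw [← hcomm, mul_inv_cancel_right])
    have hh' : h * incl x a * h⁻¹ = incl x b := hh
    obtain ⟨c, hc1, hc2⟩ := TICharDegree.exists_fixed_mem_coset σ hS H.cop V (g := g)
      (fun v hv => by
        rw [Subgroup.mem_centralizer_singleton_iff] at hv ⊢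
        rw [← hσa, ← map_mul, ← map_mul, hv]) (x := h) (by
        rw [Subgroup.mem_centralizer_singleton_iff]
        have e : σ g h * incl x a * (σ g h)⁻¹ = h * incl x a * h⁻¹ := by
          conv_lhs => rw [← hσa, ← map_inv, ← map_mul, ← map_mul, hh', hσb, ← hh']
        calc h⁻¹ * σ g h * incl x a
            = h⁻¹ * (σ g h * incl x a * (σ g h)⁻¹) * σ g h := by group
          _ = incl x a * (h⁻¹ * σ g h) := by rw [e]; group)
    have hcmem : (c : G) ∈ Cx x := ⟨c.2, Subgroup.mem_centralizer_singleton_iff.2 (by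
      have h1 := congrArg (Subtype.val) hc2
      rw [hσ] at h1
      calc (c : G) * x = (x : G) * c * (x : G)⁻¹ * x := by rw [h1]
        _ = x * c := by group)⟩
    rw [Subgroup.mem_centralizer_singleton_iff] at hc1
    refine ConjClasses.mk_eq_mk_iff_isConj.2 (isConj_iff.2 ⟨⟨(c : G), hcmem⟩, Subtype.ext ?_⟩)
    have : c * incl x a * c⁻¹ = incl x b := by
      rw [← hh']
      calc c * incl x a * c⁻¹ = h * (h⁻¹ * c * incl x a) * c⁻¹ := by group
        _ = h * incl x a * h⁻¹ := by rw [hc1]; group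
    exact congrArg (fun z : N => (z : G)) this
  have hle : ∀ x : P, x ≠ 1 → Nat.card (ConjClasses ↥(Cx x)) ≤ f := fun x hx =>
    (Nat.card_le_card_of_injective (ι x) (hιinj x)).trans (hfix x hx).le
  -- the map onto the classes of `G`
  let D := MulAction.orbitRel.Quotient P (ConjClasses N) ⊕
    Σ x : {x : P // x ≠ 1}, ConjClasses ↥(Cx x.1)
  let Φ : D → ConjClasses G := Sum.elim
    (Quotient.lift (fun C : ConjClasses N => ConjClasses.map N.subtype C) (by
      rintro a b ⟨y, rfl⟩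
      obtain ⟨n, rfl⟩ := ConjClasses.mk_surjective b
      show ConjClasses.mk _ = ConjClasses.mk _
      rw [ConjClasses.mk_eq_mk_iff_isConj]
      refine isConj_iff.2 ⟨(y : G)⁻¹, ?_⟩
      simp [mul_assoc]))
    (fun s => Quotient.lift (fun n : ↥(Cx s.1.1) => ConjClasses.mk ((n : G) * (s.1.1 : G)))
      (fun a b hab' => by
        obtain ⟨c, hc⟩ := isConj_iff.1 (hab' : IsConj a b)
        refine ConjClasses.mk_eq_mk_iff_isConj.2 (isConj_iff.2 ⟨(c : G), ?_⟩)
        show (c : G) * ((a : G) * (s.1.1 : G)) * (c : G)⁻¹ = (b : G) * (s.1.1 : G)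
        rw [← hc]
        push_cast
        have h1 := hcomm s.1.1 c⁻¹
        push_cast at h1
        simp only [mul_assoc]
        rw [← h1]) s.2)
  have hsurj : Function.Surjective Φ := by
    intro C
    obtain ⟨g, rfl⟩ := ConjClasses.mk_surjective C
    obtain ⟨u, v, hg, huv, -, -, ⟨a, ha⟩, hu⟩ := QuasiElementary.exists_pPart_decomp g hp
    have huN : u ∈ N := by
      rw [← QuotientGroup.eq_one_iff, ← orderOf_eq_one_iff]
      refine Nat.eq_one_of_dvd_coprimes ((hu.pow_right k)) (orderOf_map_dvd (QuotientGroup.mk' N) u) ?_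
      rw [← hk, Subgroup.index_eq_card]
      exact orderOf_dvd_natCard _
    obtain ⟨Q, hQ⟩ := IsPGroup.exists_le_sylow
      (show IsPGroup p (Subgroup.zpowers v) from IsPGroup.of_card (n := a) (by rw [Nat.card_zpowers, ha]))
    obtain ⟨h, hh⟩ := MulAction.exists_smul_eq G Q P0
    have hx : h * v * h⁻¹ ∈ P := by
      rw [← hP, ← hh]
      show h * v * h⁻¹ ∈ MulAut.conj h • (Q : Subgroup G)
      rw [Subgroup.mem_pointwise_smul_iff_inv_smul_mem]
      simpa [MulAut.smul_def, mul_assoc] using hQ (Subgroup.mem_zpowers v)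
    have hn : h * u * h⁻¹ ∈ N := hNn.conj_mem u huN h
    by_cases hx1 : h * v * h⁻¹ = 1
    · refine ⟨Sum.inl (Quotient.mk'' (ConjClasses.mk ⟨_, hn⟩)), ?_⟩
      show ConjClasses.mk (h * u * h⁻¹) = _
      refine ConjClasses.mk_eq_mk_iff_isConj.2 (IsConj.symm (isConj_iff.2 ⟨h, ?_⟩))
      rw [hg, show h * (u * v) * h⁻¹ = h * u * h⁻¹ * (h * v * h⁻¹) by group, hx1, mul_one]
    · refine ⟨Sum.inr ⟨⟨⟨_, hx⟩, fun e => hx1 (congrArg Subtype.val e)⟩, ConjClasses.mk
        ⟨h * u * h⁻¹, hn, Subgroup.mem_centralizer_singleton_iff.2 ?_⟩⟩, ?_⟩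
      · show h * u * h⁻¹ * (h * v * h⁻¹) = h * v * h⁻¹ * (h * u * h⁻¹)
        rw [show h * u * h⁻¹ * (h * v * h⁻¹) = h * (u * v) * h⁻¹ by group, huv.eq]
        group
      · show ConjClasses.mk (h * u * h⁻¹ * (h * v * h⁻¹)) = _
        refine ConjClasses.mk_eq_mk_iff_isConj.2 (IsConj.symm (isConj_iff.2 ⟨h, ?_⟩))
        rw [hg]; group
  haveI := Fintype.ofFinite {x : P // x ≠ 1}
  have hm : Fintype.card {x : P // x ≠ 1} + 1 = Nat.card P := by
    rw [Nat.card_eq_fintype_card, Fintype.card_subtype_compl, Fintype.card_subtype_eq]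
    have := Fintype.card_pos (α := P)
    omega
  have hcardD : Nat.card D = f + 1 + ∑ x : {x : P // x ≠ 1}, Nat.card (ConjClasses ↥(Cx x.1)) := by
    rw [Nat.card_sum, horb, Nat.card_sigma]
  have hkG : Nat.card (ConjClasses G) = f + 1 + ∑ x : {x : P // x ≠ 1}, f := by
    rw [← card_irrCharacter, card_irr_eq H, ← hf, ← hcardP, ← hm, Finset.sum_const,
      Finset.card_univ, smul_eq_mul]
    ring
  have hD_le : Nat.card D ≤ Nat.card (ConjClasses G) := by
    rw [hcardD, hkG]
    exact Nat.add_le_add_left (Finset.sum_le_sum fun x _ => hle x.1 x.2) _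
  have hGD := Nat.card_le_card_of_surjective Φ hsurj
  have hΦ : Function.Bijective Φ :=
    (Nat.bijective_iff_surjective_and_card Φ).2 ⟨hsurj, le_antisymm hD_le hGD⟩
  have hCxf : ∀ x : {x : P // x ≠ 1}, Nat.card (ConjClasses ↥(Cx x.1)) = f := by
    have h : ∑ x : {x : P // x ≠ 1}, Nat.card (ConjClasses ↥(Cx x.1)) =
        ∑ _x : {x : P // x ≠ 1}, f := by
      have := le_antisymm hD_le hGD
      rw [hcardD, hkG] at this
      omega
    intro x
    exact (Finset.sum_eq_sum_iff_of_le fun x _ => hle x.1 x.2).1 h x (Finset.mem_univ x)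
  -- classes of `C_N(x)` are invariant
  have hDfix : ∀ (x : {x : P // x ≠ 1}) (n : ↥(Cx x.1)) (y : P),
      ∃ c : ↥(Cx x.1), (c : G) * ((y : G) * n * (y : G)⁻¹) * (c : G)⁻¹ = (n : G) := by
    intro x n y
    have hxy := hab _ x.1.2 _ y.2
    have hn' : (y : G) * n * (y : G)⁻¹ ∈ Cx x.1 := by
      refine ⟨hNn.conj_mem _ n.2.1 _, Subgroup.mem_centralizer_singleton_iff.2 ?_⟩
      calc (y : G) * n * (y : G)⁻¹ * (x.1 : G) = (y : G) * ((n : G) * (x.1 : G)) * (y : G)⁻¹ := by
            rw [show (y : G) * ((n : G) * (x.1 : G)) * (y : G)⁻¹ =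
              (y : G) * n * ((x.1 : G) * (y : G)⁻¹) by group,
              show (x.1 : G) * (y : G)⁻¹ = (y : G)⁻¹ * x.1 by
                rw [eq_inv_mul_iff_mul_eq, ← mul_assoc, ← hxy, mul_inv_cancel_right]]
            group
        _ = (y : G) * ((x.1 : G) * n) * (y : G)⁻¹ := by rw [hcomm]
        _ = (x.1 : G) * ((y : G) * n * (y : G)⁻¹) := by
            rw [← mul_assoc (y : G), ← hxy]; group
    have heq : (Sum.inr ⟨x, ConjClasses.mk ⟨_, hn'⟩⟩ : D) = Sum.inr ⟨x, ConjClasses.mk n⟩ := by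
      apply hΦ.1
      show ConjClasses.mk _ = ConjClasses.mk _
      refine ConjClasses.mk_eq_mk_iff_isConj.2 (IsConj.symm (isConj_iff.2 ⟨(y : G), ?_⟩))
      show (y : G) * ((n : G) * x.1) * (y : G)⁻¹ = (y : G) * n * (y : G)⁻¹ * x.1
      rw [show (y : G) * n * (y : G)⁻¹ * x.1 = (y : G) * n * ((y : G)⁻¹ * x.1) by group,
        show (y : G)⁻¹ * (x.1 : G) = x.1 * (y : G)⁻¹ by
          rw [inv_mul_eq_iff_eq_mul, ← mul_assoc, ← hxy, mul_inv_cancel_right]]
      group
    have h := eq_of_heq (Sigma.mk.inj (Sum.inr_injective heq)).2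
    obtain ⟨c, hc⟩ := isConj_iff.1 (ConjClasses.mk_eq_mk_iff_isConj.1 h)
    exact ⟨c, congrArg Subtype.val hc⟩
  have hreg : ∀ (x : {x : P // x ≠ 1}) (n : ↥(Cx x.1)),
      ¬ p ∣ (Subgroup.centralizer ({(n : G) * (x.1 : G)} : Set G)).index := by
    intro x n
    refine not_dvd_index_of_cover H.cop hsup fun y hy => ?_
    obtain ⟨c, hc⟩ := hDfix x n ⟨y, hy⟩
    refine ⟨(c : G) * y, ?_, ?_⟩
    · have e1 : (c : G) * y * n = n * ((c : G) * y) := by
        conv_rhs => rw [← hc]
        group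
      have e2 : (c : G) * y * x.1 = x.1 * ((c : G) * y) := by
        rw [mul_assoc, ← hab _ x.1.2 _ hy, ← mul_assoc, hcomm x.1 c, mul_assoc]
      calc (c : G) * y * ((n : G) * x.1) = n * ((c : G) * y * x.1) := by
            rw [← mul_assoc, e1, mul_assoc]
        _ = _ := by rw [e2, ← mul_assoc]
    · simpa [mul_assoc] using hNn.conj_mem _ c.2.1 y⁻¹
  -- a moved class
  have hfixall : ∀ (y : P), y ≠ 1 → ∀ C : ConjClasses N, y • C = C → ∀ z : P, z • C = C := by
    intro y hy C hC z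
    have hb := (Nat.bijective_iff_injective_and_card (ι y)).2
      ⟨hιinj y, (hCxf ⟨y, hy⟩).trans (hfix y hy).symm⟩
    obtain ⟨E, hE⟩ := hb.2 ⟨C, hC⟩
    obtain ⟨n, rfl⟩ := ConjClasses.mk_surjective E
    have hC' : C = ConjClasses.mk (incl y n) := (congrArg Subtype.val hE).symm
    obtain ⟨c, hc⟩ := hDfix ⟨y, hy⟩ n z
    rw [hC', hsmul, ConjClasses.mk_eq_mk_iff_isConj]
    refine isConj_iff.2 ⟨incl y c, Subtype.ext ?_⟩
    show (c : G) * ((z : G) * n * (z : G)⁻¹) * (c : G)⁻¹ = n
    exact hc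
  have hPne : 1 < Nat.card P := by
    rw [hcardP, hk]
    refine Nat.one_lt_pow (fun e => ?_) hp.one_lt
    rw [e, pow_zero] at hk
    refine H.cop (H.dvd.trans ((charDegree_dvd_card χ).trans ?_))
    rw [← N.card_mul_index, hk, mul_one]
  obtain ⟨y0, hy0⟩ : ∃ y : P, y ≠ 1 := by
    by_contra hcon
    push Not at hcon
    haveI : Subsingleton P := ⟨fun a b => (hcon a).trans (hcon b).symm⟩
    rw [Nat.card_of_subsingleton (1 : P)] at hPne
    exact lt_irrefl 1 hPne
  obtain ⟨C0, hC0⟩ : ∃ C : ConjClasses N, y0 • C ≠ C := by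
    by_contra hcon
    push Not at hcon
    have h := hfix y0 hy0
    rw [Nat.card_congr (Equiv.subtypeUnivEquiv hcon), hkN] at h
    omega
  have horbit : ∀ C : ConjClasses N, y0 • C ≠ C → C ∈ MulAction.orbit P C0 := by
    have hinj : Function.Injective fun y : P => y • C0 := fun a b h => by
      by_contra hne
      have h2 : (b⁻¹ * a) • C0 = C0 := by
        show (b⁻¹ * a) • C0 = C0
        rw [mul_smul, show a • C0 = b • C0 from h, inv_smul_smul]
      exact hC0 (hfixall _ (fun e => hne ((inv_mul_eq_one.1 e).symm)) C0 h2 y0)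
    have hmem : ∀ y : P, y0 • (y • C0) ≠ y • C0 := fun y h => by
      rw [← mul_smul] at h
      refine hC0 ?_
      have : (y⁻¹ * (y0 * y)) • C0 = C0 := by rw [mul_smul, h, inv_smul_smul]
      rwa [show y⁻¹ * (y0 * y) = y0 from Subtype.ext (by
        show (y : G)⁻¹ * ((y0 : G) * y) = y0
        rw [hab _ y0.2 _ y.2, inv_mul_cancel_left])] at this
    have hcard : Nat.card {C : ConjClasses N // y0 • C ≠ C} = Nat.card P := by
      have h1 := Nat.card_congr (Equiv.sumCompl fun C : ConjClasses N => y0 • C = C)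
      rw [Nat.card_sum, hfix y0 hy0, hkN] at h1
      exact Nat.add_left_cancel h1
    have hb := (Nat.bijective_iff_injective_and_card
      (fun y : P => (⟨y • C0, hmem y⟩ : {C : ConjClasses N // y0 • C ≠ C}))).2
      ⟨fun a b h => hinj (congrArg Subtype.val h), hcard.symm⟩
    intro C hC
    obtain ⟨y, hy⟩ := hb.2 ⟨C, hC⟩
    exact ⟨y, congrArg Subtype.val hy⟩
  have hN_iff : ∀ n : N, p ∣ (Subgroup.centralizer ({(n : G)} : Set G)).index ↔
      y0 • ConjClasses.mk n ≠ ConjClasses.mk n := by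
    intro n
    constructor
    · intro hd he
      refine not_dvd_index_of_cover H.cop hsup (fun y hy => ?_) hd
      obtain ⟨c, hc⟩ := isConj_iff.1 (ConjClasses.mk_eq_mk_iff_isConj.1
        ((hsmul ⟨y, hy⟩ n).symm.trans (hfixall y0 hy0 _ he ⟨y, hy⟩)))
      have hc' : (c : G) * (y * n * y⁻¹) * (c : G)⁻¹ = n := congrArg Subtype.val hc
      refine ⟨(c : G) * y, ?_, ?_⟩
      · conv_rhs => rw [← hc']
        group
      · simpa [mul_assoc] using hNn.conj_mem _ c.2 y⁻¹
    · intro hne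
      by_contra hd
      apply hne
      set Cn := Subgroup.centralizer ({(n : G)} : Set G)
      have htop : N ⊔ Cn = ⊤ := by
        rw [← Subgroup.index_eq_one]
        obtain ⟨j, -, hj⟩ := (Nat.dvd_prime_pow hp).1
          (hk ▸ Subgroup.index_dvd_of_le (le_sup_left : N ≤ N ⊔ Cn))
        rcases Nat.eq_zero_or_pos j with rfl | hj0
        · rwa [pow_zero] at hj
        · exact absurd ((hj ▸ dvd_pow_self p hj0.ne').trans (Subgroup.index_dvd_of_le le_sup_right)) hd
      obtain ⟨m, hm, c, hc, hmc⟩ := Subgroup.mem_sup_of_normal_left.1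
        (show (y0 : G) ∈ N ⊔ Cn by rw [htop]; exact Subgroup.mem_top _)
      rw [hsmul, ConjClasses.mk_eq_mk_iff_isConj]
      refine IsConj.symm (isConj_iff.2 ⟨⟨m, hm⟩, Subtype.ext ?_⟩)
      show m * n * m⁻¹ = (y0 : G) * n * (y0 : G)⁻¹
      rw [← hmc]
      rw [Subgroup.mem_centralizer_singleton_iff] at hc
      rw [show m * c * (n : G) * (m * c)⁻¹ = m * (c * n) * c⁻¹ * m⁻¹ by group, hc]
      group
  -- conclusion
  obtain ⟨n0, rfl⟩ := ConjClasses.mk_surjective C0
  rw [Nat.card_eq_one_iff_unique]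
  refine ⟨⟨fun A B => ?_⟩, ⟨⟨ConjClasses.mk (n0 : G), by rw [classSize_eq]; exact (hN_iff n0).2 hC0⟩⟩⟩
  suffices key : ∀ E : {C : ConjClasses G // p ∣ Nat.card C.carrier}, E.1 = ConjClasses.mk (n0 : G) from
    Subtype.ext ((key A).trans (key B).symm)
  rintro ⟨E, hE⟩
  obtain ⟨d, rfl⟩ := hΦ.2 E
  rcases d with d | ⟨x, d⟩
  · induction d using Quotient.inductionOn' with
    | h C =>
      obtain ⟨n, rfl⟩ := ConjClasses.mk_surjective C
      have hE' : p ∣ Nat.card (ConjClasses.mk (n : G)).carrier := hE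
      rw [classSize_eq] at hE'
      obtain ⟨y, hy⟩ := horbit _ ((hN_iff n).1 hE')
      show ConjClasses.mk (n : G) = _
      refine ConjClasses.mk_eq_mk_iff_isConj.2 (IsConj.symm ?_)
      have hy' := ConjClasses.mk_eq_mk_iff_isConj.1 ((hsmul y n0).symm.trans hy)
      refine IsConj.trans (isConj_iff.2 ⟨(y : G), ?_⟩) (MonoidHom.map_isConj N.subtype hy')
      simp
  · obtain ⟨n, rfl⟩ := ConjClasses.mk_surjective d
    have hE' : p ∣ Nat.card (ConjClasses.mk ((n : G) * (x.1 : G))).carrier := hE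
    rw [classSize_eq] at hE'
    exact absurd hE' (hreg x n)

end Cfsg.Agent.BlocksChars.UniqueSingularClasses
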