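import Cfsg.Agent.BlocksChars.Degrees
import Cfsg.Agent.Lib.CharTheory.ExtendChar
import Cfsg.Agent.Lib.CharTheory.DegreeIndex
import Cfsg.Agent.Lib.CharTheory.QuasiElementary
import Cfsg.Agent.S0173

/-!
# One character of degree divisible by `p` in a group with a normal `p`-complement

All other characters restrict irreducibly to the complement `N`, the quotient is abelian, and the
characters of `N` moved by the quotient form one regular orbit. Counting classes then leaves one
class of size divisible by `p`.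
-/

set_option autoImplicit false
set_option linter.style.haveILetI false
set_option linter.unusedSectionVars false

namespace Cfsg.Agent.BlocksChars.UniqueSingularComplement

open Cfsg.Agent.Characters Cfsg.Agent.BlocksChars.Degrees
open Cfsg.Agent.CharTheory
open scoped ComplexConjugate commutatorElement

universe u

variable {G : Type u} [Group G] [Finite G] {p : ℕ} [Fact p.Prime] (N : Subgroup G) [hNn : N.Normal]

/-- The setting. -/
structure Hyp (χ : Cfsg.IrrCharacter G) : Prop where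
  cop : ¬ p ∣ Nat.card N
  idx : ∃ k : ℕ, N.index = p ^ k
  ne_bot : N ≠ ⊥
  dvd : p ∣ Cfsg.charDegree (χ : G → ℂ)
  uniq : ∀ ψ : Cfsg.IrrCharacter G, p ∣ Cfsg.charDegree (ψ : G → ℂ) → ψ = χ

/-- The conjugate of an irreducible character of `N`. -/
noncomputable def conjI (g : G) (θ : Cfsg.IrrCharacter N) : Cfsg.IrrCharacter N :=
  ⟨Clifford.conjBy N g (θ : N → ℂ), Clifford.isIrrCharacter_conjBy N g θ.2⟩

/-- `θ` occurs in the restriction of `ψ`. -/
def Over (ψ : Cfsg.IrrCharacter G) (θ : Cfsg.IrrCharacter N) [Fintype N] : Prop :=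
  Cfsg.classInner (fun n : N => (ψ : G → ℂ) n) (θ : N → ℂ) ≠ 0

/-- `θ` is invariant. -/
def Inv (θ : Cfsg.IrrCharacter N) : Prop := ∀ g : G, Clifford.conjBy N g (θ : N → ℂ) = (θ : N → ℂ)

variable {N}

/-- The inertia group. -/
noncomputable def inertia (θ : Cfsg.IrrCharacter N) : Subgroup G where
  carrier := {g | Clifford.conjBy N g (θ : N → ℂ) = (θ : N → ℂ)}
  one_mem' := Clifford.conjBy_one N _
  mul_mem' := fun {a b} ha hb => by
    show Clifford.conjBy N (a * b) (θ : N → ℂ) = _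
    rw [← Clifford.conjBy_conjBy]
    exact (congrArg (Clifford.conjBy N b) ha).trans hb
  inv_mem' := fun {a} ha => by
    show Clifford.conjBy N a⁻¹ (θ : N → ℂ) = _
    conv_lhs => rw [← show Clifford.conjBy N a (θ : N → ℂ) = (θ : N → ℂ) from ha]
    rw [Clifford.conjBy_conjBy, mul_inv_cancel, Clifford.conjBy_one]

theorem mem_inertia {θ : Cfsg.IrrCharacter N} {g : G} :
    g ∈ inertia θ ↔ Clifford.conjBy N g (θ : N → ℂ) = (θ : N → ℂ) := Iff.rfl

theorem le_inertia (θ : Cfsg.IrrCharacter N) : N ≤ inertia θ := fun g hg => by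
  rw [mem_inertia]
  funext n
  exact irr_isClassFunction θ n ⟨g, hg⟩

variable [Fintype G] [Fintype N] [Fintype (Cfsg.IrrCharacter G)]

theorem degree_indFun (θ : Cfsg.IrrCharacter N) :
    (N.index : ℂ) * (θ : N → ℂ) 1 = ∑ ψ : Cfsg.IrrCharacter G,
      Cfsg.classInner (θ : N → ℂ) (fun n : N => (ψ : G → ℂ) n) * (ψ : G → ℂ) 1 := by
  have h := congrFun (classFun_eq_sum (indFun_isClassFunction N (θ : N → ℂ))) 1
  rw [indFun_one] at h
  rw [h]
  simp only [Finset.sum_apply, Pi.smul_apply, smul_eq_mul]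
  refine Finset.sum_congr rfl fun ψ _ => ?_
  rw [frobenius_reciprocity N (θ : N → ℂ) (irr_isClassFunction ψ)]

theorem exists_over (θ : Cfsg.IrrCharacter N) : ∃ ψ : Cfsg.IrrCharacter G, Over N ψ θ := by
  by_contra hcon
  push Not at hcon
  have h := degree_indFun θ
  rw [Finset.sum_eq_zero fun ψ _ => by
    have : Cfsg.classInner (fun n : N => (ψ : G → ℂ) n) (θ : N → ℂ) = 0 := not_not.1 (hcon ψ)
    rw [classInner_conj_symm (fun n : N => (ψ : G → ℂ) n), this, map_zero, zero_mul]] at h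
  exact mul_ne_zero (Nat.cast_ne_zero.2 Subgroup.index_ne_zero_of_finite) (irr_one_ne_zero θ.2) h

variable {χ : Cfsg.IrrCharacter G} (H : Hyp (p := p) N χ)
include H

theorem not_dvd_deg_N (θ : Cfsg.IrrCharacter N) : ¬ p ∣ Cfsg.charDegree (θ : N → ℂ) :=
  fun h => H.cop (h.trans (charDegree_dvd_card θ))

theorem inv_of_ne {ψ : Cfsg.IrrCharacter G} (hψ : ψ ≠ χ) {θ : Cfsg.IrrCharacter N}
    (hθ : Over N ψ θ) : Inv N θ ∧ ∀ n : N, (ψ : G → ℂ) n = (θ : N → ℂ) n := by
  have hp : p.Prime := Fact.out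
  obtain ⟨k, hk⟩ := H.idx
  obtain ⟨e, he⟩ := classInner_char_nat (isCharacter_restrict N (irr_isCharacter ψ))
    (irr_isCharacter θ)
  have he0 : e ≠ 0 := fun h => hθ (by rw [he, h, Nat.cast_zero])
  have hdeg := Clifford.card_mul_degree N ψ.2 θ.2 hθ (inertia θ) fun g => Iff.rfl
  rw [he, ← charDegree_cast ψ, ← charDegree_cast θ, ← (inertia θ).card_mul_index] at hdeg
  norm_cast at hdeg
  have hd : Cfsg.charDegree (ψ : G → ℂ) = e * ((inertia θ).index * Cfsg.charDegree (θ : N → ℂ)) := by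
    refine Nat.eq_of_mul_eq_mul_left (Nat.card_pos (α := inertia θ)) ?_
    rw [hdeg]; ring
  obtain ⟨j, -, hj⟩ := (Nat.dvd_prime_pow hp).1 (hk ▸ Subgroup.index_dvd_of_le (le_inertia θ))
  have hpd : ¬ p ∣ Cfsg.charDegree (ψ : G → ℂ) := fun h => hψ (H.uniq ψ h)
  have hj0 : j = 0 := by
    by_contra h
    exact hpd (hd ▸ Dvd.dvd.mul_left (Dvd.dvd.mul_right (hj ▸ dvd_pow_self p h) _) _)
  rw [hj0, pow_zero, Subgroup.index_eq_one] at hj
  have hinv : Inv N θ := fun g => mem_inertia.1 (hj ▸ Subgroup.mem_top g)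
  refine ⟨hinv, ?_⟩
  obtain ⟨i, -, hi⟩ := (Nat.dvd_prime_pow hp).1
    (hk ▸ DegreeIndex.ramification_dvd_index N θ.2 hinv ψ.2 he he0)
  have hi0 : i = 0 := by
    by_contra h
    exact hpd (hd ▸ Dvd.dvd.mul_right (hi ▸ dvd_pow_self p h) _)
  intro n
  have h := congrFun (Clifford.restrict_eq_smul_of_invariant N ψ.2 θ.2 hθ hinv) n
  rw [he, hi, hi0, pow_zero, Nat.cast_one, one_smul] at h
  exact h

theorem card_over {θ : Cfsg.IrrCharacter N} (hχ : ¬ Over N χ θ) :
    Nat.card {ψ : Cfsg.IrrCharacter G // Over N ψ θ} = N.index := by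
  classical
  have h := degree_indFun (G := G) θ
  rw [← Finset.sum_filter_add_sum_filter_not Finset.univ (fun ψ => Over N ψ θ),
    Finset.sum_eq_zero (s := Finset.univ.filter fun ψ => ¬ Over N ψ θ) (fun ψ hψ => by
      have : Cfsg.classInner (fun n : N => (ψ : G → ℂ) n) (θ : N → ℂ) = 0 :=
        not_not.1 (Finset.mem_filter.1 hψ).2
      rw [classInner_conj_symm (fun n : N => (ψ : G → ℂ) n), this, map_zero, zero_mul]),
    add_zero, Finset.sum_congr rfl (g := fun _ => (θ : N → ℂ) 1) (fun ψ hψ => by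
      have hov := (Finset.mem_filter.1 hψ).2
      obtain ⟨-, hres⟩ := inv_of_ne H (fun e => hχ (by rw [← e]; exact hov)) hov
      rw [show (fun n : N => (ψ : G → ℂ) n) = (θ : N → ℂ) from funext hres,
        classInner_isIrr_self θ.2, one_mul]
      exact hres 1),
    Finset.sum_const, nsmul_eq_mul] at h
  rw [Nat.card_eq_fintype_card, Fintype.card_subtype]
  exact (Nat.cast_injective (mul_right_cancel₀ (irr_one_ne_zero θ.2) h)).symm

theorem over_restrict {ψ : Cfsg.IrrCharacter G} {θ : Cfsg.IrrCharacter N}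
    (hres : ∀ n : N, (ψ : G → ℂ) n = (θ : N → ℂ) n) : Over N ψ θ := by
  show Cfsg.classInner _ _ ≠ 0
  rw [show (fun n : N => (ψ : G → ℂ) n) = (θ : N → ℂ) from funext hres,
    classInner_isIrr_self θ.2]
  exact one_ne_zero

theorem trivIrr_inv : Inv N (trivIrr N) := fun _ => rfl

theorem not_over_trivial : ¬ Over N χ (trivIrr N) := by
  classical
  intro hover
  have hconst : ∀ n : N, (χ : G → ℂ) n = (χ : G → ℂ) 1 := fun n => by
    have h := Clifford.restrict_eq_smul_of_invariant N χ.2 (trivIrr N).2 hover (trivIrr_inv H)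
    have h1 := congrFun h n
    have h2 := congrFun h 1
    simp only [Pi.smul_apply, trivIrr_coe, OneMemClass.coe_one] at h1 h2
    exact h1.trans h2.symm
  obtain ⟨a, ha⟩ := (Subgroup.ne_bot_iff_exists_ne_one).1 H.ne_bot
  obtain ⟨θ0, hθ0, hθ0a⟩ := exists_irr_ne ha
  let θ : Cfsg.IrrCharacter N := ⟨θ0, hθ0⟩
  have hne : θ ≠ trivIrr N := fun e => hθ0a (by
    have := congrArg Subtype.val e
    simp only [θ] at this
    rw [this, trivIrr_coe])
  have hnot : ¬ Over N χ θ := fun h => by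
    obtain ⟨g, hg⟩ := Clifford.exists_conjBy_eq N χ.2 (trivIrr N).2 θ.2 hover h
    exact hne (Subtype.ext (hg.symm.trans (trivIrr_inv H g)))
  have hcard := card_over H hnot
  obtain ⟨ψ0, hψ0⟩ := exists_over (G := G) θ
  obtain ⟨-, hres0⟩ := inv_of_ne H (fun e => hnot (e ▸ hψ0)) hψ0
  -- linear characters of the quotient
  have hlin : ∀ ψ : {ψ : Cfsg.IrrCharacter G // Over N ψ θ}, ∃ lam : G →* ℂˣ, N ≤ lam.ker ∧
      (fun g => (lam g : ℂ) * (ψ0 : G → ℂ) g) = (ψ.1 : G → ℂ) := by
    rintro ⟨ψ, hψ⟩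
    obtain ⟨-, hres⟩ := inv_of_ne H (fun e => hnot (e ▸ hψ)) hψ
    obtain ⟨μ, hμ, hμ1, hμN, hμe⟩ :=
      ExtendChar.extension_eq_linear_mul N θ.2 ψ0.2 hres0 ψ.2 hres
    obtain ⟨f, hf⟩ := ExtendChar.exists_hom hμ hμ1
    refine ⟨f, fun n hn => Units.ext ?_, ?_⟩
    · rw [hf, hμN ⟨n, hn⟩, Units.val_one]
    · funext g
      rw [hf]
      exact congrFun hμe g
  choose lam hlamN hlam using hlin
  let Φ : {ψ : Cfsg.IrrCharacter G // Over N ψ θ} → (G ⧸ N →* ℂˣ) := fun ψ =>
    QuotientGroup.lift N (lam ψ) (hlamN ψ)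
  have hΦ : Function.Injective Φ := fun a b hab => by
    have : lam a = lam b := MonoidHom.ext fun g => DFunLike.congr_fun hab (QuotientGroup.mk g)
    exact Subtype.ext (Subtype.ext ((hlam a).symm.trans ((this ▸ rfl :
      (fun g => (lam a g : ℂ) * (ψ0 : G → ℂ) g) = fun g => (lam b g : ℂ) * (ψ0 : G → ℂ) g).trans
        (hlam b))))
  have hle := Nat.card_le_card_of_injective Φ hΦ
  rw [hcard, card_linear_hom, Subgroup.index_eq_card N] at hle
  have hidx : (commutator (G ⧸ N)).index = Nat.card (G ⧸ N) :=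
    le_antisymm (Nat.le_of_dvd Nat.card_pos (Subgroup.index_dvd_card _)) hle
  have hbot : commutator (G ⧸ N) = ⊥ := Subgroup.eq_bot_of_card_eq _ (by
    have h := (commutator (G ⧸ N)).card_mul_index
    rw [hidx] at h
    exact (mul_eq_right₀ Nat.card_pos.ne').1 h)
  obtain ⟨φ, -, hφ, hirr⟩ := exists_deflate_quotient N (irr_isCharacter χ)
    (fun n hn => hconst ⟨n, hn⟩)
  have h1 : φ 1 = 1 := irr_degree_one_of_comm (fun a b => by
    have : ⁅a, b⁆ ∈ commutator (G ⧸ N) :=
      Subgroup.commutator_mem_commutator (Subgroup.mem_top _) (Subgroup.mem_top _)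
    rw [hbot, Subgroup.mem_bot] at this
    exact commutatorElement_eq_one_iff_mul_comm.1 this) (hirr χ.2)
  have hd := H.dvd
  rw [Cfsg.charDegree, ← hφ 1, QuotientGroup.mk_one, h1, Complex.one_re, Nat.floor_one] at hd
  exact (Fact.out : p.Prime).not_dvd_one hd

theorem quotient_comm (a b : G) : a * b * (b * a)⁻¹ ∈ N := by
  have hall : ∀ φ : Cfsg.IrrCharacter (G ⧸ N), (φ : G ⧸ N → ℂ) 1 = 1 := by
    intro φ
    let ψ : Cfsg.IrrCharacter G :=
      ⟨_, isIrrCharacter_comp_surjective (QuotientGroup.mk' N) (QuotientGroup.mk'_surjective N) φ.2⟩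
    have hval : ∀ n : N, (ψ : G → ℂ) n = (φ : G ⧸ N → ℂ) 1 := fun n => by
      show (φ : G ⧸ N → ℂ) (QuotientGroup.mk' N n) = _
      rw [QuotientGroup.mk'_apply, (QuotientGroup.eq_one_iff (n : G)).2 n.2]
    have hov : Over N ψ (trivIrr N) := by
      show Cfsg.classInner _ _ ≠ 0
      rw [show (fun n : N => (ψ : G → ℂ) n) = (φ : G ⧸ N → ℂ) 1 • (fun _ : N => (1 : ℂ)) from
          funext fun n => by rw [hval]; simp,
        classInner_smul_left, trivIrr_coe, classInner_isIrr_self isIrrCharacter_one, mul_one]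
      exact irr_one_ne_zero φ.2
    obtain ⟨-, hres⟩ := inv_of_ne H (fun e => not_over_trivial H (e ▸ hov)) hov
    rw [← hval 1, hres 1]
    rfl
  have h := comm_of_forall_degree_one hall (QuotientGroup.mk a) (QuotientGroup.mk b)
  rw [← QuotientGroup.mk_mul, ← QuotientGroup.mk_mul] at h
  rw [← QuotientGroup.eq_one_iff, QuotientGroup.mk_mul, h, ← QuotientGroup.mk_mul, mul_inv_cancel]
  rfl

theorem not_inv_of_over {θ : Cfsg.IrrCharacter N} (hθ : Over N χ θ) : ¬ Inv N θ := by
  intro hinv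
  have hp : p.Prime := Fact.out
  obtain ⟨k, hk⟩ := H.idx
  have hcop : ∀ d : ℕ, d ∣ Nat.card N → Nat.Coprime N.index d := fun d hd => by
    rw [hk]
    exact Nat.Coprime.pow_left _ (hp.coprime_iff_not_dvd.2 fun h => H.cop (h.trans hd))
  have hord : orderOf (Cfsg.detChar (θ : N → ℂ)) ∣ Nat.card N := by
    obtain ⟨f, hf⟩ := ExtendChar.exists_hom (ExtendChar.detChar_isLinear (irr_isCharacter θ)).1
      (ExtendChar.detChar_isLinear (irr_isCharacter θ)).2
    refine orderOf_dvd_of_pow_eq_one (funext fun n => ?_)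
    rw [Pi.pow_apply, Pi.one_apply, ← hf, ← Units.val_pow_eq_pow_val, ← map_pow, pow_card_eq_one',
      map_one, Units.val_one]
  obtain ⟨μ, hμ, -⟩ := ExtendChar.exists_linear_extension_coprime N
    (ExtendChar.detChar_isLinear (irr_isCharacter θ)) (fun g n => by
      have h := hinv g
      conv_rhs => rw [← h]
      rw [Clifford.conjBy_eq_comp, ExtendChar.detChar_comp _ (irr_isCharacter θ)]
      exact congrArg _ (Subtype.ext (by simp))) (hcop _ hord)
  obtain ⟨η, hη, hηN⟩ := ExtendChar.exists_extension_det N θ.2 hinv (charDegree_cast θ).symm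
    (hcop _ (charDegree_dvd_card θ)) μ hμ
  obtain ⟨hq, he⟩ := Average.gallagher N hη (by
      rw [show (fun n : N => η n) = (θ : N → ℂ) from funext hηN]; exact θ.2) χ.2
    (by rw [show (fun n : N => η n) = (θ : N → ℂ) from funext hηN]; exact hθ)
  have h1 : Average.quotChar N η (χ : G → ℂ) 1 = 1 := by
    have hc := quotient_comm H
    obtain ⟨φ, -, hφ, hirr⟩ := exists_deflate_quotient N (isCharacter_of_isIrr hq)
      (fun n hn => by simpa using Average.quotChar_mul_left N η (χ : G → ℂ) ⟨n, hn⟩ 1)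
    rw [← hφ 1, QuotientGroup.mk_one]
    refine irr_degree_one_of_comm (fun a b => ?_) (hirr hq)
    induction a using QuotientGroup.induction_on with
    | H a =>
      induction b using QuotientGroup.induction_on with
      | H b =>
        rw [← QuotientGroup.mk_mul, ← QuotientGroup.mk_mul, QuotientGroup.eq]
        have := hNn.conj_mem _ (N.inv_mem (hc a b)) (a * b)⁻¹
        simpa [mul_assoc] using this
  have hd := congrFun he 1
  rw [Pi.mul_apply, h1, one_mul, show η 1 = (θ : N → ℂ) 1 from hηN 1, ← charDegree_cast,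
    ← charDegree_cast] at hd
  exact not_dvd_deg_N H θ ((Nat.cast_injective hd).symm ▸ H.dvd)

theorem not_inv_iff {θ : Cfsg.IrrCharacter N} : ¬ Inv N θ ↔ Over N χ θ := by
  refine ⟨fun h => ?_, not_inv_of_over H⟩
  obtain ⟨ψ, hψ⟩ := exists_over (G := G) θ
  by_cases e : ψ = χ
  · exact e ▸ hψ
  · exact absurd (inv_of_ne H e hψ).1 h

theorem inertia_eq {θ : Cfsg.IrrCharacter N} (hθ : Over N χ θ) : inertia θ = N := by
  classical
  have hp : p.Prime := Fact.out
  obtain ⟨k, hk⟩ := H.idx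
  set T := inertia θ with hT
  haveI := Fintype.ofFinite T
  set N' := N.subgroupOf T with hN'
  haveI := Fintype.ofFinite N'
  let e : N' ≃* N := Subgroup.subgroupOfEquivOfLe (le_inertia θ)
  have he_apply : ∀ n : N', ((e n : N) : G) = ((n : T) : G) := fun n => rfl
  let θ' : Cfsg.IrrCharacter N' := ⟨(θ : N → ℂ) ∘ e,
    isIrrCharacter_comp_surjective e.toMonoidHom e.surjective θ.2⟩
  have hinv : ∀ t : T, Clifford.conjBy N' t (θ' : N' → ℂ) = (θ' : N' → ℂ) := by
    intro t
    funext n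
    exact congrFun (mem_inertia.1 t.2) (e n)
  have hidx : N'.index ∣ N.index := Subgroup.relIndex_dvd_index_of_normal N T
  have hcop : ∀ d : ℕ, d ∣ Nat.card N → Nat.Coprime N'.index d := fun d hd => by
    obtain ⟨j, -, hj⟩ := (Nat.dvd_prime_pow hp).1 (hk ▸ hidx)
    rw [hj]
    exact Nat.Coprime.pow_left _ (hp.coprime_iff_not_dvd.2 fun h => H.cop (h.trans hd))
  have hord : orderOf (Cfsg.detChar (θ' : N' → ℂ)) ∣ Nat.card N := by
    obtain ⟨f, hf⟩ := ExtendChar.exists_hom (ExtendChar.detChar_isLinear (irr_isCharacter θ')).1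
      (ExtendChar.detChar_isLinear (irr_isCharacter θ')).2
    rw [← Nat.card_congr e.toEquiv]
    refine orderOf_dvd_of_pow_eq_one (funext fun n => ?_)
    rw [Pi.pow_apply, Pi.one_apply, ← hf, ← Units.val_pow_eq_pow_val, ← map_pow, pow_card_eq_one',
      map_one, Units.val_one]
  obtain ⟨μ, hμ, -⟩ := ExtendChar.exists_linear_extension_coprime N'
    (ExtendChar.detChar_isLinear (irr_isCharacter θ')) (fun g n => by
      conv_rhs => rw [← hinv g]
      rw [Clifford.conjBy_eq_comp, ExtendChar.detChar_comp _ (irr_isCharacter θ')]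
      exact congrArg _ (Subtype.ext (by simp))) (hcop _ hord)
  obtain ⟨φ, hφ, hφN⟩ := ExtendChar.exists_extension_det N' θ'.2 hinv
    (charDegree_cast θ').symm (hcop _ (Nat.card_congr e.toEquiv ▸ charDegree_dvd_card θ')) μ hμ
  -- a constituent of the induced character
  set I := Cfsg.indFun T φ with hI
  have hIc : Cfsg.IsCharacter G I := isCharacter_indFun T (isCharacter_of_isIrr hφ)
  obtain ⟨m, hm⟩ := char_eq_sum_nat hIc
  obtain ⟨ψ, hψ⟩ : ∃ ψ : Cfsg.IrrCharacter G, Cfsg.classInner I (ψ : G → ℂ) ≠ 0 := by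
    by_contra hall
    push Not at hall
    have h0 : I 1 = 0 := by
      rw [classFun_eq_sum (char_isClassFunction hIc)]
      simp [hall]
    rw [hI, indFun_one] at h0
    exact mul_ne_zero (Nat.cast_ne_zero.2 Subgroup.index_ne_zero_of_finite) (irr_one_ne_zero hφ) h0
  have h2 : Cfsg.classInner (fun t : T => (ψ : G → ℂ) t) φ ≠ 0 := by
    rw [classInner_conj_symm φ, ← frobenius_reciprocity T φ (irr_isClassFunction ψ)]
    simpa using hψ
  have h3 : Cfsg.classInner (fun n : N' => (ψ : G → ℂ) ((n : T) : G)) (θ' : N' → ℂ) ≠ 0 :=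
    Clifford.classInner_restrict_ne_zero N' (isCharacter_restrict T (irr_isCharacter ψ)) hφ
      (irr_isCharacter θ') h2 (by
        rw [show (fun n : N' => φ (n : T)) = (θ' : N' → ℂ) from funext hφN,
          classInner_isIrr_self θ'.2]
        exact one_ne_zero)
  have hover : Over N ψ θ := by
    show Cfsg.classInner _ _ ≠ 0
    rw [classInner_def] at h3 ⊢
    rw [← Nat.card_congr e.toEquiv]
    refine fun h0 => h3 ?_
    rw [← h0]
    congr 1
    exact Fintype.sum_equiv e.toEquiv _ _ fun n => rfl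
  have hψχ : ψ = χ := by
    by_contra hne
    exact (not_inv_of_over H hθ) (inv_of_ne H hne hover).1
  -- degrees
  obtain ⟨c, hc⟩ := classInner_char_nat (isCharacter_restrict N (irr_isCharacter χ))
    (irr_isCharacter θ)
  have hc0 : c ≠ 0 := fun h => hθ (by rw [hc, h, Nat.cast_zero])
  have hdeg := Clifford.card_mul_degree N χ.2 θ.2 hθ T fun g => Iff.rfl
  rw [hc, ← charDegree_cast χ, ← charDegree_cast θ, ← T.card_mul_index] at hdeg
  norm_cast at hdeg
  have hd : Cfsg.charDegree (χ : G → ℂ) = c * (T.index * Cfsg.charDegree (θ : N → ℂ)) := by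
    refine Nat.eq_of_mul_eq_mul_left (Nat.card_pos (α := T)) ?_
    rw [hdeg]; ring
  have hle : Cfsg.charDegree (χ : G → ℂ) ≤ T.index * Cfsg.charDegree (θ : N → ℂ) := by
    obtain ⟨a, ha⟩ := classInner_char_nat hIc (irr_isCharacter ψ)
    have ha0 : a ≠ 0 := fun h => hψ (by rw [ha, h, Nat.cast_zero])
    have h1 := Basics.degree_le hIc ψ.2 ha (a := T.index * Cfsg.charDegree (θ : N → ℂ))
      (b := Cfsg.charDegree (ψ : G → ℂ)) (by
        rw [hI, indFun_one, Nat.cast_mul, charDegree_cast,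
          show φ 1 = (θ' : N' → ℂ) 1 from hφN 1]
        congr 1) (charDegree_cast ψ).symm
    rw [← hψχ]
    calc Cfsg.charDegree (ψ : G → ℂ) ≤ a * Cfsg.charDegree (ψ : G → ℂ) :=
          Nat.le_mul_of_pos_left _ (Nat.pos_of_ne_zero ha0)
      _ ≤ _ := h1
  have hc1 : c = 1 := by
    rw [hd] at hle
    have hpos : 0 < T.index * Cfsg.charDegree (θ : N → ℂ) :=
      Nat.mul_pos (Nat.pos_of_ne_zero Subgroup.index_ne_zero_of_finite) (charDegree_pos θ)
    nlinarith [Nat.pos_of_ne_zero hc0]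
  -- the sum of the degrees over `θ`
  have hone : ∀ η : Cfsg.IrrCharacter G, Over N η θ → η = χ := fun η hη => by
    by_contra hne
    exact (not_inv_of_over H hθ) (inv_of_ne H hne hη).1
  have h := degree_indFun (G := G) θ
  rw [Finset.sum_eq_single χ (fun η _ hne => by
      have : Cfsg.classInner (fun n : N => (η : G → ℂ) n) (θ : N → ℂ) = 0 :=
        not_not.1 fun h' => hne (hone η h')
      rw [classInner_conj_symm (fun n : N => (η : G → ℂ) n), this, map_zero, zero_mul])
      (fun h' => absurd (Finset.mem_univ χ) h'),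
    classInner_conj_symm (fun n : N => (χ : G → ℂ) n), hc, hc1, Nat.cast_one, map_one, one_mul,
    ← charDegree_cast χ, ← charDegree_cast θ, hd, hc1, one_mul] at h
  norm_cast at h
  have hidx' := Nat.eq_of_mul_eq_mul_right (charDegree_pos θ) h
  have hrel := Subgroup.relIndex_mul_index (le_inertia θ)
  rw [hidx'] at hrel
  have : N.relIndex T = 1 :=
    (mul_eq_right₀ Subgroup.index_ne_zero_of_finite).1 hrel
  exact le_antisymm (Subgroup.relIndex_eq_one.1 this) (le_inertia θ)

end Cfsg.Agent.BlocksChars.UniqueSingularComplement
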