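import Mathlib
import Cfsg.Agent.Lib.Characters.Galois
import Cfsg.Agent.Lib.CharTheory.Average

/-!
Mean absolute values of characters on sets closed under coprime powers; cosets on which an
irreducible character vanishes.
-/

set_option autoImplicit false
set_option linter.style.haveILetI false
set_option linter.unusedSectionVars false

namespace Cfsg.Agent.BlocksChars.ValueMean

open Module Polynomial
open Cfsg.Agent.Characters Cfsg.Agent.CharTheory
open scoped ComplexConjugate

universe u v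

variable {G : Type u} [Group G] {V : Type v} [AddCommGroup V] [Module ℂ V] [FiniteDimensional ℂ V]
  (ρ : Representation ℂ G V)

/-- On a set of elements closed under powers prime to the group order, where a character does not
vanish, the mean of `‖χ‖` is at least one. -/
theorem card_le_sum_norm [Finite G] (S : Finset G)
    (hS : ∀ g ∈ S, ∀ k : ℕ, k.Coprime (Nat.card G) → g ^ k ∈ S)
    (hne : ∀ g ∈ S, ρ.character g ≠ 0) : (S.card : ℝ) ≤ ∑ g ∈ S, ‖ρ.character g‖ := by
  classical
  set M := Nat.card G with hMdef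
  have hM : 0 < M := Nat.card_pos
  haveI : NeZero M := ⟨hM.ne'⟩
  set ζ := Complex.exp (2 * Real.pi * Complex.I / M)
  have hζ : IsPrimitiveRoot ζ M := Complex.isPrimitiveRoot_exp M hM.ne'
  have hR : ∀ μ ∈ primitiveRoots M ℂ, ∃ k, k.Coprime M ∧ ζ ^ k = μ := fun μ hμ => by
    obtain ⟨k, _, hk, hk'⟩ := (hζ.isPrimitiveRoot_iff (ξ := μ) (k := M)).1
      ((mem_primitiveRoots hM).1 hμ)
    exact ⟨k, hk, hk'⟩
  choose! k hk hk' using hR
  have hswap : ∀ μ ∈ primitiveRoots M ℂ,
      ∑ g ∈ S, ‖ρ.character (g ^ k μ)‖ = ∑ g ∈ S, ‖ρ.character g‖ := by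
    intro μ hμ
    have himg : S.image (powCoprime (G := G) (hk μ hμ).symm) = S := by
      refine Finset.eq_of_subset_of_card_le (fun x hx => ?_) ?_
      · obtain ⟨g, hg, rfl⟩ := Finset.mem_image.1 hx
        simpa using hS g hg (k μ) (hk μ hμ)
      · rw [Finset.card_image_of_injective _ (Equiv.injective _)]
    conv_rhs => rw [← himg]
    rw [Finset.sum_image ((Equiv.injective _).injOn)]
    exact Finset.sum_congr rfl fun g _ => by simp
  have hge : ∀ g ∈ S, ((primitiveRoots M ℂ).card : ℝ) ≤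
      ∑ μ ∈ primitiveRoots M ℂ, ‖ρ.character (g ^ k μ)‖ := by
    intro g hg
    obtain ⟨P, hP⟩ := exists_poly_values ρ g hM pow_card_eq_one' hζ
    have hval : ∀ μ ∈ primitiveRoots M ℂ, ρ.character (g ^ k μ) = aeval μ P := fun μ hμ => by
      rw [hP, hk' μ hμ]
    have hnz : ∀ μ ∈ primitiveRoots M ℂ, aeval μ P ≠ 0 := fun μ hμ =>
      hval μ hμ ▸ hne _ (hS g hg _ (hk μ hμ))
    have hprod := one_le_prod_norm_primitiveRoots hM P
      (fun μ hμ => hval μ hμ ▸ rep_value_isIntegral ρ _) hnz
    have hpos : ∀ μ ∈ primitiveRoots M ℂ, 0 < ‖aeval μ P‖ := fun μ hμ =>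
      norm_pos_iff.2 (hnz μ hμ)
    have hlog : 0 ≤ ∑ μ ∈ primitiveRoots M ℂ, Real.log ‖aeval μ P‖ := by
      rw [← Real.log_prod (fun μ hμ => (hpos μ hμ).ne')]
      exact Real.log_nonneg hprod
    have h2 := hlog.trans (Finset.sum_le_sum fun μ hμ => Real.log_le_sub_one_of_pos (hpos μ hμ))
    rw [Finset.sum_sub_distrib, sub_nonneg, Finset.sum_const, nsmul_one] at h2
    exact h2.trans_eq (Finset.sum_congr rfl fun μ hμ => by rw [hval μ hμ])
  have h1 := Finset.sum_le_sum hge
  rw [Finset.sum_comm, Finset.sum_congr rfl hswap, Finset.sum_const, Finset.sum_const,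
    nsmul_eq_mul, nsmul_eq_mul, mul_comm] at h1
  exact le_of_mul_le_mul_left h1
    (by exact_mod_cast Finset.card_pos.2 ⟨ζ, (mem_primitiveRoots hM).2 hζ⟩)


/-- An irreducible character whose restriction to the normal subgroup `N` is reducible vanishes
on a whole coset of `N`. -/
theorem exists_coset_zero [Fintype G] (N : Subgroup G) [N.Normal] [Fintype N]
    (χ : Cfsg.IrrCharacter G) (hred : ¬ Cfsg.IsIrrCharacter N (fun n : N => (χ : G → ℂ) n)) :
    ∃ x : G, ∀ n : N, (χ : G → ℂ) ((n : G) * x) = 0 := by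
  classical
  by_contra hno
  push Not at hno
  set η := Average.quotChar N (χ : G → ℂ) (χ : G → ℂ) with hηdef
  have hχ := irr_isCharacter χ
  have hη : Cfsg.IsCharacter G η := Average.isCharacter_quotChar N hχ hχ
  obtain ⟨m, hm⟩ := classInner_char_nat (isCharacter_restrict N hχ) (isCharacter_restrict N hχ)
  have hreal : ∀ g, η g = (((Nat.card N : ℝ)⁻¹ *
      ∑ n : N, ‖(χ : G → ℂ) ((n : G) * g)‖ ^ 2 : ℝ) : ℂ) := by
    intro g
    rw [hηdef, Average.quotChar_apply]
    push_cast
    congr 1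
    exact Finset.sum_congr rfl fun n _ => Complex.mul_conj' _
  have hnn : ∀ g, ‖η g‖ = (η g).re := by
    intro g
    rw [hreal, Complex.norm_real, Complex.ofReal_re, Real.norm_eq_abs,
      abs_of_nonneg (mul_nonneg (inv_nonneg.2 (Nat.cast_nonneg _))
        (Finset.sum_nonneg fun _ _ => sq_nonneg _))]
  have hne : ∀ g, η g ≠ 0 := by
    intro g
    rw [hreal]
    norm_cast
    refine mul_ne_zero (inv_ne_zero (Nat.cast_ne_zero.2 Nat.card_pos.ne')) ?_
    obtain ⟨n, hn⟩ := hno g
    refine ne_of_gt ?_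
    refine Finset.sum_pos' (fun _ _ => sq_nonneg _) ⟨n, Finset.mem_univ _, ?_⟩
    positivity
  obtain ⟨d, σ, hσ⟩ := hη
  rw [← hσ] at hne
  set S : Finset G := Finset.univ.filter fun g => g ∉ N with hSdef
  have hS := card_le_sum_norm σ S (fun g hg k hk => by
      simp only [hSdef, Finset.mem_filter, Finset.mem_univ, true_and] at hg ⊢
      intro hgk
      refine hg ?_
      have h1 : (orderOf g).Coprime k :=
        (Nat.Coprime.coprime_dvd_right (orderOf_dvd_natCard g) hk).symm
      obtain ⟨j, hj⟩ := Subgroup.mem_zpowers_iff.1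
        ((mem_zpowers_pow_iff).2 (Nat.coprime_iff_gcd_eq_one.1 h1.symm) :
          g ∈ Subgroup.zpowers (g ^ k))
      rw [← hj]
      exact N.zpow_mem hgk j)
    (fun g _ => hne g)
  have htot : ∑ g : G, η g = (Nat.card G : ℂ) := by
    have h1 := classInner_isIrr_self χ.2
    rw [classInner_def, inv_mul_eq_iff_eq_mul₀ natCard_ne_zero, mul_one] at h1
    have h2 := Average.sum_avg_mul N (fun g => (χ : G → ℂ) g * conj ((χ : G → ℂ) g))
      (fun _ => (1 : ℂ)) (fun _ _ => rfl)
    simp only [mul_one] at h2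
    rw [← h1, ← h2]
    rfl
  have hN1 : ∀ g ∈ N, η g = (m : ℂ) := by
    intro g hg
    have h1 := Average.quotChar_mul_left N (χ : G → ℂ) (χ : G → ℂ) ⟨g, hg⟩ 1
    rw [mul_one] at h1
    rw [hηdef, h1, Average.quotChar_one, hm]
  rw [hσ] at hS
  have hsum : ∑ g ∈ S, ‖η g‖ + (Nat.card N : ℝ) * m = (Nat.card G : ℝ) := by
    rw [← Complex.natCast_re (Nat.card G), ← htot, Complex.re_sum,
      ← Finset.sum_filter_add_sum_filter_not Finset.univ (fun g => g ∉ N), ← hSdef]
    congr 1
    · exact Finset.sum_congr rfl fun g _ => hnn g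
    · rw [Finset.sum_congr rfl (g := fun _ => (m : ℝ)) fun g hg => by
        rw [hN1 g (not_not.1 (Finset.mem_filter.1 hg).2), Complex.natCast_re],
        Finset.sum_const, nsmul_eq_mul, Nat.card_eq_fintype_card, Fintype.card_subtype]
      congr 2
      simp only [not_not]
  have hScard : (S.card : ℝ) + Nat.card N = Nat.card G := by
    rw [Nat.card_eq_fintype_card, Nat.card_eq_fintype_card, Fintype.card_subtype, hSdef,
      ← Nat.cast_add, add_comm, Finset.card_filter_add_card_filter_not, Finset.card_univ]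
  refine hred (isIrr_of_isCharacter_of_norm_one (isCharacter_restrict N hχ) ?_)
  have hN0 : (0 : ℝ) < Nat.card N := Nat.cast_pos.2 Nat.card_pos
  have hm1 : (m : ℝ) ≤ 1 := by
    have : (Nat.card N : ℝ) * m ≤ (Nat.card N : ℝ) * 1 := by linarith
    exact le_of_mul_le_mul_left this hN0
  have hm0 : m ≠ 0 := by
    rintro rfl
    rw [Nat.cast_zero, classInner_self_eq_zero] at hm
    exact irr_one_ne_zero χ.2 (congrFun hm 1)
  have : m = 1 := by
    have : m ≤ 1 := by exact_mod_cast hm1
    omega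
  rw [hm, this, Nat.cast_one]

end Cfsg.Agent.BlocksChars.ValueMean
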